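import Groth.Agent.Lib.Helper5.AlgSp.RepOver

/-!
# Fibre products of algebraic spaces
-/

set_option autoImplicit false

universe u

open CategoryTheory CategoryTheory.Limits AlgebraicGeometry Opposite

namespace Groth.Agent.H5.AlgSp

open _root_.AlgSp

variable {S : Scheme.{u}}

/-- If `X` and `Y` have representable diagonals, so does any fibre product `X ×_H Y`:
every map from a representable is representable. -/
lemma representable_from_yon_pullback {H X Y P : Sp S}
    (hX : ∀ ⦃T : Over S⦄ (x : (yon S).obj T ⟶ X), Representable x)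
    (hY : ∀ ⦃T : Over S⦄ (y : (yon S).obj T ⟶ Y), Representable y)
    {f : X ⟶ H} {g : Y ⟶ H} {fst : P ⟶ X} {snd : P ⟶ Y} (sq : IsPullback fst snd f g)
    ⦃T : Over S⦄ (c : (yon S).obj T ⟶ P) : Representable c := by
  intro T' c'
  have hx := hX (c ≫ fst)
  have hy := hY (c ≫ snd)
  have sqA := hx.isPullback' (c' ≫ fst)
  have sqB := hy.isPullback' (c' ≫ snd)
  set A := hx.pullback (c' ≫ fst)
  set pA : A ⟶ T := hx.fst' (c' ≫ fst)
  set pA' : A ⟶ T' := hx.snd (c' ≫ fst)
  set B := hy.pullback (c' ≫ snd)
  set pB : B ⟶ T := hy.fst' (c' ≫ snd)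
  set pB' : B ⟶ T' := hy.snd (c' ≫ snd)
  let E := pullback (prod.lift pA pA') (prod.lift pB pB')
  let e₁ : E ⟶ A := pullback.fst _ _
  let e₂ : E ⟶ B := pullback.snd _ _
  have he : e₁ ≫ prod.lift pA pA' = e₂ ≫ prod.lift pB pB' := pullback.condition
  have he₁ : e₁ ≫ pA = e₂ ≫ pB := by
    have := congrArg (· ≫ prod.fst) he
    rwa [Category.assoc, prod.lift_fst, Category.assoc, prod.lift_fst] at this
  have he₂ : e₁ ≫ pA' = e₂ ≫ pB' := by
    have := congrArg (· ≫ prod.snd) he
    rwa [Category.assoc, prod.lift_snd, Category.assoc, prod.lift_snd] at this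
  refine ⟨E, e₁ ≫ pA', (yon S).map (e₁ ≫ pA), ?_⟩
  apply isPullback_of_yon
  · apply sq.hom_ext
    · rw [Category.assoc, Category.assoc, Functor.map_comp, Functor.map_comp, Category.assoc,
        Category.assoc, sqA.w]
    · rw [Category.assoc, Category.assoc, he₁, he₂, Functor.map_comp, Functor.map_comp,
        Category.assoc, Category.assoc, sqB.w]
  · intro T'' t t' htt'
    obtain ⟨t, rfl⟩ := (yon S).map_surjective t
    obtain ⟨t', rfl⟩ := (yon S).map_surjective t'
    obtain ⟨α, ⟨hα1, hα2⟩, hαu⟩ := IsPullback.exists_unique_yon sqA ((yon S).map t)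
      ((yon S).map t') (by rw [← Category.assoc, htt', Category.assoc])
    obtain ⟨β, ⟨hβ1, hβ2⟩, hβu⟩ := IsPullback.exists_unique_yon sqB ((yon S).map t)
      ((yon S).map t') (by rw [← Category.assoc, htt', Category.assoc])
    obtain ⟨α, rfl⟩ := (yon S).map_surjective α
    obtain ⟨β, rfl⟩ := (yon S).map_surjective β
    have hα1' : α ≫ pA = t := (yon S).map_injective (by rw [Functor.map_comp, hα1])
    have hα2' : α ≫ pA' = t' := (yon S).map_injective (by rw [Functor.map_comp, hα2])
    have hβ1' : β ≫ pB = t := (yon S).map_injective (by rw [Functor.map_comp, hβ1])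
    have hβ2' : β ≫ pB' = t' := (yon S).map_injective (by rw [Functor.map_comp, hβ2])
    have hαβ : α ≫ prod.lift pA pA' = β ≫ prod.lift pB pB' := by
      apply Limits.prod.hom_ext
      · rw [Category.assoc, prod.lift_fst, Category.assoc, prod.lift_fst, hα1', hβ1']
      · rw [Category.assoc, prod.lift_snd, Category.assoc, prod.lift_snd, hα2', hβ2']
    let ε : T'' ⟶ E := pullback.lift α β hαβ
    have hε1 : ε ≫ e₁ = α := pullback.lift_fst _ _ _
    have hε2 : ε ≫ e₂ = β := pullback.lift_snd _ _ _
    refine ⟨(yon S).map ε, ⟨?_, ?_⟩, ?_⟩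
    · rw [← Functor.map_comp, ← Category.assoc, hε1, hα1']
    · rw [← Functor.map_comp, ← Category.assoc, hε1, hα2']
    · rintro w ⟨hw1, hw2⟩
      obtain ⟨w, rfl⟩ := (yon S).map_surjective w
      have hw1' : w ≫ e₁ ≫ pA = t := (yon S).map_injective (by rw [← hw1, Functor.map_comp])
      have hw2' : w ≫ e₁ ≫ pA' = t' := (yon S).map_injective (by rw [← hw2, Functor.map_comp])
      have h1 : w ≫ e₁ = α := by
        apply (yon S).map_injective
        apply hαu
        constructor
        · rw [← Functor.map_comp, Category.assoc, hw1']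
        · rw [← Functor.map_comp, Category.assoc, hw2']
      have h2 : w ≫ e₂ = β := by
        apply (yon S).map_injective
        apply hβu
        constructor
        · rw [← Functor.map_comp, Category.assoc, ← he₁, hw1']
        · rw [← Functor.map_comp, Category.assoc, ← he₂, hw2']
      congr 1
      apply pullback.hom_ext
      · rw [h1]; exact hε1.symm
      · rw [h2]; exact hε2.symm

/-- The fibre product of algebraic spaces over a sheaf with representable diagonal is an
algebraic space. -/
theorem isAlgSpace_pullback {H X Y P : Sp S} (hH : Representable (Limits.diag H))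
    (hX : IsAlgSpace X) (hY : IsAlgSpace Y) {f : X ⟶ H} {g : Y ⟶ H} {fst : P ⟶ X}
    {snd : P ⟶ Y} (sq : IsPullback fst snd f g) : IsAlgSpace P where
  diag := Functor.relativelyRepresentable.diag_of_map_from_obj
    (representable_from_yon_pullback (fun _ x => hX.representable_from_yon x)
      (fun _ y => hY.representable_from_yon y) sq)
  atlas := by
    obtain ⟨U, p, hpe, hps⟩ := hX.atlas
    obtain ⟨V, q, hqe, hqs⟩ := hY.atlas
    have hr : Representable (p ≫ f) := Functor.relativelyRepresentable.of_diag hH _
    have sqW := hr.isPullback' (q ≫ g)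
    set W := hr.pullback (q ≫ g)
    set a : W ⟶ U := hr.fst' (q ≫ g)
    set b : W ⟶ V := hr.snd (q ≫ g)
    -- the map h_W ⟶ P
    have hw : ((yon S).map a ≫ p) ≫ f = ((yon S).map b ≫ q) ≫ g := by
      rw [Category.assoc, Category.assoc]; exact sqW.w
    let r : (yon S).obj W ⟶ P := sq.lift _ _ hw
    -- intermediate: Q = h_U ×_H Y
    let Q := pullback (p ≫ f) g
    let u : (yon S).obj W ⟶ Q := pullback.lift ((yon S).map a) ((yon S).map b ≫ q) (by
      rw [Category.assoc]; exact sqW.w)
    let v : Q ⟶ P := sq.lift (pullback.fst (p ≫ f) g ≫ p) (pullback.snd (p ≫ f) g) (by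
      rw [Category.assoc]; exact pullback.condition)
    have hu1 : u ≫ pullback.fst (p ≫ f) g = (yon S).map a := pullback.lift_fst _ _ _
    have hu2 : u ≫ pullback.snd (p ≫ f) g = (yon S).map b ≫ q := pullback.lift_snd _ _ _
    have hv1 : v ≫ fst = pullback.fst (p ≫ f) g ≫ p := sq.lift_fst _ _ _
    have hv2 : v ≫ snd = pullback.snd (p ≫ f) g := sq.lift_snd _ _ _
    have hr_eq : r = u ≫ v := by
      apply sq.hom_ext
      · rw [sq.lift_fst, Category.assoc, hv1, ← Category.assoc, hu1]
      · rw [sq.lift_snd, Category.assoc, hv2, hu2]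
    -- u is a base change of q
    have sqU : IsPullback u ((yon S).map b) (pullback.snd (p ≫ f) g) q :=
      IsPullback.of_right (by rw [hu1]; exact sqW) hu2 (IsPullback.of_hasPullback (p ≫ f) g)
    -- v is a base change of p
    have sqV : IsPullback v (pullback.fst (p ≫ f) g) fst p :=
      IsPullback.of_right (by rw [hv2]; exact (IsPullback.of_hasPullback (p ≫ f) g).flip) hv1
        sq.flip
    refine ⟨W, r, ?_, ?_⟩
    · rw [hr_eq]
      exact (RepWith @Etale).comp_mem _ _ ((RepWith @Etale).of_isPullback sqU.flip hqe)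
        ((RepWith @Etale).of_isPullback sqV.flip hpe)
    · rw [hr_eq]
      exact (RepWith @Surjective).comp_mem _ _ ((RepWith @Surjective).of_isPullback sqU.flip hqs)
        ((RepWith @Surjective).of_isPullback sqV.flip hps)

end Groth.Agent.H5.AlgSp

namespace Groth.Agent.H5.AlgSp

open _root_.AlgSp

variable {S : Scheme.{u}}

instance isAlgSpace_isClosedUnderPullbacks :
    ObjectProperty.IsClosedUnderLimitsOfShape (IsAlgSpace (S := S)) WalkingCospan where
  limitsOfShape_le := by
    rintro X ⟨h⟩
    have sq := IsPullback.of_isLimit_cone h.isLimit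
    exact isAlgSpace_pullback (h.prop_diag_obj WalkingCospan.one).diag
      (h.prop_diag_obj WalkingCospan.left) (h.prop_diag_obj WalkingCospan.right) sq

theorem space_hasPullbacks : HasPullbacks (Space S) :=
  inferInstanceAs (HasLimitsOfShape WalkingCospan (ObjectProperty.FullSubcategory _))

theorem space_ι_preservesPullbacks :
    PreservesLimitsOfShape WalkingCospan (ObjectProperty.ι (IsAlgSpace (S := S))) :=
  inferInstance

end Groth.Agent.H5.AlgSp
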