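import Mathlib

/-!
# From fppf descent (`DescendsAlong`) to `IsLocalAtTarget` for the fppf precoverage
-/

set_option autoImplicit false

universe u

open CategoryTheory CategoryTheory.Limits AlgebraicGeometry MorphismProperty

namespace Groth.Agent.H5.AlgSp

/-- fppf covering presieves are jointly surjective -/
lemma exists_mem_range_of_mem_fppf {X : Scheme.{u}} {R : Presieve X}
    (hR : R ∈ Scheme.fppfPrecoverage X) (x : X) :
    ∃ (Y : Scheme.{u}) (g : Y ⟶ X), R g ∧ x ∈ Set.range g := by
  have h1 : R ∈ Scheme.jointlySurjectivePrecoverage X := hR.1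
  rw [Scheme.jointlySurjectivePrecoverage, Precoverage.mem_comap_iff] at h1
  simp only [Types.mem_jointlySurjectivePrecoverage_iff] at h1
  obtain ⟨_, _, ⟨hg⟩, hy⟩ := h1 x
  exact ⟨_, _, hg, hy⟩

/-- every fppf covering presieve contains a small jointly surjective family -/
lemma exists_small_subfamily {X : Scheme.{u}} {R : Presieve X} (hR : R ∈ Scheme.fppfPrecoverage X) :
    ∃ (U : X → Scheme.{u}) (g : ∀ x, U x ⟶ X), (∀ x, R (g x)) ∧ (∀ x, x ∈ Set.range (g x)) ∧
      ∀ x, Flat (g x) ∧ LocallyOfFinitePresentation (g x) := by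
  have h1 : R ∈ Scheme.jointlySurjectivePrecoverage X := hR.1
  have h2 : ∀ {Y} (g : Y ⟶ X), R g →
      (@Flat ⊓ @LocallyOfFinitePresentation : MorphismProperty Scheme) g := fun g hg => hR.2 hg
  rw [Scheme.jointlySurjectivePrecoverage, Precoverage.mem_comap_iff] at h1
  simp only [Types.mem_jointlySurjectivePrecoverage_iff] at h1
  have h3 : ∀ x : X, ∃ (Y : Scheme.{u}) (g : Y ⟶ X), R g ∧ x ∈ Set.range g := by
    intro x
    obtain ⟨_, _, ⟨hg⟩, hy⟩ := h1 x
    exact ⟨_, _, hg, hy⟩
  choose U g hg hx using h3
  exact ⟨U, g, hg, hx, fun x => h2 _ (hg x)⟩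

lemma prop_of_isPullback_snd_iff {P : MorphismProperty Scheme.{u}} [P.RespectsIso]
    {A B C D : Scheme.{u}} {a : A ⟶ B} {b : A ⟶ C} {f : B ⟶ D} {g : C ⟶ D}
    (sq : IsPullback a b f g) : P b ↔ P (pullback.snd f g) := by
  rw [← sq.isoPullback_hom_snd, P.cancel_left_of_respectsIso]

/-- fppf descent + Zariski-local at the target ⇒ local at the target for the fppf precoverage -/
theorem isLocalAtTarget_fppf_of_descendsAlong (P : MorphismProperty Scheme.{u})
    [P.IsStableUnderBaseChange] [IsZariskiLocalAtTarget P]
    [P.DescendsAlong (@Surjective ⊓ @Flat ⊓ @LocallyOfFinitePresentation)] :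
    P.IsLocalAtTarget Scheme.fppfPrecoverage where
  pullbackSnd _ _ hf := P.pullback_snd _ _ hf
  of_forall_pullbackSnd {X Y f R} hR h := by
    obtain ⟨U, g, hg, hx, hfl⟩ := exists_small_subfamily hR
    let p : ∐ U ⟶ X := Sigma.desc g
    have hp : (@Surjective ⊓ @Flat ⊓ @LocallyOfFinitePresentation : MorphismProperty Scheme) p := by
      refine ⟨⟨⟨fun x => ?_⟩, ?_⟩, ?_⟩
      · obtain ⟨y, hy⟩ := hx x
        refine ⟨Sigma.ι U x y, ?_⟩
        rw [← Scheme.Hom.comp_apply, Sigma.ι_desc, hy]
      · exact IsZariskiLocalAtSource.sigmaDesc (P := @Flat) (fun x => (hfl x).1)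
      · exact IsZariskiLocalAtSource.sigmaDesc (P := @LocallyOfFinitePresentation)
          (fun x => (hfl x).2)
    refine MorphismProperty.of_pullback_snd_of_descendsAlong (f := f) (g := p) hp ?_
    rw [IsZariskiLocalAtTarget.iff_of_openCover (P := P) (sigmaOpenCover U)]
    intro (x : X)
    change P (pullback.snd (pullback.snd f p) (Sigma.ι U x))
    have sq : IsPullback (pullback.fst (pullback.snd f p) (Sigma.ι U x) ≫ pullback.fst f p)
        (pullback.snd (pullback.snd f p) (Sigma.ι U x)) f (Sigma.ι U x ≫ p) :=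
      IsPullback.paste_horiz (IsPullback.of_hasPullback _ _) (IsPullback.of_hasPullback f p)
    rw [prop_of_isPullback_snd_iff (P := P) sq]
    have e : Sigma.ι U x ≫ p = g x := Sigma.ι_desc _ _
    rw [e] at sq ⊢
    exact h (hg x)

/-- Quasi-compactness descends along surjective open morphisms. -/
theorem quasiCompact_of_pullback_fst {X Y Z : Scheme.{u}} (f : X ⟶ Z) (g : Y ⟶ Z)
    [Surjective f] (hfo : IsOpenMap f) (h : QuasiCompact (pullback.fst f g)) :
    QuasiCompact g := by
  rw [quasiCompact_iff_forall_isAffineOpen]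
  intro V hV
  obtain ⟨W, hWc, hW⟩ := hfo.exists_opens_image_eq_of_prespectralSpace f.continuous
    (U := (V : Set Z)) (fun z _ => f.surjective z) V.2 hV.isCompact
  have h1 : IsCompact ((pullback.fst f g) ⁻¹ᵁ W : Set ↑(pullback f g)) :=
    (pullback.fst f g).isCompact_preimage hWc
  have h2 := Scheme.image_preimage_eq_of_isPullback (IsPullback.of_hasPullback f g) (W : Set X)
  have h3 : (g ⁻¹ᵁ V : Set Y) = (pullback.snd f g) '' ((pullback.fst f g) ⁻¹ᵁ W : Set _) := by
    rw [show ((g ⁻¹ᵁ V : Y.Opens) : Set Y) = g ⁻¹' (V : Set Z) from rfl, ← hW]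
    exact h2.symm
  rw [h3]
  exact h1.image (pullback.snd f g).continuous

instance descendsAlong_quasiCompact_fppf :
    DescendsAlong @QuasiCompact (@Surjective ⊓ @Flat ⊓ @LocallyOfFinitePresentation) := by
  apply DescendsAlong.mk'
  intro X Y Z f g _ hf h
  obtain ⟨⟨h1, h2⟩, h3⟩ := hf
  have : Surjective f := h1
  have : Flat f := h2
  have : LocallyOfFinitePresentation f := h3
  exact quasiCompact_of_pullback_fst f g f.isOpenMap h

lemma isSeparated_eq_diagonal_universallyClosed :
    @IsSeparated = MorphismProperty.diagonal @UniversallyClosed := by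
  ext X Y f
  constructor
  · intro h
    change UniversallyClosed (pullback.diagonal f)
    infer_instance
  · intro h
    have h' : UniversallyClosed (pullback.diagonal f) := h
    refine ⟨IsClosedImmersion.of_isPreimmersion _ ?_⟩
    exact (pullback.diagonal f).isClosedMap.isClosed_range

instance descendsAlong_isSeparated_fppf :
    DescendsAlong @IsSeparated (@Surjective ⊓ @Flat ⊓ @LocallyOfFinitePresentation) := by
  rw [isSeparated_eq_diagonal_universallyClosed]
  infer_instance

instance descendsAlong_quasiSeparated_fppf :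
    DescendsAlong @QuasiSeparated (@Surjective ⊓ @Flat ⊓ @LocallyOfFinitePresentation) := by
  rw [quasiSeparated_eq_diagonal_is_quasiCompact]
  infer_instance

instance descendsAlong_mono_fppf :
    DescendsAlong (MorphismProperty.monomorphisms Scheme.{u})
      (@Surjective ⊓ @Flat ⊓ @LocallyOfFinitePresentation) := by
  rw [← MorphismProperty.diagonal_isomorphisms]
  infer_instance

lemma isProper_eq_inf : @IsProper = (@IsSeparated ⊓ @UniversallyClosed ⊓ @LocallyOfFiniteType :
    MorphismProperty Scheme.{u}) := by
  ext X Y f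
  constructor
  · intro h
    exact ⟨⟨inferInstance, inferInstance⟩, inferInstance⟩
  · rintro ⟨⟨h1, h2⟩, h3⟩
    exact { toIsSeparated := h1, toUniversallyClosed := h2, toLocallyOfFiniteType := h3 }

instance descendsAlong_isProper_fppf :
    DescendsAlong @IsProper (@Surjective ⊓ @Flat ⊓ @LocallyOfFinitePresentation) := by
  rw [isProper_eq_inf]
  infer_instance

instance descendsAlong_isClosedImmersion_fppf :
    DescendsAlong @IsClosedImmersion (@Surjective ⊓ @Flat ⊓ @LocallyOfFinitePresentation) := by
  rw [IsClosedImmersion.eq_proper_inf_monomorphisms]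
  infer_instance

instance (priority := 100) isLocalAtTarget_fppf_inst (P : MorphismProperty Scheme.{u})
    [P.IsStableUnderBaseChange] [IsZariskiLocalAtTarget P]
    [P.DescendsAlong (@Surjective ⊓ @Flat ⊓ @LocallyOfFinitePresentation)] :
    P.IsLocalAtTarget Scheme.fppfPrecoverage :=
  isLocalAtTarget_fppf_of_descendsAlong P

example : MorphismProperty.IsLocalAtTarget (@Etale) Scheme.fppfPrecoverage.{u} := inferInstance
example : MorphismProperty.IsLocalAtTarget (@Smooth) Scheme.fppfPrecoverage.{u} := inferInstance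
example : MorphismProperty.IsLocalAtTarget (@Surjective) Scheme.fppfPrecoverage.{u} := inferInstance
example : MorphismProperty.IsLocalAtTarget (@QuasiCompact) Scheme.fppfPrecoverage.{u} := inferInstance
example : MorphismProperty.IsLocalAtTarget (@IsSeparated) Scheme.fppfPrecoverage.{u} := inferInstance
example : MorphismProperty.IsLocalAtTarget (@QuasiSeparated) Scheme.fppfPrecoverage.{u} := inferInstance
example : MorphismProperty.IsLocalAtTarget (@IsProper) Scheme.fppfPrecoverage.{u} := inferInstance
example : MorphismProperty.IsLocalAtTarget (@IsClosedImmersion) Scheme.fppfPrecoverage.{u} := inferInstance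
example : MorphismProperty.IsLocalAtTarget (@IsOpenImmersion) Scheme.fppfPrecoverage.{u} := inferInstance
example : MorphismProperty.IsLocalAtTarget (@LocallyOfFiniteType) Scheme.fppfPrecoverage.{u} := inferInstance
example : MorphismProperty.IsLocalAtTarget (@LocallyOfFinitePresentation) Scheme.fppfPrecoverage.{u} := inferInstance
example : MorphismProperty.IsLocalAtTarget (@UniversallyClosed) Scheme.fppfPrecoverage.{u} := inferInstance
example : MorphismProperty.IsLocalAtTarget (@UniversallyOpen) Scheme.fppfPrecoverage.{u} := inferInstance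
example : MorphismProperty.IsLocalAtTarget (@UniversallyInjective) Scheme.fppfPrecoverage.{u} := inferInstance
example : (MorphismProperty.isomorphisms Scheme.{u}).IsLocalAtTarget Scheme.fppfPrecoverage.{u} := inferInstance
example : (MorphismProperty.monomorphisms Scheme.{u}).IsLocalAtTarget Scheme.fppfPrecoverage.{u} := inferInstance

end Groth.Agent.H5.AlgSp
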