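import Groth.Agent.Lib.Helper5.AlgSp.Basic

/-!
# Covering sieves of the big fppf site over `S`, locally surjective maps, fppf-local properties
-/

set_option autoImplicit false

universe u

open CategoryTheory CategoryTheory.Limits AlgebraicGeometry Opposite

namespace Groth.Agent.H5.AlgSp

open _root_.AlgSp

variable {S : Scheme.{u}}

instance flatLfp_containsIdentities :
    (@Flat ⊓ @LocallyOfFinitePresentation : MorphismProperty Scheme.{u}).ContainsIdentities where
  id_mem X := ⟨inferInstanceAs (Flat (𝟙 X)), inferInstanceAs (LocallyOfFinitePresentation (𝟙 X))⟩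

instance fppfPrecoverage_hasIsos : Scheme.fppfPrecoverage.{u}.HasIsos := by
  unfold Scheme.fppfPrecoverage; infer_instance

lemma J_eq_comap :
    J S = (Scheme.fppfPrecoverage.comap (Over.forget S)).toGrothendieck :=
  over_toGrothendieck_eq_toGrothendieck_comap_forget _ S

/-- A sieve is covering for the big fppf site iff it contains an fppf covering family. -/
lemma mem_J_iff {T : Over S} (R : Sieve T) : R ∈ J S T ↔
    ∃ R₀ : Presieve T, R₀.map (Over.forget S) ∈ Scheme.fppfPrecoverage T.left ∧ R₀ ≤ R := by
  rw [J_eq_comap]
  exact Precoverage.mem_toGrothendieck_iff_of_isStableUnderComposition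

/-- A sieve containing a flat, locally finitely presented, surjective morphism is covering. -/
lemma mem_J_of_fppf {T V : Over S} (g : V ⟶ T) (h1 : Flat g.left)
    (h2 : LocallyOfFinitePresentation g.left) (h3 : Surjective g.left) (R : Sieve T)
    (hg : R g) : R ∈ J S T := by
  rw [mem_J_iff]
  refine ⟨Presieve.singleton g, ?_, ?_⟩
  · rw [Presieve.map_singleton]
    exact Scheme.Hom.singleton_mem_fppfPrecoverage g.left
  · rintro _ _ ⟨⟩
    exact hg

/-- A morphism of sheaves which is representable, flat, locally of finite presentation and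
surjective is locally surjective. -/
theorem isLocallySurjective_of_repWith {F G : Sp S} (a : F ⟶ G) (h₁ : RepWith @Flat a)
    (h₂ : RepWith @LocallyOfFinitePresentation a) (h₃ : RepWith @Surjective a) :
    Sheaf.IsLocallySurjective a := by
  refine ⟨fun {T} s => ?_⟩
  let ξ : (yon S).obj T ⟶ G := (yEquiv G T).symm s
  have hr := h₁.rep
  have sq := hr.isPullback ξ
  apply mem_J_of_fppf (hr.snd ξ) (h₁.property_snd ξ) (h₂.property _ _ _ sq) (h₃.property _ _ _ sq)
  refine ⟨yEquiv F _ (hr.fst ξ), ?_⟩
  have := congrArg (yEquiv G _) sq.w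
  rw [yEquiv_comp] at this
  rw [this]
  change (J S).uliftYonedaEquiv ((yon S).map (hr.snd ξ) ≫ ξ) = _
  rw [← (J S).uliftYonedaEquiv_naturality]
  simp [ξ]

lemma repWith_mono {P Q : MorphismProperty Scheme.{u}} (h : P ≤ Q) {F G : Sp S} {f : F ⟶ G}
    (hf : RepWith P f) : RepWith Q f :=
  MorphismProperty.relative_monotone (fun (X Y : Over S) (g : X ⟶ Y) hg => h g.left hg) _ hf

lemma etale_le_flat : (@Etale : MorphismProperty Scheme.{u}) ≤ @Flat := fun _ _ f hf => by
  have : Etale f := hf
  exact (inferInstance : Flat f)

lemma etale_le_lfp : (@Etale : MorphismProperty Scheme.{u}) ≤ @LocallyOfFinitePresentation :=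
  fun _ _ f hf => by
    have : Etale f := hf
    exact (inferInstance : LocallyOfFinitePresentation f)

/-- A representable etale surjective morphism of sheaves is locally surjective. -/
theorem isLocallySurjective_of_etale_surjective {F G : Sp S} (q : F ⟶ G) (hqe : RepWith @Etale q)
    (hqs : RepWith @Surjective q) : Sheaf.IsLocallySurjective q :=
  isLocallySurjective_of_repWith q (repWith_mono etale_le_flat hqe) (repWith_mono etale_le_lfp hqe)
    hqs

end Groth.Agent.H5.AlgSp
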