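import Groth.Prelude.Def_AlgSp
import Mathlib

/-!
# Basic tools for fppf sheaves over a scheme: testing on representables
-/

set_option autoImplicit false

universe u

open CategoryTheory CategoryTheory.Limits AlgebraicGeometry Opposite

namespace Groth.Agent.H5.AlgSp

open _root_.AlgSp

variable {S : Scheme.{u}}

/-- Sections of `F` over `T` are maps `h_T ⟶ F`. -/
noncomputable abbrev yEquiv (F : Sp S) (T : Over S) : ((yon S).obj T ⟶ F) ≃ F.obj.obj (op T) :=
  (J S).uliftYonedaEquiv

lemma yEquiv_comp {F G : Sp S} {T : Over S} (x : (yon S).obj T ⟶ F) (a : F ⟶ G) :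
    yEquiv G T (x ≫ a) = a.hom.app _ (yEquiv F T x) :=
  (J S).uliftYonedaEquiv_comp x a

/-- Morphisms of sheaves can be tested on representables. -/
lemma hom_ext_yon {F G : Sp S} (a b : F ⟶ G)
    (h : ∀ (T : Over S) (x : (yon S).obj T ⟶ F), x ≫ a = x ≫ b) : a = b := by
  apply Sheaf.hom_ext
  ext ⟨T⟩ s
  have := h T ((yEquiv F T).symm s)
  have h2 := congrArg (yEquiv G T) this
  rw [yEquiv_comp, yEquiv_comp, Equiv.apply_symm_apply] at h2
  exact h2

lemma mono_of_yon {F G : Sp S} (a : F ⟶ G)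
    (h : ∀ (T : Over S) (x y : (yon S).obj T ⟶ F), x ≫ a = y ≫ a → x = y) : Mono a := by
  refine ⟨fun {Z} b c hbc => ?_⟩
  apply hom_ext_yon
  intro T x
  apply h
  rw [Category.assoc, Category.assoc, hbc]

/-- A morphism of sheaves that is bijective on `h_T`-points for all `T` is an isomorphism. -/
lemma isIso_of_yon_bijective {P Q : Sp S} (φ : P ⟶ Q)
    (h : ∀ T : Over S, Function.Bijective (fun x : (yon S).obj T ⟶ P => x ≫ φ)) : IsIso φ := by
  have h1 : ∀ T : (Over S)ᵒᵖ, IsIso (φ.hom.app T) := by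
    intro ⟨T⟩
    rw [isIso_iff_bijective]
    have hb := h T
    constructor
    · intro s t hst
      have := hb.1 (a₁ := (yEquiv P T).symm s) (a₂ := (yEquiv P T).symm t) (by
        apply (yEquiv Q T).injective
        simp only [yEquiv_comp, Equiv.apply_symm_apply]
        exact hst)
      simpa using this
    · intro s
      obtain ⟨x, hx⟩ := hb.2 ((yEquiv Q T).symm s)
      refine ⟨yEquiv P T x, ?_⟩
      have := congrArg (yEquiv Q T) hx
      rw [yEquiv_comp, Equiv.apply_symm_apply] at this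
      exact this
  have h2 : IsIso φ.hom := NatIso.isIso_of_isIso_app _
  have : IsIso ((sheafToPresheaf (J S) (Type (u + 1))).map φ) := h2
  exact isIso_of_reflects_iso φ (sheafToPresheaf (J S) (Type (u + 1)))

/-- Pullback squares of sheaves can be tested on representables. -/
lemma isPullback_of_yon {P F G H : Sp S} {fst : P ⟶ F} {snd : P ⟶ H} {f : F ⟶ G} {g : H ⟶ G}
    (w : fst ≫ f = snd ≫ g)
    (h : ∀ (T : Over S) (x : (yon S).obj T ⟶ F) (y : (yon S).obj T ⟶ H), x ≫ f = y ≫ g →
      ∃! z : (yon S).obj T ⟶ P, z ≫ fst = x ∧ z ≫ snd = y) : IsPullback fst snd f g := by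
  have : IsIso (pullback.lift fst snd w) := by
    apply isIso_of_yon_bijective
    intro T
    constructor
    · intro z₁ z₂ hz
      dsimp only at hz
      have h1 := congrArg (· ≫ pullback.fst f g) hz
      have h2 := congrArg (· ≫ pullback.snd f g) hz
      simp only [Category.assoc, pullback.lift_fst, pullback.lift_snd] at h1 h2
      obtain ⟨z, -, hu⟩ := h T (z₁ ≫ fst) (z₁ ≫ snd) (by rw [Category.assoc, w, Category.assoc])
      rw [hu z₁ ⟨rfl, rfl⟩, hu z₂ ⟨h1.symm, h2.symm⟩]
    · intro z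
      obtain ⟨z', ⟨h1, h2⟩, -⟩ := h T (z ≫ pullback.fst f g) (z ≫ pullback.snd f g)
        (by rw [Category.assoc, pullback.condition, Category.assoc])
      refine ⟨z', ?_⟩
      apply pullback.hom_ext
      · rw [Category.assoc, pullback.lift_fst, h1]
      · rw [Category.assoc, pullback.lift_snd, h2]
  exact IsPullback.of_iso_pullback ⟨w⟩ (asIso (pullback.lift fst snd w))
    (pullback.lift_fst _ _ _) (pullback.lift_snd _ _ _)

lemma IsPullback.exists_unique_yon {P F G H : Sp S} {fst : P ⟶ F} {snd : P ⟶ H} {f : F ⟶ G}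
    {g : H ⟶ G} (sq : IsPullback fst snd f g) {T : Sp S} (x : T ⟶ F) (y : T ⟶ H)
    (hxy : x ≫ f = y ≫ g) : ∃! z : T ⟶ P, z ≫ fst = x ∧ z ≫ snd = y := by
  refine ⟨sq.lift x y hxy, ⟨sq.lift_fst _ _ _, sq.lift_snd _ _ _⟩, ?_⟩
  rintro z ⟨h1, h2⟩
  apply sq.hom_ext <;> simp [h1, h2]

end Groth.Agent.H5.AlgSp
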