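import Groth.Prelude.Def_AlgSp3
import Groth.Agent.Lib.Helper5.AlgSp.Basic
import Mathlib

/-!
# Checking `RepWith P` on affine test schemes
-/

set_option autoImplicit false

universe u

open CategoryTheory CategoryTheory.Limits AlgebraicGeometry Opposite Topology

namespace Groth.Agent.H5.AlgSp

open _root_.AlgSp

variable {S : Scheme.{u}} {F G H : Sp S}

/-- Base change of a representable pullback square along a morphism of schemes. -/
theorem isPullback_baseChange_yon {f : F ⟶ G} {T V T' : Over S} {g : (yon S).obj T ⟶ G}
    {fst : (yon S).obj V ⟶ F} {snd : V ⟶ T} (sq : IsPullback fst ((yon S).map snd) f g)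
    (ι : T' ⟶ T) :
    IsPullback ((yon S).map (pullback.fst snd ι) ≫ fst) ((yon S).map (pullback.snd snd ι)) f
      ((yon S).map ι ≫ g) :=
  (((IsPullback.of_hasPullback snd ι).map (yon S)).flip.paste_vert sq.flip).flip

lemma left_pullback_snd_iff (P : MorphismProperty Scheme.{u}) [P.RespectsIso] {V T T' : Over S}
    (snd : V ⟶ T) (ι : T' ⟶ T) :
    P (pullback.snd snd ι).left ↔ P (pullback.snd snd.left ι.left) := by
  have sqS : IsPullback (pullback.fst snd ι).left (pullback.snd snd ι).left snd.left ι.left :=
    (IsPullback.of_hasPullback snd ι).map (Over.forget S)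
  rw [← P.cancel_left_of_respectsIso sqS.isoPullback.hom (pullback.snd snd.left ι.left),
    sqS.isoPullback_hom_snd]

/-- A representable morphism has `P` (Zariski local on the target) as soon as its base changes to
affine schemes have `P`. -/
theorem repWith_of_forall_affine {f : F ⟶ G} (hf : Representable f)
    (P : MorphismProperty Scheme.{u}) [P.IsStableUnderBaseChange] [IsZariskiLocalAtTarget P]
    (h : ∀ (T V : Over S) (g : (yon S).obj T ⟶ G) (fst : (yon S).obj V ⟶ F) (snd : V ⟶ T),
      IsAffine T.left → IsPullback fst ((yon S).map snd) f g → P snd.left) : RepWith P f := by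
  refine ⟨hf, fun T V g fst snd sq => ?_⟩
  change P snd.left
  have : P.RespectsIso := MorphismProperty.IsStableUnderBaseChange.respectsIso
  rw [IsZariskiLocalAtTarget.iff_of_openCover (P := P) T.left.affineCover]
  intro i
  let T' : Over S := Over.mk (T.left.affineCover.f i ≫ T.hom)
  let ι : T' ⟶ T := Over.homMk (T.left.affineCover.f i) rfl
  have h1 := h T' _ _ _ _ (by change IsAffine (T.left.affineCover.X i); infer_instance)
    (isPullback_baseChange_yon sq ι)
  rw [left_pullback_snd_iff P] at h1
  exact h1

end Groth.Agent.H5.AlgSp
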