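import Groth.Agent.Lib.Helper5.AlgSp.Basic

/-!
# Representable monomorphisms are monomorphisms of sheaves
-/

set_option autoImplicit false

universe u

open CategoryTheory CategoryTheory.Limits AlgebraicGeometry Opposite

namespace Groth.Agent.H5.AlgSp

open _root_.AlgSp

variable {S : Scheme.{u}}

/-- A morphism of sheaves which is representable by monomorphisms of schemes is a monomorphism. -/
lemma mono_of_repWith {P : MorphismProperty Scheme.{u}}
    (hP : P ≤ MorphismProperty.monomorphisms Scheme.{u}) {F G : Sp S} {f : F ⟶ G}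
    (hf : RepWith P f) : Mono f := by
  apply mono_of_yon
  intro T x y hxy
  have hr := hf.rep
  have sq := hr.isPullback (y ≫ f)
  have hm : Mono (hr.snd (y ≫ f)).left := hP _ (hf.property_snd (y ≫ f))
  have hm' : Mono (hr.snd (y ≫ f)) := (Over.forget S).mono_of_mono_map hm
  let zx := sq.lift x (𝟙 _) (by rw [Category.id_comp, hxy])
  let zy := sq.lift y (𝟙 _) (by rw [Category.id_comp])
  obtain ⟨sx, hsx⟩ := (yon S).map_surjective zx
  obtain ⟨sy, hsy⟩ := (yon S).map_surjective zy
  have h1 : sx ≫ hr.snd (y ≫ f) = 𝟙 T := by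
    apply (yon S).map_injective
    rw [Functor.map_comp, hsx, CategoryTheory.Functor.map_id]
    exact sq.lift_snd _ _ _
  have h2 : sy ≫ hr.snd (y ≫ f) = 𝟙 T := by
    apply (yon S).map_injective
    rw [Functor.map_comp, hsy, CategoryTheory.Functor.map_id]
    exact sq.lift_snd _ _ _
  have h3 : sx = sy := by rw [← cancel_mono (hr.snd (y ≫ f)), h1, h2]
  have h4 : zx = zy := by rw [← hsx, ← hsy, h3]
  calc x = zx ≫ hr.fst (y ≫ f) := (sq.lift_fst _ _ _).symm
    _ = zy ≫ hr.fst (y ≫ f) := by rw [h4]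
    _ = y := sq.lift_fst _ _ _

lemma isImmersion_le_mono : @IsImmersion ≤ MorphismProperty.monomorphisms Scheme.{u} := by
  intro X Y f hf
  have : IsImmersion f := hf
  exact MorphismProperty.monomorphisms.infer_property f

/-- If `f₂` is a monomorphism and `g ≫ f₂ = f₁`, then `g` is a base change of `f₁`. -/
lemma isPullback_of_mono_comp {C : Type*} [Category C] {F F₁ F₂ : C} (f₁ : F₁ ⟶ F) (f₂ : F₂ ⟶ F)
    [Mono f₂] (g : F₁ ⟶ F₂) (w : g ≫ f₂ = f₁) : IsPullback (𝟙 F₁) g f₁ f₂ := by
  refine ⟨⟨by rw [Category.id_comp, w]⟩, ⟨PullbackCone.IsLimit.mk _ (fun s => s.fst) ?_ ?_ ?_⟩⟩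
  · intro s; simp
  · intro s
    rw [← cancel_mono f₂, Category.assoc, w, s.condition]
  · intro s m h1 _
    simpa using h1

end Groth.Agent.H5.AlgSp
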