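import Groth.Prelude.Def_AlgSp2
import Groth.Agent.Lib.Helper5.AlgSp.Basic
import Mathlib

/-!
# Points of fppf sheaves: basic tools
-/

set_option autoImplicit false

universe u

open CategoryTheory CategoryTheory.Limits AlgebraicGeometry Opposite

namespace Groth.Agent.H5.AlgSp

open _root_.AlgSp

variable {S : Scheme.{u}} {F G H : Sp S}

/-- The morphism `h_{Spec K} ⟶ F` of a field point. -/
noncomputable def fpHom (p : FieldPt F) : (yon S).obj p.pt ⟶ F := (yEquiv F p.pt).symm p.val

/-- The field point of a morphism `h_{Spec K} ⟶ F`. -/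
noncomputable def fpOfHom {K : Type u} [Field K] (str : Spec (.of K) ⟶ S)
    (x : (yon S).obj (Over.mk str) ⟶ F) : FieldPt F := ⟨K, str, yEquiv F _ x⟩

@[simp] lemma fpOfHom_fpHom (p : FieldPt F) : fpOfHom p.str (fpHom p) = p := by
  obtain ⟨K, str, v⟩ := p
  simp [fpOfHom, fpHom]

@[simp] lemma fpHom_fpOfHom {K : Type u} [Field K] (str : Spec (.of K) ⟶ S)
    (x : (yon S).obj (Over.mk str) ⟶ F) : fpHom (fpOfHom str x) = x :=
  (yEquiv F (Over.mk str)).symm_apply_apply x

lemma fpOfHom_map {K : Type u} [Field K] (str : Spec (.of K) ⟶ S)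
    (x : (yon S).obj (Over.mk str) ⟶ F) (f : F ⟶ G) :
    (fpOfHom str x).map f = fpOfHom str (x ≫ f) := by
  simp only [fpOfHom, FieldPt.map]
  rw [yEquiv_comp]
  rfl

/-- Restricting a field point along a field extension does not change the point. -/
lemma mk_fpOfHom_comp {K L : Type u} [Field K] [Field L] (str : Spec (.of K) ⟶ S)
    (str' : Spec (.of L) ⟶ S) (m : Over.mk str' ⟶ Over.mk str)
    (x : (yon S).obj (Over.mk str) ⟶ F) :
    Points.mk (fpOfHom str' ((yon S).map m ≫ x)) = Points.mk (fpOfHom str x) := by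
  refine Points.sound ⟨L, inferInstance, str', 𝟙 _, m, ?_⟩
  simp only [fpOfHom]
  rw [op_id, F.obj.map_id]
  exact ((J S).uliftYonedaEquiv_naturality x m).symm

lemma map_mk_fpOfHom {K : Type u} [Field K] (str : Spec (.of K) ⟶ S)
    (x : (yon S).obj (Over.mk str) ⟶ F) (f : F ⟶ G) :
    Points.map f (Points.mk (fpOfHom str x)) = Points.mk (fpOfHom str (x ≫ f)) := by
  rw [Points.map_mk, fpOfHom_map]

/-- every point is the class of a morphism from the spectrum of a field -/
lemma exists_fpOfHom (x : Points F) : ∃ (K : Type u) (_ : Field K) (str : Spec (.of K) ⟶ S)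
    (ξ : (yon S).obj (Over.mk str) ⟶ F), x = Points.mk (fpOfHom str ξ) := by
  induction x using Points.ind with
  | h p => exact ⟨p.K, inferInstance, p.str, fpHom p, by rw [fpOfHom_fpHom]⟩

lemma yEquiv_yon_map {T T' : Over S} (m : T' ⟶ T) :
    yEquiv ((yon S).obj T) T' ((yon S).map m) = ⟨m⟩ :=
  (J S).uliftYonedaEquiv_uliftYoneda_map m

/-- The point defined by a morphism `Spec K ⟶ T` and `g : h_T ⟶ F` is the image of the
point of `T` hit by `Spec K`. -/
lemma mk_fpOfHom_yon_map {T : Over S} {K : Type u} [Field K] (str : Spec (.of K) ⟶ S)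
    (m : Over.mk str ⟶ T) (g : (yon S).obj T ⟶ F) :
    Points.mk (fpOfHom str ((yon S).map m ≫ g)) =
      Points.ofPt g (m.left (IsLocalRing.closedPoint K)) := by
  rw [Points.ofPt_eq_map_ofScheme, Points.ofScheme_apply_eq_mk T m.left (Over.w m), Points.map_mk]
  congr 1

/-- `ofPt` in terms of `fpOfHom`. -/
lemma ofPt_eq_mk {T : Over S} (g : (yon S).obj T ⟶ F) (t : ↥T.left) :
    Points.ofPt g t = Points.mk (fpOfHom (K := ↥(T.left.residueField t))
      (T.left.fromSpecResidueField t ≫ T.hom)
      ((yon S).map (Over.homMk (T.left.fromSpecResidueField t) rfl :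
        Over.mk (T.left.fromSpecResidueField t ≫ T.hom) ⟶ T) ≫ g)) := by
  rw [mk_fpOfHom_yon_map]
  congr 1
  exact (Scheme.fromSpecResidueField_apply _ _).symm

/-- Compatibility of `ofPt` with morphisms of schemes. -/
lemma ofPt_yon_map_comp {T T' : Over S} (φ : T' ⟶ T) (g : (yon S).obj T ⟶ F) (t : ↥T'.left) :
    Points.ofPt ((yon S).map φ ≫ g) t = Points.ofPt g (φ.left t) := by
  rw [ofPt_eq_mk, ← Category.assoc, ← Functor.map_comp, mk_fpOfHom_yon_map]
  congr 1
  change (T'.left.fromSpecResidueField t ≫ φ.left) (IsLocalRing.closedPoint _) = _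
  rw [Scheme.Hom.comp_apply, Scheme.fromSpecResidueField_apply]

/-- Equality of points in terms of morphisms. -/
lemma mk_fpOfHom_eq_iff {K L : Type u} [Field K] [Field L] (str : Spec (.of K) ⟶ S)
    (str' : Spec (.of L) ⟶ S) (ξ : (yon S).obj (Over.mk str) ⟶ F)
    (η : (yon S).obj (Over.mk str') ⟶ F) :
    Points.mk (fpOfHom str ξ) = Points.mk (fpOfHom str' η) ↔
      ∃ (Ω : Type u) (_ : Field Ω) (w : Spec (.of Ω) ⟶ S) (a : Over.mk w ⟶ Over.mk str)
        (b : Over.mk w ⟶ Over.mk str'), (yon S).map a ≫ ξ = (yon S).map b ≫ η := by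
  rw [Points.mk_eq_mk_iff]
  constructor
  · rintro ⟨Ω, _, w, a, b, h⟩
    refine ⟨Ω, inferInstance, w, a, b, ?_⟩
    apply (yEquiv F _).injective
    have h1 := (J S).uliftYonedaEquiv_naturality ξ a
    have h2 := (J S).uliftYonedaEquiv_naturality η b
    exact h1.symm.trans (h.trans h2)
  · rintro ⟨Ω, _, w, a, b, h⟩
    refine ⟨Ω, inferInstance, w, a, b, ?_⟩
    have h1 := (J S).uliftYonedaEquiv_naturality ξ a
    have h2 := (J S).uliftYonedaEquiv_naturality η b
    exact h1.trans ((congrArg (yEquiv F _) h).trans h2.symm)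

/-- **Points of a fibre product surject onto the fibre product of points.** -/
theorem points_pullback_surjective {P : Sp S} {fst : P ⟶ F} {snd : P ⟶ H} {f : F ⟶ G} {g : H ⟶ G}
    (sq : IsPullback fst snd f g) (x : Points F) (y : Points H)
    (hxy : Points.map f x = Points.map g y) :
    ∃ z : Points P, Points.map fst z = x ∧ Points.map snd z = y := by
  obtain ⟨K, _, str, ξ, rfl⟩ := exists_fpOfHom x
  obtain ⟨L, _, str', η, rfl⟩ := exists_fpOfHom y
  rw [map_mk_fpOfHom, map_mk_fpOfHom, mk_fpOfHom_eq_iff] at hxy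
  obtain ⟨Ω, _, w, a, b, h⟩ := hxy
  refine ⟨Points.mk (fpOfHom w (sq.lift ((yon S).map a ≫ ξ) ((yon S).map b ≫ η)
    (by simpa using h))), ?_, ?_⟩
  · rw [map_mk_fpOfHom, sq.lift_fst, mk_fpOfHom_comp]
  · rw [map_mk_fpOfHom, sq.lift_snd, mk_fpOfHom_comp]

/-- The point of `h_{Spec K}` → `F` is `ofPt` of the closed point. -/
lemma ofPt_closedPoint {K : Type u} [Field K] (str : Spec (.of K) ⟶ S)
    (η : (yon S).obj (Over.mk str) ⟶ F) :
    Points.ofPt η (IsLocalRing.closedPoint K) = Points.mk (fpOfHom str η) := by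
  have := mk_fpOfHom_yon_map str (𝟙 (Over.mk str)) η
  rw [CategoryTheory.Functor.map_id, Category.id_comp] at this
  rw [this]
  rfl

lemma ofScheme_surjective (T : Over S) : Function.Surjective (Points.ofScheme T) :=
  (Points.schemeEquiv T).surjective

/-- Pullback squares with representable corner: lifting points. -/
theorem exists_point_of_isPullback {F' : Sp S} {V T : Over S} {fst : (yon S).obj V ⟶ F'}
    {snd : V ⟶ T} {p : F' ⟶ F} {g : (yon S).obj T ⟶ F}
    (sq : IsPullback fst ((yon S).map snd) p g) (x : Points F') (t : ↥T.left)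
    (h : Points.map p x = Points.ofPt g t) :
    ∃ v : ↥V.left, snd.left v = t ∧ Points.ofPt fst v = x := by
  rw [Points.ofPt_eq_map_ofScheme] at h
  obtain ⟨z, hz1, hz2⟩ := points_pullback_surjective sq x _ h
  obtain ⟨v, rfl⟩ := ofScheme_surjective V z
  refine ⟨v, ?_, ?_⟩
  · have := congrArg (Points.toScheme T) hz2
    rw [← Points.ofPt_eq_map_ofScheme, Points.toScheme_ofPt, Points.toScheme_ofScheme] at this
    exact this
  · rw [Points.ofPt_eq_map_ofScheme, hz1]

/-- A representable surjective morphism is surjective on points. -/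
theorem points_map_surjective_of_repWith {f : F ⟶ G} (hf : RepWith @Surjective f) :
    Function.Surjective (Points.map f) := by
  intro y
  obtain ⟨K, _, str, η, rfl⟩ := exists_fpOfHom y
  have hs : Surjective (hf.rep.snd η).left := hf.property_snd η
  obtain ⟨w, hw⟩ := hs.surj (IsLocalRing.closedPoint K)
  refine ⟨Points.ofPt (hf.rep.fst η) w, ?_⟩
  rw [Points.map_ofPt, hf.rep.w, ofPt_yon_map_comp, hw, ofPt_closedPoint]

/-- A representable surjective chart is surjective on points. -/
theorem ofPt_surjective_of_repWith {U : Over S} {p : (yon S).obj U ⟶ F}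
    (hp : RepWith @Surjective p) : Function.Surjective (Points.ofPt p) := by
  intro x
  obtain ⟨z, rfl⟩ := points_map_surjective_of_repWith hp x
  obtain ⟨u, rfl⟩ := ofScheme_surjective U z
  exact ⟨u, Points.ofPt_eq_map_ofScheme p u⟩

/-- A representable morphism that is surjective on points is representable surjective. -/
theorem repWith_surjective_of_points {f : F ⟶ G} (hf : Representable f)
    (hs : Function.Surjective (Points.map f)) : RepWith @Surjective f := by
  refine ⟨hf, fun T V g fst snd sq => ?_⟩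
  change Surjective snd.left
  refine ⟨fun t => ?_⟩
  obtain ⟨x, hx⟩ := hs (Points.ofPt g t)
  obtain ⟨v, hv, -⟩ := exists_point_of_isPullback sq x t hx
  exact ⟨v, hv⟩

theorem repWith_surjective_iff_points {f : F ⟶ G} (hf : Representable f) :
    RepWith @Surjective f ↔ Function.Surjective (Points.map f) :=
  ⟨points_map_surjective_of_repWith, repWith_surjective_of_points hf⟩

/-- A morphism representable by open maps is open on points. -/
theorem isOpenMap_points_map_of_repWith {P : MorphismProperty Scheme.{u}}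
    (hP : ∀ {X Y : Scheme.{u}} (f : X ⟶ Y), P f → IsOpenMap f) {f : F ⟶ G} (hf : RepWith P f) :
    IsOpenMap (Points.map f) := by
  intro W hW
  rw [Points.isOpen_iff]
  intro T g
  have ho : IsOpenMap (hf.rep.snd g).left := hP _ (hf.property_snd g)
  have hpre : IsOpen (Points.ofPt (hf.rep.fst g) ⁻¹' W) :=
    hW.preimage (Points.continuous_ofPt _)
  convert ho _ hpre using 1
  ext t
  simp only [Set.mem_preimage, Set.mem_image]
  constructor
  · rintro ⟨x, hxW, hx⟩
    obtain ⟨v, hv, hvx⟩ := exists_point_of_isPullback (hf.rep.isPullback g) x t hx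
    exact ⟨v, by rw [hvx]; exact hxW, hv⟩
  · rintro ⟨v, hvW, rfl⟩
    refine ⟨_, hvW, ?_⟩
    rw [Points.map_ofPt, hf.rep.w, ofPt_yon_map_comp]

theorem isOpenMap_points_map_of_etale {f : F ⟶ G} (hf : RepWith @Etale f) :
    IsOpenMap (Points.map f) :=
  isOpenMap_points_map_of_repWith (P := @Etale) (fun f hf => by
    have : Etale f := hf
    exact f.isOpenMap) hf

/-- Etale charts are open on points. -/
theorem isOpenMap_ofPt_of_etale {U : Over S} {a : (yon S).obj U ⟶ F} (ha : RepWith @Etale a) :
    IsOpenMap (Points.ofPt a) := by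
  have : Points.ofPt a = Points.map a ∘ Points.schemeHomeo U := by
    funext u
    exact Points.ofPt_eq_map_ofScheme a u
  rw [this]
  exact (isOpenMap_points_map_of_etale ha).comp (Points.schemeHomeo U).isOpenMap

end Groth.Agent.H5.AlgSp
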