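import Groth.Prelude.Def_AlgSp2
import Groth.Agent.Lib.Helper5.AlgSp.Points
import Mathlib

/-!
# Points of algebraic spaces: quasi-compactness, restriction of charts to opens
-/

set_option autoImplicit false

universe u

open CategoryTheory CategoryTheory.Limits AlgebraicGeometry Opposite Topology

namespace Groth.Agent.H5.AlgSp

open _root_.AlgSp

variable {S : Scheme.{u}} {F G H : Sp S}

theorem repWith_surjective_of_ofPt {U : Over S} {p : (yon S).obj U ⟶ F} (hp : Representable p)
    (hs : Function.Surjective (Points.ofPt p)) : RepWith @Surjective p := by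
  refine repWith_surjective_of_points hp fun x => ?_
  obtain ⟨u, rfl⟩ := hs x
  exact ⟨Points.ofScheme U u, (Points.ofPt_eq_map_ofScheme p u).symm⟩

theorem isQuotientMap_ofPt {U : Over S} {p : (yon S).obj U ⟶ F} (hp : RepWith @Etale p)
    (hs : RepWith @Surjective p) : IsQuotientMap (Points.ofPt p) :=
  (isOpenMap_ofPt_of_etale hp).isQuotientMap (Points.continuous_ofPt p)
    (ofPt_surjective_of_repWith hs)

/-- Two points of a chart have the same image iff they come from `R = U ×_F U`. -/
theorem ofPt_eq_ofPt_iff {U R : Over S} {a : (yon S).obj U ⟶ F} {s t : R ⟶ U}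
    (sq : IsPullback ((yon S).map t) ((yon S).map s) a a) (u u' : ↥U.left) :
    Points.ofPt a u = Points.ofPt a u' ↔ ∃ r : ↥R.left, t.left r = u ∧ s.left r = u' := by
  constructor
  · intro h
    have h' : Points.map a (Points.ofScheme U u) = Points.ofPt a u' := by
      rw [← Points.ofPt_eq_map_ofScheme]; exact h
    obtain ⟨r, hr, hr'⟩ := exists_point_of_isPullback sq _ u' h'
    refine ⟨r, ?_, hr⟩
    have := congrArg (Points.toScheme U) hr'
    rw [Points.toScheme_ofPt, Points.toScheme_ofScheme] at this
    exact this
  · rintro ⟨r, rfl, rfl⟩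
    rw [← ofPt_yon_map_comp, ← ofPt_yon_map_comp, sq.w]

theorem locallyQuasiFinite_of_etale {X Y : Scheme.{u}} (f : X ⟶ Y) [Etale f] :
    LocallyQuasiFinite f := by
  rw [HasRingHomProperty.iff_appLE (P := @LocallyQuasiFinite)]
  intro U V e
  have h := HasRingHomProperty.appLE (P := @Etale) f ‹_› U V e
  algebraize [(f.appLE U.1 V.1 e).hom]
  have : Algebra.Etale Γ(Y, U.1) Γ(X, V.1) := h
  show Algebra.QuasiFinite _ _
  infer_instance

/-- every point of a scheme is a specialization of a point with zero-dimensional local ring -/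
theorem exists_generization_dim_zero (X : Scheme.{u}) (x : X) :
    ∃ η : X, η ⤳ x ∧ ringKrullDim (X.presheaf.stalk η) = 0 := by
  have hirr : IsIrreducible (irreducibleComponent x) := isIrreducible_irreducibleComponent
  have hcl : IsClosed (irreducibleComponent x) := isClosed_irreducibleComponent
  obtain ⟨η, hη⟩ := QuasiSober.sober hirr hcl
  have hη' : closure {η} = irreducibleComponent x := hη
  refine ⟨η, ?_, ?_⟩
  · rw [specializes_iff_mem_closure, hη']
    exact mem_irreducibleComponent
  · rw [ringKrullDim_stalk_eq_coheight]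
    norm_cast
    rw [Order.coheight_eq_zero]
    intro η' hle
    -- η ≤ η' means η' ⤳ η
    have h1 : η' ⤳ η := hle
    have hsub : irreducibleComponent x ⊆ closure {η'} := by
      rw [← hη']
      exact closure_minimal (Set.singleton_subset_iff.2 (specializes_iff_mem_closure.1 h1)) isClosed_closure
    have heq : closure {η'} = irreducibleComponent x :=
      (irreducibleComponent_property x).2.2 _ isIrreducible_singleton.closure.isPreirreducible hsub
    have h2 : η ⤳ η' := by
      rw [specializes_iff_mem_closure, hη', ← heq]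
      exact subset_closure rfl
    exact h2

/-- The open subscheme of `U : Over S` on an open subset, as an object over `S`. -/
noncomputable abbrev overOpen (U : Over S) (V : U.left.Opens) : Over S := Over.mk (V.ι ≫ U.hom)

/-- The inclusion of an open subscheme, over `S`. -/
noncomputable abbrev overOpenι (U : Over S) (V : U.left.Opens) : overOpen U V ⟶ U :=
  Over.homMk V.ι rfl

lemma repWith_overOpenι (P : MorphismProperty Scheme.{u}) [P.IsStableUnderBaseChange]
    (hP : ∀ {X Y : Scheme.{u}} (f : X ⟶ Y) [IsOpenImmersion f], P f)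
    (U : Over S) (V : U.left.Opens) : RepWith P ((yon S).map (overOpenι U V)) :=
  (repWith_yon_map_iff P _).2 (by
    have : IsOpenImmersion (overOpenι U V).left := by
      change IsOpenImmersion V.ι
      infer_instance
    exact hP _)

/-- Restricting an etale chart to an open subscheme. -/
lemma repWith_etale_restrict {U : Over S} {p : (yon S).obj U ⟶ F} (hp : RepWith @Etale p)
    (V : U.left.Opens) : RepWith @Etale ((yon S).map (overOpenι U V) ≫ p) :=
  MorphismProperty.comp_mem _ _ _ (repWith_overOpenι @Etale (fun _ _ => inferInstance) U V) hp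

lemma ofPt_restrict {U : Over S} (p : (yon S).obj U ⟶ F) (V : U.left.Opens) (v : ↥V) :
    Points.ofPt ((yon S).map (overOpenι U V) ≫ p) v = Points.ofPt p v.1 := by
  rw [ofPt_yon_map_comp]
  rfl

lemma range_ofPt_restrict {U : Over S} (p : (yon S).obj U ⟶ F) (V : U.left.Opens) :
    Set.range (Points.ofPt ((yon S).map (overOpenι U V) ≫ p)) = Points.ofPt p '' (V : Set U.left) := by
  ext x
  constructor
  · rintro ⟨v, rfl⟩
    exact ⟨v.1, v.2, (ofPt_restrict p V v).symm⟩
  · rintro ⟨u, hu, rfl⟩
    exact ⟨⟨u, hu⟩, ofPt_restrict p V ⟨u, hu⟩⟩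

/-- A sheaf with a surjective étale chart is quasi-compact iff its space of points is. -/
theorem isQuasiCompactSp_iff_compactSpace (hF : IsAlgSpace F) :
    IsQuasiCompactSp F ↔ CompactSpace (Points F) := by
  constructor
  · rintro ⟨U, p, hp, hs, hU⟩
    have : CompactSpace ↥U.left := hU
    exact ⟨by
      rw [← (ofPt_surjective_of_repWith hs).range_eq]
      exact isCompact_range (Points.continuous_ofPt p)⟩
  · intro hc
    obtain ⟨U, p, hp, hs⟩ := hF.atlas
    -- cover by images of affine opens
    let B : Set U.left.Opens := {V | IsAffineOpen V}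
    have hopen : ∀ V : U.left.Opens, IsOpen (Points.ofPt p '' (V : Set U.left)) :=
      fun V => isOpenMap_ofPt_of_etale hp _ V.2
    have hcov : (Set.univ : Set (Points F)) ⊆ ⋃ V : B, Points.ofPt p '' (V.1 : Set U.left) := by
      intro x _
      obtain ⟨u, rfl⟩ := ofPt_surjective_of_repWith hs x
      obtain ⟨_, ⟨V, hV, rfl⟩, hu, -⟩ := U.left.isBasis_affineOpens.exists_subset_of_mem_open
        (Set.mem_univ u) isOpen_univ
      exact Set.mem_iUnion.2 ⟨⟨V, hV⟩, u, hu, rfl⟩
    obtain ⟨t, ht⟩ := isCompact_univ.elim_finite_subcover _ (fun V : B => hopen V.1) hcov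
    let U' : U.left.Opens := ⨆ V ∈ t, V.1
    have hU'c : IsCompact (U' : Set U.left) := by
      have : (U' : Set U.left) = ⋃ V ∈ t, (V.1 : Set U.left) := by
        simp [U']
      rw [this]
      exact t.finite_toSet.isCompact_biUnion fun V _ => V.2.isCompact
    refine ⟨overOpen U U', (yon S).map (overOpenι U U') ≫ p, repWith_etale_restrict hp U', ?_, ?_⟩
    · refine repWith_surjective_of_ofPt (repWith_etale_restrict hp U').rep ?_
      rw [← Set.range_eq_univ, range_ofPt_restrict]
      apply Set.eq_univ_of_univ_subset
      refine ht.trans ?_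
      apply Set.iUnion₂_subset
      intro V hV
      apply Set.image_mono
      intro u hu
      simp only [U', TopologicalSpace.Opens.coe_iSup, Set.mem_iUnion]
      exact ⟨V, hV, hu⟩
    · exact isCompact_iff_compactSpace.1 hU'c

end Groth.Agent.H5.AlgSp
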