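import Groth.Prelude.Def_AlgSp2
import Groth.Agent.Lib.Helper5.AlgSp.PointsTop
import Groth.Agent.Lib.Helper5.AlgSp.Mono
import Mathlib

/-!
# Immersions of sheaves on points
-/

set_option autoImplicit false

universe u

open CategoryTheory CategoryTheory.Limits AlgebraicGeometry Opposite Topology

namespace Groth.Agent.H5.AlgSp

open _root_.AlgSp

variable {S : Scheme.{u}} {F G H : Sp S}

/-- A monomorphism of sheaves is injective on points. -/
theorem points_map_injective_of_mono (i : F ⟶ G) [Mono i] : Function.Injective (Points.map i) := by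
  intro z₁ z₂ h
  obtain ⟨K, _, str, ξ, rfl⟩ := exists_fpOfHom z₁
  obtain ⟨L, _, str', η, rfl⟩ := exists_fpOfHom z₂
  rw [map_mk_fpOfHom, map_mk_fpOfHom, mk_fpOfHom_eq_iff] at h
  obtain ⟨Ω, _, w, a, b, h⟩ := h
  rw [mk_fpOfHom_eq_iff]
  refine ⟨Ω, inferInstance, w, a, b, ?_⟩
  rw [← cancel_mono i]
  simpa using h

/-- Base change of a chart along a representable morphism: the induced chart. -/
theorem repWith_fst_of_isPullback {P : MorphismProperty Scheme.{u}} {Z X A B : Sp S} {i : Z ⟶ X}
    {p : A ⟶ X} {q : B ⟶ Z} {j : B ⟶ A} (sq : IsPullback q j i p) (hp : RepWith P p) :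
    RepWith P q :=
  MorphismProperty.of_isPullback (P := RepWith P) sq.flip hp

/-- Topological properties of `|i|` can be checked after base change to a surjective étale
chart: opens of the source are pulled back from the target as soon as this holds on the chart. -/
theorem isInducing_points_map {Z X : Sp S} (i : Z ⟶ X) {U V : Over S} {p : (yon S).obj U ⟶ X}
    (hp : RepWith @Etale p) (hs : RepWith @Surjective p) {q : (yon S).obj V ⟶ Z} {j : V ⟶ U}
    (sq : IsPullback q ((yon S).map j) i p) (hj : IsInducing j.left) :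
    IsInducing (Points.map i) := by
  have hqs : RepWith @Surjective q := repWith_fst_of_isPullback sq hs
  rw [isInducing_iff]
  apply le_antisymm
  · exact (Points.continuous_map i).le_induced
  · intro W hW
    have hW' : IsOpen (Points.ofPt q ⁻¹' W) := hW.preimage (Points.continuous_ofPt q)
    obtain ⟨W', hW'o, hW'e⟩ := hj.isOpen_iff.1 hW'
    refine isOpen_induced_iff.2 ⟨Points.ofPt p '' W', isOpenMap_ofPt_of_etale hp _ hW'o, ?_⟩
    ext z
    constructor
    · rintro ⟨u', hu', hz⟩
      obtain ⟨v, hv, rfl⟩ := exists_point_of_isPullback sq z u' hz.symm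
      have : v ∈ j.left ⁻¹' W' := by rw [Set.mem_preimage, hv]; exact hu'
      rw [hW'e] at this
      exact this
    · intro hz
      obtain ⟨v, rfl⟩ := ofPt_surjective_of_repWith hqs z
      have : v ∈ j.left ⁻¹' W' := by rw [hW'e]; exact hz
      refine ⟨j.left v, this, ?_⟩
      rw [← ofPt_yon_map_comp, ← sq.w, Points.map_ofPt]

theorem preimage_range_points_map {Z X : Sp S} (i : Z ⟶ X) {U V : Over S} {p : (yon S).obj U ⟶ X}
    {q : (yon S).obj V ⟶ Z} {j : V ⟶ U} (sq : IsPullback q ((yon S).map j) i p) :
    Points.ofPt p ⁻¹' (Set.range (Points.map i)) = Set.range j.left := by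
  ext u
  constructor
  · rintro ⟨z, hz⟩
    obtain ⟨v, hv, -⟩ := exists_point_of_isPullback sq z u hz
    exact ⟨v, hv⟩
  · rintro ⟨v, rfl⟩
    refine ⟨Points.ofPt q v, ?_⟩
    rw [Points.map_ofPt, sq.w, ofPt_yon_map_comp]

/-- locally closed subsets descend along open quotient maps -/
theorem isLocallyClosed_of_preimage {A B : Type*} [TopologicalSpace A] [TopologicalSpace B]
    {f : A → B} (hf : IsQuotientMap f) (hfo : IsOpenMap f) {s : Set B}
    (h : IsLocallyClosed (f ⁻¹' s)) : IsLocallyClosed s := by
  rw [isLocallyClosed_iff_isOpen_coborder] at h ⊢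
  rw [coborder_preimage hfo hf.continuous] at h
  exact hf.isOpen_preimage.1 h

theorem isEmbedding_points_map_of_isImmersion {Z X : Sp S} (i : Z ⟶ X)
    (hi : RepWith @IsImmersion i) {U : Over S} {p : (yon S).obj U ⟶ X}
    (hp : RepWith @Etale p) (hs : RepWith @Surjective p) :
    IsEmbedding (Points.map i) ∧ IsLocallyClosed (Set.range (Points.map i)) := by
  have sq := hi.rep.isPullback p
  have hj : IsImmersion (hi.rep.snd p).left := hi.property_snd p
  have : Mono i := mono_of_repWith isImmersion_le_mono hi
  refine ⟨⟨isInducing_points_map i hp hs sq (hi.rep.snd p).left.isEmbedding.isInducing,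
    points_map_injective_of_mono i⟩, ?_⟩
  apply isLocallyClosed_of_preimage (isQuotientMap_ofPt hp hs) (isOpenMap_ofPt_of_etale hp)
  rw [preimage_range_points_map i sq]
  exact (hi.rep.snd p).left.isLocallyClosed_range

end Groth.Agent.H5.AlgSp
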