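import Groth.Agent.Lib.Helper5.AlgSp.Cover

/-!
# Representable properties can be checked after a locally surjective base change
-/

set_option autoImplicit false

universe u

open CategoryTheory CategoryTheory.Limits AlgebraicGeometry Opposite

namespace Groth.Agent.H5.AlgSp

open _root_.AlgSp

variable {S : Scheme.{u}}

/-- Let `a : F ⟶ G` be representable, `b : H ⟶ G` locally surjective and `a'` the base change of
`a` along `b`. If `a'` has `P` (stable under base change, fppf local on the base) then so does `a`.
-/
theorem repWith_of_locallySurjective_baseChange {F G H : Sp S} (a : F ⟶ G)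
    (ha : Representable a) (b : H ⟶ G) [Sheaf.IsLocallySurjective b] {Q : Sp S} (b' : Q ⟶ F)
    (a' : Q ⟶ H) (sq : IsPullback b' a' a b) (P : MorphismProperty Scheme.{u})
    [P.IsStableUnderBaseChange] [P.IsLocalAtTarget Scheme.fppfPrecoverage]
    (h : RepWith P a') : RepWith P a := by
  refine ⟨ha, ?_⟩
  intro U V ξ fst snd sqV
  have hR : Presheaf.imageSieve b.hom (yEquiv G U ξ) ∈ J S U :=
    Presheaf.imageSieve_mem (J S) b.hom (U := op U) (yEquiv G U ξ)
  obtain ⟨R₀, hR₀, hle⟩ := (mem_J_iff _).1 hR
  refine MorphismProperty.IsLocalAtTarget.of_forall_pullbackSnd (P := P) hR₀ ?_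
  rintro W g _ ⟨hg₀⟩
  rename_i U' g₀ _
  -- g₀ : U' ⟶ U in R₀
  obtain ⟨η, hη⟩ := hle _ _ hg₀
  let η' : (yon S).obj U' ⟶ H := (yEquiv H U').symm η
  have hη' : η' ≫ b = (yon S).map g₀ ≫ ξ := by
    apply (yEquiv G U').injective
    rw [yEquiv_comp, Equiv.apply_symm_apply, hη]
    exact (J S).uliftYonedaEquiv_naturality ξ g₀
  -- the pullback in Over S
  have sqO := IsPullback.of_hasPullback snd g₀
  have sqY := sqO.map (yon S)
  have big : IsPullback ((yon S).map (pullback.fst snd g₀) ≫ fst) ((yon S).map (pullback.snd snd g₀))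
      a (η' ≫ b) := by
    rw [hη']
    exact (sqY.flip.paste_vert sqV.flip).flip
  have hw : ((yon S).map (pullback.fst snd g₀) ≫ fst) ≫ a =
      ((yon S).map (pullback.snd snd g₀) ≫ η') ≫ b := by
    rw [Category.assoc _ η' b]; exact big.w
  have left : IsPullback (sq.lift _ _ hw) ((yon S).map (pullback.snd snd g₀)) a' η' := by
    apply IsPullback.of_right (h₁₂ := b') (h₂₂ := b) _ _ sq
    · rw [sq.lift_fst]; exact big
    · exact sq.lift_snd _ _ _
  have hP : P (pullback.snd snd g₀).left := h.property _ _ _ left
  have sqS : IsPullback (pullback.fst snd g₀).left (pullback.snd snd g₀).left snd.left g₀.left :=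
    sqO.map (Over.forget S)
  have : P.RespectsIso := MorphismProperty.IsStableUnderBaseChange.respectsIso
  have e := sqS.isoPullback_hom_snd
  change P (pullback.snd snd.left g₀.left)
  rw [← P.cancel_left_of_respectsIso sqS.isoPullback.hom, e]
  exact hP

end Groth.Agent.H5.AlgSp
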