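import Groth.Prelude.Def_AlgSp3
import Groth.Agent.Lib.Helper5.AlgSp.Basic
import Groth.Agent.Lib.Helper5.AlgSp.Cover
import Groth.Agent.Lib.Helper5.AlgSp.LocalBase
import Groth.Agent.Lib.Helper5.AlgSp.FppfLocal
import Mathlib

/-!
# The diagonal of a sheaf in terms of a chart: `R = U ×_F U ⟶ U ×_S U`
-/

set_option autoImplicit false

universe u

open CategoryTheory CategoryTheory.Limits AlgebraicGeometry Opposite Topology

namespace Groth.Agent.H5.AlgSp

open _root_.AlgSp

variable {S : Scheme.{u}} {F G H : Sp S}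

lemma imageSieve_yEquiv_iff (f : F ⟶ G) {T T' : Over S} (σ : (yon S).obj T ⟶ G) (g : T' ⟶ T) :
    (Presheaf.imageSieve f.hom (yEquiv G T σ)).arrows g ↔
      ∃ τ : (yon S).obj T' ⟶ F, τ ≫ f = (yon S).map g ≫ σ := by
  constructor
  · rintro ⟨t, ht⟩
    refine ⟨(yEquiv F T').symm t, ?_⟩
    apply (yEquiv G T').injective
    rw [yEquiv_comp, Equiv.apply_symm_apply, ht]
    exact (J S).uliftYonedaEquiv_naturality σ g
  · rintro ⟨τ, hτ⟩
    refine ⟨yEquiv F T' τ, ?_⟩
    rw [← yEquiv_comp, hτ]
    exact ((J S).uliftYonedaEquiv_naturality σ g).symm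

/-- The sieve of local lifts of a section. -/
def liftSieve (f : F ⟶ G) {T : Over S} (σ : (yon S).obj T ⟶ G) : Sieve T where
  arrows T' g := ∃ τ : (yon S).obj T' ⟶ F, τ ≫ f = (yon S).map g ≫ σ
  downward_closed := by
    rintro T' T'' g ⟨τ, hτ⟩ k
    exact ⟨(yon S).map k ≫ τ, by rw [Category.assoc, hτ, Functor.map_comp, Category.assoc]⟩

lemma liftSieve_eq (f : F ⟶ G) {T : Over S} (σ : (yon S).obj T ⟶ G) :
    liftSieve f σ = Presheaf.imageSieve f.hom (yEquiv G T σ) := by
  ext T' g
  exact (imageSieve_yEquiv_iff f σ g).symm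

lemma liftSieve_mem (f : F ⟶ G) [Sheaf.IsLocallySurjective f] {T : Over S}
    (σ : (yon S).obj T ⟶ G) : liftSieve f σ ∈ J S T := by
  rw [liftSieve_eq]
  exact Presheaf.imageSieve_mem (J S) f.hom (U := op T) (yEquiv G T σ)

lemma isLocallySurjective_of_liftSieve (f : F ⟶ G)
    (h : ∀ (T : Over S) (σ : (yon S).obj T ⟶ G), liftSieve f σ ∈ J S T) :
    Sheaf.IsLocallySurjective f := by
  refine ⟨fun {T} s => ?_⟩
  have := h T ((yEquiv G T).symm s)
  rw [liftSieve_eq, Equiv.apply_symm_apply] at this
  exact this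

/-- the chart `h_{U × U} ⟶ F ⨯ F` induced by a chart `p : h_U ⟶ F` -/
noncomputable def prodChart {U : Over S} (p : (yon S).obj U ⟶ F) : (yon S).obj (U ⨯ U) ⟶ F ⨯ F :=
  prod.lift ((yon S).map prod.fst ≫ p) ((yon S).map prod.snd ≫ p)

instance isLocallySurjective_prodChart {U : Over S} (p : (yon S).obj U ⟶ F)
    [Sheaf.IsLocallySurjective p] : Sheaf.IsLocallySurjective (prodChart p) := by
  apply isLocallySurjective_of_liftSieve
  intro T σ
  have h1 := liftSieve_mem p (σ ≫ prod.fst)
  have h2 := liftSieve_mem p (σ ≫ prod.snd)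
  refine (J S).superset_covering ?_ ((J S).intersection_covering h1 h2)
  rintro T' g ⟨⟨τ₁, h₁⟩, ⟨τ₂, h₂⟩⟩
  obtain ⟨u₁, rfl⟩ := (yon S).map_surjective τ₁
  obtain ⟨u₂, rfl⟩ := (yon S).map_surjective τ₂
  refine ⟨(yon S).map (prod.lift u₁ u₂), ?_⟩
  apply Limits.prod.hom_ext
  · rw [prodChart, Category.assoc, prod.lift_fst, ← Category.assoc, ← Functor.map_comp,
      prod.lift_fst, h₁, Category.assoc]
  · rw [prodChart, Category.assoc, prod.lift_snd, ← Category.assoc, ← Functor.map_comp,
      prod.lift_snd, h₂, Category.assoc]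

/-- the chart `h_{U × V} ⟶ F ⨯ F` induced by `a : h_U ⟶ F`, `b : h_V ⟶ F` -/
noncomputable def prodChart₂ {U V : Over S} (a : (yon S).obj U ⟶ F) (b : (yon S).obj V ⟶ F) :
    (yon S).obj (U ⨯ V) ⟶ F ⨯ F :=
  prod.lift ((yon S).map prod.fst ≫ a) ((yon S).map prod.snd ≫ b)

lemma prodChart_eq {U : Over S} (p : (yon S).obj U ⟶ F) : prodChart p = prodChart₂ p p := rfl

/-- The pullback square computing the base change of the diagonal of `F` to `U × V`. -/
theorem isPullback_diag_prodChart₂ {U V R : Over S} {a : (yon S).obj U ⟶ F}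
    {b : (yon S).obj V ⟶ F} {t : R ⟶ U} {s : R ⟶ V}
    (sq : IsPullback ((yon S).map t) ((yon S).map s) a b) :
    IsPullback ((yon S).map t ≫ a) ((yon S).map (prod.lift t s)) (Limits.diag F)
      (prodChart₂ a b) := by
  apply isPullback_of_yon
  · apply Limits.prod.hom_ext
    · simp only [Category.assoc]
      rw [prod.lift_fst, Category.comp_id, prodChart₂, prod.lift_fst,
        ← Category.assoc, ← Functor.map_comp, prod.lift_fst]
    · simp only [Category.assoc]
      rw [prod.lift_snd, Category.comp_id, prodChart₂, prod.lift_snd,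
        ← Category.assoc, ← Functor.map_comp, prod.lift_snd, sq.w]
  · intro T x y hxy
    obtain ⟨y', rfl⟩ := (yon S).map_surjective y
    have h1 : x = (yon S).map (y' ≫ prod.fst) ≫ a := by
      have := congrArg (· ≫ prod.fst) hxy
      simp only [Category.assoc, prodChart₂] at this
      rw [prod.lift_fst, prod.lift_fst, Category.comp_id, ← Category.assoc, ← Functor.map_comp]
        at this
      exact this
    have h2 : x = (yon S).map (y' ≫ prod.snd) ≫ b := by
      have := congrArg (· ≫ prod.snd) hxy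
      simp only [Category.assoc, prodChart₂] at this
      rw [prod.lift_snd, prod.lift_snd, Category.comp_id, ← Category.assoc, ← Functor.map_comp]
        at this
      exact this
    obtain ⟨z', hz'⟩ := (yon S).map_surjective
      (sq.lift ((yon S).map (y' ≫ prod.fst)) ((yon S).map (y' ≫ prod.snd)) (h1.symm.trans h2))
    have hz1 : z' ≫ t = y' ≫ prod.fst := by
      apply (yon S).map_injective
      rw [Functor.map_comp, hz', sq.lift_fst]
    have hz2 : z' ≫ s = y' ≫ prod.snd := by
      apply (yon S).map_injective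
      rw [Functor.map_comp, hz', sq.lift_snd]
    refine ⟨(yon S).map z', ⟨?_, ?_⟩, ?_⟩
    · rw [← Category.assoc, ← Functor.map_comp, hz1, ← h1]
    · rw [← Functor.map_comp]
      congr 1
      apply Limits.prod.hom_ext
      · rw [Category.assoc, prod.lift_fst, hz1]
      · rw [Category.assoc, prod.lift_snd, hz2]
    · rintro w ⟨hw1, hw2⟩
      obtain ⟨w', rfl⟩ := (yon S).map_surjective w
      congr 1
      rw [← Functor.map_comp] at hw2
      have hw2' := (yon S).map_injective hw2
      apply (yon S).map_injective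
      apply sq.hom_ext
      · rw [← Functor.map_comp, ← Functor.map_comp, hz1, ← hw2', Category.assoc, prod.lift_fst]
      · rw [← Functor.map_comp, ← Functor.map_comp, hz2, ← hw2', Category.assoc, prod.lift_snd]

/-- The pullback square computing the base change of the diagonal of `F` to `U × U`. -/
theorem isPullback_diag_prodChart {U R : Over S} {p : (yon S).obj U ⟶ F} {s t : R ⟶ U}
    (sq : IsPullback ((yon S).map t) ((yon S).map s) p p) :
    IsPullback ((yon S).map t ≫ p) ((yon S).map (prod.lift t s)) (Limits.diag F) (prodChart p) :=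
  isPullback_diag_prodChart₂ sq

/-- If the diagonal of `F` has `P`, so does `U ×_F V ⟶ U ×_S V`. -/
theorem prop_prodLift_of_repWith_diag {P : MorphismProperty Scheme.{u}}
    (h : RepWith P (Limits.diag F)) {U V R : Over S} {a : (yon S).obj U ⟶ F}
    {b : (yon S).obj V ⟶ F} {t : R ⟶ U} {s : R ⟶ V}
    (sq : IsPullback ((yon S).map t) ((yon S).map s) a b) : P (prod.lift t s).left :=
  h.property _ _ _ (isPullback_diag_prodChart₂ sq)

/-- **The diagonal in terms of a chart.** -/
theorem repWith_diag_iff_of_chart (hF : Representable (Limits.diag F)) {U R : Over S}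
    {p : (yon S).obj U ⟶ F} [Sheaf.IsLocallySurjective p] {s t : R ⟶ U}
    (sq : IsPullback ((yon S).map t) ((yon S).map s) p p)
    (P : MorphismProperty Scheme.{u}) [P.IsStableUnderBaseChange]
    [P.IsLocalAtTarget Scheme.fppfPrecoverage] :
    RepWith P (Limits.diag F) ↔ P (prod.lift t s).left := by
  constructor
  · intro h
    exact h.property _ _ _ (isPullback_diag_prodChart sq)
  · intro h
    exact repWith_of_locallySurjective_baseChange (Limits.diag F) hF (prodChart p) _ _
      (isPullback_diag_prodChart sq) P ((repWith_yon_map_iff P _).2 h)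

end Groth.Agent.H5.AlgSp
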