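import Groth.Prelude.Def_AlgSp2
import Groth.Agent.Lib.Helper5.AlgSp.PointsTop
import Groth.Agent.Lib.Helper5.AlgSp.Mono
import Mathlib

/-!
# Open subspaces: factorization criterion
-/

set_option autoImplicit false

universe u

open CategoryTheory CategoryTheory.Limits AlgebraicGeometry Opposite Topology

namespace Groth.Agent.H5.AlgSp

open _root_.AlgSp

variable {S : Scheme.{u}} {F G H : Sp S}

/-- A morphism representable by isomorphisms is an isomorphism. -/
theorem isIso_of_repWith_isomorphisms {φ : F ⟶ G}
    (h : RepWith (MorphismProperty.isomorphisms Scheme.{u}) φ) : IsIso φ := by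
  apply isIso_of_yon_bijective
  intro T
  have key : ∀ y : (yon S).obj T ⟶ G, IsIso ((yon S).map (h.rep.snd y)) := by
    intro y
    have h1 : IsIso (h.rep.snd y).left := h.property_snd y
    have : IsIso (h.rep.snd y) := by
      have : IsIso ((Over.forget S).map (h.rep.snd y)) := h1
      exact isIso_of_reflects_iso _ (Over.forget S)
    infer_instance
  constructor
  · intro x₁ x₂ hx
    dsimp only at hx
    have sq := h.rep.isPullback (x₁ ≫ φ)
    have := key (x₁ ≫ φ)
    have e1 : sq.lift x₁ (𝟙 _) (by simp) = inv ((yon S).map (h.rep.snd (x₁ ≫ φ))) := by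
      rw [← cancel_mono ((yon S).map (h.rep.snd (x₁ ≫ φ))), sq.lift_snd, IsIso.inv_hom_id]
    have e2 : sq.lift x₂ (𝟙 _) (by simp [hx]) = inv ((yon S).map (h.rep.snd (x₁ ≫ φ))) := by
      rw [← cancel_mono ((yon S).map (h.rep.snd (x₁ ≫ φ))), sq.lift_snd, IsIso.inv_hom_id]
    have := congrArg (· ≫ h.rep.fst (x₁ ≫ φ)) (e1.trans e2.symm)
    simpa using this
  · intro y
    have sq := h.rep.isPullback y
    have := key y
    refine ⟨inv ((yon S).map (h.rep.snd y)) ≫ h.rep.fst y, ?_⟩
    dsimp only
    rw [Category.assoc, sq.w, IsIso.inv_hom_id_assoc]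

theorem isIso_of_isOpenImmersion_of_points_surjective {φ : F ⟶ G}
    (h : RepWith @IsOpenImmersion φ) (hs : Function.Surjective (Points.map φ)) : IsIso φ := by
  have h2 := repWith_surjective_of_points h.rep hs
  apply isIso_of_repWith_isomorphisms
  refine ⟨h.rep, fun T V g fst snd sq => ?_⟩
  have h1 : IsOpenImmersion snd.left := h.property g fst snd sq
  have h3 : Surjective snd.left := h2.property g fst snd sq
  change IsIso snd.left
  exact (isIso_iff_isOpenImmersion_and_surjective snd.left).2 ⟨h1, h3⟩

/-- A morphism factors through an open subspace iff it does so on points. -/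
theorem factors_through_open_iff {F' : Sp S} (j : F' ⟶ F) (hj : RepWith @IsOpenImmersion j)
    (f : G ⟶ F) :
    (∃ g : G ⟶ F', g ≫ j = f) ↔
      Set.range (Points.map f) ⊆ Set.range (Points.map j) := by
  constructor
  · rintro ⟨g, rfl⟩ _ ⟨y, rfl⟩
    exact ⟨Points.map g y, (Points.map_comp g j y).symm⟩
  · intro h
    have sq := IsPullback.of_hasPullback j f
    have h1 : RepWith @IsOpenImmersion (pullback.snd j f) :=
      MorphismProperty.of_isPullback (P := RepWith @IsOpenImmersion) sq hj
    have h2 : Function.Surjective (Points.map (pullback.snd j f)) := by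
      intro y
      obtain ⟨x', hx'⟩ := h ⟨y, rfl⟩
      obtain ⟨z, -, hz⟩ := points_pullback_surjective sq x' y hx'
      exact ⟨z, hz⟩
    have := isIso_of_isOpenImmersion_of_points_surjective h1 h2
    refine ⟨inv (pullback.snd j f) ≫ pullback.fst j f, ?_⟩
    rw [Category.assoc, pullback.condition, IsIso.inv_hom_id_assoc]

/-- Pullbacks over the source of a monomorphism agree with pullbacks over its target. -/
theorem isPullback_of_comp_mono {C : Type*} [Category C] {P A B X X' : C} {fst : P ⟶ A}
    {snd : P ⟶ B} {f : A ⟶ X'} {g : B ⟶ X'} (j : X' ⟶ X) [Mono j]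
    (sq : IsPullback fst snd (f ≫ j) (g ≫ j)) : IsPullback fst snd f g := by
  have w : fst ≫ f = snd ≫ g := by
    rw [← cancel_mono j, Category.assoc, Category.assoc, sq.w]
  refine ⟨⟨w⟩, ⟨PullbackCone.IsLimit.mk _
    (fun s => sq.lift s.fst s.snd (by rw [← Category.assoc, s.condition, Category.assoc])) ?_ ?_ ?_⟩⟩
  · intro s; exact sq.lift_fst _ _ _
  · intro s; exact sq.lift_snd _ _ _
  · intro s m h1 h2
    apply sq.hom_ext
    · rw [h1, sq.lift_fst]
    · rw [h2, sq.lift_snd]

/-- If `a' ≫ j` is representable with `P` and `j` is a monomorphism, so is `a'`. -/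
theorem repWith_of_comp_mono {P : MorphismProperty Scheme.{u}} [P.RespectsIso] {F' : Sp S}
    {a' : G ⟶ F'} (j : F' ⟶ F) [Mono j] (h : RepWith P (a' ≫ j)) : RepWith P a' := by
  apply MorphismProperty.relative.of_exists
  intro T g
  exact ⟨_, _, _, isPullback_of_comp_mono j (h.rep.isPullback (g ≫ j)), h.property_snd (g ≫ j)⟩

end Groth.Agent.H5.AlgSp
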