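import Groth.Prelude.Def_AlgSp4
import Groth.Agent.Lib.Helper5.AlgSp.DiagPres
import Groth.Agent.Lib.Helper5.AlgSp.Cover
import Groth.Agent.Lib.Helper5.AlgSp.Mono
import Groth.Agent.Lib.Helper5.AlgSp.OpenSub
import Groth.Agent.Lib.Helper5.AlgSp.PointsTop
import Mathlib

/-!
# Descent of monomorphisms along locally surjective base change
-/

set_option autoImplicit false

universe u

open CategoryTheory CategoryTheory.Limits AlgebraicGeometry Opposite Topology

namespace Groth.Agent.H5.AlgSp

open _root_.AlgSp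

variable {S : Scheme.{u}} {F G H : Sp S}

/-- Two sections of a sheaf over `T` agreeing on a covering sieve are equal. -/
lemma yon_hom_ext_of_mem_J {T : Over S} {R : Sieve T} (hR : R ∈ J S T)
    (x y : (yon S).obj T ⟶ F)
    (h : ∀ (T' : Over S) (g : T' ⟶ T), R g → (yon S).map g ≫ x = (yon S).map g ≫ y) : x = y := by
  apply (yEquiv F T).injective
  have hF : Presieve.IsSheaf (J S) F.obj := (isSheaf_iff_isSheaf_of_type _ _).1 F.property
  apply (hF R hR).isSeparatedFor.ext
  intro T' g hg
  have h1 := h T' g hg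
  have e1 : (yEquiv F T').symm (F.obj.map g.op (yEquiv F T x)) =
      (yon S).map g ≫ (yEquiv F T).symm (yEquiv F T x) :=
    (J S).uliftYonedaEquiv_symm_map g.op _
  have e2 : (yEquiv F T').symm (F.obj.map g.op (yEquiv F T y)) =
      (yon S).map g ≫ (yEquiv F T).symm (yEquiv F T y) :=
    (J S).uliftYonedaEquiv_symm_map g.op _
  rw [Equiv.symm_apply_apply] at e1 e2
  apply (yEquiv F T').symm.injective
  rw [e1, e2, h1]

/-- Being a monomorphism descends along a locally surjective base change. -/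
theorem mono_of_isPullback_of_isLocallySurjective {P : Sp S} {fst : P ⟶ F} {snd : P ⟶ H}
    {f : F ⟶ G} {p : H ⟶ G} (sq : IsPullback fst snd f p) [Sheaf.IsLocallySurjective p]
    [Mono snd] : Mono f := by
  apply mono_of_yon
  intro T x y hxy
  apply yon_hom_ext_of_mem_J (liftSieve_mem p (x ≫ f))
  rintro T' g ⟨τ, hτ⟩
  -- τ : h_T' ⟶ H with τ ≫ p = h_g ≫ x ≫ f
  have hx : ((yon S).map g ≫ x) ≫ f = τ ≫ p := by rw [hτ, Category.assoc]
  have hy : ((yon S).map g ≫ y) ≫ f = τ ≫ p := by rw [hτ, Category.assoc, hxy]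
  have : sq.lift _ _ hx = sq.lift _ _ hy := by
    rw [← cancel_mono snd, sq.lift_snd, sq.lift_snd]
  have h2 : sq.lift _ _ hx ≫ fst = sq.lift _ _ hy ≫ fst := by rw [this]
  rwa [sq.lift_fst, sq.lift_fst] at h2

theorem mono_of_isPullback_of_etale_surjective {P : Sp S} {fst : P ⟶ F} {snd : P ⟶ H}
    {f : F ⟶ G} {p : H ⟶ G} (sq : IsPullback fst snd f p) (hp : RepWith @Etale p)
    (hps : RepWith @Surjective p) [Mono snd] : Mono f := by
  have := isLocallySurjective_of_etale_surjective p hp hps
  exact mono_of_isPullback_of_isLocallySurjective sq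


theorem isIso_of_mono_of_isLocallySurjective (f : F ⟶ G) [Mono f] [Sheaf.IsLocallySurjective f] :
    IsIso f := by
  have : Epi f := inferInstance
  exact isIso_of_mono_of_epi f

/-- A monomorphism from a non-empty algebraic space to the spectrum of a field is an
isomorphism. -/
theorem isIso_of_mono_to_field {Z : Sp S} (hZ : IsAlgSpace Z) {k : Type u} [Field k]
    (str : Spec (CommRingCat.of k) ⟶ S) (f : Z ⟶ (yon S).obj (Over.mk str)) [Mono f]
    (hne : Nonempty (Points Z)) : IsIso f := by
  obtain ⟨x⟩ := hne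
  obtain ⟨U, a, hae, has⟩ := hZ.atlas
  obtain ⟨u, -⟩ := ofPt_surjective_of_repWith has x
  obtain ⟨_, ⟨V, hV, rfl⟩, huV, -⟩ := U.left.isBasis_affineOpens.exists_subset_of_mem_open
    (Set.mem_univ u) isOpen_univ
  have hae' := repWith_etale_restrict hae V
  obtain ⟨φ, hφ⟩ := (yon S).map_surjective (((yon S).map (overOpenι U V) ≫ a) ≫ f)
  have sqO := IsPullback.of_hasPullback φ φ
  have sqY := sqO.map (yon S)
  rw [hφ] at sqY
  have sq := isPullback_of_comp_mono f sqY
  have het : Etale (pullback.snd φ φ).left := hae'.property _ _ _ sq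
  have sqS : IsPullback (pullback.fst φ φ).left (pullback.snd φ φ).left φ.left φ.left :=
    sqO.map (Over.forget S)
  have key : ∀ {Y : Scheme.{u}} (g : Y ⟶ Spec (CommRingCat.of k)) [IsAffine Y] [Nonempty ↥Y],
      Surjective g ∧ Flat g ∧ QuasiCompact g := fun g => ⟨inferInstance, inferInstance, inferInstance⟩
  have hA : IsAffine (overOpen U V).left := hV
  have hN : Nonempty ↥(overOpen U V).left := ⟨⟨u, huV⟩⟩
  obtain ⟨h1, h2, h3⟩ := key (Y := (overOpen U V).left) φ.left
  have hlfp : LocallyOfFinitePresentation φ.left :=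
    MorphismProperty.of_isPullback_of_descendsAlong (P := @LocallyOfFinitePresentation)
      (Q := @Surjective ⊓ @Flat ⊓ @QuasiCompact) sqS.flip ⟨⟨h1, h2⟩, h3⟩
      (inferInstance : LocallyOfFinitePresentation (pullback.snd φ φ).left)
  have hls : Sheaf.IsLocallySurjective ((yon S).map φ) :=
    isLocallySurjective_of_repWith _ ((repWith_yon_map_iff _ _).2 h2)
      ((repWith_yon_map_iff _ _).2 hlfp) ((repWith_yon_map_iff _ _).2 h1)
  rw [hφ] at hls
  have : Epi (((yon S).map (overOpenι U V) ≫ a) ≫ f) := inferInstance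
  have : Epi f := epi_of_epi ((yon S).map (overOpenι U V) ≫ a) f
  exact isIso_of_mono_of_epi f

end Groth.Agent.H5.AlgSp
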