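import Groth.Prelude.Def_AlgSp4
import Groth.Agent.Lib.Helper5.AlgSp.MonoDesc
import Groth.Agent.Lib.Helper5.AlgSp.ImmersionTop
import Groth.Agent.Lib.Helper5.AlgSp.Cover
import Mathlib

/-!
# Local representability over a base scheme

A sheaf on `Over S` covered by representable open subfunctors is representable (the analogue of
Mathlib's `AlgebraicGeometry.Scheme.LocalRepresentability` for `AlgSp.Sp S`).
-/

set_option autoImplicit false

universe u

open CategoryTheory CategoryTheory.Limits AlgebraicGeometry Opposite Topology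

namespace Groth.Agent.H5.AlgSp

open _root_.AlgSp

namespace LocalRep

variable {S : Scheme.{u}} {F : Sp S} {ι : Type u} {U : ι → Over S}
  {f : ∀ i, (yon S).obj (U i) ⟶ F} (hf : ∀ i, RepWith @IsOpenImmersion (f i))

lemma isOpenImmersion_le_mono :
    (@IsOpenImmersion : MorphismProperty Scheme.{u}) ≤ MorphismProperty.monomorphisms Scheme.{u} :=
  fun _ _ f hf => by
    have : IsOpenImmersion f := hf
    exact MorphismProperty.monomorphisms.infer_property f

lemma over_isOpenImmersion_le_mono :
    ((@IsOpenImmersion : MorphismProperty Scheme.{u}).inverseImage (Over.forget S)) ≤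
      MorphismProperty.monomorphisms (Over S) := by
  intro X Y g hg
  have : IsOpenImmersion g.left := hg
  have : Mono g.left := inferInstance
  exact (Over.forget S).mono_of_mono_map this

include hf in
lemma mono_f (i : ι) : Mono (f i) :=
  mono_of_repWith isOpenImmersion_le_mono (hf i)

set_option backward.isDefEq.respectTransparency false in
open Functor.relativelyRepresentable in
/-- Glue data in `Over S`. -/
@[simps]
noncomputable def glueDataOver : CategoryTheory.GlueData (Over S) where
  J := ι
  U := U
  V := fun (i, j) ↦ (hf i).rep.pullback (f j)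
  f i j := (hf i).rep.fst' (f j)
  f_mono i j := by
    have := (hf j).property _ _ _ ((hf i).1.isPullback' (f j)).flip
    exact over_isOpenImmersion_le_mono _ this
  f_id i := by
    have := mono_f hf i
    have sq := (hf i).rep.isPullback' (f i)
    -- both projections are isomorphisms since `f i` is a monomorphism
    have h1 : IsIso ((yon S).map ((hf i).rep.fst' (f i))) := by
      have hk : IsKernelPair (f i) ((yon S).map ((hf i).rep.fst' (f i)))
          ((yon S).map ((hf i).rep.snd (f i))) := sq
      exact hk.isIso_of_mono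
    exact isIso_of_fully_faithful (yon S) _
  t i j := (hf i).rep.symmetry (hf j).rep
  t_id i := by
    have := mono_f hf i
    apply (hf i).rep.hom_ext'
    · rw [symmetry_fst, Category.id_comp]
      apply (yon S).map_injective
      rw [← cancel_mono (f i)]
      exact ((hf i).rep.isPullback' (f i)).w.symm
    · rw [symmetry_snd, Category.id_comp]
      apply (yon S).map_injective
      rw [← cancel_mono (f i)]
      exact ((hf i).rep.isPullback' (f i)).w
  t' i j k := lift₃ _ _ _ (pullback₃.p₂ _ _ _) (pullback₃.p₃ _ _ _) (pullback₃.p₁ _ _ _)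
    (by simp) (by simp)
  t_fac i j k := (hf j).rep.hom_ext' (by simp) (by simp)
  cocycle i j k := pullback₃.hom_ext (by simp) (by simp) (by simp)

/-- Glue data in schemes. -/
noncomputable def glueData : Scheme.GlueData.{u} where
  toGlueData := (glueDataOver hf).mapGlueData (Over.forget S)
  f_open i j := (hf j).property _ _ _ ((hf i).1.isPullback' (f j)).flip

/-- The glued scheme. -/
noncomputable def gluedLeft : Scheme.{u} := (glueData hf).glued

/-- The structure morphism of the glued scheme. -/
noncomputable def gluedHom : gluedLeft hf ⟶ S :=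
  Multicoequalizer.desc (glueData hf).diagram S (fun i => (U i).hom) (by
    rintro ⟨i, j⟩
    change ((glueDataOver hf).f i j).left ≫ ((glueDataOver hf).U i).hom =
      (((glueDataOver hf).t i j).left ≫ ((glueDataOver hf).f j i).left) ≫
        ((glueDataOver hf).U j).hom
    rw [Category.assoc, Over.w ((glueDataOver hf).f j i), Over.w ((glueDataOver hf).f i j),
      Over.w ((glueDataOver hf).t i j)])

/-- The glued scheme over `S`. -/
noncomputable def glued : Over S := Over.mk (gluedHom hf)

/-- The inclusion of a chart in the glued scheme. -/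
noncomputable def toGlued (i : ι) : U i ⟶ glued hf :=
  Over.homMk ((glueData hf).ι i) (Multicoequalizer.π_desc _ _ _ _ _)

instance (i : ι) : IsOpenImmersion (toGlued hf i).left :=
  inferInstanceAs (IsOpenImmersion ((glueData hf).ι i))

lemma toGlued_left (i : ι) : (toGlued hf i).left = (glueData hf).ι i := rfl

/-- Two maps to charts which agree in the glued scheme have the same image in `F`. -/
lemma map_comp_eq_of_comp_toGlued_eq {Z : Over S} {i j : ι} (gi : Z ⟶ U i) (gj : Z ⟶ U j)
    (h : gi ≫ toGlued hf i = gj ≫ toGlued hf j) :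
    (yon S).map gi ≫ f i = (yon S).map gj ≫ f j := by
  have hl : gi.left ≫ (glueData hf).ι i = gj.left ≫ (glueData hf).ι j :=
    congrArg (fun m => m.left) h
  let k : Z.left ⟶ ((hf i).rep.pullback (f j)).left :=
    PullbackCone.IsLimit.lift ((glueData hf).vPullbackConeIsLimit i j) gi.left gj.left hl
  have hk1 : k ≫ ((hf i).rep.fst' (f j)).left = gi.left :=
    PullbackCone.IsLimit.lift_fst ((glueData hf).vPullbackConeIsLimit i j) gi.left gj.left hl
  have hk2 : k ≫ (((hf i).rep.symmetry (hf j).rep).left ≫ ((hf j).rep.fst' (f i)).left) =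
      gj.left :=
    PullbackCone.IsLimit.lift_snd ((glueData hf).vPullbackConeIsLimit i j) gi.left gj.left hl
  let kO : Z ⟶ (hf i).rep.pullback (f j) := Over.homMk k (by
    rw [← Over.w ((hf i).rep.fst' (f j)), ← Category.assoc, hk1, Over.w])
  have e1 : gi = kO ≫ (hf i).rep.fst' (f j) := Over.OverMorphism.ext hk1.symm
  have e2 : gj = kO ≫ (hf i).rep.snd (f j) := by
    rw [← Functor.relativelyRepresentable.symmetry_fst (hf i).rep (hf j).rep]
    exact Over.OverMorphism.ext hk2.symm
  rw [e1, e2, Functor.map_comp, Functor.map_comp, Category.assoc, Category.assoc,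
    ((hf i).rep.isPullback' (f j)).w]

lemma generate_toGlued_mem_J :
    Sieve.generate (Presieve.ofArrows U (toGlued hf)) ∈ J S (glued hf) := by
  rw [mem_J_iff]
  refine ⟨Presieve.ofArrows U (toGlued hf), ?_, Sieve.le_generate _⟩
  rw [Presieve.map_ofArrows]
  apply Scheme.zariskiPrecoverage_le_fppfPrecoverage
  change Presieve.ofArrows (fun i => (U i).left) (fun i => (toGlued hf i).left) ∈
    Scheme.precoverage @IsOpenImmersion (glued hf).left
  rw [Scheme.ofArrows_mem_precoverage_iff]
  refine ⟨fun x => ?_, fun i => ?_⟩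
  · obtain ⟨i, y, hy⟩ := (glueData hf).ι_jointly_surjective x
    exact ⟨i, y, hy⟩
  · exact inferInstanceAs (IsOpenImmersion (toGlued hf i).left)

/-- The section of `F` over the glued scheme. -/
lemma exists_gluedToSheaf :
    ∃ φ : (yon S).obj (glued hf) ⟶ F, ∀ i, (yon S).map (toGlued hf i) ≫ φ = f i := by
  have hF : Presieve.IsSheaf (J S) F.obj := (isSheaf_iff_isSheaf_of_type _ _).1 F.property
  have h1 := hF _ (generate_toGlued_mem_J hf)
  rw [← Presieve.isSheafFor_iff_generate, Presieve.isSheafFor_arrows_iff] at h1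
  obtain ⟨t, ht, -⟩ := h1 (fun i => yEquiv F (U i) (f i)) (by
    intro i j Z gi gj h
    have e := map_comp_eq_of_comp_toGlued_eq hf gi gj h
    have n1 := (J S).uliftYonedaEquiv_naturality (f i) gi
    have n2 := (J S).uliftYonedaEquiv_naturality (f j) gj
    exact n1.trans ((congrArg (yEquiv F Z) e).trans n2.symm))
  refine ⟨(yEquiv F (glued hf)).symm t, fun i => ?_⟩
  apply (yEquiv F (U i)).injective
  rw [← ht i]
  have := (J S).uliftYonedaEquiv_naturality ((yEquiv F (glued hf)).symm t) (toGlued hf i)
  rw [Equiv.apply_symm_apply] at this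
  exact this.symm

/-- Converse of `map_comp_eq_of_comp_toGlued_eq`. -/
lemma comp_toGlued_eq {Z : Over S} {i j : ι} (gi : Z ⟶ U i) (gj : Z ⟶ U j)
    (h : (yon S).map gi ≫ f i = (yon S).map gj ≫ f j) :
    gi ≫ toGlued hf i = gj ≫ toGlued hf j := by
  rw [← (hf i).rep.lift'_fst gi gj h, Category.assoc]
  conv_rhs => rw [← (hf i).rep.lift'_snd gi gj h, Category.assoc]
  congr 1
  apply Over.OverMorphism.ext
  have := (glueData hf).glue_condition i j
  change ((hf i).rep.fst' (f j)).left ≫ (glueData hf).ι i =
    ((hf i).rep.snd (f j)).left ≫ (glueData hf).ι j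
  rw [← Functor.relativelyRepresentable.symmetry_fst (hf i).rep (hf j).rep]
  exact this.symm

variable {φ : (yon S).obj (glued hf) ⟶ F} (hφ : ∀ i, (yon S).map (toGlued hf i) ≫ φ = f i)

include hφ in
lemma mono_gluedToSheaf : Mono φ := by
  apply mono_of_yon
  intro T a b hab
  obtain ⟨α, rfl⟩ := (yon S).map_surjective a
  obtain ⟨β, rfl⟩ := (yon S).map_surjective b
  congr 1
  have mem := generate_toGlued_mem_J hf
  have hR := (J S).intersection_covering ((J S).pullback_stable α mem)
    ((J S).pullback_stable β mem)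
  -- it suffices to check equality on the covering sieve
  have key : ∀ (T' : Over S) (g : T' ⟶ T),
      (Sieve.pullback α (Sieve.generate (Presieve.ofArrows U (toGlued hf))) ⊓
        Sieve.pullback β (Sieve.generate (Presieve.ofArrows U (toGlued hf)))).arrows g →
      g ≫ α = g ≫ β := by
    rintro T' g ⟨⟨W₁, gi, _, ⟨i⟩, fac₁⟩, ⟨W₂, gj, _, ⟨j⟩, fac₂⟩⟩
    rw [← fac₁, ← fac₂]
    apply comp_toGlued_eq
    rw [← hφ i, ← hφ j, ← Category.assoc, ← Category.assoc, ← Functor.map_comp,
      ← Functor.map_comp, fac₁, fac₂, Functor.map_comp, Functor.map_comp, Category.assoc,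
      Category.assoc, hab]
  have := yon_hom_ext_of_mem_J hR ((yon S).map α) ((yon S).map β) (fun T' g hg => by
    rw [← Functor.map_comp, ← Functor.map_comp, key T' g hg])
  exact (yon S).map_injective this

include hφ in
lemma isLocallySurjective_gluedToSheaf
    (hsurj : ∀ x : Points F, ∃ (i : ι) (u : ↥(U i).left), Points.ofPt (f i) u = x) :
    Sheaf.IsLocallySurjective φ := by
  apply isLocallySurjective_of_liftSieve
  intro T ξ
  rw [mem_J_iff]
  refine ⟨Presieve.ofArrows (fun i => (hf i).rep.pullback ξ) (fun i => (hf i).rep.snd ξ), ?_, ?_⟩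
  · rw [Presieve.map_ofArrows]
    apply Scheme.zariskiPrecoverage_le_fppfPrecoverage
    change Presieve.ofArrows (fun i => ((hf i).rep.pullback ξ).left)
      (fun i => ((hf i).rep.snd ξ).left) ∈ Scheme.precoverage @IsOpenImmersion T.left
    rw [Scheme.ofArrows_mem_precoverage_iff]
    refine ⟨fun t => ?_, fun i => (hf i).property_snd ξ⟩
    obtain ⟨i, u, hu⟩ := hsurj (Points.ofPt ξ t)
    refine ⟨i, ?_⟩
    rw [← preimage_range_points_map (f i) ((hf i).rep.isPullback ξ)]
    refine ⟨Points.ofScheme (U i) u, ?_⟩
    rw [← Points.ofPt_eq_map_ofScheme]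
    exact hu
  · rintro T' g ⟨i⟩
    refine ⟨(hf i).rep.fst ξ ≫ (yon S).map (toGlued hf i), ?_⟩
    rw [Category.assoc, hφ i]
    exact (hf i).rep.w ξ

/-- **Local representability**: a sheaf covered by representable open subfunctors is
representable. -/
theorem exists_iso (hf : ∀ i, RepWith @IsOpenImmersion (f i))
    (hsurj : ∀ x : Points F, ∃ (i : ι) (u : ↥(U i).left), Points.ofPt (f i) u = x) :
    ∃ (X : Over S) (e : (yon S).obj X ≅ F) (j : ∀ i, U i ⟶ X),
      (∀ i, (yon S).map (j i) ≫ e.hom = f i) ∧ (∀ i, IsOpenImmersion (j i).left) ∧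
      ∀ x : ↥X.left, ∃ i, x ∈ Set.range (j i).left := by
  obtain ⟨φ, hφ⟩ := exists_gluedToSheaf hf
  have h1 := mono_gluedToSheaf hf hφ
  have h2 := isLocallySurjective_gluedToSheaf hf hφ hsurj
  have : IsIso φ := isIso_of_mono_of_isLocallySurjective φ
  refine ⟨glued hf, asIso φ, toGlued hf, hφ, fun i => inferInstance, fun x => ?_⟩
  obtain ⟨i, y, hy⟩ := (glueData hf).ι_jointly_surjective x
  exact ⟨i, y, hy⟩

end LocalRep

end Groth.Agent.H5.AlgSp
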