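import Mathlib

/-!
# The relative diagonal of a relatively representable morphism is relatively representable
-/

set_option autoImplicit false

universe v₁ v₂ u₁ u₂

open CategoryTheory CategoryTheory.Limits

namespace Groth.Agent.H5.AlgSp

variable {C : Type u₁} [Category.{v₁} C] {D : Type u₂} [Category.{v₂} D] (Fun : C ⥤ D)
  [Fun.Full] [Fun.Faithful] [HasPullbacks C] [HasPullbacks D]
  [PreservesLimitsOfShape WalkingCospan Fun]

lemma relativelyRepresentable_diagonal {X Y : D} (f : X ⟶ Y)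
    (hf : Fun.relativelyRepresentable f) : Fun.relativelyRepresentable (pullback.diagonal f) := by
  intro a g
  obtain ⟨g₁, hg₁⟩ : ∃ g₁, g₁ = g ≫ pullback.fst f f := ⟨_, rfl⟩
  obtain ⟨g₂, hg₂⟩ : ∃ g₂, g₂ = g ≫ pullback.snd f f := ⟨_, rfl⟩
  obtain ⟨ξ, hξ⟩ : ∃ ξ, ξ = g₁ ≫ f := ⟨_, rfl⟩
  have hξ₂ : ξ = g₂ ≫ f := by rw [hξ, hg₁, hg₂, Category.assoc, Category.assoc, pullback.condition]
  have sq := hf.isPullback ξ
  let s₁ : a ⟶ hf.pullback ξ := hf.lift g₁ (𝟙 a) (by rw [hξ]; simp)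
  let s₂ : a ⟶ hf.pullback ξ := hf.lift g₂ (𝟙 a) (by rw [hξ₂]; simp)
  have hs₁f : Fun.map s₁ ≫ hf.fst ξ = g₁ := hf.lift_fst _ _ _
  have hs₂f : Fun.map s₂ ≫ hf.fst ξ = g₂ := hf.lift_fst _ _ _
  have hs₁s : s₁ ≫ hf.snd ξ = 𝟙 a := hf.lift_snd _ _ _
  have hs₂s : s₂ ≫ hf.snd ξ = 𝟙 a := hf.lift_snd _ _ _
  have hp : pullback.fst s₁ s₂ = pullback.snd s₁ s₂ := by
    have := congrArg (· ≫ hf.snd ξ) (pullback.condition (f := s₁) (g := s₂))
    simpa [hs₁s, hs₂s] using this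
  have sqE := (IsPullback.of_hasPullback s₁ s₂).map Fun
  have key : Fun.map (pullback.fst s₁ s₂) ≫ g₁ = Fun.map (pullback.fst s₁ s₂) ≫ g₂ := by
    rw [← hs₁f, ← hs₂f, ← Category.assoc, ← Category.assoc, ← Fun.map_comp, ← Fun.map_comp,
      pullback.condition, hp]
  refine ⟨pullback s₁ s₂, pullback.fst s₁ s₂, Fun.map (pullback.fst s₁ s₂) ≫ g₁, ?_⟩
  have w : (Fun.map (pullback.fst s₁ s₂) ≫ g₁) ≫ pullback.diagonal f =
      Fun.map (pullback.fst s₁ s₂) ≫ g := by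
    apply pullback.hom_ext
    · simp [hg₁]
    · simp only [Category.assoc, pullback.diagonal_snd, Category.comp_id]
      rw [key, hg₂]
  refine ⟨⟨w⟩, ⟨PullbackCone.IsLimit.mk _ (fun s => sqE.lift s.snd s.snd ?_) ?_ ?_ ?_⟩⟩
  · -- s.snd ≫ Fun.map s₁ = s.snd ≫ Fun.map s₂
    have h1 : s.fst = s.snd ≫ g₁ := by
      have := congrArg (· ≫ pullback.fst f f) s.condition
      simpa [hg₁] using this
    have h2 : s.fst = s.snd ≫ g₂ := by
      have := congrArg (· ≫ pullback.snd f f) s.condition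
      simpa [hg₂] using this
    apply sq.hom_ext
    · rw [Category.assoc, Category.assoc, hs₁f, hs₂f, ← h1, ← h2]
    · rw [Category.assoc, Category.assoc, ← Fun.map_comp, ← Fun.map_comp, hs₁s, hs₂s]
  · intro s
    have h1 : s.fst = s.snd ≫ g₁ := by
      have := congrArg (· ≫ pullback.fst f f) s.condition
      simpa [hg₁] using this
    rw [← Category.assoc, sqE.lift_fst, ← h1]
  · intro s
    exact sqE.lift_fst _ _ _
  · intro s m _ h2
    apply sqE.hom_ext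
    · rw [sqE.lift_fst]; exact h2
    · rw [sqE.lift_snd, ← hp]; exact h2

end Groth.Agent.H5.AlgSp
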