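import Groth.Prelude.Def_AlgSpRep
import Mathlib

/-!
# A presheaf with a representable map to a sheaf is a sheaf
-/

set_option autoImplicit false

universe u

open CategoryTheory CategoryTheory.Limits AlgebraicGeometry Opposite

namespace Groth.Agent.H5.AlgSp

open _root_.AlgSp

variable {S : Scheme.{u}}

lemma pyon_isSheaf (V : Over S) : Presieve.IsSheaf (J S) ((pyon S).obj V) := by
  have := ((yon S).obj V).property
  rwa [isSheaf_iff_isSheaf_of_type] at this

/-- evaluation of a pullback square of presheaves -/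
lemma isPullback_app {P F G H : PSp S} {fst : P ⟶ F} {snd : P ⟶ H} {f : F ⟶ G} {g : H ⟶ G}
    (sq : IsPullback fst snd f g) (T : (Over S)ᵒᵖ) :
    IsPullback (fst.app T) (snd.app T) (f.app T) (g.app T) :=
  sq.map ((evaluation _ _).obj T)

theorem isSheaf_of_relativelyRepresentable (F G : PSp S) (a : F ⟶ G)
    (ha : (pyon S).relativelyRepresentable a) (hG : Presheaf.IsSheaf (J S) G) :
    Presheaf.IsSheaf (J S) F := by
  rw [isSheaf_iff_isSheaf_of_type] at hG ⊢
  intro T R hR
  have hGR := hG R hR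
  -- uniqueness part, used twice
  have huniq : ∀ (x : Presieve.FamilyOfElements F R.arrows) (x₁ x₂ : F.obj (op T)),
      x.IsAmalgamation x₁ → x.IsAmalgamation x₂ → x₁ = x₂ := by
    intro x x₁ x₂ h₁ h₂
    have e : a.app _ x₁ = a.app _ x₂ :=
      hGR.isSeparatedFor (x.map a) _ _ (h₁.map a) (h₂.map a)
    obtain ⟨V, snd, fst, sq⟩ := ha (CategoryTheory.uliftYonedaEquiv.{u+1}.symm (a.app _ x₂))
    have sqT := isPullback_app sq (op T)
    have hx₂ : a.app (op T) x₂ =
        (CategoryTheory.uliftYonedaEquiv.{u+1}.symm (a.app (op T) x₂)).app (op T) ⟨𝟙 T⟩ := by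
      simp
    obtain ⟨w₁, hw₁f, hw₁s⟩ := Limits.Types.exists_of_isPullback sqT x₁ ⟨𝟙 T⟩ (by rw [e]; exact hx₂)
    obtain ⟨w₂, hw₂f, hw₂s⟩ := Limits.Types.exists_of_isPullback sqT x₂ ⟨𝟙 T⟩ hx₂
    have hw : w₁ = w₂ := by
      apply ((pyon_isSheaf V) R hR).isSeparatedFor.ext
      intro T' t ht
      have sqT' := isPullback_app sq (op T')
      apply Limits.Types.ext_of_isPullback sqT'
      · rw [NatTrans.naturality_apply, NatTrans.naturality_apply, hw₁f, hw₂f, h₁ t ht, h₂ t ht]
      · rw [NatTrans.naturality_apply, NatTrans.naturality_apply, hw₁s, hw₂s]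
    rw [← hw₁f, ← hw₂f, hw]
  refine Presieve.isSeparatedFor_and_exists_isAmalgamation_iff_isSheafFor.1 ⟨huniq, ?_⟩
  intro x hx
  have hy : (x.map a).Compatible := hx.map a
  let ξ := hGR.amalgamate (x.map a) hy
  have hξ : ∀ ⦃T'⦄ (t : T' ⟶ T) (ht : R t), G.map t.op ξ = a.app _ (x t ht) :=
    fun T' t ht => hGR.valid_glue hy t ht
  obtain ⟨V, snd, fst, sq⟩ := ha (CategoryTheory.uliftYonedaEquiv.{u+1}.symm ξ)
  have hcomp : ∀ ⦃T'⦄ (t : T' ⟶ T) (ht : R t), a.app (op T') (x t ht) =
      (CategoryTheory.uliftYonedaEquiv.{u+1}.symm ξ).app (op T') ⟨t⟩ := by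
    intro T' t ht
    rw [← hξ t ht]
    simp
  choose v hvf hvs using fun ⦃T'⦄ (t : T' ⟶ T) (ht : R t) =>
    Limits.Types.exists_of_isPullback (isPullback_app sq (op T')) (x t ht) ⟨t⟩ (hcomp t ht)
  let vf : Presieve.FamilyOfElements ((pyon S).obj V) R.arrows := fun T' t ht => v t ht
  have hvc : vf.Compatible := by
    rw [Presieve.compatible_iff_sieveCompatible]
    intro T' T'' t g ht
    apply Limits.Types.ext_of_isPullback (isPullback_app sq (op T''))
    · rw [NatTrans.naturality_apply, hvf, hvf]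
      exact (Presieve.compatible_iff_sieveCompatible x).1 hx t g ht
    · rw [NatTrans.naturality_apply, hvs, hvs]
      rfl
  have hV := (pyon_isSheaf V) R hR
  refine ⟨fst.app _ (hV.amalgamate vf hvc), ?_⟩
  intro T' t ht
  rw [← NatTrans.naturality_apply, hV.valid_glue hvc t ht]
  exact hvf t ht

end Groth.Agent.H5.AlgSp
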