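import Groth.Agent.Lib.Helper5.AlgSp.Cover
import Groth.Agent.Lib.Helper5.AlgSp.RepDiag
import Groth.Agent.Lib.Helper5.AlgSp.RepSheaf

/-!
# A sheaf with a representable map to an algebraic space is an algebraic space
-/

set_option autoImplicit false

universe u

open CategoryTheory CategoryTheory.Limits AlgebraicGeometry Opposite

namespace Groth.Agent.H5.AlgSp

open _root_.AlgSp

variable {S : Scheme.{u}}

/-- If `a : G ⟶ X` is representable and all maps `h_T ⟶ X` are representable, then all maps
`h_T ⟶ G` are representable. -/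
lemma representable_from_yon_of_representable {G X : Sp S} (a : G ⟶ X) (ha : Representable a)
    (hX : ∀ ⦃T : Over S⦄ (x : (yon S).obj T ⟶ X), Representable x) ⦃U : Over S⦄
    (g : (yon S).obj U ⟶ G) : Representable g := by
  intro U' g'
  have hΔ : Representable (pullback.diagonal a) :=
    relativelyRepresentable_diagonal (yon S) a ha
  have hx := hX (g ≫ a)
  -- W represents h_U ×_X h_{U'}
  have sqW := hx.isPullback' (g' ≫ a)
  set W := hx.pullback (g' ≫ a) with hW
  set p : W ⟶ U := hx.fst' (g' ≫ a) with hp
  set p' : W ⟶ U' := hx.snd (g' ≫ a) with hp'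
  have hcomm : ((yon S).map p ≫ g) ≫ a = ((yon S).map p' ≫ g') ≫ a := by
    rw [Category.assoc, Category.assoc]; exact sqW.w
  let l : (yon S).obj W ⟶ pullback a a := pullback.lift _ _ hcomm
  have sqE := hΔ.isPullback l
  set E := hΔ.pullback l with hE
  set e : E ⟶ W := hΔ.snd l with he
  set fstE : (yon S).obj E ⟶ G := hΔ.fst l with hfstE
  have hl₁ : l ≫ pullback.fst a a = (yon S).map p ≫ g := pullback.lift_fst _ _ _
  have hl₂ : l ≫ pullback.snd a a = (yon S).map p' ≫ g' := pullback.lift_snd _ _ _
  have hfstE₁ : fstE = (yon S).map e ≫ (yon S).map p ≫ g := by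
    have := congrArg (· ≫ pullback.fst a a) sqE.w
    rwa [Category.assoc, pullback.diagonal_fst, Category.comp_id, Category.assoc, hl₁] at this
  have hfstE₂ : fstE = (yon S).map e ≫ (yon S).map p' ≫ g' := by
    have := congrArg (· ≫ pullback.snd a a) sqE.w
    rwa [Category.assoc, pullback.diagonal_snd, Category.comp_id, Category.assoc, hl₂] at this
  refine ⟨E, e ≫ p', (yon S).map (e ≫ p), ?_⟩
  apply isPullback_of_yon
  · rw [Functor.map_comp, Functor.map_comp, Category.assoc, Category.assoc, ← hfstE₁, ← hfstE₂]
  · intro T x y hxy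
    obtain ⟨z, ⟨hz1, hz2⟩, hzu⟩ := IsPullback.exists_unique_yon sqW x y (by
      rw [← Category.assoc, hxy, Category.assoc])
    have hzl : (x ≫ g) ≫ pullback.diagonal a = z ≫ l := by
      apply pullback.hom_ext
      · rw [Category.assoc, pullback.diagonal_fst, Category.comp_id, Category.assoc, hl₁,
          ← Category.assoc, hz1]
      · rw [Category.assoc, pullback.diagonal_snd, Category.comp_id, Category.assoc, hl₂,
          ← Category.assoc, hz2, hxy]
    obtain ⟨w, ⟨hw1, hw2⟩, hwu⟩ := IsPullback.exists_unique_yon sqE (x ≫ g) z hzl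
    refine ⟨w, ⟨?_, ?_⟩, ?_⟩
    · rw [Functor.map_comp, ← Category.assoc, hw2, hz1]
    · rw [Functor.map_comp, ← Category.assoc, hw2, hz2]
    · rintro w' ⟨hw'1, hw'2⟩
      apply hwu
      have hz' : w' ≫ (yon S).map e = z := by
        apply hzu
        constructor
        · rw [Category.assoc, ← Functor.map_comp]; exact hw'1
        · rw [Category.assoc, ← Functor.map_comp]; exact hw'2
      refine ⟨?_, hz'⟩
      rw [hfstE₁, ← Category.assoc, hz', ← Category.assoc, hz1]

end Groth.Agent.H5.AlgSp

namespace Groth.Agent.H5.AlgSp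

open _root_.AlgSp

variable {S : Scheme.{u}}

/-- A sheaf with a representable morphism to an algebraic space is an algebraic space. -/
theorem isAlgSpace_of_representable {G X : Sp S} (hX : IsAlgSpace X) (a : G ⟶ X)
    (ha : Representable a) : IsAlgSpace G where
  diag := Functor.relativelyRepresentable.diag_of_map_from_obj
    (representable_from_yon_of_representable a ha (fun _ x => hX.representable_from_yon x))
  atlas := by
    obtain ⟨U₀, p₀, he, hs⟩ := hX.atlas
    have sq := ha.isPullback p₀
    exact ⟨_, ha.fst p₀, (RepWith @Etale).of_isPullback sq.flip he,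
      (RepWith @Surjective).of_isPullback sq.flip hs⟩

/-- Presheaf version. -/
theorem isAlgSpaceP_of_relativelyRepresentable (X : Space S) (G : PSp S) (a : G ⟶ X.obj.obj)
    (ha : (pyon S).relativelyRepresentable a) : IsAlgSpaceP G := by
  have hG : Presheaf.IsSheaf (J S) G :=
    isSheaf_of_relativelyRepresentable G X.obj.obj a ha X.obj.property
  refine ⟨hG, ?_⟩
  let a' : (⟨G, hG⟩ : Sp S) ⟶ X.obj := ObjectProperty.homMk a
  apply isAlgSpace_of_representable X.property a'
  intro U ξ
  obtain ⟨V, snd, fst₀, sq⟩ := ha ξ.hom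
  refine ⟨V, snd, ObjectProperty.homMk fst₀, ?_⟩
  exact IsPullback.of_map_of_faithful (sheafToPresheaf (J S) (Type (u + 1))) sq

end Groth.Agent.H5.AlgSp
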