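import Groth.Prelude.Def_AlgSp2
import Groth.Agent.Lib.Helper5.AlgSp.PointsTop
import Groth.Agent.Lib.Helper5.AlgSp.Cover
import Groth.Agent.Lib.Helper5.AlgSp.RepOver
import Groth.Agent.Lib.Helper5.AlgSp.FppfLocal
import Mathlib

/-!
# The open subspace attached to an open subset of `|F|`
-/

set_option autoImplicit false

universe u

open CategoryTheory CategoryTheory.Limits AlgebraicGeometry Opposite Topology

namespace Groth.Agent.H5.AlgSp

open _root_.AlgSp

variable {S : Scheme.{u}} {F G H : Sp S}

/-- Covering sieves of the big fppf site are jointly surjective. -/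
lemma exists_mem_range_of_mem_J {T : Over S} {R : Sieve T} (hR : R ∈ J S T) (t : ↥T.left) :
    ∃ (V : Over S) (f : V ⟶ T), R f ∧ t ∈ Set.range f.left := by
  obtain ⟨R₀, hR₀, hle⟩ := (mem_J_iff R).1 hR
  obtain ⟨_, _, ⟨hg⟩, hy⟩ := exists_mem_range_of_mem_fppf (X := T.left) hR₀ t
  exact ⟨_, _, hle _ _ hg, hy⟩

/-- The subfunctor of sections of `F` all of whose points lie in `W`. -/
def openSubfunctor (F : Sp S) (W : Set (Points F)) : Subfunctor F.obj where
  obj T := {s | ∀ t : ↥T.unop.left, Points.ofPt ((yEquiv F T.unop).symm s) t ∈ W}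
  map := by
    intro T T' i s hs t
    have : (yEquiv F T'.unop).symm (F.obj.map i s) =
        (yon S).map i.unop ≫ (yEquiv F T.unop).symm s :=
      (J S).uliftYonedaEquiv_symm_map i s
    rw [this, ofPt_yon_map_comp]
    exact hs _

lemma openSubfunctor_isSheaf (F : Sp S) (W : Set (Points F)) :
    Presieve.IsSheaf (J S) (openSubfunctor F W).toFunctor := by
  have hF : Presieve.IsSheaf (J S) F.obj := (isSheaf_iff_isSheaf_of_type _ _).1 F.property
  rw [Subfunctor.isSheaf_iff _ hF]
  intro T s hs t
  obtain ⟨V, f, hf, v, rfl⟩ := exists_mem_range_of_mem_J hs t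
  have h1 : F.obj.map f.op s ∈ (openSubfunctor F W).obj (op V) := hf
  have h2 := h1 v
  have : (yEquiv F V).symm (F.obj.map f.op s) =
      (yon S).map f ≫ (yEquiv F T.unop).symm s :=
    (J S).uliftYonedaEquiv_symm_map f.op s
  rw [this, ofPt_yon_map_comp] at h2
  exact h2

/-- The open subsheaf of `F` on an (open) subset of `|F|`. -/
def openSub (F : Sp S) (W : Set (Points F)) : Sp S :=
  ⟨(openSubfunctor F W).toFunctor, (isSheaf_iff_isSheaf_of_type _ _).2 (openSubfunctor_isSheaf F W)⟩

/-- The inclusion of the open subsheaf. -/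
def openSubι (F : Sp S) (W : Set (Points F)) : openSub F W ⟶ F := ⟨(openSubfunctor F W).ι⟩

instance (F : Sp S) (W : Set (Points F)) : Mono (openSubι F W) := by
  apply mono_of_yon
  intro T x y hxy
  apply (yEquiv _ T).injective
  have := congrArg (yEquiv F T) hxy
  rw [yEquiv_comp, yEquiv_comp] at this
  exact Subtype.ext this

/-- A section factors through the open subsheaf iff all its points lie in `W`. -/
lemma factors_openSubι_iff (F : Sp S) (W : Set (Points F)) {T : Over S} (x : (yon S).obj T ⟶ F) :
    (∃ y : (yon S).obj T ⟶ openSub F W, y ≫ openSubι F W = x) ↔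
      ∀ t : ↥T.left, Points.ofPt x t ∈ W := by
  constructor
  · rintro ⟨y, rfl⟩ t
    have h := (yEquiv (openSub F W) T y).2 t
    have e : (yEquiv F T).symm (yEquiv (openSub F W) T y).1 = y ≫ openSubι F W := by
      apply (yEquiv F T).injective
      rw [Equiv.apply_symm_apply, yEquiv_comp]
      rfl
    rw [← e]
    exact h
  · intro h
    refine ⟨(yEquiv (openSub F W) T).symm ⟨yEquiv F T x, ?_⟩, ?_⟩
    · intro t
      change Points.ofPt ((yEquiv F T).symm (yEquiv F T x)) t ∈ W
      rw [Equiv.symm_apply_apply]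
      exact h t
    · apply (yEquiv F T).injective
      rw [yEquiv_comp, Equiv.apply_symm_apply]
      rfl

/-- The open subscheme of `T` of points mapping into `W`. -/
def preimageOpens {W : Set (Points F)} (hW : IsOpen W) {T : Over S} (g : (yon S).obj T ⟶ F) :
    T.left.Opens :=
  ⟨Points.ofPt g ⁻¹' W, hW.preimage (Points.continuous_ofPt g)⟩

lemma exists_fst_openSub {W : Set (Points F)} (hW : IsOpen W) {T : Over S}
    (g : (yon S).obj T ⟶ F) :
    ∃ fst : (yon S).obj (overOpen T (preimageOpens hW g)) ⟶ openSub F W,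
      fst ≫ openSubι F W = (yon S).map (overOpenι T (preimageOpens hW g)) ≫ g := by
  apply (factors_openSubι_iff F W _).2
  intro v
  rw [ofPt_restrict]
  exact v.2

/-- The base change of the open subsheaf to a scheme is an open subscheme. -/
theorem isPullback_openSub {W : Set (Points F)} (hW : IsOpen W) {T : Over S}
    (g : (yon S).obj T ⟶ F) (fst : (yon S).obj (overOpen T (preimageOpens hW g)) ⟶ openSub F W)
    (hfst : fst ≫ openSubι F W = (yon S).map (overOpenι T (preimageOpens hW g)) ≫ g) :
    IsPullback fst ((yon S).map (overOpenι T (preimageOpens hW g))) (openSubι F W) g := by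
  apply isPullback_of_yon hfst
  intro T'' x y hxy
  obtain ⟨y', rfl⟩ := (yon S).map_surjective y
  have hmem : ∀ t'' : ↥T''.left, y'.left t'' ∈ preimageOpens hW g := by
    intro t''
    have := (factors_openSubι_iff F W ((yon S).map y' ≫ g)).1 ⟨x, hxy⟩ t''
    rw [ofPt_yon_map_comp] at this
    exact this
  have hrange : Set.range y'.left ⊆ Set.range (preimageOpens hW g).ι := by
    rintro _ ⟨t'', rfl⟩
    rw [Scheme.Opens.range_ι]
    exact hmem t''
  let z₀ : T''.left ⟶ (preimageOpens hW g).toScheme :=
    IsOpenImmersion.lift (preimageOpens hW g).ι y'.left hrange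
  have hz₀ : z₀ ≫ (preimageOpens hW g).ι = y'.left := IsOpenImmersion.lift_fac _ _ _
  let z' : T'' ⟶ overOpen T (preimageOpens hW g) := Over.homMk z₀ (by
    change z₀ ≫ (preimageOpens hW g).ι ≫ T.hom = T''.hom
    rw [← Category.assoc, hz₀]
    exact Over.w y')
  have hz' : z' ≫ overOpenι T (preimageOpens hW g) = y' := Over.OverMorphism.ext hz₀
  refine ⟨(yon S).map z', ⟨?_, ?_⟩, ?_⟩
  · rw [← cancel_mono (openSubι F W), Category.assoc, hfst, ← Category.assoc, ← Functor.map_comp,
      hz', hxy]
  · rw [← Functor.map_comp, hz']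
  · rintro w ⟨-, hw2⟩
    obtain ⟨w', rfl⟩ := (yon S).map_surjective w
    congr 1
    rw [← Functor.map_comp] at hw2
    have hw2' := (yon S).map_injective hw2
    apply Over.OverMorphism.ext
    rw [← cancel_mono (preimageOpens hW g).ι]
    have := congrArg (fun f => f.left) (hw2'.trans hz'.symm)
    exact this

theorem repWith_openSubι {W : Set (Points F)} (hW : IsOpen W) :
    RepWith @IsOpenImmersion (openSubι F W) := by
  apply MorphismProperty.relative.of_exists
  intro T g
  obtain ⟨fst, hfst⟩ := exists_fst_openSub hW g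
  refine ⟨_, fst, overOpenι T (preimageOpens hW g), isPullback_openSub hW g fst hfst, ?_⟩
  change IsOpenImmersion (preimageOpens hW g).ι
  infer_instance

theorem range_points_map_openSubι (W : Set (Points F)) :
    Set.range (Points.map (openSubι F W)) = W := by
  ext x
  constructor
  · rintro ⟨z, rfl⟩
    obtain ⟨K, _, str, ξ, rfl⟩ := exists_fpOfHom z
    rw [map_mk_fpOfHom, ← ofPt_closedPoint]
    exact (factors_openSubι_iff F W _).1 ⟨ξ, rfl⟩ _
  · intro hx
    obtain ⟨K, _, str, ξ, rfl⟩ := exists_fpOfHom x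
    have : ∀ t : ↥(Over.mk str).left, Points.ofPt ξ t ∈ W := by
      intro t
      have ht : t = IsLocalRing.closedPoint K :=
        Subsingleton.elim (α := ↥(Spec (CommRingCat.of K))) _ _
      rw [ht, ofPt_closedPoint]
      exact hx
    obtain ⟨y, hy⟩ := (factors_openSubι_iff F W ξ).2 this
    exact ⟨Points.mk (fpOfHom str y), by rw [map_mk_fpOfHom, hy]⟩

theorem isAlgSpace_openSub (hF : IsAlgSpace F) {W : Set (Points F)} (hW : IsOpen W) :
    IsAlgSpace (openSub F W) :=
  isAlgSpace_of_representable hF (openSubι F W) (repWith_openSubι hW).rep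

end Groth.Agent.H5.AlgSp
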