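import Groth.Prelude.Def_AlgSp3
import Groth.Agent.Lib.Helper5.AlgSp.Basic
import Mathlib

/-!
# Diagonal-type properties of representable morphisms
-/

set_option autoImplicit false

universe u

open CategoryTheory CategoryTheory.Limits AlgebraicGeometry Opposite Topology

namespace Groth.Agent.H5.AlgSp

open _root_.AlgSp

variable {S : Scheme.{u}} {F G H : Sp S}

instance repWith_isStableUnderBaseChange (Q : MorphismProperty Scheme.{u}) :
    (RepWith (S := S) Q).IsStableUnderBaseChange :=
  MorphismProperty.relative_isStableUnderBaseChange _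

/-- If the diagonal of a representable morphism is representable with `Q`, the morphism is
representable with `Q.diagonal`. -/
theorem repWith_diagonal_of_diag {Q : MorphismProperty Scheme.{u}} [Q.IsStableUnderBaseChange]
    {f : F ⟶ G} (hf : Representable f) (hd : RepWith Q (pullback.diagonal f)) :
    RepWith Q.diagonal f := by
  refine ⟨hf, fun T V g fst snd sq => ?_⟩
  change Q (pullback.diagonal snd.left)
  rw [← repWith_diagonal_yon_map_iff Q snd]
  have h1 : (RepWith (S := S) Q).diagonal f := hd
  exact MorphismProperty.of_isPullback (P := (RepWith (S := S) Q).diagonal) sq h1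

theorem repWith_isSeparated_of_isSeparatedMor {f : F ⟶ G} (hf : Representable f)
    (hd : IsSeparatedMor f) : RepWith @IsSeparated f := by
  rw [IsSeparated.isSeparated_eq_diagonal_isClosedImmersion]
  exact repWith_diagonal_of_diag hf hd

theorem repWith_quasiSeparated_of_isQuasiSeparatedMor {f : F ⟶ G} (hf : Representable f)
    (hd : IsQuasiSeparatedMor f) : RepWith @QuasiSeparated f := by
  rw [quasiSeparated_eq_diagonal_is_quasiCompact]
  exact repWith_diagonal_of_diag hf hd

/-- The diagonal of a chart `a : h_U ⟶ F`, in terms of a scheme `R` representing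
`h_U ×_F h_U`. -/
theorem diagonal_chart_eq {U R : Over S} {a : (yon S).obj U ⟶ F} {s t : R ⟶ U}
    (sq : IsPullback ((yon S).map t) ((yon S).map s) a a) (δ : U ⟶ R) (hδt : δ ≫ t = 𝟙 U)
    (hδs : δ ≫ s = 𝟙 U) :
    pullback.diagonal a = (yon S).map δ ≫ sq.isoPullback.hom := by
  apply pullback.hom_ext
  · rw [pullback.diagonal_fst, Category.assoc, sq.isoPullback_hom_fst, ← Functor.map_comp, hδt,
      CategoryTheory.Functor.map_id]
  · rw [pullback.diagonal_snd, Category.assoc, sq.isoPullback_hom_snd, ← Functor.map_comp, hδs,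
      CategoryTheory.Functor.map_id]

theorem repWith_diagonal_chart_iff (Q : MorphismProperty Scheme.{u}) [Q.IsStableUnderBaseChange]
    {U R : Over S} {a : (yon S).obj U ⟶ F} {s t : R ⟶ U}
    (sq : IsPullback ((yon S).map t) ((yon S).map s) a a) (δ : U ⟶ R) (hδt : δ ≫ t = 𝟙 U)
    (hδs : δ ≫ s = 𝟙 U) :
    RepWith Q (pullback.diagonal a) ↔ Q δ.left := by
  rw [diagonal_chart_eq sq δ hδt hδs]
  exact (MorphismProperty.cancel_right_of_respectsIso (RepWith Q) _ _).trans
    (repWith_yon_map_iff Q _)

/-- The diagonal section of `R = U ×_F U`. -/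
theorem exists_diag_section {U R : Over S} {a : (yon S).obj U ⟶ F} {s t : R ⟶ U}
    (sq : IsPullback ((yon S).map t) ((yon S).map s) a a) :
    ∃ δ : U ⟶ R, δ ≫ t = 𝟙 U ∧ δ ≫ s = 𝟙 U := by
  refine ⟨(yon S).preimage (sq.lift (𝟙 _) (𝟙 _) rfl), ?_, ?_⟩
  · apply (yon S).map_injective
    rw [Functor.map_comp, Functor.map_preimage, sq.lift_fst, CategoryTheory.Functor.map_id]
  · apply (yon S).map_injective
    rw [Functor.map_comp, Functor.map_preimage, sq.lift_snd, CategoryTheory.Functor.map_id]

/-- `R = U ×_F U ⟶ U ×_S U` is a monomorphism of schemes. -/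
theorem mono_pullback_lift_of_isPullback {U R : Over S} {a : (yon S).obj U ⟶ F} {s t : R ⟶ U}
    (sq : IsPullback ((yon S).map t) ((yon S).map s) a a) :
    Mono (pullback.lift t.left s.left (by rw [Over.w t, Over.w s]) :
      R.left ⟶ pullback U.hom U.hom) := by
  refine ⟨fun {W} α β h => ?_⟩
  have h1 : α ≫ t.left = β ≫ t.left := by
    have := congrArg (· ≫ pullback.fst U.hom U.hom) h
    simp only [Category.assoc] at this
    rwa [pullback.lift_fst] at this
  have h2 : α ≫ s.left = β ≫ s.left := by
    have := congrArg (· ≫ pullback.snd U.hom U.hom) h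
    simp only [Category.assoc] at this
    rwa [pullback.lift_snd] at this
  have hβ : β ≫ R.hom = α ≫ R.hom := by
    rw [← Over.w t, ← Category.assoc, ← Category.assoc, h1]
  let α' : Over.mk (α ≫ R.hom) ⟶ R := Over.homMk α rfl
  let β' : Over.mk (α ≫ R.hom) ⟶ R := Over.homMk β hβ
  have : α' = β' := by
    apply (yon S).map_injective
    apply sq.hom_ext
    · rw [← Functor.map_comp, ← Functor.map_comp]
      congr 1
      exact Over.OverMorphism.ext h1
    · rw [← Functor.map_comp, ← Functor.map_comp]
      congr 1
      exact Over.OverMorphism.ext h2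
  exact congrArg (fun f => f.left) this

/-- A chart from a scheme separated over `S` has closed diagonal. -/
theorem isSeparatedMor_chart_of_isSeparated {U : Over S} [IsSeparated U.hom]
    {a : (yon S).obj U ⟶ F} (ha : Representable a) : IsSeparatedMor a := by
  have sq := ha.isPullback' a
  obtain ⟨δ, h1, h2⟩ := exists_diag_section sq
  change RepWith @IsClosedImmersion _
  rw [repWith_diagonal_chart_iff _ sq δ h1 h2]
  have := mono_pullback_lift_of_isPullback sq
  set j := (pullback.lift (ha.fst' a).left (ha.snd a).left (by rw [Over.w, Over.w]) :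
      (ha.pullback a).left ⟶ pullback U.hom U.hom) with hj
  have hc : δ.left ≫ j = pullback.diagonal U.hom := by
    apply pullback.hom_ext
    · rw [Category.assoc, pullback.lift_fst, pullback.diagonal_fst, ← Over.comp_left, h1]
      rfl
    · rw [Category.assoc, pullback.lift_snd, pullback.diagonal_snd, ← Over.comp_left, h2]
      rfl
  have : IsClosedImmersion (δ.left ≫ j) := by rw [hc]; infer_instance
  exact IsClosedImmersion.of_comp δ.left j

end Groth.Agent.H5.AlgSp
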