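import Groth.Prelude.Def_AlgSp4
import Groth.Agent.Lib.Helper5.AlgSp.PointsTop
import Groth.Agent.Lib.Helper5.AlgSp.DiagProp
import Groth.Agent.Lib.Helper5.AlgSp.FibreProduct
import Mathlib

/-!
# Universal topological properties: representable sense vs. points
-/

set_option autoImplicit false

universe u

open CategoryTheory CategoryTheory.Limits AlgebraicGeometry Opposite Topology

namespace Groth.Agent.H5.AlgSp

open _root_.AlgSp

variable {S : Scheme.{u}} {F G H : Sp S}

/-- If `P` in the representable sense implies `Q`, then it implies `Q` universally. -/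
theorem univSp_of_repWith {P : MorphismProperty Scheme.{u}} {Q : MorphismProperty (Sp S)}
    (hPQ : ∀ {F G : Sp S} (f : F ⟶ G), RepWith P f → Q f) {f : F ⟶ G} (hf : RepWith P f) :
    UnivSp Q f := by
  intro Z Z' _ g fst snd sq
  exact hPQ snd (MorphismProperty.of_isPullback (P := RepWith P) sq hf)

/-- If `Q` holds universally (over algebraic spaces) and `Q (h_φ)` implies `P₀ φ`, then `f`
is representable with `P₀.universally`. -/
theorem repWith_universally_of_univSp {P₀ : MorphismProperty Scheme.{u}}
    {Q : MorphismProperty (Sp S)}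
    (hcompat : ∀ {T T' : Over S} (φ : T ⟶ T'), Q ((yon S).map φ) → P₀ φ.left) {f : F ⟶ G}
    (hf : Representable f) (h : UnivSp Q f) : RepWith P₀.universally f := by
  refine ⟨hf, fun T V g fst snd sq => ?_⟩
  change P₀.universally snd.left
  intro X' Y' i₁ i₂ f' hpb
  -- hpb : IsPullback f' i₁ i₂ snd.left
  let T' : Over S := Over.mk (i₂ ≫ T.hom)
  let V' : Over S := Over.mk (i₁ ≫ V.hom)
  let ι₂ : T' ⟶ T := Over.homMk i₂ rfl
  let ι₁ : V' ⟶ V := Over.homMk i₁ rfl
  let φ : V' ⟶ T' := Over.homMk f' (by
    change f' ≫ i₂ ≫ T.hom = i₁ ≫ V.hom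
    rw [← Category.assoc, hpb.w, Category.assoc, Over.w snd])
  have hw : φ ≫ ι₂ = ι₁ ≫ snd := Over.OverMorphism.ext hpb.w
  have sqO : IsPullback φ ι₁ ι₂ snd := IsPullback.of_map (Over.forget S) hw hpb
  have sqY := sqO.map (yon S)
  -- paste: big square over G
  have big : IsPullback ((yon S).map ι₁ ≫ fst) ((yon S).map φ) f ((yon S).map ι₂ ≫ g) :=
    (sqY.paste_vert sq.flip).flip
  exact hcompat φ (h (IsAlgSpace.yon_obj T') _ _ _ big)

/-- `Points.map (h_φ)` is open iff `φ` is. -/
lemma isOpenMap_points_map_yon_map_iff {T T' : Over S} (φ : T ⟶ T') :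
    IsOpenMap (Points.map ((yon S).map φ)) ↔ IsOpenMap φ.left := by
  rw [Points.map_yon_map_eq]
  constructor
  · intro h
    have := ((Points.schemeHomeo T').symm.isOpenMap.comp h).comp (Points.schemeHomeo T).isOpenMap
    convert this using 1
    funext t
    simp
  · intro h
    exact ((Points.schemeHomeo T').isOpenMap.comp h).comp (Points.schemeHomeo T).symm.isOpenMap

theorem repWith_universallyOpen_iff {f : F ⟶ G} (hf : Representable f) :
    RepWith @UniversallyOpen f ↔ IsUnivOpenMor f := by
  constructor
  · intro h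
    exact univSp_of_repWith (P := @UniversallyOpen) (Q := IsOpenMor)
      (fun f hf => isOpenMap_points_map_of_repWith (P := @UniversallyOpen)
        (fun φ hφ => by
          have : UniversallyOpen φ := hφ
          exact φ.isOpenMap) hf) h
  · intro h
    rw [UniversallyOpen.eq]
    exact repWith_universally_of_univSp (Q := IsOpenMor)
      (fun φ hφ => (isOpenMap_points_map_yon_map_iff φ).1 hφ) hf h

/-- Base change formula on points. -/
theorem preimage_image_eq_of_isPullback {P : Sp S} {fst : P ⟶ F} {snd : P ⟶ H} {f : F ⟶ G}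
    {g : H ⟶ G} (sq : IsPullback fst snd f g) (W : Set (Points F)) :
    Points.map g ⁻¹' (Points.map f '' W) = Points.map snd '' (Points.map fst ⁻¹' W) := by
  ext y
  constructor
  · rintro ⟨x, hx, hxy⟩
    obtain ⟨z, hz1, hz2⟩ := points_pullback_surjective sq x y hxy
    exact ⟨z, by rw [Set.mem_preimage, hz1]; exact hx, hz2⟩
  · rintro ⟨z, hz, rfl⟩
    refine ⟨Points.map fst z, hz, ?_⟩
    rw [← Points.map_comp, ← Points.map_comp, sq.w]

/-- Openness on points descends along base change by a quotient map. -/
theorem isOpenMap_of_isPullback_of_isQuotientMap {P : Sp S} {fst : P ⟶ F} {snd : P ⟶ H}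
    {f : F ⟶ G} {g : H ⟶ G} (sq : IsPullback fst snd f g)
    (hg : IsQuotientMap (Points.map g)) (h : IsOpenMap (Points.map snd)) :
    IsOpenMap (Points.map f) := by
  intro W hW
  rw [← hg.isOpen_preimage, preimage_image_eq_of_isPullback sq]
  exact h _ (hW.preimage (Points.continuous_map fst))

theorem isClosedMap_of_isPullback_of_isQuotientMap {P : Sp S} {fst : P ⟶ F} {snd : P ⟶ H}
    {f : F ⟶ G} {g : H ⟶ G} (sq : IsPullback fst snd f g)
    (hg : IsQuotientMap (Points.map g)) (h : IsClosedMap (Points.map snd)) :
    IsClosedMap (Points.map f) := by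
  intro W hW
  rw [← hg.isClosed_preimage, preimage_image_eq_of_isPullback sq]
  exact h _ (hW.preimage (Points.continuous_map fst))

/-- Openness in `|F|` can be tested on affine schemes. -/
theorem isOpen_iff_forall_affine {W : Set (Points F)} :
    IsOpen W ↔ ∀ (T : Over S), IsAffine T.left → ∀ g : (yon S).obj T ⟶ F,
      IsOpen (Points.ofPt g ⁻¹' W) := by
  constructor
  · intro h T _ g
    exact h.preimage (Points.continuous_ofPt g)
  · intro h
    rw [Points.isOpen_iff]
    intro T g
    rw [isOpen_iff_forall_mem_open]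
    intro t ht
    obtain ⟨_, ⟨V, hV, rfl⟩, htV, -⟩ := T.left.isBasis_affineOpens.exists_subset_of_mem_open
      (Set.mem_univ t) isOpen_univ
    have h1 := h (overOpen T V) hV ((yon S).map (overOpenι T V) ≫ g)
    refine ⟨(Scheme.Opens.ι V) '' (Points.ofPt ((yon S).map (overOpenι T V) ≫ g) ⁻¹' W), ?_,
      (Scheme.Opens.ι V).isOpenEmbedding.isOpenMap _ h1, ?_⟩
    · rintro _ ⟨v, hv, rfl⟩
      rw [Set.mem_preimage, ofPt_restrict] at hv
      exact hv
    · refine ⟨⟨t, htV⟩, ?_, rfl⟩
      rw [Set.mem_preimage, ofPt_restrict]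
      exact ht

theorem isClosed_iff_forall_affine {W : Set (Points F)} :
    IsClosed W ↔ ∀ (T : Over S), IsAffine T.left → ∀ g : (yon S).obj T ⟶ F,
      IsClosed (Points.ofPt g ⁻¹' W) := by
  simp only [← isOpen_compl_iff]
  rw [isOpen_iff_forall_affine]
  rfl

lemma ofPt_preimage_image_eq {P : Sp S} {T : Over S} {fst : P ⟶ F} {snd : P ⟶ (yon S).obj T}
    {f : F ⟶ G} {g : (yon S).obj T ⟶ G} (sq : IsPullback fst snd f g) (W : Set (Points F)) :
    Points.ofPt g ⁻¹' (Points.map f '' W) =
      (Points.schemeHomeo T).symm '' (Points.map snd '' (Points.map fst ⁻¹' W)) := by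
  rw [← preimage_image_eq_of_isPullback sq]
  ext t
  constructor
  · intro ht
    refine ⟨Points.schemeHomeo T t, ?_, by simp⟩
    rw [Set.mem_preimage]
    rw [Set.mem_preimage, Points.ofPt_eq_map_ofScheme] at ht
    exact ht
  · rintro ⟨x, hx, rfl⟩
    rw [Set.mem_preimage, Points.ofPt_eq_map_ofScheme]
    rw [Set.mem_preimage] at hx
    convert hx using 2
    exact (Points.schemeHomeo T).apply_symm_apply x

/-- A morphism is open on points as soon as all its base changes to affine schemes are. -/
theorem isOpenMap_points_map_of_forall_affine {f : F ⟶ G}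
    (h : ∀ (T : Over S), IsAffine T.left → ∀ (g : (yon S).obj T ⟶ G),
      IsOpenMap (Points.map (pullback.snd f g))) : IsOpenMap (Points.map f) := by
  intro W hW
  rw [isOpen_iff_forall_affine]
  intro T hT g
  rw [ofPt_preimage_image_eq (IsPullback.of_hasPullback f g)]
  exact (Points.schemeHomeo T).symm.isOpenMap _
    (h T hT g _ (hW.preimage (Points.continuous_map _)))

theorem isClosedMap_points_map_of_forall_affine {f : F ⟶ G}
    (h : ∀ (T : Over S), IsAffine T.left → ∀ (g : (yon S).obj T ⟶ G),
      IsClosedMap (Points.map (pullback.snd f g))) : IsClosedMap (Points.map f) := by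
  intro W hW
  rw [isClosed_iff_forall_affine]
  intro T hT g
  rw [ofPt_preimage_image_eq (IsPullback.of_hasPullback f g)]
  exact (Points.schemeHomeo T).symm.isClosedMap _
    (h T hT g _ (hW.preimage (Points.continuous_map _)))

/-- An étale surjective (representable) morphism is a quotient map on points. -/
theorem isQuotientMap_points_map {q : F ⟶ G} (he : RepWith @Etale q)
    (hs : RepWith @Surjective q) : IsQuotientMap (Points.map q) :=
  (isOpenMap_points_map_of_etale he).isQuotientMap (Points.continuous_map q)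
    (points_map_surjective_of_repWith hs)

/-- `UnivSp Q` can be tested after base change to affine schemes, when `Q` can. -/
theorem univSp_of_forall_affine {Q : MorphismProperty (Sp S)}
    (hQ : ∀ {F G : Sp S} (f : F ⟶ G), (∀ (T : Over S), IsAffine T.left →
      ∀ (g : (yon S).obj T ⟶ G), Q (pullback.snd f g)) → Q f)
    {f : F ⟶ G}
    (h : ∀ (Z : Over S), IsAffine Z.left → ∀ (g : (yon S).obj Z ⟶ G) (P : Sp S)
      (fst : P ⟶ F) (snd : P ⟶ (yon S).obj Z), IsPullback fst snd f g → Q snd) :
    UnivSp Q f := by
  intro Z Z' _ g fst snd sq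
  apply hQ
  intro T hT t
  exact h T hT (t ≫ g) _ _ _ ((IsPullback.of_hasPullback snd t).flip.paste_vert sq.flip).flip

/-- Descent of `UnivSp Q` along an étale surjective base change, when `Q` descends along
quotient maps. -/
theorem univSp_of_baseChange {Q : MorphismProperty (Sp S)}
    (hQ : ∀ {P F G H : Sp S} {fst : P ⟶ F} {snd : P ⟶ H} {f : F ⟶ G} {g : H ⟶ G},
      IsPullback fst snd f g → IsQuotientMap (Points.map g) → Q snd → Q f)
    {f : F ⟶ G} (hG : IsAlgSpace G) {p : H ⟶ G} (hH : IsAlgSpace H) (hpe : RepWith @Etale p)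
    (hps : RepWith @Surjective p) {P : Sp S} {fst : P ⟶ F} {snd : P ⟶ H}
    (sq : IsPullback fst snd f p) (h : UnivSp Q snd) : UnivSp Q f := by
  intro Z Z' hZ g fst' snd' sq'
  have sqV := IsPullback.of_hasPullback g p
  have hZV : IsAlgSpace (pullback g p) := isAlgSpace_pullback hG.diag hZ hH sqV
  have hqe : RepWith @Etale (pullback.fst g p) :=
    MorphismProperty.of_isPullback (P := RepWith @Etale) sqV.flip hpe
  have hqs : RepWith @Surjective (pullback.fst g p) :=
    MorphismProperty.of_isPullback (P := RepWith @Surjective) sqV.flip hps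
  have sq'' := IsPullback.of_hasPullback snd' (pullback.fst g p)
  -- the big square: pullback snd' q = F ×_G Z_V
  have big : IsPullback (pullback.fst snd' (pullback.fst g p) ≫ fst')
      (pullback.snd snd' (pullback.fst g p)) f (pullback.fst g p ≫ g) :=
    (sq''.flip.paste_vert sq'.flip).flip
  have hw : (pullback.fst snd' (pullback.fst g p) ≫ fst') ≫ f =
      (pullback.snd snd' (pullback.fst g p) ≫ pullback.snd g p) ≫ p := by
    rw [Category.assoc _ (pullback.snd g p) p, ← pullback.condition]
    exact big.w
  have left : IsPullback (sq.lift _ _ hw) (pullback.snd snd' (pullback.fst g p)) snd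
      (pullback.snd g p) := by
    apply IsPullback.of_right (h₁₂ := fst) (h₂₂ := p) _ _ sq
    · rw [sq.lift_fst, ← pullback.condition]; exact big
    · exact sq.lift_snd _ _ _
  have hopen := h hZV _ _ _ left
  exact hQ sq'' (isQuotientMap_points_map hqe hqs) hopen

/-- If `a` is surjective on points and `a ≫ f` is open on points then `f` is open on points. -/
lemma isOpenMap_points_of_comp_surjective {a : H ⟶ F} {f : F ⟶ G}
    (ha : Function.Surjective (Points.map a)) (h : IsOpenMap (Points.map (a ≫ f))) :
    IsOpenMap (Points.map f) := by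
  intro W hW
  have : Points.map f '' W = Points.map (a ≫ f) '' (Points.map a ⁻¹' W) := by
    ext y
    constructor
    · rintro ⟨x, hx, rfl⟩
      obtain ⟨z, rfl⟩ := ha x
      exact ⟨z, hx, Points.map_comp a f z⟩
    · rintro ⟨z, hz, rfl⟩
      exact ⟨Points.map a z, hz, (Points.map_comp a f z).symm⟩
  rw [this]
  exact h _ (hW.preimage (Points.continuous_map a))

/-- Universal openness can be checked after precomposing with a representable surjective map. -/
theorem univSp_isOpenMor_of_comp_surjective {a : H ⟶ F} {f : F ⟶ G}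
    (ha : RepWith @Surjective a) (h : UnivSp IsOpenMor (a ≫ f)) : UnivSp IsOpenMor f := by
  intro Z Z' hZ g fst snd sq
  have sqa := IsPullback.of_hasPullback a fst
  have ha' : RepWith @Surjective (pullback.snd a fst) :=
    MorphismProperty.of_isPullback (P := RepWith @Surjective) sqa ha
  have big : IsPullback (pullback.fst a fst) (pullback.snd a fst ≫ snd) (a ≫ f) g :=
    sqa.paste_vert sq
  have h1 : IsOpenMap (Points.map (pullback.snd a fst ≫ snd)) := h hZ g _ _ big
  exact isOpenMap_points_of_comp_surjective (points_map_surjective_of_repWith ha') h1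

end Groth.Agent.H5.AlgSp
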