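import Groth.Prelude.Def_AlgSp4
import Groth.Agent.Lib.Helper5.AlgSp.UnivTop
import Groth.Agent.Lib.Helper5.AlgSp.OpenSubspace
import Groth.Agent.Lib.Helper5.AlgSp.ImmersionTop
import Groth.Agent.Lib.Helper5.AlgSp.AffineBase
import Mathlib

/-!
# Quasi-compact morphisms of algebraic spaces
-/

set_option autoImplicit false

universe u

open CategoryTheory CategoryTheory.Limits AlgebraicGeometry Opposite Topology

namespace Groth.Agent.H5.AlgSp

open _root_.AlgSp

variable {S : Scheme.{u}} {F G H : Sp S}

theorem isQuasiCompactSp_yon_iff (T : Over S) :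
    IsQuasiCompactSp ((yon S).obj T) ↔ CompactSpace ↥T.left := by
  rw [isQuasiCompactSp_iff_compactSpace (IsAlgSpace.yon_obj T)]
  constructor
  · intro h
    exact (Points.schemeHomeo T).symm.compactSpace
  · intro h
    exact (Points.schemeHomeo T).compactSpace

/-- Base change of a quasi-compact sheaf along a representable quasi-compact morphism. -/
theorem isQuasiCompactSp_of_isPullback_repWith {f : F ⟶ G} (hf : RepWith @QuasiCompact f)
    {Z Z' : Sp S} (hZ : IsQuasiCompactSp Z) {g : Z ⟶ G} {fst : Z' ⟶ F} {snd : Z' ⟶ Z}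
    (sq : IsPullback fst snd f g) : IsQuasiCompactSp Z' := by
  obtain ⟨U, a, hae, has, hU⟩ := hZ
  have hsnd : RepWith @QuasiCompact snd := MorphismProperty.of_isPullback (P := RepWith _) sq hf
  have sq' := hsnd.rep.isPullback a
  -- top: h_V ⟶ Z' is etale surjective
  have he' : RepWith @Etale (hsnd.rep.fst a) :=
    MorphismProperty.of_isPullback (P := RepWith _) sq'.flip hae
  have hs' : RepWith @Surjective (hsnd.rep.fst a) :=
    MorphismProperty.of_isPullback (P := RepWith _) sq'.flip has
  refine ⟨hsnd.rep.pullback a, hsnd.rep.fst a, he', hs', ?_⟩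
  have hqc : QuasiCompact (hsnd.rep.snd a).left := hsnd.property a _ _ sq'
  have : CompactSpace ↥U.left := hU
  exact QuasiCompact.compactSpace_of_compactSpace (hsnd.rep.snd a).left

theorem isQuasiCompactMor_of_repWith {f : F ⟶ G} (hf : RepWith @QuasiCompact f) :
    IsQuasiCompactMor f := fun _ _ _ hZ _ _ _ sq => isQuasiCompactSp_of_isPullback_repWith hf hZ sq

theorem repWith_quasiCompact_of_isQuasiCompactMor {f : F ⟶ G} (hf : Representable f)
    (h : IsQuasiCompactMor f) : RepWith @QuasiCompact f := by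
  apply repWith_of_forall_affine hf
  intro T V g fst snd hT sq
  have hV : IsQuasiCompactSp ((yon S).obj V) :=
    h (IsAlgSpace.yon_obj T) ((isQuasiCompactSp_yon_iff T).2 inferInstance) g fst _ sq
  have : CompactSpace ↥V.left := (isQuasiCompactSp_yon_iff V).1 hV
  infer_instance

theorem repWith_quasiCompact_iff {f : F ⟶ G} (hf : Representable f) :
    RepWith @QuasiCompact f ↔ IsQuasiCompactMor f :=
  ⟨isQuasiCompactMor_of_repWith, repWith_quasiCompact_of_isQuasiCompactMor hf⟩

/-- Image of the first projection of a pullback square on points. -/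
theorem range_points_map_fst {P : Sp S} {fst : P ⟶ F} {snd : P ⟶ H} {f : F ⟶ G} {g : H ⟶ G}
    (sq : IsPullback fst snd f g) :
    Set.range (Points.map fst) = Points.map f ⁻¹' Set.range (Points.map g) := by
  ext x
  constructor
  · rintro ⟨z, rfl⟩
    refine ⟨Points.map snd z, ?_⟩
    rw [← Points.map_comp, ← Points.map_comp, sq.w]
  · rintro ⟨y, hy⟩
    obtain ⟨z, hz, -⟩ := points_pullback_surjective sq x y hy.symm
    exact ⟨z, hz⟩

theorem compactSpace_points_openSub (hG : IsAlgSpace G) {V : Set (Points G)} (hV : IsOpen V)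
    (hVc : IsCompact V) : CompactSpace (Points (openSub G V)) := by
  obtain ⟨U, p, hp, hs⟩ := hG.atlas
  have hemb := (isEmbedding_points_map_of_isImmersion (openSubι G V)
    (repWith_mono (fun _ _ f hf => by
      have : IsOpenImmersion f := hf
      exact (inferInstance : IsImmersion f)) (repWith_openSubι hV)) hp hs).1
  constructor
  have := (hemb.isInducing.isCompact_preimage_iff (K := V)
    (by rw [range_points_map_openSubι])).2 hVc
  convert this using 1
  ext z
  simp only [Set.mem_univ, Set.mem_preimage, true_iff]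
  have h : Points.map (openSubι G V) z ∈ Set.range (Points.map (openSubι G V)) := ⟨z, rfl⟩
  rwa [range_points_map_openSubι V] at h

theorem isQuasiCompactSp_openSub (hG : IsAlgSpace G) {V : Set (Points G)} (hV : IsOpen V)
    (hVc : IsCompact V) : IsQuasiCompactSp (openSub G V) :=
  (isQuasiCompactSp_iff_compactSpace (isAlgSpace_openSub hG hV)).2
    (compactSpace_points_openSub hG hV hVc)

theorem isCompact_preimage_of_isQuasiCompactMor {f : F ⟶ G} (hF : IsAlgSpace F)
    (hG : IsAlgSpace G) (hf : IsQuasiCompactMor f) {V : Set (Points G)} (hV : IsOpen V)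
    (hVc : IsCompact V) : IsCompact (Points.map f ⁻¹' V) := by
  have sq := IsPullback.of_hasPullback f (openSubι G V)
  have hP : IsAlgSpace (pullback f (openSubι G V)) :=
    isAlgSpace_pullback hG.diag hF (isAlgSpace_openSub hG hV) sq
  have hq : IsQuasiCompactSp (pullback f (openSubι G V)) :=
    hf (isAlgSpace_openSub hG hV) (isQuasiCompactSp_openSub hG hV hVc) _ _ _ sq
  have hc : CompactSpace (Points (pullback f (openSubι G V))) :=
    (isQuasiCompactSp_iff_compactSpace hP).1 hq
  have := isCompact_range (Points.continuous_map (pullback.fst f (openSubι G V)))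
  rwa [range_points_map_fst sq, range_points_map_openSubι] at this

theorem isSurjectiveMor_of_isPullback {P : Sp S} {fst : P ⟶ F} {snd : P ⟶ H} {f : F ⟶ G}
    {g : H ⟶ G} (sq : IsPullback fst snd f g) (hf : IsSurjectiveMor f) : IsSurjectiveMor snd := by
  intro y
  obtain ⟨x, hx⟩ := hf (Points.map g y)
  obtain ⟨z, -, hz⟩ := points_pullback_surjective sq x y hx
  exact ⟨z, hz⟩

/-- The target of a surjective morphism from a quasi-compact sheaf is quasi-compact. -/
theorem isQuasiCompactSp_of_surjective {f : F ⟶ G} (hG : IsAlgSpace G)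
    (hf : IsSurjectiveMor f) (hX : IsQuasiCompactSp F) : IsQuasiCompactSp G := by
  obtain ⟨U, p, hp, hs, hU⟩ := hX
  have : CompactSpace ↥U.left := hU
  rw [isQuasiCompactSp_iff_compactSpace hG]
  constructor
  have hsurj : Function.Surjective (Points.ofPt (p ≫ f)) := by
    intro y
    obtain ⟨x, rfl⟩ := hf y
    obtain ⟨u, rfl⟩ := ofPt_surjective_of_repWith hs x
    exact ⟨u, (Points.map_ofPt p f u).symm⟩
  rw [← hsurj.range_eq]
  exact isCompact_range (Points.continuous_ofPt _)

theorem isQuasiCompactMor_of_comp_surjective {X Y Z : Sp S} (hY : IsAlgSpace Y)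
    (hZ : IsAlgSpace Z) {f : X ⟶ Y} {q : Y ⟶ Z} (hf : IsSurjectiveMor f)
    (hp : IsQuasiCompactMor (f ≫ q)) : IsQuasiCompactMor q := by
  intro W W' hW hWc g fst snd sq
  have sq2 := IsPullback.of_hasPullback f fst
  have big : IsPullback (pullback.fst f fst) (pullback.snd f fst ≫ snd) (f ≫ q) g :=
    sq2.paste_vert sq
  have h1 : IsQuasiCompactSp (pullback f fst) := hp hW hWc g _ _ big
  exact isQuasiCompactSp_of_surjective (isAlgSpace_pullback hZ.diag hY hW sq)
    (isSurjectiveMor_of_isPullback sq2 hf) h1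

/-- For an open surjective (on points) morphism from an algebraic space to a sheaf with compact
space of points, a quasi-compact étale chart of the source already surjects onto the target. -/
theorem exists_qc_chart_of_open_surjective {W Z : Sp S} (hW : IsAlgSpace W)
    (hZ : CompactSpace (Points Z)) {w : W ⟶ Z} (ho : IsOpenMap (Points.map w))
    (hs : Function.Surjective (Points.map w)) :
    ∃ (U' : Over S) (c' : (yon S).obj U' ⟶ W), RepWith @Etale c' ∧ CompactSpace ↥U'.left ∧
      Function.Surjective (Points.ofPt (c' ≫ w)) := by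
  obtain ⟨U, p, hp, hps⟩ := hW.atlas
  let B : Set U.left.Opens := {V | IsAffineOpen V}
  have hopen : ∀ V : U.left.Opens, IsOpen (Points.map w '' (Points.ofPt p '' (V : Set U.left))) :=
    fun V => ho _ (isOpenMap_ofPt_of_etale hp _ V.2)
  have hcov : (Set.univ : Set (Points Z)) ⊆
      ⋃ V : B, Points.map w '' (Points.ofPt p '' (V.1 : Set U.left)) := by
    intro x _
    obtain ⟨y, rfl⟩ := hs x
    obtain ⟨u, rfl⟩ := ofPt_surjective_of_repWith hps y
    obtain ⟨_, ⟨V, hV, rfl⟩, hu, -⟩ := U.left.isBasis_affineOpens.exists_subset_of_mem_open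
      (Set.mem_univ u) isOpen_univ
    exact Set.mem_iUnion.2 ⟨⟨V, hV⟩, _, ⟨u, hu, rfl⟩, rfl⟩
  obtain ⟨t, ht⟩ := isCompact_univ.elim_finite_subcover _ (fun V : B => hopen V.1) hcov
  let U' : U.left.Opens := ⨆ V ∈ t, V.1
  have hU'c : IsCompact (U' : Set U.left) := by
    have : (U' : Set U.left) = ⋃ V ∈ t, (V.1 : Set U.left) := by
      simp [U']
    rw [this]
    exact t.finite_toSet.isCompact_biUnion fun V _ => V.2.isCompact
  refine ⟨overOpen U U', (yon S).map (overOpenι U U') ≫ p, repWith_etale_restrict hp U',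
    isCompact_iff_compactSpace.1 hU'c, ?_⟩
  intro x
  have hx := ht (Set.mem_univ x)
  simp only [Set.mem_iUnion] at hx
  obtain ⟨V, hV, _, ⟨u, hu, rfl⟩, rfl⟩ := hx
  have huU' : u ∈ U' := by
    simp only [U', TopologicalSpace.Opens.mem_iSup]
    exact ⟨V, hV, hu⟩
  refine ⟨⟨u, huU'⟩, ?_⟩
  rw [← Points.map_ofPt, ofPt_restrict]

/-- Quasi-compactness descends along a universally open surjective base change. -/
theorem isQuasiCompactMor_of_baseChange_univOpen {X Y Y' X' : Sp S} (hX : IsAlgSpace X)
    (hY : IsAlgSpace Y) (hY' : IsAlgSpace Y') {f : X ⟶ Y} {g : Y' ⟶ Y} {fst : X' ⟶ X}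
    {f' : X' ⟶ Y'} (sq : IsPullback fst f' f g) (hg : IsUnivOpenMor g)
    (hgs : IsSurjectiveMor g) (hf' : IsQuasiCompactMor f') : IsQuasiCompactMor f := by
  intro Z Z' hZ hZc h a b sqZ
  have sqW := IsPullback.of_hasPullback h g
  have hW : IsAlgSpace (pullback h g) := isAlgSpace_pullback hY.diag hZ hY' sqW
  have ho : IsOpenMap (Points.map (pullback.fst h g)) := hg hZ h _ _ sqW.flip
  have hs : Function.Surjective (Points.map (pullback.fst h g)) :=
    isSurjectiveMor_of_isPullback sqW.flip hgs
  obtain ⟨U', c', hc'e, hU'c, hsurj⟩ := exists_qc_chart_of_open_surjective hW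
    ((isQuasiCompactSp_iff_compactSpace hZ).1 hZc) ho hs
  have hZ' : IsAlgSpace Z' := isAlgSpace_pullback hY.diag hX hZ sqZ
  set r := c' ≫ pullback.fst h g with hr
  set t := c' ≫ pullback.snd h g with ht
  have hrs : IsSurjectiveMor r := by
    intro z
    obtain ⟨u, hu⟩ := hsurj z
    exact ⟨Points.ofScheme U' u, by rw [← hu, Points.ofPt_eq_map_ofScheme]⟩
  have sqQ := IsPullback.of_hasPullback b r
  have hrt : r ≫ h = t ≫ g := by
    simp only [hr, ht, Category.assoc]
    rw [pullback.condition]
  have big : IsPullback (pullback.fst b r ≫ a) (pullback.snd b r) f (t ≫ g) := by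
    rw [← hrt]
    exact sqQ.paste_horiz sqZ
  have hw : (pullback.fst b r ≫ a) ≫ f = (pullback.snd b r ≫ t) ≫ g := by
    rw [Category.assoc _ t g]
    exact big.w
  have left : IsPullback (sq.lift _ _ hw) (pullback.snd b r) f' t := by
    apply IsPullback.of_right (h₁₂ := fst) (h₂₂ := g) _ _ sq
    · rw [sq.lift_fst]; exact big
    · exact sq.lift_snd _ _ _
  have hQ : IsQuasiCompactSp (pullback b r) :=
    hf' (IsAlgSpace.yon_obj U') ((isQuasiCompactSp_yon_iff U').2 hU'c) t _ _ left
  exact isQuasiCompactSp_of_surjective hZ' (isSurjectiveMor_of_isPullback sqQ.flip hrs) hQ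

/-- Quasi-compactness of a morphism of algebraic spaces can be tested on affine base changes. -/
theorem isQuasiCompactMor_of_forall_affine {X Y : Sp S} (hX : IsAlgSpace X) (hY : IsAlgSpace Y)
    {f : X ⟶ Y}
    (h : ∀ (Z : Over S), IsAffine Z.left → ∀ (g : (yon S).obj Z ⟶ Y) (P : Sp S)
      (fst : P ⟶ X) (snd : P ⟶ (yon S).obj Z), IsPullback fst snd f g → IsQuasiCompactSp P) :
    IsQuasiCompactMor f := by
  intro Z Z' hZ hZc g a b sqZ
  obtain ⟨U, c, hce, hcs, hU⟩ := hZc
  have : CompactSpace ↥U.left := hU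
  obtain ⟨s, hs, hcover⟩ := (isCompact_iff_finite_and_eq_biUnion_affineOpens
    (U := (⊤ : U.left.Opens))).1 (by simpa using isCompact_univ)
  have hZ' : IsAlgSpace Z' := isAlgSpace_pullback hY.diag hX hZ sqZ
  rw [isQuasiCompactSp_iff_compactSpace hZ']
  constructor
  have key : ∀ V : U.left.affineOpens, IsCompact (Set.range
      (Points.map (pullback.fst b ((yon S).map (overOpenι U V.1) ≫ c)))) := by
    intro V
    have sqV := IsPullback.of_hasPullback b ((yon S).map (overOpenι U V.1) ≫ c)
    have big := sqV.paste_horiz sqZ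
    have hq : IsQuasiCompactSp (pullback b ((yon S).map (overOpenι U V.1) ≫ c)) :=
      h (overOpen U V.1) V.2 _ _ _ _ big
    have hP : IsAlgSpace (pullback b ((yon S).map (overOpenι U V.1) ≫ c)) :=
      isAlgSpace_pullback hZ.diag hZ' (IsAlgSpace.yon_obj _) sqV
    have := (isQuasiCompactSp_iff_compactSpace hP).1 hq
    exact isCompact_range (Points.continuous_map _)
  have hun : (Set.univ : Set (Points Z')) = ⋃ V ∈ s, Set.range
      (Points.map (pullback.fst b ((yon S).map (overOpenι U V.1) ≫ c))) := by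
    ext z
    simp only [Set.mem_univ, true_iff, Set.mem_iUnion]
    obtain ⟨u, hu⟩ := ofPt_surjective_of_repWith hcs (Points.map b z)
    have hmem : u ∈ (⊤ : U.left.Opens) := trivial
    rw [hcover] at hmem
    simp only [TopologicalSpace.Opens.mem_iSup] at hmem
    obtain ⟨V, hVs, huV⟩ := hmem
    refine ⟨V, hVs, ?_⟩
    rw [range_points_map_fst (IsPullback.of_hasPullback b ((yon S).map (overOpenι U V.1) ≫ c))]
    refine ⟨Points.ofScheme _ ⟨u, huV⟩, ?_⟩
    rw [← Points.ofPt_eq_map_ofScheme, ofPt_restrict, hu]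
  rw [hun]
  exact hs.isCompact_biUnion (fun V _ => key V)

theorem isQuasiCompactMor_iff_forall_affine {X Y : Sp S} (hX : IsAlgSpace X) (hY : IsAlgSpace Y)
    {f : X ⟶ Y} :
    IsQuasiCompactMor f ↔ ∀ (Z : Over S), IsAffine Z.left → ∀ (g : (yon S).obj Z ⟶ Y) (P : Sp S)
      (fst : P ⟶ X) (snd : P ⟶ (yon S).obj Z), IsPullback fst snd f g → IsQuasiCompactSp P :=
  ⟨fun h Z hZ g P fst snd sq =>
    h (IsAlgSpace.yon_obj Z) ((isQuasiCompactSp_yon_iff Z).2 inferInstance) g fst snd sq,
   isQuasiCompactMor_of_forall_affine hX hY⟩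

/-- An étale morphism (in the composition form) is universally open. -/
theorem isUnivOpenMor_of_isEtaleMor {g : F ⟶ G} (hF : IsAlgSpace F) (hg : IsEtaleMor g) :
    IsUnivOpenMor g := by
  obtain ⟨U, p, hp, hs⟩ := hF.atlas
  apply univSp_isOpenMor_of_comp_surjective hs
  exact univSp_of_repWith (P := @Etale) (Q := IsOpenMor)
    (fun f hf => isOpenMap_points_map_of_etale hf) (hg p hp)

end Groth.Agent.H5.AlgSp
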