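import Groth.Prelude.Def_AlgSp4
import Groth.Agent.Lib.Helper5.AlgSp.LocalRep
import Groth.Agent.Lib.Helper5.AlgSp.AffineBase
import Groth.Agent.Lib.Helper5.AlgSp.QCompact
import Mathlib

/-!
# Representability is Zariski local on the target
-/

set_option autoImplicit false

universe u

open CategoryTheory CategoryTheory.Limits AlgebraicGeometry Opposite Topology

namespace Groth.Agent.H5.AlgSp

open _root_.AlgSp

variable {S : Scheme.{u}} {F G H : Sp S}

/-- A sheaf isomorphic to a representable sheaf over `h_T` gives a representing pullback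
square. -/
lemma exists_isPullback_of_iso {f : F ⟶ G} {T : Over S} (g : (yon S).obj T ⟶ G) {P : Sp S}
    {a : P ⟶ F} {b : P ⟶ (yon S).obj T} (sq : IsPullback a b f g) {X : Over S}
    (e : (yon S).obj X ≅ P) :
    ∃ (snd : X ⟶ T) (fst : (yon S).obj X ⟶ F), IsPullback fst ((yon S).map snd) f g := by
  obtain ⟨snd, hsnd⟩ := (yon S).map_surjective (e.hom ≫ b)
  refine ⟨snd, e.hom ≫ a, ?_⟩
  rw [hsnd]
  exact IsPullback.of_iso sq e.symm (Iso.refl _) (Iso.refl _) (Iso.refl _) (by simp) (by simp)
    (by simp) (by simp)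

/-- **Representability is Zariski local on the target.** -/
theorem representable_of_forall_affine {f : F ⟶ G}
    (h : ∀ (T : Over S), IsAffine T.left → ∀ g : (yon S).obj T ⟶ G,
      ∃ (W : Over S) (i : W ⟶ T) (fst : (yon S).obj W ⟶ F), IsPullback fst ((yon S).map i) f g) :
    Representable f := by
  intro T g
  have sqP := IsPullback.of_hasPullback f g
  -- charts indexed by affine opens of `T`
  choose W i fst hsq using fun V : T.left.affineOpens =>
    h (overOpen T V.1) V.2 ((yon S).map (overOpenι T V.1) ≫ g)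
  have hw : ∀ V, fst V ≫ f = ((yon S).map (i V ≫ overOpenι T V.1)) ≫ g := fun V => by
    rw [Functor.map_comp, Category.assoc]; exact (hsq V).w
  let c : ∀ V : T.left.affineOpens, (yon S).obj (W V) ⟶ pullback f g := fun V =>
    pullback.lift (fst V) ((yon S).map (i V ≫ overOpenι T V.1)) (hw V)
  -- each chart is the base change of an open immersion
  have hcsq : ∀ V, IsPullback (c V) ((yon S).map (i V)) (pullback.snd f g)
      ((yon S).map (overOpenι T V.1)) := fun V => by
    apply IsPullback.of_right (h₁₂ := pullback.fst f g) (h₂₂ := g) _ _ sqP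
    · have : c V ≫ pullback.fst f g = fst V := pullback.lift_fst _ _ _
      rw [this]
      exact hsq V
    · have : c V ≫ pullback.snd f g = (yon S).map (i V ≫ overOpenι T V.1) :=
        pullback.lift_snd _ _ _
      rw [this, Functor.map_comp]
  have hc : ∀ V, RepWith @IsOpenImmersion (c V) := fun V =>
    MorphismProperty.of_isPullback (P := RepWith @IsOpenImmersion) (hcsq V).flip
      (repWith_overOpenι @IsOpenImmersion (fun _ => inferInstance) T V.1)
  have hsurj : ∀ x : Points (pullback f g), ∃ (V : T.left.affineOpens) (u : ↥(W V).left),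
      Points.ofPt (c V) u = x := by
    intro x
    obtain ⟨t, ht⟩ := (Points.schemeHomeo T).surjective (Points.map (pullback.snd f g) x)
    obtain ⟨_, ⟨V, hV, rfl⟩, htV, -⟩ := T.left.isBasis_affineOpens.exists_subset_of_mem_open
      (Set.mem_univ t) isOpen_univ
    have hpt : Points.map (pullback.snd f g) x =
        Points.ofPt ((yon S).map (overOpenι T V)) ⟨t, htV⟩ := by
      rw [← ht, Points.ofPt_eq_map_ofScheme]
      have := Points.map_yon_map_apply (overOpenι T V) ⟨t, htV⟩
      exact this.symm
    obtain ⟨u, -, hu⟩ := exists_point_of_isPullback (hcsq ⟨V, hV⟩) x ⟨t, htV⟩ hpt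
    exact ⟨⟨V, hV⟩, u, hu⟩
  obtain ⟨X, e, -⟩ := LocalRep.exists_iso hc hsurj
  obtain ⟨snd, fst', sq'⟩ := exists_isPullback_of_iso g sqP e
  exact ⟨X, snd, fst', sq'⟩

end Groth.Agent.H5.AlgSp

namespace Groth.Agent.H5.AlgSp

open _root_.AlgSp

variable {S : Scheme.{u}} {F G H : Sp S}

/-- Two schemes representing the same pullback are isomorphic. -/
lemma nonempty_iso_of_isPullback {f : F ⟶ G} {T V W : Over S} {g : (yon S).obj T ⟶ G}
    {fst : (yon S).obj V ⟶ F} {snd : V ⟶ T} {fst' : (yon S).obj W ⟶ F} {i : W ⟶ T}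
    (sq : IsPullback fst ((yon S).map snd) f g) (sq' : IsPullback fst' ((yon S).map i) f g) :
    ∃ e : V ≅ W, e.hom ≫ i = snd := by
  let e₀ : (yon S).obj V ≅ (yon S).obj W := sq.isoIsPullback _ _ sq'
  refine ⟨(yon S).preimageIso e₀, ?_⟩
  apply (yon S).map_injective
  rw [Functor.map_comp, Functor.preimageIso_hom, Functor.map_preimage]
  exact sq.isoIsPullback_hom_snd _ _ sq'

/-- An affine morphism of sheaves is representable by affine morphisms of schemes. -/
theorem repWith_isAffineHom_of_isAffineMor {f : F ⟶ G} (hf : IsAffineMor f) :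
    RepWith @IsAffineHom f := by
  have hrep : Representable f := representable_of_forall_affine (fun T hT g => by
    obtain ⟨W, i, fst, sq, -⟩ := hf hT g
    exact ⟨W, i, fst, sq⟩)
  apply repWith_of_forall_affine hrep
  intro T V g fst snd hT sq
  obtain ⟨W, i, fst', sq', hW⟩ := hf hT g
  obtain ⟨e, -⟩ := nonempty_iso_of_isPullback sq sq'
  have : IsIso e.hom.left := inferInstanceAs (IsIso ((Over.forget S).map e.hom))
  have : IsAffine V.left := IsAffine.of_isIso e.hom.left
  exact (inferInstance : IsAffineHom snd.left)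

/-- `RepWith P` can be tested after base change to affine schemes, including
representability. -/
theorem repWith_of_forall_affine' {f : F ⟶ G} (P : MorphismProperty Scheme.{u})
    [P.IsStableUnderBaseChange] [IsZariskiLocalAtTarget P]
    (h : ∀ (Z : Over S), IsAffine Z.left → ∀ (g : (yon S).obj Z ⟶ G) (P₀ : Sp S)
      (fst : P₀ ⟶ F) (snd : P₀ ⟶ (yon S).obj Z), IsPullback fst snd f g → RepWith P snd) :
    RepWith P f := by
  have key : ∀ (T : Over S), IsAffine T.left → ∀ g : (yon S).obj T ⟶ G,
      ∃ (W : Over S) (i : W ⟶ T) (fst : (yon S).obj W ⟶ F),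
        IsPullback fst ((yon S).map i) f g ∧ P i.left := by
    intro T hT g
    have hsnd := h T hT g _ _ _ (IsPullback.of_hasPullback f g)
    have sq := hsnd.rep.isPullback (𝟙 _)
    -- `hsnd.rep.fst (𝟙)` is an isomorphism
    have hiso : IsIso (hsnd.rep.fst (𝟙 ((yon S).obj T))) :=
      (IsPullback.isIso_fst_of_isIso sq)
    refine ⟨_, hsnd.rep.snd (𝟙 _), hsnd.rep.fst (𝟙 _) ≫ pullback.fst f g, ?_, hsnd.property_snd _⟩
    have := sq.paste_horiz (IsPullback.of_hasPullback f g)
    rwa [Category.id_comp] at this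
  have hrep : Representable f := representable_of_forall_affine (fun T hT g => by
    obtain ⟨W, i, fst, sq, -⟩ := key T hT g
    exact ⟨W, i, fst, sq⟩)
  have : P.RespectsIso := MorphismProperty.IsStableUnderBaseChange.respectsIso
  apply repWith_of_forall_affine hrep
  intro T V g fst snd hT sq
  obtain ⟨W, i, fst', sq', hW⟩ := key T hT g
  obtain ⟨e, he⟩ := nonempty_iso_of_isPullback sq sq'
  have : IsIso e.hom.left := inferInstanceAs (IsIso ((Over.forget S).map e.hom))
  have : snd.left = e.hom.left ≫ i.left := by rw [← Over.comp_left, he]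
  rw [this]
  exact (P.cancel_left_of_respectsIso e.hom.left i.left).2 hW

end Groth.Agent.H5.AlgSp
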