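import Groth.Agent.Lib.Helper5.AlgSp.FppfLocal
import Mathlib

/-!
# More fpqc descent: flatness and quasi-finiteness
-/

set_option autoImplicit false

universe u

open CategoryTheory CategoryTheory.Limits AlgebraicGeometry MorphismProperty TensorProduct

namespace Groth.Agent.H5.AlgSp

lemma flat_codescendsAlong_faithfullyFlat :
    RingHom.CodescendsAlong RingHom.Flat RingHom.FaithfullyFlat := by
  apply RingHom.CodescendsAlong.mk _ RingHom.Flat.respectsIso
  introv h H
  rw [RingHom.faithfullyFlat_algebraMap_iff] at h
  rw [RingHom.flat_algebraMap_iff] at H ⊢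
  exact Module.Flat.of_flat_tensorProduct R T S

instance descendsAlong_flat_fpqc :
    DescendsAlong @Flat (@Surjective ⊓ @Flat ⊓ @QuasiCompact : MorphismProperty Scheme.{u}) :=
  HasRingHomProperty.descendsAlong_flat flat_codescendsAlong_faithfullyFlat

example : MorphismProperty.IsLocalAtTarget (@Flat) Scheme.fppfPrecoverage.{u} := inferInstance

/-- Quasi-finiteness descends along faithfully flat base change. -/
lemma quasiFinite_of_baseChange_faithfullyFlat {R S A : Type*} [CommRing R] [CommRing S]
    [CommRing A] [Algebra R S] [Algebra R A] [Module.FaithfullyFlat R A]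
    [Algebra.QuasiFinite A (A ⊗[R] S)] : Algebra.QuasiFinite R S := by
  refine ⟨fun p hp ↦ ?_⟩
  obtain ⟨P, hP, hPp⟩ := Ideal.exists_isPrime_liesOver_of_faithfullyFlat (B := A) p
  let := Localization.AtPrime.algebraOfLiesOver p P
  let e : P.Fiber (A ⊗[R] S) ≃ₐ[P.ResidueField] P.ResidueField ⊗[p.ResidueField] (p.Fiber S) :=
    (Algebra.TensorProduct.cancelBaseChange _ _ _ _ _).trans
      (Algebra.TensorProduct.cancelBaseChange _ _ _ _ _).symm
  have : Module.Finite P.ResidueField (P.ResidueField ⊗[p.ResidueField] (p.Fiber S)) :=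
    .of_surjective e.toLinearMap e.surjective
  exact Module.Finite.of_finite_tensorProduct_of_faithfullyFlat P.ResidueField

lemma quasiFinite_codescendsAlong_faithfullyFlat :
    RingHom.CodescendsAlong RingHom.QuasiFinite RingHom.FaithfullyFlat := by
  apply RingHom.CodescendsAlong.mk _ RingHom.QuasiFinite.respectsIso
  introv h H
  rw [RingHom.faithfullyFlat_algebraMap_iff] at h
  rw [RingHom.quasiFinite_algebraMap] at H ⊢
  exact quasiFinite_of_baseChange_faithfullyFlat (A := S)

instance descendsAlong_locallyQuasiFinite_fpqc :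
    DescendsAlong @LocallyQuasiFinite
      (@Surjective ⊓ @Flat ⊓ @QuasiCompact : MorphismProperty Scheme.{u}) :=
  HasRingHomProperty.descendsAlong_flat quasiFinite_codescendsAlong_faithfullyFlat

example : MorphismProperty.IsLocalAtTarget (@LocallyQuasiFinite) Scheme.fppfPrecoverage.{u} :=
  inferInstance

example : MorphismProperty.IsLocalAtTarget (@FormallyUnramified) Scheme.fppfPrecoverage.{u} :=
  inferInstance

/-- Unramified morphisms locally of finite type are locally quasi-finite. -/
lemma locallyQuasiFinite_of_unramified {X Y : Scheme.{u}} (f : X ⟶ Y) [LocallyOfFiniteType f]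
    [FormallyUnramified f] : LocallyQuasiFinite f := by
  rw [HasRingHomProperty.iff_appLE (P := @LocallyQuasiFinite)]
  intro U V e
  have h1 := HasRingHomProperty.appLE (P := @LocallyOfFiniteType) f inferInstance U V e
  have h2 := HasRingHomProperty.appLE (P := @FormallyUnramified) f inferInstance U V e
  algebraize [(f.appLE U.1 V.1 e).hom]
  have : Algebra.EssFiniteType Γ(Y, U.1) Γ(X, V.1) := inferInstance
  exact inferInstanceAs (Algebra.QuasiFinite _ _)

end Groth.Agent.H5.AlgSp
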