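import Groth.Prelude.Def_AlgSp4
import Groth.Agent.Lib.Helper5.AlgSp.UnivTop
import Groth.Agent.Lib.Helper5.AlgSp.QCompact
import Mathlib

/-!
# Universally closed morphisms: representable sense vs. points
-/

set_option autoImplicit false

universe u

open CategoryTheory CategoryTheory.Limits AlgebraicGeometry Opposite Topology

namespace Groth.Agent.H5.AlgSp

open _root_.AlgSp

variable {S : Scheme.{u}} {F G H : Sp S}

lemma ofPt_preimage_image_eq_of_rep {f : F ⟶ G} (hf : Representable f) {T : Over S}
    (g : (yon S).obj T ⟶ G) (W : Set (Points F)) :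
    Points.ofPt g ⁻¹' (Points.map f '' W) = (hf.snd g).left '' (Points.ofPt (hf.fst g) ⁻¹' W) := by
  ext t
  simp only [Set.mem_preimage, Set.mem_image]
  constructor
  · rintro ⟨x, hxW, hx⟩
    obtain ⟨v, hv, hvx⟩ := exists_point_of_isPullback (hf.isPullback g) x t hx
    exact ⟨v, by rw [hvx]; exact hxW, hv⟩
  · rintro ⟨v, hvW, rfl⟩
    refine ⟨_, hvW, ?_⟩
    rw [Points.map_ofPt, hf.w, ofPt_yon_map_comp]

lemma Points.isClosed_iff' {W : Set (Points F)} :
    IsClosed W ↔ ∀ (T : Over S) (g : (yon S).obj T ⟶ F), IsClosed (Points.ofPt g ⁻¹' W) := by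
  simp only [← isOpen_compl_iff]
  rw [Points.isOpen_iff]
  rfl

/-- A morphism representable by closed maps is closed on points. -/
theorem isClosedMap_points_map_of_repWith {P : MorphismProperty Scheme.{u}}
    (hP : ∀ {X Y : Scheme.{u}} (f : X ⟶ Y), P f → IsClosedMap f) {f : F ⟶ G} (hf : RepWith P f) :
    IsClosedMap (Points.map f) := by
  intro W hW
  rw [Points.isClosed_iff']
  intro T g
  rw [ofPt_preimage_image_eq_of_rep hf.rep]
  exact hP _ (hf.property_snd g) _ (hW.preimage (Points.continuous_ofPt _))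

lemma isClosedMap_points_map_yon_map_iff {T T' : Over S} (φ : T ⟶ T') :
    IsClosedMap (Points.map ((yon S).map φ)) ↔ IsClosedMap φ.left := by
  rw [Points.map_yon_map_eq]
  constructor
  · intro h
    have := ((Points.schemeHomeo T').symm.isClosedMap.comp h).comp
      (Points.schemeHomeo T).isClosedMap
    convert this using 1
    funext t
    simp
  · intro h
    exact ((Points.schemeHomeo T').isClosedMap.comp h).comp (Points.schemeHomeo T).symm.isClosedMap

theorem isUnivClosedMor_of_repWith {f : F ⟶ G} (h : RepWith @UniversallyClosed f) :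
    IsUnivClosedMor f :=
  univSp_of_repWith (P := @UniversallyClosed) (Q := IsClosedMor)
    (fun f hf => isClosedMap_points_map_of_repWith (P := @UniversallyClosed)
      (fun φ hφ => by
        have : UniversallyClosed φ := hφ
        exact φ.isClosedMap) hf) h

theorem repWith_universallyClosed_iff {f : F ⟶ G} (hf : Representable f) :
    RepWith @UniversallyClosed f ↔ IsUnivClosedMor f := by
  constructor
  · exact isUnivClosedMor_of_repWith
  · intro h
    rw [universallyClosed_eq]
    exact repWith_universally_of_univSp (Q := IsClosedMor)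
      (fun φ hφ => (isClosedMap_points_map_yon_map_iff φ).1 hφ) hf h

theorem isUnivClosedMor_iff_forall_affine {f : F ⟶ G} :
    IsUnivClosedMor f ↔
      ∀ (Z : Over S), IsAffine Z.left → ∀ (g : (yon S).obj Z ⟶ G) (P : Sp S)
        (fst : P ⟶ F) (snd : P ⟶ (yon S).obj Z), IsPullback fst snd f g →
        IsClosedMap (Points.map snd) := by
  constructor
  · intro h Z _ g P fst snd sq
    exact h (IsAlgSpace.yon_obj Z) g fst snd sq
  · intro h
    exact univSp_of_forall_affine (Q := IsClosedMor)
      (fun f hf => isClosedMap_points_map_of_forall_affine hf) h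

theorem isUnivClosedMor_of_baseChange {f : F ⟶ G} (hG : IsAlgSpace G) {p : H ⟶ G}
    (hH : IsAlgSpace H) (hpe : RepWith @Etale p) (hps : RepWith @Surjective p) {P : Sp S}
    {fst : P ⟶ F} {snd : P ⟶ H} (sq : IsPullback fst snd f p) (h : IsUnivClosedMor snd) :
    IsUnivClosedMor f :=
  univSp_of_baseChange (Q := IsClosedMor)
    (fun sq hg h => isClosedMap_of_isPullback_of_isQuotientMap sq hg h) hG hH hpe hps sq h

lemma toScheme_eq_schemeHomeo_symm (T : Over S) :
    Points.toScheme T = (Points.schemeHomeo T).symm := rfl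

lemma subsingleton_points_field {K : Type u} [Field K] (str : Spec (CommRingCat.of K) ⟶ S) :
    Subsingleton (Points ((yon S).obj (Over.mk str))) :=
  ⟨fun a b => (Points.schemeHomeo (Over.mk str)).symm.injective
    (Subsingleton.elim (α := ↥(Spec (CommRingCat.of K))) _ _)⟩

open MvPolynomial PrimeSpectrum TopologicalSpace in
theorem compactSpace_points_of_isUnivClosedMor_field {X : Sp S} (hX : IsAlgSpace X) {K : Type u}
    [Field K] (str : Spec (CommRingCat.of K) ⟶ S) (f : X ⟶ (yon S).obj (Over.mk str))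
    (hf : IsUnivClosedMor f) : CompactSpace (Points X) := by
  classical
  obtain ⟨U, a, hae, has⟩ := hX.atlas
  let 𝒰 : U.left.OpenCover := U.left.affineCover
  let Ui (i : 𝒰.I₀) : Set (Points X) := Points.ofPt a '' Set.range (𝒰.f i)
  have hUi_compact : ∀ i, IsCompact (Ui i) := fun i =>
    (isCompact_range (𝒰.f i).continuous).image (Points.continuous_ofPt a)
  have hUi_open : ∀ i, IsOpen (Ui i) := fun i =>
    isOpenMap_ofPt_of_etale hae _ (𝒰.f i).isOpenEmbedding.isOpen_range
  have hUi_cover : ∀ x, ∃ i, x ∈ Ui i := by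
    intro x
    obtain ⟨u, rfl⟩ := ofPt_surjective_of_repWith has x
    exact ⟨𝒰.idx u, u, 𝒰.covers u, rfl⟩
  let T0 : Scheme.{u} := Spec (.of <| MvPolynomial 𝒰.I₀ K)
  let q : T0 ⟶ Spec (.of K) := Spec.map (CommRingCat.ofHom MvPolynomial.C)
  let T : Over S := Over.mk (q ≫ str)
  let qO : T ⟶ Over.mk str := Over.homMk q rfl
  let Ti (i : 𝒰.I₀) : T0.Opens := basicOpen (MvPolynomial.X i)
  have sq := IsPullback.of_hasPullback f ((yon S).map qO)
  have hcl : IsClosedMap (Points.map (pullback.snd f ((yon S).map qO))) :=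
    hf (IsAlgSpace.yon_obj T) _ _ _ sq
  let fT : Points (pullback f ((yon S).map qO)) → T0 := fun z =>
    (Points.schemeHomeo T).symm (Points.map (pullback.snd f ((yon S).map qO)) z)
  have hfTcl : IsClosedMap fT := (Points.schemeHomeo T).symm.isClosedMap.comp hcl
  have hfTcont : Continuous fT :=
    (Points.schemeHomeo T).symm.continuous.comp (Points.continuous_map _)
  let p := Points.map (pullback.fst f ((yon S).map qO))
  have hpcont : Continuous p := Points.continuous_map _
  have hsurj : ∀ (x : Points X) (t : T0), ∃ z, p z = x ∧ fT z = t := by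
    intro x t
    have := subsingleton_points_field str
    obtain ⟨z, hz1, hz2⟩ := points_pullback_surjective sq x (Points.schemeHomeo T t)
      (Subsingleton.elim _ _)
    exact ⟨z, hz1, by simp only [fT]; rw [hz2]; exact (Points.schemeHomeo T).symm_apply_apply t⟩
  let Z : Set (Points (pullback f ((yon S).map qO))) :=
    (⋃ i, fT ⁻¹' (Ti i : Set T0) ∩ p ⁻¹' (Ui i))ᶜ
  have hZ : IsClosed Z := by
    simp only [Z, isClosed_compl_iff]
    exact isOpen_iUnion fun i => ((Ti i).2.preimage hfTcont).inter ((hUi_open i).preimage hpcont)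
  let Zc : T0.Opens := ⟨(fT '' Z)ᶜ, (hfTcl _ hZ).isOpen_compl⟩
  let ψ : MvPolynomial 𝒰.I₀ K →ₐ[K] K := MvPolynomial.aeval (fun _ ↦ 1)
  let t : T0 := Spec.map (CommRingCat.ofHom ψ.toRingHom) default
  have ht (i : 𝒰.I₀) : t ∈ Ti i := show ψ (.X i) ≠ 0 by simp [ψ]
  have htZc : t ∈ Zc := by
    rintro ⟨z, hz, hzt⟩
    obtain ⟨i, hi⟩ := hUi_cover (p z)
    apply hz
    simp only [Set.mem_iUnion]
    exact ⟨i, by rw [Set.mem_preimage, hzt]; exact ht i, hi⟩
  obtain ⟨U', ⟨g, rfl⟩, htU', hU'le⟩ := Opens.isBasis_iff_nbhd.mp isBasis_basic_opens htZc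
  let σ : Finset 𝒰.I₀ := MvPolynomial.vars g
  let φ : MvPolynomial 𝒰.I₀ K →+* MvPolynomial 𝒰.I₀ K :=
    (MvPolynomial.aeval fun i : 𝒰.I₀ ↦ if i ∈ σ then MvPolynomial.X i else 0).toRingHom
  let t' : T0 := Spec.map (CommRingCat.ofHom φ) t
  have ht'g : t' ∈ PrimeSpectrum.basicOpen g :=
    show φ g ∉ t.asIdeal from (show φ g = g from aeval_ite_mem_eq_self g subset_rfl).symm ▸ htU'
  have h : t' ∉ fT '' Z := hU'le ht'g
  suffices ⋃ i ∈ σ, Ui i = Set.univ from
    ⟨this ▸ Finset.isCompact_biUnion _ fun i _ ↦ hUi_compact i⟩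
  rw [Set.iUnion₂_eq_univ_iff]
  contrapose! h
  obtain ⟨x, hx⟩ := h
  obtain ⟨z, hzx, hzt⟩ := hsurj x t'
  refine ⟨z, ?_, hzt⟩
  simp only [Z, Set.mem_compl_iff, Set.mem_iUnion, Set.mem_inter_iff, Set.mem_preimage, not_exists,
    not_and]
  intro i hi₁ hi₂
  rw [hzt] at hi₁
  rw [hzx] at hi₂
  have hiσ : i ∉ σ := fun hi => hx i hi hi₂
  have h0 : φ (MvPolynomial.X i) = 0 := by simp [φ, hiσ]
  have : φ (MvPolynomial.X i) ∉ t.asIdeal := hi₁
  rw [h0] at this
  exact this (Ideal.zero_mem _)


theorem univSp_of_isPullback {Q : MorphismProperty (Sp S)} {F' G' : Sp S} {f : F ⟶ G}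
    {g : G' ⟶ G} {fst : F' ⟶ F} {snd : F' ⟶ G'} (sq : IsPullback fst snd f g)
    (hf : UnivSp Q f) : UnivSp Q snd := by
  intro Z Z' hZ h a b sqZ
  exact hf hZ (h ≫ g) (a ≫ fst) b (sqZ.paste_horiz sq)

/-- The range of the map on points induced by the inclusion of a point of a scheme. -/
lemma range_points_map_fromSpecResidueField (Z : Over S) (z : ↥Z.left) :
    Set.range (Points.map ((yon S).map
      (Over.homMk (U := Over.mk (Z.left.fromSpecResidueField z ≫ Z.hom)) (V := Z)
        (Z.left.fromSpecResidueField z) rfl))) = {Points.schemeHomeo Z z} := by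
  rw [Points.map_yon_map_eq, Set.range_comp, Set.range_comp,
    (Points.schemeHomeo _).symm.surjective.range_eq, Set.image_univ]
  change Points.schemeHomeo Z '' Set.range (Z.left.fromSpecResidueField z) = _
  rw [Scheme.range_fromSpecResidueField, Set.image_singleton]

/-- A universally closed morphism from an algebraic space to a scheme is proper on points. -/
theorem isProperMap_points_map_of_isUnivClosedMor {X : Sp S} (hX : IsAlgSpace X) {Z : Over S}
    (f : X ⟶ (yon S).obj Z) (hf : IsUnivClosedMor f) : IsProperMap (Points.map f) := by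
  rw [isProperMap_iff_isClosedMap_and_compact_fibers]
  refine ⟨Points.continuous_map f, ?_, ?_⟩
  · have := hf (IsAlgSpace.yon_obj Z) (𝟙 _) (𝟙 _) f (IsPullback.of_horiz_isIso ⟨by simp⟩)
    exact this
  · intro y
    obtain ⟨z, rfl⟩ := (Points.schemeHomeo Z).surjective y
    let ι : Over.mk (Z.left.fromSpecResidueField z ≫ Z.hom) ⟶ Z :=
      Over.homMk (Z.left.fromSpecResidueField z) rfl
    have sq := IsPullback.of_hasPullback f ((yon S).map ι)
    have hP : IsAlgSpace (pullback f ((yon S).map ι)) :=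
      isAlgSpace_pullback (IsAlgSpace.yon_obj Z).diag hX (IsAlgSpace.yon_obj _) sq
    have hc : CompactSpace (Points (pullback f ((yon S).map ι))) :=
      compactSpace_points_of_isUnivClosedMor_field hP
        (K := Z.left.residueField z) (Z.left.fromSpecResidueField z ≫ Z.hom) _
        (univSp_of_isPullback sq hf)
    have := isCompact_range (Points.continuous_map (pullback.fst f ((yon S).map ι)))
    rwa [range_points_map_fst sq, range_points_map_fromSpecResidueField] at this

theorem isQuasiCompactMor_of_isUnivClosedMor {X Y : Sp S} (hX : IsAlgSpace X) (hY : IsAlgSpace Y)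
    {f : X ⟶ Y} (hf : IsUnivClosedMor f) : IsQuasiCompactMor f := by
  apply isQuasiCompactMor_of_forall_affine hX hY
  intro Z hZ g P fst snd sq
  have hP : IsAlgSpace P := isAlgSpace_pullback hY.diag hX (IsAlgSpace.yon_obj Z) sq
  rw [isQuasiCompactSp_iff_compactSpace hP]
  have hprop := isProperMap_points_map_of_isUnivClosedMor hP snd (univSp_of_isPullback sq hf)
  have : CompactSpace (Points ((yon S).obj Z)) := (Points.schemeHomeo Z).compactSpace
  exact ⟨by simpa using hprop.isCompact_preimage isCompact_univ⟩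

end Groth.Agent.H5.AlgSp
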