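import Groth.Prelude.Def_AlgSp4
import Groth.Agent.Lib.Helper5.AlgSp.UnivClosed
import Groth.Agent.Lib.Helper5.AlgSp.MonoDesc
import Mathlib

/-!
# Universally injective morphisms of algebraic spaces
-/

set_option autoImplicit false

universe u

open CategoryTheory CategoryTheory.Limits AlgebraicGeometry Opposite Topology

namespace Groth.Agent.H5.AlgSp

open _root_.AlgSp

variable {S : Scheme.{u}} {F G H : Sp S}

/-- Injectivity of `f` on `K`-valued points for all fields `K` (over `S`). -/
def InjOnFieldPoints (f : F ⟶ G) : Prop :=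
  ∀ (K : Type u) [Field K] (str : Spec (CommRingCat.of K) ⟶ S),
    Function.Injective (fun a : (yon S).obj (Over.mk str) ⟶ F => a ≫ f)

/-- A morphism representable by injective maps is injective on points. -/
theorem injective_points_map_of_repWith {P : MorphismProperty Scheme.{u}}
    (hP : ∀ {X Y : Scheme.{u}} (f : X ⟶ Y), P f → Function.Injective f) {f : F ⟶ G}
    (hf : RepWith P f) : Function.Injective (Points.map f) := by
  intro x₁ x₂ h
  obtain ⟨K, _, str, ξ, hξ⟩ := exists_fpOfHom (Points.map f x₁)
  -- the point as `ofPt`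
  have hpt : Points.map f x₁ = Points.ofPt ξ (IsLocalRing.closedPoint K) := by
    rw [hξ]
    have := mk_fpOfHom_yon_map (F := G) str (𝟙 (Over.mk str)) ξ
    rw [CategoryTheory.Functor.map_id, Category.id_comp] at this
    rw [this]
    rfl
  have sq := hf.rep.isPullback ξ
  obtain ⟨v₁, hv₁, hx₁⟩ := exists_point_of_isPullback sq x₁ _ hpt
  obtain ⟨v₂, hv₂, hx₂⟩ := exists_point_of_isPullback sq x₂ _ (h ▸ hpt)
  have : v₁ = v₂ := hP _ (hf.property_snd ξ) (hv₁.trans hv₂.symm)
  rw [← hx₁, ← hx₂, this]

lemma injective_points_map_yon_map_iff {T T' : Over S} (φ : T ⟶ T') :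
    Function.Injective (Points.map ((yon S).map φ)) ↔ Function.Injective φ.left := by
  rw [Points.map_yon_map_eq]
  constructor
  · intro h t₁ t₂ e
    have := h (a₁ := Points.schemeHomeo T t₁) (a₂ := Points.schemeHomeo T t₂) (by simp [e])
    exact (Points.schemeHomeo T).injective this
  · intro h
    exact ((Points.schemeHomeo T').injective.comp h).comp (Points.schemeHomeo T).symm.injective

theorem repWith_universallyInjective_iff {f : F ⟶ G} (hf : Representable f) :
    RepWith @UniversallyInjective f ↔ IsUnivInjectiveMor f := by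
  constructor
  · intro h
    exact univSp_of_repWith (P := @UniversallyInjective)
      (Q := fun _ _ f => Function.Injective (Points.map f))
      (fun f hf => injective_points_map_of_repWith (P := @UniversallyInjective)
        (fun φ hφ => by
          have : UniversallyInjective φ := hφ
          exact φ.injective) hf) h
  · intro h
    rw [universallyInjective_eq]
    exact repWith_universally_of_univSp (Q := fun _ _ f => Function.Injective (Points.map f))
      (fun φ hφ => (injective_points_map_yon_map_iff φ).1 hφ) hf h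

/-- (A) ⇒ (B) -/
theorem isUnivInjectiveMor_of_injOnFieldPoints {f : F ⟶ G} (h : InjOnFieldPoints f) :
    IsUnivInjectiveMor f := by
  intro Z Z' _ g fst snd sq z₁ z₂ hz
  obtain ⟨K₁, _, str₁, ξ₁, rfl⟩ := exists_fpOfHom z₁
  obtain ⟨K₂, _, str₂, ξ₂, rfl⟩ := exists_fpOfHom z₂
  rw [map_mk_fpOfHom, map_mk_fpOfHom, mk_fpOfHom_eq_iff] at hz
  obtain ⟨Ω, _, w, a, b, hab⟩ := hz
  rw [mk_fpOfHom_eq_iff]
  refine ⟨Ω, inferInstance, w, a, b, ?_⟩
  apply sq.hom_ext
  · apply h Ω w
    change (((yon S).map a ≫ ξ₁) ≫ fst) ≫ f = (((yon S).map b ≫ ξ₂) ≫ fst) ≫ f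
    simp only [Category.assoc]
    rw [sq.w, ← Category.assoc ξ₁, ← Category.assoc ((yon S).map a), hab]
    simp only [Category.assoc]
  · simp only [Category.assoc]
    exact hab

/-- (B) ⇒ (C) -/
theorem isSurjectiveMor_diagonal_of_isUnivInjectiveMor {f : F ⟶ G} (hF : IsAlgSpace F)
    (h : IsUnivInjectiveMor f) : IsSurjectiveMor (pullback.diagonal f) := by
  intro w
  have hinj : Function.Injective (Points.map (pullback.snd f f)) :=
    h hF f _ _ (IsPullback.of_hasPullback f f)
  refine ⟨Points.map (pullback.snd f f) w, hinj ?_⟩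
  rw [← Points.map_comp, pullback.diagonal_snd]
  exact Points.map_id _

/-- (C) ⇒ (A) -/
theorem injOnFieldPoints_of_surjective_diagonal {f : F ⟶ G} (hF : IsAlgSpace F)
    (hG : IsAlgSpace G) (h : IsSurjectiveMor (pullback.diagonal f)) : InjOnFieldPoints f := by
  intro K _ str a b hab
  have hab' : a ≫ f = b ≫ f := hab
  let c : (yon S).obj (Over.mk str) ⟶ pullback f f := pullback.lift a b hab'
  have sqE := IsPullback.of_hasPullback (pullback.diagonal f) c
  have hFF : IsAlgSpace (pullback f f) :=
    isAlgSpace_pullback hG.diag hF hF (IsPullback.of_hasPullback f f)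
  have hE : IsAlgSpace (pullback (pullback.diagonal f) c) :=
    isAlgSpace_pullback hFF.diag hF (IsAlgSpace.yon_obj _) sqE
  have hmono : Mono (pullback.snd (pullback.diagonal f) c) := inferInstance
  have hne : Nonempty (Points (pullback (pullback.diagonal f) c)) := by
    let t₀ : Points ((yon S).obj (Over.mk str)) :=
      Points.schemeHomeo (Over.mk str) (IsLocalRing.closedPoint K)
    obtain ⟨x, hx⟩ := h (Points.map c t₀)
    obtain ⟨z, -, -⟩ := points_pullback_surjective sqE x t₀ hx
    exact ⟨z⟩
  have hiso : IsIso (pullback.snd (pullback.diagonal f) c) :=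
    isIso_of_mono_to_field hE str _ hne
  let s : (yon S).obj (Over.mk str) ⟶ F :=
    inv (pullback.snd (pullback.diagonal f) c) ≫ pullback.fst (pullback.diagonal f) c
  have hs : s ≫ pullback.diagonal f = c := by
    simp only [s, Category.assoc]
    rw [pullback.condition, IsIso.inv_hom_id_assoc]
  have ha : a = s := by
    have := congrArg (· ≫ pullback.fst f f) hs
    simp only [Category.assoc] at this
    rw [pullback.diagonal_fst, Category.comp_id] at this
    rw [this]
    exact (pullback.lift_fst _ _ _).symm
  have hb : b = s := by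
    have := congrArg (· ≫ pullback.snd f f) hs
    simp only [Category.assoc] at this
    rw [pullback.diagonal_snd, Category.comp_id] at this
    rw [this]
    exact (pullback.lift_snd _ _ _).symm
  rw [ha, hb]

/-- Universal injectivity descends along a base change which is surjective on points. -/
theorem isUnivInjectiveMor_of_surjective_baseChange {f : F ⟶ G} (hG : IsAlgSpace G)
    {g : H ⟶ G} (hH : IsAlgSpace H) (hg : IsSurjectiveMor g) {P : Sp S} {fst : P ⟶ F}
    {snd : P ⟶ H} (sq : IsPullback fst snd f g) (h : IsUnivInjectiveMor snd) :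
    IsUnivInjectiveMor f := by
  intro W W' hW k a b sqW w₁ w₂ hw
  -- `a : W' ⟶ F`, `b : W' ⟶ W`, `k : W ⟶ G`
  obtain ⟨z, hz⟩ := hg (Points.map k (Points.map b w₁))
  have sqV := IsPullback.of_hasPullback k g
  have hV : IsAlgSpace (pullback k g) := isAlgSpace_pullback hG.diag hW hH sqV
  obtain ⟨v, hv1, hv2⟩ := points_pullback_surjective sqV (Points.map b w₁) z hz.symm
  -- `W'' = W' ×_W V`
  have sqT := IsPullback.of_hasPullback b (pullback.fst k g)
  obtain ⟨t₁, ht₁, ht₁'⟩ := points_pullback_surjective sqT w₁ v hv1.symm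
  obtain ⟨t₂, ht₂, ht₂'⟩ := points_pullback_surjective sqT w₂ v (by rw [← hw, hv1])
  -- the big square: `W'' = F ×_G V`
  have big : IsPullback (pullback.fst b (pullback.fst k g) ≫ a)
      (pullback.snd b (pullback.fst k g)) f (pullback.fst k g ≫ k) := sqT.paste_horiz sqW
  have hw' : (pullback.fst b (pullback.fst k g) ≫ a) ≫ f =
      (pullback.snd b (pullback.fst k g) ≫ pullback.snd k g) ≫ g := by
    rw [Category.assoc _ (pullback.snd k g) g, ← pullback.condition]
    exact big.w
  have left : IsPullback (sq.lift _ _ hw') (pullback.snd b (pullback.fst k g)) snd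
      (pullback.snd k g) := by
    apply IsPullback.of_right (h₁₂ := fst) (h₂₂ := g) _ _ sq
    · rw [sq.lift_fst, ← pullback.condition]; exact big
    · exact sq.lift_snd _ _ _
  have hinj := h hV _ _ _ left
  have : t₁ = t₂ := hinj (ht₁'.trans ht₂'.symm)
  rw [← ht₁, ← ht₂, this]

end Groth.Agent.H5.AlgSp
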