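import Groth.Agent.Lib.Helper5.AlgSp.EtaleMor
import Groth.Agent.Lib.Helper5.AlgSp.OpenSubspace
import Groth.Agent.Lib.Helper5.AlgSp.OpenSub
import Groth.Agent.Lib.Helper5.AlgSp.UnivInj
import Groth.Prelude.Def_AlgSpDec
set_option autoImplicit false
universe u
open CategoryTheory CategoryTheory.Limits AlgebraicGeometry MorphismProperty Topology
namespace Groth.Agent.H5.AlgSp
open _root_.AlgSp Groth.Agent.H5.EtSrc

variable {S : Scheme.{u}} {F G H : Sp S}

/-- A morphism of schemes `g : W ⟶ U` which is open, composed with `h`, has `P`: then so does the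
restriction of `h` to the image of `g`, when `g` is étale. -/
theorem of_etale_range {P : MorphismProperty Scheme.{u}} [IsEtaleLocalSource P]
    {W U V : Scheme.{u}} (g : W ⟶ U) [Etale g] (h : U ⟶ V) (hP : P (g ≫ h)) :
    ∃ N : U.Opens, (N : Set ↥U) = Set.range g ∧ P (N.ι ≫ h) := by
  let N : U.Opens := ⟨Set.range g, g.isOpenMap.isOpen_range⟩
  have hsub : Set.range g ⊆ Set.range N.ι := by
    rw [Scheme.Opens.range_ι]
    exact subset_rfl
  let e : W ⟶ N := IsOpenImmersion.lift N.ι g hsub
  have he : e ≫ N.ι = g := IsOpenImmersion.lift_fac _ _ _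
  have : Etale (e ≫ N.ι) := by rw [he]; infer_instance
  have hee : Etale e := Etale.of_comp e N.ι
  have hes : Surjective e := by
    refine ⟨fun n => ?_⟩
    obtain ⟨w, hw⟩ : N.ι n ∈ Set.range g := n.2
    refine ⟨w, ?_⟩
    apply N.ι.isOpenEmbedding.injective
    rw [← Scheme.Hom.comp_apply, he, hw]
  refine ⟨N, rfl, IsEtaleLocalSource.of_comp e (N.ι ≫ h) hee hes ?_⟩
  rw [← Category.assoc, he]
  exact hP

/-- If `f` has `P` near `x` in some chart diagram through `x`, then in every chart diagram
through `x`. -/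
theorem exists_open_of_hasAtMor {P : MorphismProperty Scheme.{u}} [P.IsStableUnderBaseChange]
    [P.IsStableUnderComposition] [IsEtaleLocalSource P]
    (hP : (@Etale : MorphismProperty Scheme.{u}) ≤ P) {f : F ⟶ G}
    {U V : Over S} (a : (yon S).obj U ⟶ F) (b : (yon S).obj V ⟶ G) (h : U ⟶ V)
    (ha : RepWith @Etale a) (hb : RepWith @Etale b) (comm : a ≫ f = (yon S).map h ≫ b)
    (u : ↥U.left)
    (hx : HasAtMor (fun U _ h u => ∃ W : U.Opens, u ∈ W ∧ P (W.ι ≫ h)) f (Points.ofPt a u)) :
    ∃ N : U.left.Opens, u ∈ N ∧ P (N.ι ≫ h.left) := by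
  obtain ⟨U', V', a', b', h', u', ha', hb', comm', hu', W', hu'W', hPW'⟩ := hx
  -- `R = U' ×_F U`
  have sqU := ha'.rep.isPullback' a
  have hpr : Etale (ha'.rep.snd a).left := ha'.property_snd a
  have hpr' : Etale (ha'.rep.fst' a).left := ha.property a' _ _ sqU.flip
  have h12 : Points.map a' (Points.schemeHomeo U' u') = Points.ofPt a u := by
    rw [← hu', Points.ofPt_eq_map_ofScheme]
    rfl
  obtain ⟨r, hr1, hr2⟩ := exists_point_of_isPullback sqU (Points.schemeHomeo U' u') u h12
  have hr' : (ha'.rep.fst' a).left r = u' := by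
    apply (Points.schemeHomeo U').injective
    rw [← hr2]
    have := ofPt_yon_map_comp (ha'.rep.fst' a) (𝟙 ((yon S).obj U')) r
    rw [Category.comp_id] at this
    rw [this]
    rfl
  -- `V'' = V' ×_G V`
  have sqV := hb'.rep.isPullback' b
  have hq : Etale (hb'.rep.snd b).left := hb'.property_snd b
  have hq' : Etale (hb'.rep.fst' b).left := hb.property b' _ _ sqV.flip
  have hw : (yon S).map (ha'.rep.fst' a ≫ h') ≫ b' = (yon S).map (ha'.rep.snd a ≫ h) ≫ b := by
    rw [Functor.map_comp, Functor.map_comp, Category.assoc, Category.assoc, ← comm', ← comm,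
      ← Category.assoc, ← Category.assoc, sqU.w]
  obtain ⟨k, hk⟩ := (yon S).map_surjective (sqV.lift _ _ hw)
  have hk1 : k ≫ hb'.rep.fst' b = ha'.rep.fst' a ≫ h' :=
    (yon S).map_injective (by rw [Functor.map_comp, hk, sqV.lift_fst])
  have hk2 : k ≫ hb'.rep.snd b = ha'.rep.snd a ≫ h :=
    (yon S).map_injective (by rw [Functor.map_comp, hk, sqV.lift_snd])
  let W'' : (ha'.rep.pullback a).left.Opens := (ha'.rep.fst' a).left ⁻¹ᵁ W'
  have hrW : r ∈ W'' := by
    change (ha'.rep.fst' a).left r ∈ W'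
    rw [hr']
    exact hu'W'
  have h1 : P (W''.ι ≫ (ha'.rep.fst' a).left ≫ h'.left) := by
    have e : W''.ι ≫ (ha'.rep.fst' a).left = ((ha'.rep.fst' a).left ∣_ W') ≫ W'.ι :=
      (morphismRestrict_ι _ _).symm
    rw [← Category.assoc, e, Category.assoc]
    exact P.comp_mem _ _ (hP _ _ _ (inferInstance : Etale ((ha'.rep.fst' a).left ∣_ W'))) hPW'
  have h2 : P ((W''.ι ≫ k.left) ≫ (hb'.rep.fst' b).left) := by
    rw [Category.assoc, ← Over.comp_left, hk1, Over.comp_left]
    exact h1
  have : P.HasOfPostcompProperty @Etale := hasOfPostcompProperty_etale hP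
  have h3 : P (W''.ι ≫ k.left) := P.of_postcomp (W' := @Etale) _ (hb'.rep.fst' b).left hq' h2
  have h4 : P ((W''.ι ≫ k.left) ≫ (hb'.rep.snd b).left) := P.comp_mem _ _ h3 (hP _ _ _ hq)
  have h5 : P ((W''.ι ≫ (ha'.rep.snd a).left) ≫ h.left) := by
    rw [Category.assoc, ← Over.comp_left, ← hk2, Over.comp_left, ← Category.assoc]
    exact h4
  have : Etale (W''.ι ≫ (ha'.rep.snd a).left) := inferInstance
  obtain ⟨N, hN, hPN⟩ := of_etale_range (W''.ι ≫ (ha'.rep.snd a).left) h.left h5
  refine ⟨N, ?_, hPN⟩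
  change u ∈ (N : Set _)
  rw [hN]
  exact ⟨⟨r, hrW⟩, hr1⟩

/-- Induction principle over the seven listed classes, also providing Zariski locality on the
source. -/
theorem seven_classes' (C : MorphismProperty Scheme.{u} → Prop)
    (key : ∀ (Q : MorphismProperty Scheme.{u}) [Q.IsStableUnderComposition]
      [Q.IsStableUnderBaseChange] [Q.IsLocalAtTarget Scheme.fppfPrecoverage]
      [IsEtaleLocalSource Q] [IsZariskiLocalAtSource Q],
      (@Etale : MorphismProperty Scheme.{u}) ≤ Q → C Q)
    (P : MorphismProperty Scheme.{u})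
    (hP : P = @LocallyOfFiniteType ∨ P = @LocallyOfFinitePresentation ∨ P = @Flat ∨ P = @Smooth ∨
      P = @Etale ∨
      (∀ ⦃A B : Scheme.{u}⦄ (g : A ⟶ B), P g ↔ (LocallyQuasiFinite g ∧ LocallyOfFiniteType g)) ∨
      (∀ ⦃A B : Scheme.{u}⦄ (g : A ⟶ B), P g ↔ (LocallyOfFiniteType g ∧ FormallyUnramified g))) :
    C P := by
  rcases hP with rfl | rfl | rfl | rfl | rfl | hP | hP
  · exact key _ (fun _ _ g (hg : Etale g) => (inferInstance : LocallyOfFiniteType g))
  · exact key _ (fun _ _ g (hg : Etale g) => (inferInstance : LocallyOfFinitePresentation g))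
  · exact key _ (fun _ _ g (hg : Etale g) => (inferInstance : Flat g))
  · exact key _ (fun _ _ g (hg : Etale g) => (inferInstance : Smooth g))
  · exact key _ le_rfl
  · have : P = (@LocallyQuasiFinite ⊓ @LocallyOfFiniteType : MorphismProperty Scheme.{u}) := by
      ext A B g
      exact hP g
    subst this
    exact key _ (fun _ _ g (hg : Etale g) =>
      ⟨Groth.Agent.H5.AlgSp.locallyQuasiFinite_of_etale g, (inferInstance : LocallyOfFiniteType g)⟩)
  · have : P = (@LocallyOfFiniteType ⊓ @FormallyUnramified : MorphismProperty Scheme.{u}) := by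
      ext A B g
      exact hP g
    subst this
    exact key _ (fun _ _ g (hg : Etale g) =>
      ⟨(inferInstance : LocallyOfFiniteType g), (inferInstance : FormallyUnramified g)⟩)

section

variable {P : MorphismProperty Scheme.{u}} [P.IsStableUnderBaseChange]
  [P.IsStableUnderComposition] [IsEtaleLocalSource P] [IsZariskiLocalAtSource P]

/-- `LocP P f` holds iff `f` has `P` at every point in the neighbourhood sense. -/
theorem locP_iff_forall_hasAtMor (hP : (@Etale : MorphismProperty Scheme.{u}) ≤ P) {f : F ⟶ G}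
    (hF : IsAlgSpace F) (hG : IsAlgSpace G) :
    LocP P f ↔ ∀ x : Points F,
      HasAtMor (fun U _ h u => ∃ W : U.Opens, u ∈ W ∧ P (W.ι ≫ h)) f x := by
  constructor
  · intro hf x
    obtain ⟨V, b, hbe, hbs⟩ := hG.atlas
    obtain ⟨U, a, h, hae, has, comm⟩ := exists_chart_diagram_surj hF f hbe hbs
    obtain ⟨u, rfl⟩ := ofPt_surjective_of_repWith has x
    refine ⟨U, V, a, b, h, u, hae, hbe, comm, rfl, ⊤, trivial, ?_⟩
    exact P.comp_mem _ _ (hP _ _ _ (inferInstance : Etale (⊤ : U.left.Opens).ι))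
      (hf a b h hae hbe comm)
  · intro hx U V a b h ha hb comm
    choose N hN hPN using fun u : ↥U.left =>
      exists_open_of_hasAtMor hP a b h ha hb comm u (hx (Points.ofPt a u))
    rw [IsZariskiLocalAtSource.iff_of_iSup_eq_top (P := P) N]
    · exact hPN
    · rw [eq_top_iff]
      intro u _
      exact TopologicalSpace.Opens.mem_iSup.2 ⟨u, hN u⟩

omit [IsZariskiLocalAtSource P] in
/-- `f` has `P` at `x` in the neighbourhood sense iff the restriction of `f` to some open subspace
through `x` has `P` étale locally on source and target. -/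
theorem hasAtMor_iff_exists_open (hP : (@Etale : MorphismProperty Scheme.{u}) ≤ P) {f : F ⟶ G}
    (hF : IsAlgSpace F) (hG : IsAlgSpace G) (x : Points F) :
    HasAtMor (fun U _ h u => ∃ W : U.Opens, u ∈ W ∧ P (W.ι ≫ h)) f x ↔
      ∃ (F' : Sp S) (j : F' ⟶ F), IsAlgSpace F' ∧ RepWith @IsOpenImmersion j ∧
        x ∈ Set.range (Points.map j) ∧ LocP P (j ≫ f) := by
  constructor
  · rintro ⟨U, V, a, b, h, u, ha, hb, comm, rfl, W, huW, hPW⟩
    have hT : IsOpen (Points.ofPt a '' (W : Set ↥U.left)) :=
      isOpenMap_ofPt_of_etale ha _ W.2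
    have hj := repWith_openSubι (F := F) hT
    have hF' := isAlgSpace_openSub hF hT
    refine ⟨openSub F _, openSubι F _, hF', hj, ?_, ?_⟩
    · rw [range_points_map_openSubι]
      exact ⟨u, huW, rfl⟩
    · obtain ⟨c, hc⟩ := (factors_openSubι_iff F (Points.ofPt a '' (W : Set ↥U.left))
        ((yon S).map (overOpenι U W) ≫ a)).2 (fun w => by
          rw [ofPt_restrict]
          exact ⟨w.1, w.2, rfl⟩)
      have hιe : RepWith @Etale ((yon S).map (overOpenι U W) ≫ a) := repWith_etale_restrict ha W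
      have hce : RepWith @Etale c := repWith_of_comp_mono (openSubι F _) (by rw [hc]; exact hιe)
      have hinj : Function.Injective (Points.map (openSubι F
          (Points.ofPt a '' (W : Set ↥U.left)))) :=
        injective_points_map_of_repWith (P := @IsOpenImmersion)
          (fun g (hg : IsOpenImmersion g) => g.isOpenEmbedding.injective) hj
      have hcs : RepWith @Surjective c := by
        refine repWith_surjective_of_points hce.rep fun z => ?_
        have hz : Points.map (openSubι F (Points.ofPt a '' (W : Set ↥U.left))) z ∈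
            Set.range (Points.map (openSubι F (Points.ofPt a '' (W : Set ↥U.left)))) := ⟨z, rfl⟩
        rw [range_points_map_openSubι] at hz
        obtain ⟨w, hwW, hw⟩ := hz
        refine ⟨Points.schemeHomeo (overOpen U W) (⟨w, hwW⟩ : ↥W), ?_⟩
        apply hinj
        rw [← Points.map_comp, hc, ← hw]
        have := ofPt_restrict a W ⟨w, hwW⟩
        rw [← this, Points.ofPt_eq_map_ofScheme]
        rfl
      refine locP_of_one_chart hP c b (overOpenι U W ≫ h) hce hcs hb ?_ hPW
      rw [← Category.assoc, hc, Category.assoc, comm, Functor.map_comp, Category.assoc]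
  · rintro ⟨F', j, hF', hj, ⟨x', rfl⟩, hl⟩
    obtain ⟨V, b, hbe, hbs⟩ := hG.atlas
    obtain ⟨U, a, h, hae, has, comm⟩ := exists_chart_diagram_surj hF' (j ≫ f) hbe hbs
    obtain ⟨u, rfl⟩ := ofPt_surjective_of_repWith has x'
    have hje : RepWith @Etale j := repWith_mono (fun _ _ g (hg : IsOpenImmersion g) => (inferInstance : Etale g)) hj
    refine ⟨U, V, a ≫ j, b, h, u, (RepWith @Etale).comp_mem _ _ hae hje, hbe, ?_, ?_, ⊤,
      trivial, ?_⟩
    · rw [Category.assoc, comm]
    · exact (Points.map_ofPt a j u).symm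
    · exact P.comp_mem _ _ (hP _ _ _ (inferInstance : Etale (⊤ : U.left.Opens).ι))
        (hl a b h hae hbe comm)

end

end Groth.Agent.H5.AlgSp
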