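import Mathlib

/-!
# Residue fields of a scheme étale over a field are finite separable
-/

set_option autoImplicit false

universe u

open CategoryTheory CategoryTheory.Limits AlgebraicGeometry Opposite IsLocalRing

namespace Groth.Agent.H5.AlgSp

/-- The residue field of the point of the spectrum of a field is the field. -/
theorem bijective_preimage_fromSpecResidueField {K : Type u} [Field K]
    (y : Spec (CommRingCat.of K)) :
    Function.Bijective
      (Spec.preimage ((Spec (CommRingCat.of K)).fromSpecResidueField y)).hom := by
  have hmax : y.asIdeal.IsMaximal := by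
    have : y.asIdeal = ⊥ := Ideal.eq_bot_of_prime _
    rw [this]
    exact Ideal.bot_isMaximal
  have h1 : Spec.preimage ((Spec (CommRingCat.of K)).fromSpecResidueField y) =
      CommRingCat.ofHom (algebraMap K y.asIdeal.ResidueField) ≫
        (Scheme.Spec.residueFieldIso (CommRingCat.of K) y).inv := by
    apply Spec.map_injective
    rw [Spec.map_preimage, Spec.map_comp]
    exact (Scheme.Spec.map_residueFieldIso_inv_eq_fromSpecResidueField (CommRingCat.of K) y).symm
  rw [h1]
  have h2 : Function.Bijective (algebraMap K y.asIdeal.ResidueField) :=
    ⟨(algebraMap K y.asIdeal.ResidueField).injective,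
      Ideal.algebraMap_residueField_surjective y.asIdeal⟩
  have h3 : Function.Bijective
      (Scheme.Spec.residueFieldIso (CommRingCat.of K) y).inv.hom :=
    ConcreteCategory.bijective_of_isIso _
  exact h3.comp h2

/-- A point of a scheme formally unramified and locally of finite type over a field has a
residue field finite over the field. -/
theorem finite_residueField_of_formallyUnramified {X Y : Scheme.{u}} (f : X ⟶ Y)
    [FormallyUnramified f] [LocallyOfFiniteType f] (x : X) :
    letI : Algebra (Y.residueField (f x)) (X.residueField x) :=
      (f.residueFieldMap x).hom.toAlgebra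
    Module.Finite (Y.residueField (f x)) (X.residueField x) := by
  algebraize [(f.stalkMap x).hom]
  have : IsLocalHom (algebraMap (Y.presheaf.stalk (f x)) (X.presheaf.stalk x)) :=
    inferInstanceAs <| IsLocalHom (f.stalkMap x).hom
  suffices h : Module.Finite
      (IsLocalRing.ResidueField (Y.presheaf.stalk (f x)))
      (IsLocalRing.ResidueField (X.presheaf.stalk x)) by
    have e : (f.residueFieldMap x).hom.toAlgebra =
        (inferInstance : Algebra (IsLocalRing.ResidueField (Y.presheaf.stalk (f x)))
          (IsLocalRing.ResidueField (X.presheaf.stalk x))) := by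
      refine Algebra.algebra_ext _ _ fun x ↦ ?_
      obtain ⟨x, rfl⟩ := IsLocalRing.residue_surjective x
      rfl
    rw [e]
    exact h
  have : Algebra.EssFiniteType (Y.presheaf.stalk (f x)) (X.presheaf.stalk x) := by
    rw [← RingHom.essFiniteType_algebraMap, RingHom.algebraMap_toAlgebra]
    exact LocallyOfFiniteType.stalkMap f x
  have : Algebra.FormallyUnramified (Y.presheaf.stalk (f x)) (X.presheaf.stalk x) := by
    rw [← RingHom.formallyUnramified_algebraMap, RingHom.algebraMap_toAlgebra]
    exact FormallyUnramified.stalkMap f x
  infer_instance

/-- **Residue fields of a scheme étale over a field.**  If `g : E ⟶ Spec K` is formally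
unramified and locally of finite type, then the residue field of any point `e` of `E` is a
finite separable extension of `K`. -/
theorem finite_isSeparable_residueField_over_field {K : Type u} [Field K] {E : Scheme.{u}}
    (g : E ⟶ Spec (CommRingCat.of K)) [FormallyUnramified g] [LocallyOfFiniteType g] (e : E) :
    letI : Algebra K (E.residueField e) :=
      (Spec.preimage (E.fromSpecResidueField e ≫ g)).hom.toAlgebra
    Module.Finite K (E.residueField e) ∧ Algebra.IsSeparable K (E.residueField e) := by
  let alg0 : Algebra K (E.residueField e) :=
    (Spec.preimage (E.fromSpecResidueField e ≫ g)).hom.toAlgebra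
  let alg1 : Algebra ((Spec (CommRingCat.of K)).residueField (g e)) (E.residueField e) :=
    (g.residueFieldMap e).hom.toAlgebra
  have hfin : Module.Finite ((Spec (CommRingCat.of K)).residueField (g e)) (E.residueField e) :=
    finite_residueField_of_formallyUnramified g e
  have hsep : Algebra.IsSeparable ((Spec (CommRingCat.of K)).residueField (g e))
      (E.residueField e) := inferInstance
  let θ : K ≃+* (Spec (CommRingCat.of K)).residueField (g e) :=
    RingEquiv.ofBijective _ (bijective_preimage_fromSpecResidueField (g e))
  have hθ : Spec.preimage (E.fromSpecResidueField e ≫ g) =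
      Spec.preimage ((Spec (CommRingCat.of K)).fromSpecResidueField (g e)) ≫
        g.residueFieldMap e := by
    apply Spec.map_injective
    rw [Spec.map_preimage, Spec.map_comp, Spec.map_preimage,
      Scheme.Hom.SpecMap_residueFieldMap_fromSpecResidueField]
  have he : RingHom.comp (algebraMap K (E.residueField e)) (θ.symm : _ →+* K) =
      RingHom.comp ((RingEquiv.refl (E.residueField e) : _ →+* _))
        (algebraMap ((Spec (CommRingCat.of K)).residueField (g e)) (E.residueField e)) := by
    ext z
    obtain ⟨k, rfl⟩ := θ.surjective z
    simp only [RingHom.coe_comp, RingHom.coe_coe, Function.comp_apply, RingEquiv.symm_apply_apply,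
      RingEquiv.refl_apply]
    change (Spec.preimage (E.fromSpecResidueField e ≫ g)).hom k =
      (g.residueFieldMap e).hom (θ k)
    rw [hθ]
    rfl
  exact ⟨Module.Finite.of_equiv_equiv θ.symm (RingEquiv.refl _) he,
    Algebra.IsSeparable.of_equiv_equiv θ.symm (RingEquiv.refl _) he⟩

end Groth.Agent.H5.AlgSp
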