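import Groth.Prelude.Def_AlgSp3
import Groth.Agent.Lib.Helper5.AlgSp.DiagPres
import Groth.Agent.Lib.Helper5.AlgSp.DiagProp
import Groth.Agent.Lib.Helper5.AlgSp.Mono
import Mathlib

/-!
# The diagonal of an algebraic space and relative diagonals
-/

set_option autoImplicit false

universe u

open CategoryTheory CategoryTheory.Limits AlgebraicGeometry Opposite Topology

namespace Groth.Agent.H5.AlgSp

open _root_.AlgSp

variable {S : Scheme.{u}} {F G H : Sp S}

lemma prodLift_left_comp_iso {U V R : Over S} (t : R ⟶ U) (s : R ⟶ V) :
    (prod.lift t s).left ≫ (Over.prodLeftIsoPullback U V).hom =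
      pullback.lift t.left s.left (by rw [Over.w t, Over.w s]) := by
  apply pullback.hom_ext
  · rw [Category.assoc, Over.prodLeftIsoPullback_hom_fst, pullback.lift_fst, ← Over.comp_left,
      prod.lift_fst]
  · rw [Category.assoc, Over.prodLeftIsoPullback_hom_snd, pullback.lift_snd, ← Over.comp_left,
      prod.lift_snd]

/-- `R = U ×_F U ⟶ U ×_S U` is a monomorphism (product in `Over S` version). -/
lemma mono_prodLift_left {U R : Over S} {a : (yon S).obj U ⟶ F} {s t : R ⟶ U}
    (sq : IsPullback ((yon S).map t) ((yon S).map s) a a) : Mono (prod.lift t s).left := by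
  have h1 := mono_pullback_lift_of_isPullback sq
  have h2 : (prod.lift t s).left =
      pullback.lift t.left s.left (by rw [Over.w t, Over.w s]) ≫
        (Over.prodLeftIsoPullback U U).inv := by
    rw [← prodLift_left_comp_iso, Category.assoc, Iso.hom_inv_id, Category.comp_id]
  rw [h2]
  infer_instance

/-- The diagonal of an algebraic space is locally of finite type, a monomorphism and separated. -/
theorem repWith_diag_of_isAlgSpace (hF : IsAlgSpace F) :
    RepWith @LocallyOfFiniteType (Limits.diag F) ∧
    RepWith (MorphismProperty.monomorphisms Scheme.{u}) (Limits.diag F) ∧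
    RepWith @IsSeparated (Limits.diag F) := by
  obtain ⟨U, p, hp, hs⟩ := hF.atlas
  have : Sheaf.IsLocallySurjective p := isLocallySurjective_of_etale_surjective p hp hs
  have sq := hp.rep.isPullback' p
  have hm := mono_prodLift_left sq
  have ht : Etale (hp.rep.fst' p).left := hp.property p _ _ sq.flip
  have hlft : LocallyOfFiniteType (prod.lift (hp.rep.fst' p) (hp.rep.snd p)).left := by
    have h2 : (prod.lift (hp.rep.fst' p) (hp.rep.snd p)).left ≫ (prod.fst : U ⨯ U ⟶ U).left =
        (hp.rep.fst' p).left := by
      rw [← Over.comp_left, prod.lift_fst]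
    have h3 : LocallyOfFiniteType ((prod.lift (hp.rep.fst' p) (hp.rep.snd p)).left ≫
        (prod.fst : U ⨯ U ⟶ U).left) := by
      rw [h2]; infer_instance
    exact locallyOfFiniteType_of_comp _ (prod.fst : U ⨯ U ⟶ U).left
  refine ⟨?_, ?_, ?_⟩
  · exact (repWith_diag_iff_of_chart hF.diag sq @LocallyOfFiniteType).2 hlft
  · exact (repWith_diag_iff_of_chart hF.diag sq (MorphismProperty.monomorphisms Scheme.{u})).2 hm
  · exact (repWith_diag_iff_of_chart hF.diag sq @IsSeparated).2 inferInstance

/-- The relative diagonal of `f` is a base change of the absolute diagonal of its source. -/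
theorem isPullback_relDiag (f : F ⟶ G) :
    IsPullback (𝟙 F) (pullback.diagonal f) (Limits.diag F)
      (prod.lift (pullback.fst f f) (pullback.snd f f)) := by
  have : Mono (prod.lift (pullback.fst f f) (pullback.snd f f)) := by
    refine ⟨fun {Z} a b h => ?_⟩
    apply pullback.hom_ext
    · have := congrArg (· ≫ prod.fst) h
      simp only [Category.assoc] at this
      rwa [prod.lift_fst] at this
    · have := congrArg (· ≫ prod.snd) h
      simp only [Category.assoc] at this
      rwa [prod.lift_snd] at this
  apply isPullback_of_mono_comp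
  apply Limits.prod.hom_ext
  · rw [Category.assoc, prod.lift_fst, pullback.diagonal_fst, prod.lift_fst]
  · rw [Category.assoc, prod.lift_snd, pullback.diagonal_snd, prod.lift_snd]

theorem repWith_relDiag_of_diag {P : MorphismProperty Scheme.{u}} (f : F ⟶ G)
    (h : RepWith P (Limits.diag F)) : RepWith P (pullback.diagonal f) :=
  MorphismProperty.of_isPullback (P := RepWith P) (isPullback_relDiag f) h

/-- mono + locally of finite type ⇒ locally quasi-finite, in the representable sense -/
theorem repWith_lqf_of_mono_lft {f : F ⟶ G}
    (h1 : RepWith (MorphismProperty.monomorphisms Scheme.{u}) f)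
    (h2 : RepWith @LocallyOfFiniteType f) :
    RepWith (@LocallyQuasiFinite ⊓ @LocallyOfFiniteType) f := by
  refine ⟨h1.rep, fun T V g fst snd sq => ?_⟩
  have hm : Mono snd.left := h1.property g fst snd sq
  have hl : LocallyOfFiniteType snd.left := h2.property g fst snd sq
  have hq : LocallyQuasiFinite snd.left := inferInstance
  exact ⟨hq, hl⟩

/-- The relative diagonal of a morphism from an algebraic space. -/
theorem repWith_relDiag_of_isAlgSpace (hF : IsAlgSpace F) (f : F ⟶ G) :
    Representable (pullback.diagonal f) ∧
    RepWith @LocallyOfFiniteType (pullback.diagonal f) ∧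
    RepWith (MorphismProperty.monomorphisms Scheme.{u}) (pullback.diagonal f) ∧
    RepWith @IsSeparated (pullback.diagonal f) ∧
    RepWith (@LocallyQuasiFinite ⊓ @LocallyOfFiniteType) (pullback.diagonal f) := by
  obtain ⟨h1, h2, h3⟩ := repWith_diag_of_isAlgSpace hF
  have h1' := repWith_relDiag_of_diag f h1
  have h2' := repWith_relDiag_of_diag f h2
  exact ⟨h1'.rep, h1', h2', repWith_relDiag_of_diag f h3, repWith_lqf_of_mono_lft h2' h1'⟩

end Groth.Agent.H5.AlgSp
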