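import Groth.Prelude.Def_AlgSp3
import Groth.Agent.Lib.Helper5.AlgSp.AffineBase
import Groth.Agent.Lib.Helper5.AlgSp.DiagProp
import Groth.Agent.Lib.Helper5.AlgSp.DiagPres
import Groth.Agent.Lib.Helper5.AlgSp.RepDiag
import Mathlib

/-!
# Separation properties of morphisms of sheaves: base change and sections
-/

set_option autoImplicit false

universe u

open CategoryTheory CategoryTheory.Limits AlgebraicGeometry Opposite Topology

namespace Groth.Agent.H5.AlgSp

open _root_.AlgSp

variable {S : Scheme.{u}} {F G H : Sp S}

/-- The equalizer of two maps `a b : T ⟶ F` over `G`, computed as the pullback of the relative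
diagonal, is also the pullback of the two induced sections of the base change `F ×_G T ⟶ T`. -/
lemma isPullback_sections {C : Type*} [Category C] [HasPullbacks C] {F G T V : C} (f : F ⟶ G)
    (a b : T ⟶ F) (hab : a ≫ f = b ≫ f) {v : V ⟶ F} {e : V ⟶ T}
    (sq : IsPullback v e (pullback.diagonal f) (pullback.lift a b hab))
    {Pb : C} {p₁ : Pb ⟶ F} {p₂ : Pb ⟶ T} (sqP : IsPullback p₁ p₂ f (a ≫ f)) :
    IsPullback e e (sqP.lift a (𝟙 T) (by simp)) (sqP.lift b (𝟙 T) (by simp [hab])) := by
  have hva : v = e ≫ a := by
    have := congrArg (· ≫ pullback.fst f f) sq.w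
    simp only [Category.assoc] at this
    rwa [pullback.diagonal_fst, Category.comp_id, pullback.lift_fst] at this
  have hvb : v = e ≫ b := by
    have := congrArg (· ≫ pullback.snd f f) sq.w
    simp only [Category.assoc] at this
    rwa [pullback.diagonal_snd, Category.comp_id, pullback.lift_snd] at this
  have w : e ≫ sqP.lift a (𝟙 T) (by simp) = e ≫ sqP.lift b (𝟙 T) (by simp [hab]) := by
    apply sqP.hom_ext
    · rw [Category.assoc, Category.assoc, sqP.lift_fst, sqP.lift_fst, ← hva, ← hvb]
    · rw [Category.assoc, Category.assoc, sqP.lift_snd, sqP.lift_snd]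
  refine ⟨⟨w⟩, ⟨PullbackCone.IsLimit.mk _ (fun s => sq.lift (s.fst ≫ a) s.fst ?_) ?_ ?_ ?_⟩⟩
  · have h1 : s.fst = s.snd := by
      have := congrArg (· ≫ p₂) s.condition
      simpa using this
    have h2 : s.fst ≫ a = s.fst ≫ b := by
      have := congrArg (· ≫ p₁) s.condition
      simp only [Category.assoc, sqP.lift_fst] at this
      rw [this, h1]
    apply pullback.hom_ext
    · simp only [Category.assoc]
      rw [pullback.diagonal_fst, Category.comp_id, pullback.lift_fst]
    · simp only [Category.assoc]
      rw [pullback.diagonal_snd, Category.comp_id, pullback.lift_snd, h2]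
  · intro s
    exact sq.lift_snd _ _ _
  · intro s
    have h1 : s.fst = s.snd := by
      have := congrArg (· ≫ p₂) s.condition
      simpa using this
    rw [sq.lift_snd, h1]
  · intro s m h1 _
    apply sq.hom_ext
    · rw [sq.lift_fst, hva]
      have := congrArg (· ≫ a) h1
      simpa using this
    · rw [sq.lift_snd, h1]

/-- A section of a morphism with `P`-diagonal has `P`. -/
theorem repWith_section_of_diag {P : MorphismProperty Scheme.{u}} {f : F ⟶ G} {s : G ⟶ F}
    (hs : s ≫ f = 𝟙 G) (h : RepWith P (pullback.diagonal f)) : RepWith P s := by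
  have sq := pullback_lift_diagonal_isPullback s f
  have hiso : IsIso (pullback.snd (s ≫ f) f) := by
    have : IsIso (s ≫ f) := by rw [hs]; infer_instance
    infer_instance
  have hfac : s = pullback.lift (𝟙 G) s (by simp) ≫ pullback.snd (s ≫ f) f := by
    rw [pullback.lift_snd]
  rw [hfac]
  exact MorphismProperty.RespectsIso.postcomp _ _ _
    (MorphismProperty.of_isPullback (P := RepWith P) sq h)

/-- Diagonal-type properties are stable under base change. -/
theorem repWith_diag_of_isPullback {P : MorphismProperty Scheme.{u}} {F' G' : Sp S} {f : F ⟶ G}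
    {g : G' ⟶ G} {fst : F' ⟶ F} {snd : F' ⟶ G'} (sq : IsPullback fst snd f g)
    (h : RepWith P (pullback.diagonal f)) : RepWith P (pullback.diagonal snd) :=
  MorphismProperty.of_isPullback (P := (RepWith (S := S) P).diagonal) sq h

/-- A diagonal-type property can be checked after base change to affine schemes. -/
theorem repWith_diag_of_forall_affine {f : F ⟶ G} (hrep : Representable (pullback.diagonal f))
    (P : MorphismProperty Scheme.{u}) [P.IsStableUnderBaseChange] [IsZariskiLocalAtTarget P]
    (h : ∀ (Z : Over S), IsAffine Z.left → ∀ (g : (yon S).obj Z ⟶ G),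
      RepWith P (pullback.diagonal (pullback.snd f g))) :
    RepWith P (pullback.diagonal f) := by
  apply repWith_of_forall_affine hrep P
  intro T V ξ fst' snd' hT sq
  obtain ⟨a, ha⟩ : ∃ a, a = ξ ≫ pullback.fst f f := ⟨_, rfl⟩
  obtain ⟨b, hb⟩ : ∃ b, b = ξ ≫ pullback.snd f f := ⟨_, rfl⟩
  have hab : a ≫ f = b ≫ f := by rw [ha, hb, Category.assoc, Category.assoc, pullback.condition]
  have hξ : ξ = pullback.lift a b hab := by
    apply pullback.hom_ext
    · rw [pullback.lift_fst, ha]
    · rw [pullback.lift_snd, hb]
  rw [hξ] at sq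
  have sqP := IsPullback.of_hasPullback f (a ≫ f)
  have hd := h T hT (a ≫ f)
  have hsec : RepWith P (sqP.lift a (𝟙 _) (by simp)) :=
    repWith_section_of_diag (sqP.lift_snd _ _ _) hd
  exact hsec.property _ _ _ (isPullback_sections f a b hab sq sqP)

/-- The relative diagonal of a base change is the base change of the relative diagonal. -/
lemma isPullback_diag_baseChange {C : Type*} [Category C] [HasPullbacks C] {X X' Y Y' : C}
    {f : X ⟶ Y} {g : Y' ⟶ Y} {fst : X' ⟶ X} {snd : X' ⟶ Y'} (sq : IsPullback fst snd f g) :
    IsPullback fst (pullback.diagonal snd) (pullback.diagonal f)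
      (pullback.map snd snd f f fst fst g sq.w.symm sq.w.symm) := by
  refine ⟨⟨?_⟩, ⟨PullbackCone.IsLimit.mk _ (fun s => s.snd ≫ pullback.fst snd snd) ?_ ?_ ?_⟩⟩
  · apply pullback.hom_ext
    · simp only [Category.assoc]
      rw [pullback.diagonal_fst, pullback.lift_fst, ← Category.assoc, pullback.diagonal_fst,
        Category.comp_id, Category.id_comp]
    · simp only [Category.assoc]
      rw [pullback.diagonal_snd, pullback.lift_snd, ← Category.assoc, pullback.diagonal_snd,
        Category.comp_id, Category.id_comp]
  · intro s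
    have := congrArg (· ≫ pullback.fst f f) s.condition
    simp only [Category.assoc] at this
    rw [pullback.diagonal_fst, Category.comp_id, pullback.lift_fst] at this
    rw [Category.assoc]
    exact this.symm
  · intro s
    have h1 := congrArg (· ≫ pullback.fst f f) s.condition
    have h2 := congrArg (· ≫ pullback.snd f f) s.condition
    simp only [Category.assoc] at h1 h2
    rw [pullback.diagonal_fst, Category.comp_id, pullback.lift_fst] at h1
    rw [pullback.diagonal_snd, Category.comp_id, pullback.lift_snd] at h2
    have h3 : s.snd ≫ pullback.fst snd snd = s.snd ≫ pullback.snd snd snd := by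
      apply sq.hom_ext
      · rw [Category.assoc, Category.assoc, ← h1, ← h2]
      · rw [Category.assoc, Category.assoc, pullback.condition]
    apply pullback.hom_ext
    · rw [Category.assoc, pullback.diagonal_fst, Category.comp_id]
    · rw [Category.assoc, pullback.diagonal_snd, Category.comp_id, h3]
  · intro s m _ h2
    rw [← h2, Category.assoc, pullback.diagonal_fst, Category.comp_id]

/-- Local surjectivity is stable under base change. -/
theorem isLocallySurjective_of_isPullback {F' G' : Sp S} {f : F ⟶ G} {g : G' ⟶ G} {fst : F' ⟶ F}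
    {snd : F' ⟶ G'} (sq : IsPullback fst snd f g) [Sheaf.IsLocallySurjective f] :
    Sheaf.IsLocallySurjective snd := by
  apply isLocallySurjective_of_liftSieve
  intro T σ
  refine (J S).superset_covering ?_ (liftSieve_mem f (σ ≫ g))
  rintro T' t ⟨τ, hτ⟩
  refine ⟨sq.lift τ ((yon S).map t ≫ σ) (by rw [hτ, Category.assoc]), sq.lift_snd _ _ _⟩

/-- The induced map on self-fibre-products `X' ×_{Y'} X' ⟶ X ×_Y X` of a base change along a
locally surjective map is locally surjective. -/
theorem isLocallySurjective_pullbackMap {F' G' : Sp S} {f : F ⟶ G} {g : G' ⟶ G} {fst : F' ⟶ F}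
    {snd : F' ⟶ G'} (sq : IsPullback fst snd f g) [Sheaf.IsLocallySurjective g] :
    Sheaf.IsLocallySurjective (pullback.map snd snd f f fst fst g sq.w.symm sq.w.symm) := by
  apply isLocallySurjective_of_liftSieve
  intro T σ
  refine (J S).superset_covering ?_ (liftSieve_mem g (σ ≫ pullback.fst f f ≫ f))
  rintro T' t ⟨τ, hτ⟩
  have h1 : ((yon S).map t ≫ σ ≫ pullback.fst f f) ≫ f = τ ≫ g := by
    rw [hτ]; simp only [Category.assoc]
  have h2 : ((yon S).map t ≫ σ ≫ pullback.snd f f) ≫ f = τ ≫ g := by
    rw [hτ]; simp only [Category.assoc]; rw [pullback.condition]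
  refine ⟨pullback.lift (sq.lift _ _ h1) (sq.lift _ _ h2)
    (by rw [sq.lift_snd, sq.lift_snd]), ?_⟩
  apply pullback.hom_ext
  · simp only [Category.assoc]
    rw [pullback.lift_fst, ← Category.assoc, pullback.lift_fst, sq.lift_fst]
  · simp only [Category.assoc]
    rw [pullback.lift_snd, ← Category.assoc, pullback.lift_snd, sq.lift_fst]

/-- Diagonal-type properties (fppf local on the target) descend along locally surjective
base change. -/
theorem repWith_diag_of_locallySurjective_baseChange {F' G' : Sp S} {f : F ⟶ G} {g : G' ⟶ G}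
    {fst : F' ⟶ F} {snd : F' ⟶ G'} (sq : IsPullback fst snd f g) [Sheaf.IsLocallySurjective g]
    (hrep : Representable (pullback.diagonal f)) (P : MorphismProperty Scheme.{u})
    [P.IsStableUnderBaseChange] [P.IsLocalAtTarget Scheme.fppfPrecoverage]
    (h : RepWith P (pullback.diagonal snd)) : RepWith P (pullback.diagonal f) := by
  have := isLocallySurjective_pullbackMap sq
  exact repWith_of_locallySurjective_baseChange (pullback.diagonal f) hrep
    (pullback.map snd snd f f fst fst g sq.w.symm sq.w.symm) fst (pullback.diagonal snd)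
    (isPullback_diag_baseChange sq) P h

/-- For a representable morphism, `Q.diagonal` in the representable sense gives `Q` for the
diagonal. -/
theorem repWith_diag_of_repWith_diagonal {Q : MorphismProperty Scheme.{u}}
    [Q.IsStableUnderBaseChange] {f : F ⟶ G} (hf : RepWith Q.diagonal f) :
    RepWith Q (pullback.diagonal f) := by
  refine ⟨relativelyRepresentable_diagonal (yon S) f hf.rep, fun T V ξ fst' snd' sq => ?_⟩
  obtain ⟨a, ha⟩ : ∃ a, a = ξ ≫ pullback.fst f f := ⟨_, rfl⟩
  obtain ⟨b, hb⟩ : ∃ b, b = ξ ≫ pullback.snd f f := ⟨_, rfl⟩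
  have hab : a ≫ f = b ≫ f := by rw [ha, hb, Category.assoc, Category.assoc, pullback.condition]
  have hξ : ξ = pullback.lift a b hab := by
    apply pullback.hom_ext
    · rw [pullback.lift_fst, ha]
    · rw [pullback.lift_snd, hb]
  rw [hξ] at sq
  have sqP := hf.rep.isPullback (a ≫ f)
  have hQ : Q (pullback.diagonal (hf.rep.snd (a ≫ f)).left) := hf.property _ _ _ sqP
  have hd : RepWith Q (pullback.diagonal ((yon S).map (hf.rep.snd (a ≫ f)))) :=
    (repWith_diagonal_yon_map_iff Q _).2 hQ
  have hsec : RepWith Q (sqP.lift a (𝟙 _) (by simp)) :=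
    repWith_section_of_diag (sqP.lift_snd _ _ _) hd
  exact hsec.property _ _ _ (isPullback_sections f a b hab sq sqP)

theorem isSeparatedMor_iff_repWith {f : F ⟶ G} (hf : Representable f) :
    IsSeparatedMor f ↔ RepWith @IsSeparated f := by
  constructor
  · exact repWith_isSeparated_of_isSeparatedMor hf
  · intro h
    rw [IsSeparated.isSeparated_eq_diagonal_isClosedImmersion] at h
    exact repWith_diag_of_repWith_diagonal h

theorem isQuasiSeparatedMor_iff_repWith {f : F ⟶ G} (hf : Representable f) :
    IsQuasiSeparatedMor f ↔ RepWith @QuasiSeparated f := by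
  constructor
  · exact repWith_quasiSeparated_of_isQuasiSeparatedMor hf
  · intro h
    rw [quasiSeparated_eq_diagonal_is_quasiCompact] at h
    exact repWith_diag_of_repWith_diagonal h

end Groth.Agent.H5.AlgSp
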