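import Groth.Prelude.Def_AlgSp4
import Groth.Agent.Lib.Helper5.AlgSp.QCompact
import Groth.Agent.Lib.Helper5.AlgSp.RelDiag
import Groth.Agent.Lib.Helper5.AlgSp.SepMor
import Mathlib

/-!
# Products of sheaves, quasi-compactness and quasi-separatedness
-/

set_option autoImplicit false

universe u

open CategoryTheory CategoryTheory.Limits AlgebraicGeometry Opposite Topology

namespace Groth.Agent.H5.AlgSp

open _root_.AlgSp

section General

variable {C : Type*} [Category C]

lemma isPullback_prod_snd_with_id {A B : C} (g : A ⟶ B) (X : C) [HasBinaryProduct X A]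
    [HasBinaryProduct X B] :
    IsPullback prod.snd (prod.map (𝟙 X) g) g prod.snd := by
  refine IsPullback.mk' (by rw [prod.map_snd]) ?_ ?_
  · intro T φ φ' h1 h2
    apply Limits.prod.hom_ext
    · have := congrArg (· ≫ prod.fst) h2
      simp only [Category.assoc] at this
      rwa [prod.map_fst, Category.comp_id] at this
    · exact h1
  · intro T a b hab
    refine ⟨prod.lift (b ≫ prod.fst) a, by rw [prod.lift_snd], ?_⟩
    apply Limits.prod.hom_ext
    · rw [Category.assoc, prod.map_fst, Category.comp_id, prod.lift_fst]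
    · rw [Category.assoc, prod.map_snd, ← Category.assoc, prod.lift_snd, hab]

/-- The fibre product `X ×_Y Z` is the base change of the diagonal of `Y` along `f × h`. -/
theorem isPullback_diag_prod_map [HasBinaryProducts C] {P X Y Z : C} {a : P ⟶ X} {b : P ⟶ Z}
    {f : X ⟶ Y} {h : Z ⟶ Y} (sq : IsPullback a b f h) :
    IsPullback (a ≫ f) (prod.lift a b) (Limits.diag Y) (prod.map f h) := by
  refine IsPullback.mk' ?_ ?_ ?_
  · apply Limits.prod.hom_ext
    · simp only [Category.assoc]
      rw [prod.map_fst, ← Category.assoc (prod.lift a b), prod.lift_fst]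
      erw [prod.lift_fst]
      rw [Category.comp_id]
    · simp only [Category.assoc]
      rw [prod.map_snd, ← Category.assoc (prod.lift a b), prod.lift_snd]
      erw [prod.lift_snd]
      rw [Category.comp_id, sq.w]
  · intro T φ φ' _ h2
    apply sq.hom_ext
    · have := congrArg (· ≫ prod.fst) h2
      simp only [Category.assoc] at this
      rwa [prod.lift_fst] at this
    · have := congrArg (· ≫ prod.snd) h2
      simp only [Category.assoc] at this
      rwa [prod.lift_snd] at this
  · intro T s t hst
    have h1 : s = (t ≫ prod.fst) ≫ f := by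
      have := congrArg (· ≫ prod.fst) hst
      simp only [Category.assoc] at this
      rw [prod.map_fst] at this
      erw [prod.lift_fst] at this
      rwa [Category.comp_id, ← Category.assoc] at this
    have h2 : s = (t ≫ prod.snd) ≫ h := by
      have := congrArg (· ≫ prod.snd) hst
      simp only [Category.assoc] at this
      rw [prod.map_snd] at this
      erw [prod.lift_snd] at this
      rwa [Category.comp_id, ← Category.assoc] at this
    refine ⟨sq.lift (t ≫ prod.fst) (t ≫ prod.snd) (by rw [← h1, ← h2]), ?_, ?_⟩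
    · rw [← Category.assoc, sq.lift_fst, ← h1]
    · apply Limits.prod.hom_ext
      · rw [Category.assoc, prod.lift_fst, sq.lift_fst]
      · rw [Category.assoc, prod.lift_snd, sq.lift_snd]

lemma diag_eq_relDiag_comp [HasBinaryProducts C] [HasPullbacks C] {P X : C} (f : P ⟶ X) :
    Limits.diag P = pullback.diagonal f ≫ prod.lift (pullback.fst f f) (pullback.snd f f) := by
  apply Limits.prod.hom_ext
  · rw [Category.assoc, prod.lift_fst, prod.lift_fst, pullback.diagonal_fst]
  · rw [Category.assoc, prod.lift_snd, prod.lift_snd, pullback.diagonal_snd]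

end General

variable {S : Scheme.{u}} {F G H : Sp S}

theorem repWith_prod_map {P : MorphismProperty Scheme.{u}} [P.IsStableUnderBaseChange]
    [P.IsMultiplicative] {F F' G G' : Sp S} {f : F ⟶ F'} {g : G ⟶ G'} (hf : RepWith P f)
    (hg : RepWith P g) : RepWith P (prod.map f g) := by
  have h1 : RepWith P (prod.map f (𝟙 G)) :=
    MorphismProperty.of_isPullback (P := RepWith P) (IsPullback.of_prod_fst_with_id f G) hf
  have h2 : RepWith P (prod.map (𝟙 F') g) :=
    MorphismProperty.of_isPullback (P := RepWith P) (isPullback_prod_snd_with_id g F') hg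
  have : prod.map f g = prod.map f (𝟙 G) ≫ prod.map (𝟙 F') g := by simp
  rw [this]
  exact MorphismProperty.comp_mem _ _ _ h1 h2

/-- The product chart `h_{U × V} ⟶ X ⨯ Z`. -/
theorem repWith_prodComparison_comp_prod_map {P : MorphismProperty Scheme.{u}}
    [P.IsStableUnderBaseChange] [P.IsMultiplicative] {X Z : Sp S} {U V : Over S}
    {a : (yon S).obj U ⟶ X} {c : (yon S).obj V ⟶ Z} (ha : RepWith P a) (hc : RepWith P c) :
    RepWith P (prodComparison (yon S) U V ≫ prod.map a c) := by
  have : P.RespectsIso := MorphismProperty.IsStableUnderBaseChange.respectsIso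
  exact (MorphismProperty.cancel_left_of_respectsIso (RepWith P) _ _).2 (repWith_prod_map ha hc)

theorem compactSpace_prod_left [QuasiSeparatedSpace ↥S] (U V : Over S) [CompactSpace ↥U.left]
    [CompactSpace ↥V.left] : CompactSpace ↥(U ⨯ V).left := by
  have : QuasiCompact V.hom := inferInstance
  have : CompactSpace ↥(pullback U.hom V.hom) := inferInstance
  exact (Over.prodLeftIsoPullback U V).inv.homeomorph.compactSpace

theorem isQuasiCompactSp_prod [QuasiSeparatedSpace ↥S] {X Z : Sp S} (hX : IsQuasiCompactSp X)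
    (hZ : IsQuasiCompactSp Z) : IsQuasiCompactSp (X ⨯ Z) := by
  obtain ⟨U, a, hae, has, hU⟩ := hX
  obtain ⟨V, c, hce, hcs, hV⟩ := hZ
  have : CompactSpace ↥U.left := hU
  have : CompactSpace ↥V.left := hV
  exact ⟨U ⨯ V, prodComparison (yon S) U V ≫ prod.map a c,
    repWith_prodComparison_comp_prod_map hae hce, repWith_prodComparison_comp_prod_map has hcs,
    compactSpace_prod_left U V⟩

/-- Over a quasi-separated base, a morphism from a quasi-compact sheaf to a quasi-separated
one is quasi-compact. -/
theorem isQuasiCompactMor_of_isQuasiCompactSp [QuasiSeparatedSpace ↥S] {X Y : Sp S}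
    (hX : IsQuasiCompactSp X) (hY : IsQuasiSeparatedSp Y) (f : X ⟶ Y) : IsQuasiCompactMor f := by
  intro Z Z' _ hZc h a b sq
  exact isQuasiCompactSp_of_isPullback_repWith hY (isQuasiCompactSp_prod hX hZc)
    (isPullback_diag_prod_map sq)

/-- The source of a quasi-separated morphism to a quasi-separated sheaf is quasi-separated. -/
theorem isQuasiSeparatedSp_of_isQuasiSeparatedMor {P X : Sp S} {f : P ⟶ X}
    (hf : IsQuasiSeparatedMor f) (hX : IsQuasiSeparatedSp X) : IsQuasiSeparatedSp P := by
  change RepWith @QuasiCompact (Limits.diag P)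
  rw [diag_eq_relDiag_comp f]
  refine MorphismProperty.comp_mem _ _ _ hf ?_
  exact MorphismProperty.of_isPullback (P := RepWith @QuasiCompact)
    (isPullback_diag_prod_map (IsPullback.of_hasPullback f f)) hX

theorem isQuasiCompactMor_of_isPullback {F' G' : Sp S} {f : F ⟶ G} {g : G' ⟶ G} {fst : F' ⟶ F}
    {snd : F' ⟶ G'} (sq : IsPullback fst snd f g) (hf : IsQuasiCompactMor f) :
    IsQuasiCompactMor snd := by
  intro Z Z' hZ hZc h a b sqZ
  exact hf hZ hZc (h ≫ g) (a ≫ fst) b (sqZ.paste_horiz sq)

theorem isQuasiCompactMor_comp {f : F ⟶ G} {g : G ⟶ H} (hG : IsAlgSpace G) (hH : IsAlgSpace H)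
    (hf : IsQuasiCompactMor f) (hg : IsQuasiCompactMor g) : IsQuasiCompactMor (f ≫ g) := by
  intro Z Z' hZ hZc h a b sqZ
  have sqG := IsPullback.of_hasPullback g h
  have hP : IsAlgSpace (pullback g h) := isAlgSpace_pullback hH.diag hG hZ sqG
  have hPc : IsQuasiCompactSp (pullback g h) := hg hZ hZc h _ _ sqG
  have hw : (a ≫ f) ≫ g = b ≫ h := by rw [Category.assoc]; exact sqZ.w
  have top : IsPullback a (sqG.lift (a ≫ f) b hw) f (pullback.fst g h) := by
    apply IsPullback.of_bot _ _ sqG
    · rw [sqG.lift_snd]; exact sqZ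
    · exact (sqG.lift_fst _ _ _).symm
  exact hf hP hPc _ _ _ top

theorem isQuasiCompactMor_of_comp_of_isQuasiSeparatedMor {X Y Z : Sp S} (hX : IsAlgSpace X)
    (hY : IsAlgSpace Y) (hZ : IsAlgSpace Z) {f : X ⟶ Y} {g : Y ⟶ Z}
    (hgf : IsQuasiCompactMor (f ≫ g)) (hg : IsQuasiSeparatedMor g) : IsQuasiCompactMor f := by
  have hP : IsAlgSpace (pullback (f ≫ g) g) :=
    isAlgSpace_pullback hZ.diag hX hY (IsPullback.of_hasPullback _ _)
  have hfac : f = pullback.lift (𝟙 X) f (by simp) ≫ pullback.snd (f ≫ g) g := by
    rw [pullback.lift_snd]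
  rw [hfac]
  apply isQuasiCompactMor_comp hP hY
  · exact isQuasiCompactMor_of_repWith (MorphismProperty.of_isPullback (P := RepWith _)
      (pullback_lift_diagonal_isPullback f g) hg)
  · exact isQuasiCompactMor_of_isPullback (IsPullback.of_hasPullback (f ≫ g) g) hgf

end Groth.Agent.H5.AlgSp
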