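import Groth.Prelude.Def_AlgSp4
import Groth.Agent.Lib.Helper5.AlgSp.UnivClosed
import Groth.Agent.Lib.Helper5.AlgSp.ProdSp
import Mathlib

/-!
# Universally closed morphisms II: composition, images, separation of the target
-/

set_option autoImplicit false

universe u

open CategoryTheory CategoryTheory.Limits AlgebraicGeometry Opposite Topology

namespace Groth.Agent.H5.AlgSp

open _root_.AlgSp

section General

variable {C : Type*} [Category C] [HasPullbacks C]

/-- `X ×_B W ⟶ Y ×_B W` is a base change of `f : X ⟶ Y`. -/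
lemma isPullback_map_fst {X Y B W : C} (f : X ⟶ Y) (q : Y ⟶ B) (r : W ⟶ B) :
    IsPullback (pullback.fst (f ≫ q) r)
      (pullback.map (f ≫ q) r q r f (𝟙 W) (𝟙 B) (by simp) (by simp)) f (pullback.fst q r) := by
  refine IsPullback.of_bot ?_ ?_ (IsPullback.of_hasPullback q r)
  · have : pullback.map (f ≫ q) r q r f (𝟙 W) (𝟙 B) (by simp) (by simp) ≫ pullback.snd q r =
        pullback.snd (f ≫ q) r := by
      rw [pullback.lift_snd, Category.comp_id]
    rw [this]
    exact IsPullback.of_hasPullback (f ≫ q) r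
  · rw [pullback.lift_fst]

/-- `W ×_B X ⟶ W ×_B Y` is a base change of `f : X ⟶ Y`. -/
lemma isPullback_map_snd {X Y B W : C} (f : X ⟶ Y) (q : Y ⟶ B) (r : W ⟶ B) :
    IsPullback (pullback.snd r (f ≫ q))
      (pullback.map r (f ≫ q) r q (𝟙 W) f (𝟙 B) (by simp) (by simp)) f (pullback.snd r q) := by
  refine IsPullback.of_bot ?_ ?_ (IsPullback.of_hasPullback r q).flip
  · have : pullback.map r (f ≫ q) r q (𝟙 W) f (𝟙 B) (by simp) (by simp) ≫ pullback.fst r q =
        pullback.fst r (f ≫ q) := by
      rw [pullback.lift_fst, Category.comp_id]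
    rw [this]
    exact (IsPullback.of_hasPullback r (f ≫ q)).flip
  · rw [pullback.lift_snd]

lemma diagonal_comp_map_map {X Y B : C} (f : X ⟶ Y) (q : Y ⟶ B) :
    pullback.diagonal (f ≫ q) ≫
      pullback.map (f ≫ q) (f ≫ q) q (f ≫ q) f (𝟙 X) (𝟙 B) (by simp) (by simp) ≫
      pullback.map q (f ≫ q) q q (𝟙 Y) f (𝟙 B) (by simp) (by simp) = f ≫ pullback.diagonal q := by
  apply pullback.hom_ext
  · simp only [Category.assoc]
    rw [pullback.lift_fst, Category.comp_id (pullback.fst q (f ≫ q)), pullback.lift_fst,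
      pullback.diagonal_fst, Category.comp_id f, ← Category.assoc, pullback.diagonal_fst,
      Category.id_comp]
  · simp only [Category.assoc]
    rw [pullback.lift_snd, pullback.diagonal_snd, Category.comp_id f,
      ← Category.assoc (pullback.map (f ≫ q) (f ≫ q) q (f ≫ q) f (𝟙 X) (𝟙 B) (by simp) (by simp)),
      pullback.lift_snd, Category.comp_id (pullback.snd (f ≫ q) (f ≫ q)), ← Category.assoc,
      pullback.diagonal_snd, Category.id_comp]

end General

variable {S : Scheme.{u}} {F G H : Sp S}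

theorem univSp_comp {Q : MorphismProperty (Sp S)}
    (hQ : ∀ {A B C : Sp S} (a : A ⟶ B) (b : B ⟶ C), Q a → Q b → Q (a ≫ b))
    {f : F ⟶ G} {g : G ⟶ H} (hG : IsAlgSpace G) (hH : IsAlgSpace H)
    (hf : UnivSp Q f) (hg : UnivSp Q g) : UnivSp Q (f ≫ g) := by
  intro Z Z' hZ h a b sqZ
  have sqG := IsPullback.of_hasPullback g h
  have hP : IsAlgSpace (pullback g h) := isAlgSpace_pullback hH.diag hG hZ sqG
  have hw : (a ≫ f) ≫ g = b ≫ h := by rw [Category.assoc]; exact sqZ.w
  have top : IsPullback a (sqG.lift (a ≫ f) b hw) f (pullback.fst g h) := by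
    apply IsPullback.of_bot _ _ sqG
    · rw [sqG.lift_snd]; exact sqZ
    · exact (sqG.lift_fst _ _ _).symm
  have h1 := hf hP _ _ _ top
  have h2 := hg hZ h _ _ sqG
  have := hQ _ _ h1 h2
  rwa [sqG.lift_snd] at this

theorem isUnivClosedMor_comp {f : F ⟶ G} {g : G ⟶ H} (hG : IsAlgSpace G) (hH : IsAlgSpace H)
    (hf : IsUnivClosedMor f) (hg : IsUnivClosedMor g) : IsUnivClosedMor (f ≫ g) :=
  univSp_comp (Q := IsClosedMor) (fun a b ha hb => by
    change IsClosedMap (Points.map (a ≫ b))
    have : Points.map (a ≫ b) = Points.map b ∘ Points.map a := funext (Points.map_comp a b)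
    rw [this]
    exact IsClosedMap.comp hb ha) hG hH hf hg

lemma isClosedMap_points_of_comp_surjective {a : H ⟶ F} {f : F ⟶ G}
    (ha : Function.Surjective (Points.map a)) (h : IsClosedMap (Points.map (a ≫ f))) :
    IsClosedMap (Points.map f) := by
  intro W hW
  have : Points.map f '' W = Points.map (a ≫ f) '' (Points.map a ⁻¹' W) := by
    ext y
    constructor
    · rintro ⟨x, hx, rfl⟩
      obtain ⟨z, rfl⟩ := ha x
      exact ⟨z, hx, Points.map_comp a f z⟩
    · rintro ⟨z, hz, rfl⟩
      exact ⟨Points.map a z, hz, (Points.map_comp a f z).symm⟩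
  rw [this]
  exact h _ (hW.preimage (Points.continuous_map a))

theorem isUnivClosedMor_of_comp_surjective {f : F ⟶ G} {g : G ⟶ H} (hf : IsSurjectiveMor f)
    (h : IsUnivClosedMor (f ≫ g)) : IsUnivClosedMor g := by
  intro Z Z' hZ k a b sqZ
  have sqW := IsPullback.of_hasPullback f a
  have big : IsPullback (pullback.fst f a) (pullback.snd f a ≫ b) (f ≫ g) k := sqW.paste_vert sqZ
  have h1 : IsClosedMap (Points.map (pullback.snd f a ≫ b)) := h hZ k _ _ big
  exact isClosedMap_points_of_comp_surjective (isSurjectiveMor_of_isPullback sqW hf) h1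

theorem repWith_inf {P Q : MorphismProperty Scheme.{u}} {f : F ⟶ G} (hP : RepWith P f)
    (hQ : RepWith Q f) : RepWith (P ⊓ Q) f :=
  ⟨hP.rep, fun _ _ g fst snd sq => ⟨hP.property g fst snd sq, hQ.property g fst snd sq⟩⟩

/-- A representable monomorphism which is locally of finite type, separated and universally closed
is a closed immersion. -/
theorem repWith_isClosedImmersion_of_univClosed {f : F ⟶ G}
    (h1 : RepWith @LocallyOfFiniteType f) (h2 : RepWith (MorphismProperty.monomorphisms Scheme.{u}) f)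
    (h3 : RepWith @IsSeparated f) (h4 : RepWith @UniversallyClosed f) :
    RepWith @IsClosedImmersion f := by
  refine ⟨h1.rep, fun _ _ g fst snd sq => ?_⟩
  have a1 : LocallyOfFiniteType snd.left := h1.property g fst snd sq
  have a2 : Mono snd.left := h2.property g fst snd sq
  have a3 : IsSeparated snd.left := h3.property g fst snd sq
  have a4 : UniversallyClosed snd.left := h4.property g fst snd sq
  have : IsProper snd.left := {}
  exact (IsClosedImmersion.iff_isProper_and_mono _).2 ⟨this, a2⟩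

/-- The two-step factorisation of `f ×_B f` is universally closed when `f` is. -/
theorem isUnivClosedMor_map_map {X Y B : Sp S} (hX : IsAlgSpace X) (hY : IsAlgSpace Y)
    (hB : IsAlgSpace B) {f : X ⟶ Y} (q : Y ⟶ B) (hf : IsUnivClosedMor f) :
    IsUnivClosedMor (pullback.map (f ≫ q) (f ≫ q) q (f ≫ q) f (𝟙 X) (𝟙 B) (by simp) (by simp) ≫
      pullback.map q (f ≫ q) q q (𝟙 Y) f (𝟙 B) (by simp) (by simp)) := by
  apply isUnivClosedMor_comp
  · exact isAlgSpace_pullback hB.diag hY hX (IsPullback.of_hasPullback _ _)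
  · exact isAlgSpace_pullback hB.diag hY hY (IsPullback.of_hasPullback _ _)
  · exact univSp_of_isPullback (isPullback_map_fst f q (f ≫ q)) hf
  · exact univSp_of_isPullback (isPullback_map_snd f q q) hf

theorem isSeparatedMor_of_surjective_univClosed {X Y B : Sp S} (hX : IsAlgSpace X)
    (hY : IsAlgSpace Y) (hB : IsAlgSpace B) {f : X ⟶ Y} {q : Y ⟶ B} (hs : IsSurjectiveMor f)
    (hc : IsUnivClosedMor f) (hp : IsSeparatedMor (f ≫ q)) : IsSeparatedMor q := by
  obtain ⟨hrep, h1, h2, h3, -⟩ := repWith_relDiag_of_isAlgSpace hY q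
  have hXX : IsAlgSpace (pullback (f ≫ q) (f ≫ q)) :=
    isAlgSpace_pullback hB.diag hX hX (IsPullback.of_hasPullback _ _)
  have hYY : IsAlgSpace (pullback q q) :=
    isAlgSpace_pullback hB.diag hY hY (IsPullback.of_hasPullback _ _)
  have hΔp : IsUnivClosedMor (pullback.diagonal (f ≫ q)) :=
    isUnivClosedMor_of_repWith (repWith_mono (fun _ _ g hg => by
      have : IsClosedImmersion g := hg
      exact (inferInstance : UniversallyClosed g)) hp)
  have hcomp := isUnivClosedMor_comp hXX hYY hΔp (isUnivClosedMor_map_map hX hY hB q hc)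
  rw [diagonal_comp_map_map] at hcomp
  have hΔq : IsUnivClosedMor (pullback.diagonal q) := isUnivClosedMor_of_comp_surjective hs hcomp
  exact repWith_isClosedImmersion_of_univClosed h1 h2 h3
    ((repWith_universallyClosed_iff hrep).2 hΔq)

theorem isQuasiSeparatedMor_of_surjective_univClosed {X Y B : Sp S} (hX : IsAlgSpace X)
    (hY : IsAlgSpace Y) (hB : IsAlgSpace B) {f : X ⟶ Y} {q : Y ⟶ B} (hs : IsSurjectiveMor f)
    (hc : IsUnivClosedMor f) (hp : IsQuasiSeparatedMor (f ≫ q)) : IsQuasiSeparatedMor q := by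
  obtain ⟨hrep, -⟩ := repWith_relDiag_of_isAlgSpace hY q
  have hXX : IsAlgSpace (pullback (f ≫ q) (f ≫ q)) :=
    isAlgSpace_pullback hB.diag hX hX (IsPullback.of_hasPullback _ _)
  have hYY : IsAlgSpace (pullback q q) :=
    isAlgSpace_pullback hB.diag hY hY (IsPullback.of_hasPullback _ _)
  have hΔp : IsQuasiCompactMor (pullback.diagonal (f ≫ q)) := isQuasiCompactMor_of_repWith hp
  have hm : IsQuasiCompactMor
      (pullback.map (f ≫ q) (f ≫ q) q (f ≫ q) f (𝟙 X) (𝟙 B) (by simp) (by simp) ≫
      pullback.map q (f ≫ q) q q (𝟙 Y) f (𝟙 B) (by simp) (by simp)) :=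
    isQuasiCompactMor_of_isUnivClosedMor hXX hYY (isUnivClosedMor_map_map hX hY hB q hc)
  have hcomp := isQuasiCompactMor_comp hXX hYY hΔp hm
  rw [diagonal_comp_map_map] at hcomp
  have hΔq : IsQuasiCompactMor (pullback.diagonal q) :=
    isQuasiCompactMor_of_comp_surjective hY hYY hs hcomp
  exact repWith_quasiCompact_of_isQuasiCompactMor hrep hΔq

end Groth.Agent.H5.AlgSp
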