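import Groth.Prelude.Def_AlgSp4
import Groth.Agent.Lib.Helper5.AlgSp.UnivClosed2
import Groth.Agent.Lib.Helper5.AlgSp.ImmersionTop
import Mathlib

/-!
# Permanence properties and closed immersions of algebraic spaces
-/

set_option autoImplicit false

universe u

open CategoryTheory CategoryTheory.Limits AlgebraicGeometry Opposite Topology

namespace Groth.Agent.H5.AlgSp

open _root_.AlgSp

variable {S : Scheme.{u}} {F G H : Sp S}

/-- Cancellation: if `a ≫ b` is representable with `P` and the diagonal of `b` is, so is `a`. -/
theorem repWith_of_comp_of_diag {P : MorphismProperty Scheme.{u}} [P.IsStableUnderBaseChange]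
    [P.IsMultiplicative] {a : F ⟶ G} {b : G ⟶ H} (hab : RepWith P (a ≫ b))
    (hb : RepWith P (pullback.diagonal b)) : RepWith P a := by
  have : (RepWith (S := S) P).HasOfPostcompProperty (RepWith (S := S) P).diagonal :=
    MorphismProperty.hasOfPostcompProperty_iff_le_diagonal.mpr le_rfl
  exact MorphismProperty.of_postcomp (W := RepWith (S := S) P)
    (W' := (RepWith (S := S) P).diagonal) a b hb hab

theorem isClosedImmersion_le_quasiCompact :
    (@IsClosedImmersion : MorphismProperty Scheme.{u}) ≤ @QuasiCompact := fun _ _ f hf => by
  have : IsClosedImmersion f := hf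
  exact (inferInstance : QuasiCompact f)

theorem isClosedImmersion_le_isSeparated :
    (@IsClosedImmersion : MorphismProperty Scheme.{u}) ≤ @IsSeparated := fun _ _ f hf => by
  have : IsClosedImmersion f := hf
  exact (inferInstance : IsSeparated f)

theorem isClosedImmersion_le_isImmersion :
    (@IsClosedImmersion : MorphismProperty Scheme.{u}) ≤ @IsImmersion := fun _ _ f hf => by
  have : IsClosedImmersion f := hf
  exact (inferInstance : IsImmersion f)

theorem isQuasiCompactMor_of_isClosedImmersion {f : F ⟶ G} (hf : RepWith @IsClosedImmersion f) :
    IsQuasiCompactMor f :=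
  isQuasiCompactMor_of_repWith (repWith_mono isClosedImmersion_le_quasiCompact hf)

theorem isSeparatedMor_of_isClosedImmersion {f : F ⟶ G} (hf : RepWith @IsClosedImmersion f) :
    IsSeparatedMor f :=
  (isSeparatedMor_iff_repWith hf.rep).2 (repWith_mono isClosedImmersion_le_isSeparated hf)

/-- An immersion is a closed immersion iff its image on points is closed. -/
theorem repWith_isClosedImmersion_iff_isClosed_range {i : F ⟶ G} (hi : RepWith @IsImmersion i) :
    RepWith @IsClosedImmersion i ↔ IsClosed (Set.range (Points.map i)) := by
  constructor
  · intro h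
    rw [← Set.image_univ]
    exact isClosedMap_points_map_of_repWith (P := @IsClosedImmersion)
      (fun φ hφ => by
        have : IsClosedImmersion φ := hφ
        exact φ.isClosedEmbedding.isClosedMap) h _ isClosed_univ
  · intro h
    refine ⟨hi.rep, fun T V g fst snd sq => ?_⟩
    have himm : IsImmersion snd.left := hi.property g fst snd sq
    have hr : IsClosed (Set.range snd.left) := by
      rw [← preimage_range_points_map i sq]
      exact h.preimage (Points.continuous_ofPt g)
    exact IsClosedImmersion.of_isPreimmersion snd.left hr

end Groth.Agent.H5.AlgSp
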