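import Groth.Prelude.Def_AlgSp4
import Groth.Agent.Lib.Helper5.AlgSp.Permanence
import Groth.Agent.Lib.Helper5.AlgSp.FppfLocal
import Groth.Agent.Lib.Helper5.AlgSp.LocalBase
import Mathlib

/-!
# Properties étale local on source and target: basic results
-/

set_option autoImplicit false

universe u

open CategoryTheory CategoryTheory.Limits AlgebraicGeometry Opposite Topology

namespace Groth.Agent.H5.AlgSp

open _root_.AlgSp

variable {S : Scheme.{u}} {F G H : Sp S}

lemma etale_le_diagonal_etale :
    (@Etale : MorphismProperty Scheme.{u}) ≤
      MorphismProperty.diagonal (@Etale : MorphismProperty Scheme.{u}) :=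
  MorphismProperty.hasOfPostcompProperty_iff_le_diagonal.mp inferInstance

/-- Étale cancellation for morphisms of sheaves. -/
theorem repWith_etale_of_comp {a : F ⟶ G} {b : G ⟶ H} (hab : RepWith @Etale (a ≫ b))
    (hb : RepWith @Etale b) : RepWith @Etale a :=
  repWith_of_comp_of_diag hab
    (repWith_diag_of_repWith_diagonal (repWith_mono etale_le_diagonal_etale hb))

/-- A chart diagram of a representable morphism factors through the base change. -/
theorem exists_factor_of_chart {f : F ⟶ G} (hf : Representable f) {U V : Over S}
    {a : (yon S).obj U ⟶ F} {b : (yon S).obj V ⟶ G} {h : U ⟶ V} (ha : RepWith @Etale a)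
    (hb : RepWith @Etale b) (comm : a ≫ f = (yon S).map h ≫ b) :
    ∃ c : U ⟶ hf.pullback b, c ≫ hf.snd b = h ∧ Etale c.left := by
  have sq := hf.isPullback b
  obtain ⟨c, hc⟩ := (yon S).map_surjective (sq.lift a ((yon S).map h) comm)
  have h1 : (yon S).map c ≫ hf.fst b = a := by rw [hc, sq.lift_fst]
  have h2 : (yon S).map c ≫ (yon S).map (hf.snd b) = (yon S).map h := by rw [hc, sq.lift_snd]
  refine ⟨c, (yon S).map_injective (by rw [Functor.map_comp, h2]), ?_⟩
  have hfst : RepWith @Etale (hf.fst b) :=
    MorphismProperty.of_isPullback (P := RepWith @Etale) sq.flip hb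
  have : RepWith @Etale ((yon S).map c) := repWith_etale_of_comp (by rw [h1]; exact ha) hfst
  exact (repWith_yon_map_iff @Etale c).1 this

/-- A property containing étale morphisms and stable under composition holds étale locally on
source and target for morphisms having it in the representable sense. -/
theorem locP_of_repWith {P : MorphismProperty Scheme.{u}} [P.IsStableUnderComposition]
    (hP : (@Etale : MorphismProperty Scheme.{u}) ≤ P) {f : F ⟶ G} (hf : RepWith P f) :
    LocP P f := by
  intro U V a b h ha hb comm
  obtain ⟨c, hc, hce⟩ := exists_factor_of_chart hf.rep ha hb comm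
  have h1 : P c.left := hP _ _ c.left hce
  have h2 : P (hf.rep.snd b).left := hf.property_snd b
  have : h.left = c.left ≫ (hf.rep.snd b).left := by rw [← Over.comp_left, hc]
  rw [this]
  exact P.comp_mem _ _ h1 h2

/-- Conversely, for a representable morphism of algebraic spaces, a property which is fppf local
on the target and stable under base change holds in the representable sense as soon as it holds
étale locally on source and target. -/
theorem repWith_of_locP {P : MorphismProperty Scheme.{u}} [P.IsStableUnderBaseChange]
    [P.IsLocalAtTarget Scheme.fppfPrecoverage] {f : F ⟶ G} (hG : IsAlgSpace G)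
    (hf : Representable f) (h : LocP P f) : RepWith P f := by
  obtain ⟨V, b, hbe, hbs⟩ := hG.atlas
  have : Sheaf.IsLocallySurjective b := isLocallySurjective_of_etale_surjective b hbe hbs
  have sq := hf.isPullback b
  have hfst : RepWith @Etale (hf.fst b) :=
    MorphismProperty.of_isPullback (P := RepWith @Etale) sq.flip hbe
  have hP : P (hf.snd b).left := h (hf.fst b) b (hf.snd b) hfst hbe sq.w
  exact repWith_of_locallySurjective_baseChange f hf b (hf.fst b) ((yon S).map (hf.snd b)) sq P
    ((repWith_yon_map_iff P _).2 hP)

end Groth.Agent.H5.AlgSp
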