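import Groth.Prelude.Def_AlgSp4
import Groth.Agent.Lib.Helper5.AlgSp.LocPBasic
import Groth.Agent.Lib.Helper5.AlgSp.UnivTop
import Mathlib

/-!
# Chart diagrams and consequences
-/

set_option autoImplicit false

universe u

open CategoryTheory CategoryTheory.Limits AlgebraicGeometry Opposite Topology

namespace Groth.Agent.H5.AlgSp

open _root_.AlgSp

variable {S : Scheme.{u}} {F G H : Sp S}

/-- Over a chart of the target there is a chart diagram whose source chart is an étale
surjective chart of the fibre product. -/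
theorem exists_chart_diagram (hF : IsAlgSpace F) (f : F ⟶ G) {V : Over S}
    {b : (yon S).obj V ⟶ G} (hb : RepWith @Etale b) :
    ∃ (U : Over S) (a : (yon S).obj U ⟶ F) (h : U ⟶ V) (c : (yon S).obj U ⟶ pullback f b),
      RepWith @Etale a ∧ a ≫ f = (yon S).map h ≫ b ∧ RepWith @Etale c ∧ RepWith @Surjective c ∧
        c ≫ pullback.fst f b = a ∧ c ≫ pullback.snd f b = (yon S).map h := by
  obtain ⟨U₀, a₀, ha₀e, ha₀s⟩ := hF.atlas
  have sq := hb.rep.isPullback (a₀ ≫ f)
  obtain ⟨h, hh⟩ := (yon S).map_surjective (hb.rep.fst (a₀ ≫ f))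
  have hsnd : RepWith @Etale ((yon S).map (hb.rep.snd (a₀ ≫ f))) :=
    MorphismProperty.of_isPullback (P := RepWith @Etale) sq hb
  have hae : RepWith @Etale ((yon S).map (hb.rep.snd (a₀ ≫ f)) ≫ a₀) :=
    (RepWith @Etale).comp_mem _ _ hsnd ha₀e
  have comm : ((yon S).map (hb.rep.snd (a₀ ≫ f)) ≫ a₀) ≫ f = (yon S).map h ≫ b := by
    rw [hh, Category.assoc]
    exact sq.w.symm
  have sqP := IsPullback.of_hasPullback f b
  -- the left square
  have left : IsPullback (sqP.lift _ _ comm) ((yon S).map (hb.rep.snd (a₀ ≫ f)))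
      (pullback.fst f b) a₀ := by
    apply IsPullback.of_right (h₁₂ := pullback.snd f b) (h₂₂ := f) _ _ sqP.flip
    · rw [sqP.lift_snd, hh]
      exact sq
    · exact sqP.lift_fst _ _ _
  refine ⟨_, _, h, sqP.lift _ _ comm, hae, comm, ?_, ?_, sqP.lift_fst _ _ _, sqP.lift_snd _ _ _⟩
  · exact MorphismProperty.of_isPullback (P := RepWith @Etale) left.flip ha₀e
  · exact MorphismProperty.of_isPullback (P := RepWith @Surjective) left.flip ha₀s

/-- The source of a morphism locally of finite type to a locally Noetherian space is locally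
Noetherian. -/
theorem isLocNoethSp_of_locP_lft {f : F ⟶ G} (hF : IsAlgSpace F)
    (hf : LocP @LocallyOfFiniteType f) (hG : IsLocNoethSp G) : IsLocNoethSp F := by
  obtain ⟨V, b, hbe, hbs, hV⟩ := hG
  obtain ⟨U, a, h, c, hae, comm, hce, hcs, hca, hch⟩ := exists_chart_diagram hF f hbe
  have : LocallyOfFiniteType h.left := hf a b h hae hbe comm
  have : IsLocallyNoetherian V.left := hV
  refine ⟨U, a, hae, ?_, LocallyOfFiniteType.isLocallyNoetherian h.left⟩
  rw [← hca]
  exact (RepWith @Surjective).comp_mem _ _ hcs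
    (MorphismProperty.of_isPullback (P := RepWith @Surjective)
      (IsPullback.of_hasPullback f b).flip hbs)

/-- Flat and locally of finite presentation implies universally open. -/
theorem isUnivOpenMor_of_locP_flat_lfp {f : F ⟶ G} (hF : IsAlgSpace F) (hG : IsAlgSpace G)
    (hfl : LocP @Flat f) (hfp : LocP @LocallyOfFinitePresentation f) : IsUnivOpenMor f := by
  obtain ⟨V, b, hbe, hbs⟩ := hG.atlas
  obtain ⟨U, a, h, c, hae, comm, hce, hcs, hca, hch⟩ := exists_chart_diagram hF f hbe
  have h1 : Flat h.left := hfl a b h hae hbe comm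
  have h2 : LocallyOfFinitePresentation h.left := hfp a b h hae hbe comm
  have h3 : UniversallyOpen h.left := inferInstance
  have h4 : IsUnivOpenMor ((yon S).map h) :=
    (repWith_universallyOpen_iff (representable_yon_map h)).1 ((repWith_yon_map_iff _ h).2 h3)
  rw [← hch] at h4
  have h5 : IsUnivOpenMor (pullback.snd f b) := univSp_isOpenMor_of_comp_surjective hcs h4
  exact univSp_of_baseChange (Q := IsOpenMor)
    (fun sq hq h => isOpenMap_of_isPullback_of_isQuotientMap sq hq h) hG (IsAlgSpace.yon_obj V)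
    hbe hbs (IsPullback.of_hasPullback f b) h5

end Groth.Agent.H5.AlgSp
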