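import Groth.Prelude.Def_AlgSp4
import Groth.Agent.Lib.Helper5.AlgSp.LocPMore
import Groth.Agent.Lib.Helper5.EtSrc.Smooth
import Mathlib

/-!
# Calculus of properties étale local on source and target (`AlgSp.LocP`)
-/

set_option autoImplicit false

universe u

open CategoryTheory CategoryTheory.Limits AlgebraicGeometry Opposite Topology

namespace Groth.Agent.H5.AlgSp

open _root_.AlgSp Groth.Agent.H5.EtSrc

variable {S : Scheme.{u}} {F G H : Sp S}

/-- Cancellation of étale morphisms on the right. -/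
lemma hasOfPostcompProperty_etale {P : MorphismProperty Scheme.{u}} [P.IsStableUnderBaseChange]
    [P.IsStableUnderComposition] (hP : (@Etale : MorphismProperty Scheme.{u}) ≤ P) :
    P.HasOfPostcompProperty @Etale := by
  have : P.ContainsIdentities := ⟨fun X => hP _ _ _ (inferInstance : Etale (𝟙 X))⟩
  have : P.IsMultiplicative := {}
  rw [MorphismProperty.hasOfPostcompProperty_iff_le_diagonal]
  intro X Y f hf
  exact hP _ _ _ (etale_le_diagonal_etale _ _ f hf)

/-- If one chart diagram with surjective étale source chart has top arrow in `P`, then every chart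
diagram does. -/
theorem locP_of_one_chart {P : MorphismProperty Scheme.{u}} [P.IsStableUnderBaseChange]
    [P.IsStableUnderComposition] [IsEtaleLocalSource P]
    (hP : (@Etale : MorphismProperty Scheme.{u}) ≤ P) {f : F ⟶ G} {U V : Over S}
    (a : (yon S).obj U ⟶ F) (b : (yon S).obj V ⟶ G) (h : U ⟶ V) (ha : RepWith @Etale a)
    (has : RepWith @Surjective a) (hb : RepWith @Etale b)
    (comm : a ≫ f = (yon S).map h ≫ b) (hh : P h.left) : LocP P f := by
  intro U' V' a' b' h' ha' hb' comm'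
  have := hasOfPostcompProperty_etale hP
  -- `W = U ×_F U'`
  have sqW := ha.rep.isPullback a'
  have hp₂e : Etale (ha.rep.snd a').left := ha.property_snd a'
  have hp₂s : Surjective (ha.rep.snd a').left := has.property_snd a'
  obtain ⟨p₁, hp₁⟩ := (yon S).map_surjective (ha.rep.fst a')
  have hp₁e : Etale p₁.left := by
    have : RepWith @Etale ((yon S).map p₁) := by
      rw [hp₁]
      exact MorphismProperty.of_isPullback (P := RepWith @Etale) sqW.flip ha'
    exact (repWith_yon_map_iff @Etale p₁).1 this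
  -- `V'' = V ×_G V'`
  have sqV := hb.rep.isPullback b'
  have hq₂e : Etale (hb.rep.snd b').left := hb.property_snd b'
  obtain ⟨q₁, hq₁⟩ := (yon S).map_surjective (hb.rep.fst b')
  have hq₁e : Etale q₁.left := by
    have : RepWith @Etale ((yon S).map q₁) := by
      rw [hq₁]
      exact MorphismProperty.of_isPullback (P := RepWith @Etale) sqV.flip hb'
    exact (repWith_yon_map_iff @Etale q₁).1 this
  -- the map `W ⟶ V''`
  have hw : (yon S).map (p₁ ≫ h) ≫ b = (yon S).map (ha.rep.snd a' ≫ h') ≫ b' := by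
    rw [Functor.map_comp, Functor.map_comp, Category.assoc, Category.assoc, ← comm, ← comm',
      hp₁, ← Category.assoc, sqW.w, Category.assoc]
  obtain ⟨k, hk⟩ := (yon S).map_surjective (sqV.lift _ _ hw)
  have hk₁ : k ≫ q₁ = p₁ ≫ h := by
    apply (yon S).map_injective
    rw [Functor.map_comp, hk, hq₁, sqV.lift_fst]
  have hk₂ : k ≫ hb.rep.snd b' = ha.rep.snd a' ≫ h' := by
    apply (yon S).map_injective
    rw [Functor.map_comp, hk, sqV.lift_snd]
  -- `P (p₁ ≫ h)`
  have h1 : P (p₁ ≫ h).left := by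
    rw [Over.comp_left]
    exact P.comp_mem _ _ (hP _ _ _ hp₁e) hh
  -- cancel `q₁`
  have h2 : P k.left := by
    rw [← hk₁, Over.comp_left] at h1
    exact P.of_postcomp (W' := @Etale) k.left q₁.left hq₁e h1
  -- compose with `q₂`
  have h3 : P (k ≫ hb.rep.snd b').left := by
    rw [Over.comp_left]
    exact P.comp_mem _ _ h2 (hP _ _ _ hq₂e)
  rw [hk₂, Over.comp_left] at h3
  exact IsEtaleLocalSource.of_comp _ _ hp₂e hp₂s h3

/-- Chart diagram over a surjective étale chart of the target, with surjective source chart. -/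
theorem exists_chart_diagram_surj (hF : IsAlgSpace F) (f : F ⟶ G) {V : Over S}
    {b : (yon S).obj V ⟶ G} (hb : RepWith @Etale b) (hbs : RepWith @Surjective b) :
    ∃ (U : Over S) (a : (yon S).obj U ⟶ F) (h : U ⟶ V),
      RepWith @Etale a ∧ RepWith @Surjective a ∧ a ≫ f = (yon S).map h ≫ b := by
  obtain ⟨U, a, h, c, hae, comm, hce, hcs, hca, hch⟩ := exists_chart_diagram hF f hb
  refine ⟨U, a, h, hae, ?_, comm⟩
  rw [← hca]
  exact (RepWith @Surjective).comp_mem _ _ hcs
    (MorphismProperty.of_isPullback (P := RepWith @Surjective)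
      (IsPullback.of_hasPullback f b).flip hbs)

section Good

variable {P : MorphismProperty Scheme.{u}} [P.IsStableUnderBaseChange]
  [P.IsStableUnderComposition] [IsEtaleLocalSource P]

/-- For a morphism of schemes, `LocP P` is `P`. -/
theorem locP_yon_map_iff (hP : (@Etale : MorphismProperty Scheme.{u}) ≤ P) {U V : Over S}
    (g : U ⟶ V) : LocP P ((yon S).map g) ↔ P g.left := by
  refine ⟨locP_yon_map, fun h => ?_⟩
  exact locP_of_one_chart hP (𝟙 _) (𝟙 _) g (repWith_id _ U) (repWith_id _ U) (repWith_id _ V)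
    (by simp) h

/-- `LocP P` is stable under étale base change (no assumption on `P`). -/
theorem locP_of_isPullback_etale {Q : MorphismProperty Scheme.{u}} {F' G' : Sp S} {f : F ⟶ G}
    {g : G' ⟶ G} {fst : F' ⟶ F} {f' : F' ⟶ G'} (sq : IsPullback fst f' f g)
    (hg : RepWith @Etale g) (hf : LocP Q f) : LocP Q f' := by
  intro U V a b h ha hb comm
  have hfst : RepWith @Etale fst := MorphismProperty.of_isPullback (P := RepWith @Etale) sq.flip hg
  refine hf (a ≫ fst) (b ≫ g) h ((RepWith @Etale).comp_mem _ _ ha hfst)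
    ((RepWith @Etale).comp_mem _ _ hb hg) ?_
  rw [Category.assoc, sq.w, ← Category.assoc, comm, Category.assoc]

/-- `LocP P` can be checked after a surjective étale base change. -/
theorem locP_of_baseChange_etale_surjective (hP : (@Etale : MorphismProperty Scheme.{u}) ≤ P)
    {F' G' : Sp S} {f : F ⟶ G} {p : G' ⟶ G} {fst : F' ⟶ F} {f' : F' ⟶ G'}
    (sq : IsPullback fst f' f p) (hF' : IsAlgSpace F') (hG' : IsAlgSpace G')
    (hpe : RepWith @Etale p) (hps : RepWith @Surjective p) (hf' : LocP P f') : LocP P f := by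
  obtain ⟨V, b, hbe, hbs⟩ := hG'.atlas
  obtain ⟨U, a, h, hae, has, comm⟩ := exists_chart_diagram_surj hF' f' hbe hbs
  have hfste : RepWith @Etale fst :=
    MorphismProperty.of_isPullback (P := RepWith @Etale) sq.flip hpe
  have hfsts : RepWith @Surjective fst :=
    MorphismProperty.of_isPullback (P := RepWith @Surjective) sq.flip hps
  refine locP_of_one_chart hP (a ≫ fst) (b ≫ p) h ((RepWith @Etale).comp_mem _ _ hae hfste)
    ((RepWith @Surjective).comp_mem _ _ has hfsts) ((RepWith @Etale).comp_mem _ _ hbe hpe) ?_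
    (hf' a b h hae hbe comm)
  rw [Category.assoc, sq.w, ← Category.assoc, comm, Category.assoc]

/-- `LocP P` can be checked after precomposition with a surjective étale morphism. -/
theorem locP_of_comp_etale_surjective (hP : (@Etale : MorphismProperty Scheme.{u}) ≤ P)
    {F' : Sp S} {f : F ⟶ G} {φ : F' ⟶ F} (hF' : IsAlgSpace F') (hG : IsAlgSpace G)
    (hφe : RepWith @Etale φ) (hφs : RepWith @Surjective φ) (h : LocP P (φ ≫ f)) : LocP P f := by
  obtain ⟨V, b, hbe, hbs⟩ := hG.atlas
  obtain ⟨U, a, k, hae, has, comm⟩ := exists_chart_diagram_surj hF' (φ ≫ f) hbe hbs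
  refine locP_of_one_chart hP (a ≫ φ) b k ((RepWith @Etale).comp_mem _ _ hae hφe)
    ((RepWith @Surjective).comp_mem _ _ has hφs) hbe ?_ (h a b k hae hbe comm)
  rw [Category.assoc, comm]

/-- Conversely, precomposition with an étale morphism preserves `LocP` (no assumption on `P`). -/
theorem locP_comp_etale {Q : MorphismProperty Scheme.{u}} {F' : Sp S} {f : F ⟶ G} {φ : F' ⟶ F}
    (hφe : RepWith @Etale φ) (h : LocP Q f) : LocP Q (φ ≫ f) := by
  intro U V a b k ha hb comm
  exact h (a ≫ φ) b k ((RepWith @Etale).comp_mem _ _ ha hφe) hb (by rw [Category.assoc, comm])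

/-- Base change of a morphism to a scheme along a morphism of schemes. -/
theorem locP_baseChange_scheme (hP : (@Etale : MorphismProperty Scheme.{u}) ≤ P)
    {Q₀ Q₁ : Sp S} {V V' : Over S} {f₀ : Q₀ ⟶ (yon S).obj V} {k : V' ⟶ V} {fst : Q₁ ⟶ Q₀}
    {f₁ : Q₁ ⟶ (yon S).obj V'} (sq : IsPullback fst f₁ f₀ ((yon S).map k))
    (hQ₀ : IsAlgSpace Q₀) (hf₀ : LocP P f₀) : LocP P f₁ := by
  obtain ⟨U, c, hce, hcs⟩ := hQ₀.atlas
  obtain ⟨h, hh⟩ := (yon S).map_surjective (c ≫ f₀)
  have hPh : P h.left := hf₀ c (𝟙 _) h hce (repWith_id _ V) (by rw [hh, Category.comp_id])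
  have hh' : RepWith P ((yon S).map h) := (repWith_yon_map_iff P h).2 hPh
  have sqU := hh'.rep.isPullback ((yon S).map k)
  have hw : (hh'.rep.fst ((yon S).map k) ≫ c) ≫ f₀ =
      (yon S).map (hh'.rep.snd ((yon S).map k)) ≫ (yon S).map k := by
    rw [Category.assoc, ← hh]
    exact sqU.w
  have left : IsPullback (sq.lift _ _ hw) (hh'.rep.fst ((yon S).map k)) fst c := by
    apply IsPullback.of_right (h₁₂ := f₁) (h₂₂ := f₀) _ (sq.lift_fst _ _ _) sq.flip
    rw [sq.lift_snd, ← hh]
    exact sqU.flip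
  have hae : RepWith @Etale (sq.lift _ _ hw) :=
    MorphismProperty.of_isPullback (P := RepWith @Etale) left.flip hce
  have has : RepWith @Surjective (sq.lift _ _ hw) :=
    MorphismProperty.of_isPullback (P := RepWith @Surjective) left.flip hcs
  exact locP_of_one_chart hP (sq.lift _ _ hw) (𝟙 _) (hh'.rep.snd ((yon S).map k)) hae has
    (repWith_id _ V') (by rw [sq.lift_snd, Category.comp_id]) (hh'.property_snd _)

/-- `LocP P` is stable under base change. -/
theorem locP_of_isPullback (hP : (@Etale : MorphismProperty Scheme.{u}) ≤ P)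
    {F' G' : Sp S} {f : F ⟶ G} {g : G' ⟶ G} {fst : F' ⟶ F} {f' : F' ⟶ G'}
    (sq : IsPullback fst f' f g) (hF : IsAlgSpace F) (hG : IsAlgSpace G) (hG' : IsAlgSpace G')
    (hf : LocP P f) : LocP P f' := by
  obtain ⟨V, b, hbe, hbs⟩ := hG.atlas
  obtain ⟨V', b', k, hb'e, hb's, comm⟩ := exists_chart_diagram_surj hG' g hbe hbs
  -- `Q₀ = F ×_G V`, `Q' = F' ×_{G'} V'`
  have sq₀ := IsPullback.of_hasPullback f b
  have sq' := IsPullback.of_hasPullback f' b'
  have hQ₀ : IsAlgSpace (pullback f b) := isAlgSpace_pullback hG.diag hF (IsAlgSpace.yon_obj V) sq₀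
  have h₀ : LocP P (pullback.snd f b) := locP_of_isPullback_etale sq₀ hbe hf
  have hw : (pullback.fst f' b' ≫ fst) ≫ f = (pullback.snd f' b' ≫ (yon S).map k) ≫ b := by
    rw [Category.assoc, sq.w, ← Category.assoc, pullback.condition, Category.assoc, comm,
      Category.assoc]
  have big : IsPullback (pullback.fst f' b' ≫ fst) (pullback.snd f' b') f (b' ≫ g) :=
    (sq'.flip.paste_vert sq.flip).flip
  have left : IsPullback (sq₀.lift _ _ hw) (pullback.snd f' b') (pullback.snd f b)
      ((yon S).map k) := by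
    apply IsPullback.of_right (h₁₂ := pullback.fst f b) (h₂₂ := b) _ (sq₀.lift_snd _ _ _) sq₀
    rw [sq₀.lift_fst, ← comm]
    exact big
  have h' : LocP P (pullback.snd f' b') := locP_baseChange_scheme hP left hQ₀ h₀
  have hF' : IsAlgSpace F' := isAlgSpace_pullback hG.diag hF hG' sq
  have hQ' : IsAlgSpace (pullback f' b') :=
    isAlgSpace_pullback hG'.diag hF' (IsAlgSpace.yon_obj V') sq'
  exact locP_of_baseChange_etale_surjective hP sq' hQ' (IsAlgSpace.yon_obj V') hb'e hb's h'

/-- `LocP P` is stable under composition. -/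
theorem locP_comp (hP : (@Etale : MorphismProperty Scheme.{u}) ≤ P) {f : F ⟶ G} {g : G ⟶ H}
    (hF : IsAlgSpace F) (hG : IsAlgSpace G) (hH : IsAlgSpace H) (hf : LocP P f)
    (hg : LocP P g) : LocP P (f ≫ g) := by
  obtain ⟨W, c, hce, hcs⟩ := hH.atlas
  obtain ⟨V, b, k, hbe, hbs, comm₁⟩ := exists_chart_diagram_surj hG g hce hcs
  obtain ⟨U, a, h, hae, has, comm₂⟩ := exists_chart_diagram_surj hF f hbe hbs
  refine locP_of_one_chart hP a c (h ≫ k) hae has hce ?_ ?_
  · rw [← Category.assoc, comm₂, Category.assoc, comm₁, Functor.map_comp, Category.assoc]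
  · rw [Over.comp_left]
    exact P.comp_mem _ _ (hf a b h hae hbe comm₂) (hg b c k hbe hce comm₁)

omit [P.IsStableUnderBaseChange] in
/-- Cancellation: if `P (u ≫ v)` and `Pc v` imply `P u` for schemes, then `LocP P (f ≫ g)` and
`LocP Pc g` imply `LocP P f`. -/
theorem locP_of_comp (hP : (@Etale : MorphismProperty Scheme.{u}) ≤ P)
    {Pc : MorphismProperty Scheme.{u}}
    (hc : ∀ {X Y Z : Scheme.{u}} (u : X ⟶ Y) (v : Y ⟶ Z), P (u ≫ v) → Pc v → P u)
    {f : F ⟶ G} {g : G ⟶ H} (hH : IsAlgSpace H) (hfg : LocP P (f ≫ g)) (hg : LocP Pc g) :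
    LocP P f := by
  intro U V a b h ha hb comm
  obtain ⟨W, c, hce, hcs⟩ := hH.atlas
  obtain ⟨V₁, b₁, k, hb₁e, hb₁s, comm₁⟩ :=
    exists_chart_diagram_surj (IsAlgSpace.yon_obj V) (b ≫ g) hce hcs
  have hPk : Pc k.left := hg (b₁ ≫ b) c k ((RepWith @Etale).comp_mem _ _ hb₁e hb) hce
    (by rw [Category.assoc, comm₁])
  -- `U₁ = U ×_V V₁`
  have sqU := hb₁e.rep.isPullback ((yon S).map h)
  have hp₁e : Etale (hb₁e.rep.snd ((yon S).map h)).left := hb₁e.property_snd _
  have hp₁s : Surjective (hb₁e.rep.snd ((yon S).map h)).left := hb₁s.property_snd _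
  obtain ⟨h₁, hh₁⟩ := (yon S).map_surjective (hb₁e.rep.fst ((yon S).map h))
  obtain ⟨b₁', hb₁'⟩ := (yon S).map_surjective b₁
  have hb₁'e : Etale b₁'.left := (repWith_yon_map_iff @Etale b₁').1 (by rw [hb₁']; exact hb₁e)
  have hsq : h₁ ≫ b₁' = hb₁e.rep.snd ((yon S).map h) ≫ h := by
    apply (yon S).map_injective
    rw [Functor.map_comp, Functor.map_comp, hh₁, hb₁']
    exact sqU.w
  have hae : RepWith @Etale ((yon S).map (hb₁e.rep.snd ((yon S).map h)) ≫ a) :=
    (RepWith @Etale).comp_mem _ _ ((repWith_yon_map_iff @Etale _).2 hp₁e) ha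
  have h1 : P (h₁ ≫ k).left := by
    refine hfg _ c (h₁ ≫ k) hae hce ?_
    rw [Category.assoc, ← Category.assoc a, comm, Category.assoc, ← Category.assoc,
      ← Functor.map_comp, ← hsq, Functor.map_comp, hb₁', Category.assoc, comm₁,
      Functor.map_comp, Category.assoc]
  rw [Over.comp_left] at h1
  have h2 : P h₁.left := hc _ _ h1 hPk
  have h3 : P (h₁ ≫ b₁').left := by
    rw [Over.comp_left]
    exact P.comp_mem _ _ h2 (hP _ _ _ hb₁'e)
  rw [hsq, Over.comp_left] at h3
  exact IsEtaleLocalSource.of_comp _ _ hp₁e hp₁s h3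

end Good

end Groth.Agent.H5.AlgSp
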