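import Mathlib

/-!
# The affine space over a scheme is flat
-/

set_option autoImplicit false

universe u

open CategoryTheory CategoryTheory.Limits AlgebraicGeometry MvPolynomial

namespace Groth.Agent.H5.AlgSp

set_option backward.isDefEq.respectTransparency.types false in
theorem flat_affineSpace_over (n : Type u) (S : Scheme.{u}) : Flat (𝔸(n; S) ↘ S) :=
  MorphismProperty.pullback_fst _ _ <| by
  have := isIso_of_isTerminal specULiftZIsTerminal.{u} terminalIsTerminal (terminal.from _)
  rw [← terminal.comp_from (Spec.map (CommRingCat.ofHom (C (σ := n) (R := ULift.{u} ℤ)))),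
    MorphismProperty.cancel_right_of_respectsIso (P := @Flat),
    HasRingHomProperty.Spec_iff (P := @Flat)]
  exact (RingHom.flat_algebraMap_iff (R := ULift.{u} ℤ)
    (S := MvPolynomial n (ULift.{u} ℤ))).2 inferInstance

end Groth.Agent.H5.AlgSp
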