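import Mathlib

/-!
# Pure category theory lemmas on pullbacks, diagonals and products
-/

set_option autoImplicit false

universe v u

open CategoryTheory CategoryTheory.Limits

namespace Groth.Agent.H5.Cat

variable {C : Type u} [Category.{v} C]

/-- Fibres of the relative diagonal as fibre products of sections. -/
theorem isPullback_diagonal_of_sections [HasPullbacks C] {F G T FT E : C} (a : F ⟶ G)
    (x y : T ⟶ F) (hxy : x ≫ a = y ≫ a) {p : FT ⟶ F} {q : FT ⟶ T}
    (sq : IsPullback p q a (x ≫ a)) {σ τ : T ⟶ FT} (hσ1 : σ ≫ p = x) (hσ2 : σ ≫ q = 𝟙 T)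
    (hτ1 : τ ≫ p = y) (hτ2 : τ ≫ q = 𝟙 T) {u v : E ⟶ T} (sqE : IsPullback u v σ τ) :
    IsPullback (u ≫ x) u (pullback.diagonal a) (pullback.lift x y hxy) := by
  have huv : u = v := by
    have h1 : u = (u ≫ σ) ≫ q := by rw [Category.assoc, hσ2, Category.comp_id]
    have h2 : v = (v ≫ τ) ≫ q := by rw [Category.assoc, hτ2, Category.comp_id]
    rw [h1, h2, sqE.w]
  subst huv
  have hux : u ≫ x = u ≫ y := by
    rw [← hσ1, ← hτ1, ← Category.assoc, ← Category.assoc, sqE.w]
  refine IsPullback.mk' ?_ ?_ ?_
  · apply pullback.hom_ext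
    · rw [Category.assoc, pullback.diagonal_fst, Category.comp_id, Category.assoc,
        pullback.lift_fst]
    · rw [Category.assoc, pullback.diagonal_snd, Category.comp_id, Category.assoc,
        pullback.lift_snd, hux]
  · intro Z φ φ' _ h2
    exact sqE.hom_ext h2 h2
  · intro Z f t h
    have h1 : f = t ≫ x := by
      have := congrArg (· ≫ pullback.fst a a) h
      simp only [Category.assoc, pullback.diagonal_fst, Category.comp_id, pullback.lift_fst]
        at this
      exact this
    have h2 : f = t ≫ y := by
      have := congrArg (· ≫ pullback.snd a a) h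
      simp only [Category.assoc, pullback.diagonal_snd, Category.comp_id, pullback.lift_snd]
        at this
      exact this
    have hst : t ≫ σ = t ≫ τ := by
      apply sq.hom_ext
      · rw [Category.assoc, Category.assoc, hσ1, hτ1, ← h1, ← h2]
      · rw [Category.assoc, Category.assoc, hσ2, hτ2]
    refine ⟨sqE.lift t t hst, ?_, sqE.lift_fst _ _ _⟩
    rw [← Category.assoc, sqE.lift_fst, ← h1]

/-- A fibre product over `X` is the fibre of the diagonal of `X`. -/
theorem isPullback_diag_of_isPullback [HasBinaryProducts C] {A B X P : C} {x : A ⟶ X} {y : B ⟶ X}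
    {p : P ⟶ A} {q : P ⟶ B} (sq : IsPullback p q x y) :
    IsPullback (p ≫ x) (prod.lift p q) (Limits.diag X) (prod.map x y) := by
  refine IsPullback.mk' ?_ ?_ ?_
  · apply Limits.prod.hom_ext
    · simp only [Category.assoc, Limits.diag, prod.lift_fst, Category.comp_id, prod.map_fst,
        prod.lift_fst_assoc]
    · simp only [Category.assoc, Limits.diag, prod.lift_snd, Category.comp_id, prod.map_snd,
        prod.lift_snd_assoc, sq.w]
  · intro Z φ φ' _ h2
    have h3 := congrArg (· ≫ prod.fst) h2
    have h4 := congrArg (· ≫ prod.snd) h2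
    simp only [Category.assoc, prod.lift_fst, prod.lift_snd] at h3 h4
    exact sq.hom_ext h3 h4
  · intro Z f t h
    have h1 : f = (t ≫ prod.fst) ≫ x := by
      have := congrArg (· ≫ prod.fst) h
      simp only [Category.assoc, Limits.diag, prod.lift_fst, Category.comp_id, prod.map_fst]
        at this
      rw [Category.assoc]
      exact this
    have h2 : f = (t ≫ prod.snd) ≫ y := by
      have := congrArg (· ≫ prod.snd) h
      simp only [Category.assoc, Limits.diag, prod.lift_snd, Category.comp_id, prod.map_snd]
        at this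
      rw [Category.assoc]
      exact this
    refine ⟨sq.lift (t ≫ prod.fst) (t ≫ prod.snd) (by rw [← h1, ← h2]), ?_, ?_⟩
    · rw [← Category.assoc, sq.lift_fst, ← h1]
    · apply Limits.prod.hom_ext
      · rw [Category.assoc, prod.lift_fst, sq.lift_fst]
      · rw [Category.assoc, prod.lift_snd, sq.lift_snd]

/-- The fibre of the diagonal of `X` over `(x, y)` is the equaliser of `x` and `y`, i.e. the
base change of the fibre product along the diagonal of the source. -/
theorem isPullback_of_isPullback_diag [HasBinaryProducts C] {A X P Q : C} (ζ : A ⟶ X ⨯ X)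
    {r : P ⟶ X} {s : P ⟶ A} (sq : IsPullback r s (Limits.diag X) ζ)
    {p q : Q ⟶ A} (sqQ : IsPullback p q (ζ ≫ prod.fst) (ζ ≫ prod.snd)) :
    ∃ s' : P ⟶ Q, IsPullback s' s (prod.lift p q) (Limits.diag A) := by
  have hr1 : r = s ≫ ζ ≫ prod.fst := by
    have := congrArg (· ≫ prod.fst) sq.w
    simp only [Category.assoc, Limits.diag, prod.lift_fst, Category.comp_id] at this
    exact this
  have hr2 : r = s ≫ ζ ≫ prod.snd := by
    have := congrArg (· ≫ prod.snd) sq.w
    simp only [Category.assoc, Limits.diag, prod.lift_snd, Category.comp_id] at this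
    exact this
  refine ⟨sqQ.lift s s (by rw [← hr1, ← hr2]), IsPullback.mk' ?_ ?_ ?_⟩
  · apply Limits.prod.hom_ext
    · simp only [Category.assoc, Limits.diag, prod.lift_fst, Category.comp_id,
        sqQ.lift_fst]
    · simp only [Category.assoc, Limits.diag, prod.lift_snd, Category.comp_id,
        sqQ.lift_snd]
  · intro Z φ φ' _ h2
    apply sq.hom_ext _ h2
    rw [hr1, ← Category.assoc, h2, Category.assoc]
  · intro Z f t h
    have h1 : f ≫ p = t := by
      have := congrArg (· ≫ prod.fst) h
      simp only [Category.assoc, Limits.diag, prod.lift_fst, Category.comp_id] at this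
      exact this
    have h2 : f ≫ q = t := by
      have := congrArg (· ≫ prod.snd) h
      simp only [Category.assoc, Limits.diag, prod.lift_snd, Category.comp_id] at this
      exact this
    have hw : (t ≫ ζ ≫ prod.fst) ≫ Limits.diag X = t ≫ ζ := by
      apply Limits.prod.hom_ext
      · simp only [Category.assoc, Limits.diag, prod.lift_fst, Category.comp_id]
      · simp only [Category.assoc, Limits.diag, prod.lift_snd, Category.comp_id]
        rw [h1.symm, Category.assoc, sqQ.w, ← Category.assoc, h2, h1]
    refine ⟨sq.lift _ _ hw, ?_, sq.lift_snd _ _ _⟩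
    apply sqQ.hom_ext
    · rw [Category.assoc, sqQ.lift_fst, sq.lift_snd, h1]
    · rw [Category.assoc, sqQ.lift_snd, sq.lift_snd, h2]

/-- `𝟙 ⨯ f` is a base change of `f`. -/
theorem isPullback_prod_snd_with_id [HasBinaryProducts C] {A B : C} (f : A ⟶ B) (X : C) :
    IsPullback prod.snd (prod.map (𝟙 X) f) f prod.snd := by
  refine IsPullback.mk' (by rw [prod.map_snd]) ?_ ?_
  · intro Z φ φ' h1 h2
    apply Limits.prod.hom_ext
    · have := congrArg (· ≫ prod.fst) h2
      simp only [Category.assoc, prod.map_fst, Category.comp_id] at this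
      exact this
    · exact h1
  · intro Z a b h
    refine ⟨prod.lift (b ≫ prod.fst) a, by rw [prod.lift_snd], ?_⟩
    apply Limits.prod.hom_ext
    · simp only [Category.assoc, prod.map_fst, Category.comp_id, prod.lift_fst]
    · simp only [Category.assoc, prod.map_snd, prod.lift_snd_assoc, h]

end Groth.Agent.H5.Cat
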