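import Groth.Prelude.Def_AlgSpRep
import Groth.Agent.Lib.Helper5.AlgSp.RepSheaf
import Groth.Agent.Lib.Helper5.AlgSp.RepOver
import Groth.Agent.Lib.Helper5.AlgSp.CatLemmas
import Mathlib

/-!
# Maps representable by algebraic spaces: formal properties
-/

set_option autoImplicit false

universe u

open CategoryTheory CategoryTheory.Limits AlgebraicGeometry Opposite

namespace Groth.Agent.H5.AlgSp

open _root_.AlgSp

variable {S : Scheme.{u}}

/-- A presheaf with a map to a sheaf all of whose fibres over schemes are sheaves is a sheaf. -/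
theorem isSheaf_of_fibres (F G : PSp S) (a : F ⟶ G)
    (ha : ∀ (T : Over S) (ξ : (pyon S).obj T ⟶ G), ∃ (P : PSp S) (fst : P ⟶ F)
      (snd : P ⟶ (pyon S).obj T), IsPullback fst snd a ξ ∧ Presieve.IsSheaf (J S) P)
    (hG : Presheaf.IsSheaf (J S) G) :
    Presheaf.IsSheaf (J S) F := by
  rw [isSheaf_iff_isSheaf_of_type] at hG ⊢
  intro T R hR
  have hGR := hG R hR
  -- uniqueness part, used twice
  have huniq : ∀ (x : Presieve.FamilyOfElements F R.arrows) (x₁ x₂ : F.obj (op T)),
      x.IsAmalgamation x₁ → x.IsAmalgamation x₂ → x₁ = x₂ := by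
    intro x x₁ x₂ h₁ h₂
    have e : a.app _ x₁ = a.app _ x₂ :=
      hGR.isSeparatedFor (x.map a) _ _ (h₁.map a) (h₂.map a)
    obtain ⟨V, fst, snd, sq, hV⟩ := ha T (CategoryTheory.uliftYonedaEquiv.{u+1}.symm (a.app _ x₂))
    have sqT := isPullback_app sq (op T)
    have hx₂ : a.app (op T) x₂ =
        (CategoryTheory.uliftYonedaEquiv.{u+1}.symm (a.app (op T) x₂)).app (op T) ⟨𝟙 T⟩ := by
      simp
    obtain ⟨w₁, hw₁f, hw₁s⟩ := Limits.Types.exists_of_isPullback sqT x₁ ⟨𝟙 T⟩ (by rw [e]; exact hx₂)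
    obtain ⟨w₂, hw₂f, hw₂s⟩ := Limits.Types.exists_of_isPullback sqT x₂ ⟨𝟙 T⟩ hx₂
    have hw : w₁ = w₂ := by
      apply (hV R hR).isSeparatedFor.ext
      intro T' t ht
      have sqT' := isPullback_app sq (op T')
      apply Limits.Types.ext_of_isPullback sqT'
      · rw [NatTrans.naturality_apply, NatTrans.naturality_apply, hw₁f, hw₂f, h₁ t ht, h₂ t ht]
      · rw [NatTrans.naturality_apply, NatTrans.naturality_apply, hw₁s, hw₂s]
    rw [← hw₁f, ← hw₂f, hw]
  refine Presieve.isSeparatedFor_and_exists_isAmalgamation_iff_isSheafFor.1 ⟨huniq, ?_⟩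
  intro x hx
  have hy : (x.map a).Compatible := hx.map a
  let ξ := hGR.amalgamate (x.map a) hy
  have hξ : ∀ ⦃T'⦄ (t : T' ⟶ T) (ht : R t), G.map t.op ξ = a.app _ (x t ht) :=
    fun T' t ht => hGR.valid_glue hy t ht
  obtain ⟨V, fst, snd, sq, hV0⟩ := ha T (CategoryTheory.uliftYonedaEquiv.{u+1}.symm ξ)
  have hcomp : ∀ ⦃T'⦄ (t : T' ⟶ T) (ht : R t), a.app (op T') (x t ht) =
      (CategoryTheory.uliftYonedaEquiv.{u+1}.symm ξ).app (op T') ⟨t⟩ := by
    intro T' t ht
    rw [← hξ t ht]
    simp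
  choose v hvf hvs using fun ⦃T'⦄ (t : T' ⟶ T) (ht : R t) =>
    Limits.Types.exists_of_isPullback (isPullback_app sq (op T')) (x t ht) ⟨t⟩ (hcomp t ht)
  let vf : Presieve.FamilyOfElements V R.arrows := fun T' t ht => v t ht
  have hvc : vf.Compatible := by
    rw [Presieve.compatible_iff_sieveCompatible]
    intro T' T'' t g ht
    apply Limits.Types.ext_of_isPullback (isPullback_app sq (op T''))
    · rw [NatTrans.naturality_apply, hvf, hvf]
      exact (Presieve.compatible_iff_sieveCompatible x).1 hx t g ht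
    · rw [NatTrans.naturality_apply, hvs, hvs]
      rfl
  have hV := hV0 R hR
  refine ⟨fst.app _ (hV.amalgamate vf hvc), ?_⟩
  intro T' t ht
  rw [← NatTrans.naturality_apply, hV.valid_glue hvc t ht]
  exact hvf t ht

/-- A presheaf with a map representable by algebraic spaces to a sheaf is a sheaf. -/
theorem isSheaf_of_repBySp (F G : PSp S) (a : F ⟶ G) (ha : RepBySp a)
    (hG : Presheaf.IsSheaf (J S) G) : Presheaf.IsSheaf (J S) F := by
  refine isSheaf_of_fibres F G a (fun T ξ => ?_) hG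
  refine ⟨pullback a ξ, pullback.fst a ξ, pullback.snd a ξ, IsPullback.of_hasPullback a ξ, ?_⟩
  obtain ⟨h, -⟩ := ha ξ _ _ (IsPullback.of_hasPullback a ξ)
  rwa [isSheaf_iff_isSheaf_of_type] at h

/-- If all maps `h_T ⟶ G` are representable and all fibres of `f : F ⟶ G` over schemes have
representable diagonal, then all maps `h_T ⟶ F` are representable. -/
lemma representable_from_yon_of_fibres {F G : Sp S} (f : F ⟶ G)
    (hG : ∀ ⦃T : Over S⦄ (x : (yon S).obj T ⟶ G), Representable x)
    (hfib : ∀ ⦃U : Over S⦄ (ξ : (yon S).obj U ⟶ G), ∃ (F' : Sp S) (fst : F' ⟶ F)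
      (snd : F' ⟶ (yon S).obj U), IsPullback fst snd f ξ ∧ Representable (Limits.diag F'))
    ⦃U : Over S⦄ (g : (yon S).obj U ⟶ F) : Representable g := by
  intro U' g'
  have hx := hG (g ≫ f)
  -- W represents h_U ×_G h_{U'}
  have sqW := hx.isPullback' (g' ≫ f)
  set W := hx.pullback (g' ≫ f) with hW
  set p : W ⟶ U := hx.fst' (g' ≫ f) with hp
  set p' : W ⟶ U' := hx.snd (g' ≫ f) with hp'
  have hcomm : ((yon S).map p ≫ g) ≫ f = ((yon S).map p' ≫ g') ≫ f := by
    rw [Category.assoc, Category.assoc]; exact sqW.w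
  obtain ⟨F', fst, snd, sq, hΔ⟩ := hfib (((yon S).map p ≫ g) ≫ f)
  let σ : (yon S).obj W ⟶ F' := sq.lift ((yon S).map p ≫ g) (𝟙 _) (by rw [Category.id_comp])
  let τ : (yon S).obj W ⟶ F' := sq.lift ((yon S).map p' ≫ g') (𝟙 _)
    (by rw [Category.id_comp, hcomm])
  have hσ1 : σ ≫ fst = (yon S).map p ≫ g := sq.lift_fst _ _ _
  have hσ2 : σ ≫ snd = 𝟙 _ := sq.lift_snd _ _ _
  have hτ1 : τ ≫ fst = (yon S).map p' ≫ g' := sq.lift_fst _ _ _
  have hτ2 : τ ≫ snd = 𝟙 _ := sq.lift_snd _ _ _
  let l : (yon S).obj W ⟶ F' ⨯ F' := prod.lift σ τ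
  have sqE := hΔ.isPullback l
  set E := hΔ.pullback l with hE
  set e : E ⟶ W := hΔ.snd l with he
  set fstE : (yon S).obj E ⟶ F' := hΔ.fst l with hfstE
  have hfstE₁ : fstE = (yon S).map e ≫ σ := by
    have := congrArg (· ≫ prod.fst) sqE.w
    simpa only [Category.assoc, prod.lift_fst, Category.comp_id, l, Limits.diag] using this
  have hfstE₂ : fstE = (yon S).map e ≫ τ := by
    have := congrArg (· ≫ prod.snd) sqE.w
    simpa only [Category.assoc, prod.lift_snd, Category.comp_id, l, Limits.diag] using this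
  refine ⟨E, e ≫ p', (yon S).map (e ≫ p), ?_⟩
  apply isPullback_of_yon
  · rw [Functor.map_comp, Functor.map_comp, Category.assoc, Category.assoc, ← hσ1, ← hτ1,
      ← Category.assoc, ← Category.assoc, ← hfstE₁, ← hfstE₂]
  · intro T x y hxy
    obtain ⟨z, ⟨hz1, hz2⟩, hzu⟩ := IsPullback.exists_unique_yon sqW x y (by
      rw [← Category.assoc, hxy, Category.assoc])
    have hzστ : z ≫ σ = z ≫ τ := by
      apply sq.hom_ext
      · rw [Category.assoc, Category.assoc, hσ1, hτ1, ← Category.assoc, ← Category.assoc, hz1,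
          hz2, hxy]
      · rw [Category.assoc, Category.assoc, hσ2, hτ2]
    have hzl : (z ≫ σ) ≫ Limits.diag F' = z ≫ l := by
      apply Limits.prod.hom_ext
      · simp only [Category.assoc, Limits.diag, prod.lift_fst, Category.comp_id, l]
      · simp only [Category.assoc, Limits.diag, prod.lift_snd, Category.comp_id, l]
        exact hzστ
    obtain ⟨w, ⟨hw1, hw2⟩, hwu⟩ := IsPullback.exists_unique_yon sqE (z ≫ σ) z hzl
    refine ⟨w, ⟨?_, ?_⟩, ?_⟩
    · rw [Functor.map_comp, ← Category.assoc, hw2, hz1]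
    · rw [Functor.map_comp, ← Category.assoc, hw2, hz2]
    · rintro w' ⟨hw'1, hw'2⟩
      apply hwu
      have hz' : w' ≫ (yon S).map e = z := by
        apply hzu
        constructor
        · rw [Category.assoc, ← Functor.map_comp]; exact hw'1
        · rw [Category.assoc, ← Functor.map_comp]; exact hw'2
      refine ⟨?_, hz'⟩
      rw [hfstE₁, ← Category.assoc, hz']

/-- A sheaf over an algebraic space all of whose fibres over schemes are algebraic spaces is an
algebraic space. -/
theorem isAlgSpace_of_fibres {F G : Sp S} (hG : IsAlgSpace G) (f : F ⟶ G)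
    (hfib : ∀ ⦃U : Over S⦄ (ξ : (yon S).obj U ⟶ G) ⦃F' : Sp S⦄ (fst : F' ⟶ F)
      (snd : F' ⟶ (yon S).obj U), IsPullback fst snd f ξ → IsAlgSpace F') : IsAlgSpace F where
  diag := Functor.relativelyRepresentable.diag_of_map_from_obj
    (representable_from_yon_of_fibres f (fun _ x => hG.representable_from_yon x)
      (fun U ξ => ⟨pullback f ξ, pullback.fst f ξ, pullback.snd f ξ, IsPullback.of_hasPullback f ξ,
        (hfib ξ _ _ (IsPullback.of_hasPullback f ξ)).diag⟩))
  atlas := by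
    obtain ⟨U₀, p₀, he, hs⟩ := hG.atlas
    have sq := IsPullback.of_hasPullback f p₀
    obtain ⟨V, q, hqe, hqs⟩ := (hfib p₀ _ _ sq).atlas
    exact ⟨V, q ≫ pullback.fst f p₀,
      MorphismProperty.comp_mem _ _ _ hqe ((RepWith @Etale).of_isPullback sq.flip he),
      MorphismProperty.comp_mem _ _ _ hqs ((RepWith @Surjective).of_isPullback sq.flip hs)⟩

/-- A presheaf with a map representable by algebraic spaces to an algebraic space is an
algebraic space. -/
theorem isAlgSpaceP_of_repBySp (F G : PSp S) (a : F ⟶ G) (ha : RepBySp a) (hG : IsAlgSpaceP G) :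
    IsAlgSpaceP F := by
  obtain ⟨hGs, hGa⟩ := hG
  have hFs := isSheaf_of_repBySp F G a ha hGs
  refine ⟨hFs, ?_⟩
  let a' : (⟨F, hFs⟩ : Sp S) ⟶ ⟨G, hGs⟩ := ObjectProperty.homMk a
  exact isAlgSpace_of_fibres hGa a' ((repBySp_hom_iff a').1 ha)

/-- `RepBySp` is stable under base change. -/
theorem repBySp_of_isPullback {X Y Y' Z : PSp S} {f : X ⟶ Z} {g : Y ⟶ Z} {f' : Y' ⟶ Y}
    {g' : Y' ⟶ X} (sq : IsPullback f' g' g f) (hg : RepBySp g) : RepBySp g' := by
  intro U η F'' fst' snd' sq'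
  exact hg (η ≫ f) (fst' ≫ f') snd' (sq'.paste_horiz sq)

instance : (RepBySp (S := S)).IsStableUnderBaseChange where
  of_isPullback sq hg := repBySp_of_isPullback sq hg

lemma isAlgSpaceP_pyon (U : Over S) : IsAlgSpaceP ((pyon S).obj U) :=
  (isAlgSpaceP_obj_iff ((yon S).obj U)).2 (IsAlgSpace.yon_obj U)

instance : (RepBySp (S := S)).ContainsIdentities where
  id_mem G := by
    intro U ξ F' fst snd sq
    have : IsIso snd := sq.isIso_snd_of_isIso
    exact (isAlgSpaceP_pyon U).of_iso (asIso snd).symm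

/-- The fibre of a map representable by algebraic spaces over an algebraic space is an algebraic
space. -/
theorem isAlgSpaceP_of_isPullback {F G X F' : PSp S} {a : F ⟶ G} (ha : RepBySp a)
    (hX : IsAlgSpaceP X) {ξ : X ⟶ G} {fst : F' ⟶ X} {snd : F' ⟶ F}
    (sq : IsPullback fst snd ξ a) : IsAlgSpaceP F' :=
  isAlgSpaceP_of_repBySp F' X fst (repBySp_of_isPullback sq.flip ha) hX

instance : (RepBySp (S := S)).IsStableUnderComposition where
  comp_mem {F G H} a b ha hb := by
    intro U ξ F' fst snd sq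
    have hG' : IsAlgSpaceP (pullback b ξ) := hb ξ _ _ (IsPullback.of_hasPullback b ξ)
    let l : F' ⟶ pullback b ξ := pullback.lift (fst ≫ a) snd (by rw [Category.assoc, sq.w])
    have hl2 : l ≫ pullback.snd b ξ = snd := pullback.lift_snd _ _ _
    have sq2 : IsPullback fst l a (pullback.fst b ξ) := by
      refine IsPullback.of_bot (v₂₁ := pullback.snd b ξ) (v₂₂ := b) (h₃₁ := ξ) ?_
        (pullback.lift_fst _ _ _).symm (IsPullback.of_hasPullback b ξ)
      rw [hl2]
      exact sq
    exact isAlgSpaceP_of_isPullback ha hG' sq2.flip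

instance : (RepBySp (S := S)).IsMultiplicative where

/-- `RepBySp` for products of maps. -/
theorem repBySp_prod_map {F₁ G₁ F₂ G₂ : PSp S} (a₁ : F₁ ⟶ G₁) (a₂ : F₂ ⟶ G₂)
    (h₁ : RepBySp a₁) (h₂ : RepBySp a₂) : RepBySp (prod.map a₁ a₂) := by
  have e : prod.map a₁ a₂ = prod.map a₁ (𝟙 F₂) ≫ prod.map (𝟙 G₁) a₂ := by
    rw [prod.map_map, Category.comp_id, Category.id_comp]
  rw [e]
  refine MorphismProperty.comp_mem _ _ _ ?_ ?_
  · exact repBySp_of_isPullback (IsPullback.of_prod_fst_with_id a₁ F₂) h₁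
  · exact repBySp_of_isPullback (Groth.Agent.H5.Cat.isPullback_prod_snd_with_id a₂ G₁) h₂

/-- cancellation -/
theorem repBySp_of_comp_of_diagonal {F G H : PSp S} (a : F ⟶ G) (b : G ⟶ H)
    (hΔ : RepBySp (pullback.diagonal b)) (hab : RepBySp (a ≫ b)) : RepBySp a := by
  have : (RepBySp (S := S)).HasOfPostcompProperty (RepBySp (S := S)).diagonal :=
    MorphismProperty.hasOfPostcompProperty_iff_le_diagonal.2 le_rfl
  exact MorphismProperty.of_postcomp (RepBySp (S := S)) (W' := (RepBySp (S := S)).diagonal) a b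
    hΔ hab

/-- The relative diagonal of a map representable by algebraic spaces is representable by
schemes. -/
theorem relativelyRepresentable_diagonal_of_repBySp {F G : PSp S} (a : F ⟶ G) (ha : RepBySp a) :
    (pyon S).relativelyRepresentable (pullback.diagonal a) := by
  intro T ξ
  set x := ξ ≫ pullback.fst a a with hx
  set y := ξ ≫ pullback.snd a a with hy
  have hxy : x ≫ a = y ≫ a := by
    rw [hx, hy, Category.assoc, Category.assoc, pullback.condition]
  have hξ : ξ = pullback.lift x y hxy := by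
    apply pullback.hom_ext
    · rw [pullback.lift_fst]
    · rw [pullback.lift_snd]
  have sqT := IsPullback.of_hasPullback a (x ≫ a)
  obtain ⟨hsh, hA⟩ := ha (x ≫ a) _ _ sqT
  let FT : Sp S := ⟨pullback a (x ≫ a), hsh⟩
  let σ : (pyon S).obj T ⟶ pullback a (x ≫ a) := pullback.lift x (𝟙 _) (by rw [Category.id_comp])
  let τ : (pyon S).obj T ⟶ pullback a (x ≫ a) :=
    pullback.lift y (𝟙 _) (by rw [Category.id_comp, hxy])
  have hσ1 : σ ≫ pullback.fst a (x ≫ a) = x := pullback.lift_fst _ _ _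
  have hσ2 : σ ≫ pullback.snd a (x ≫ a) = 𝟙 _ := pullback.lift_snd _ _ _
  have hτ1 : τ ≫ pullback.fst a (x ≫ a) = y := pullback.lift_fst _ _ _
  have hτ2 : τ ≫ pullback.snd a (x ≫ a) = 𝟙 _ := pullback.lift_snd _ _ _
  let σ' : (yon S).obj T ⟶ FT := ObjectProperty.homMk σ
  let τ' : (yon S).obj T ⟶ FT := ObjectProperty.homMk τ
  have hrep := hA.representable_from_yon σ'
  have sqE := hrep.isPullback' τ'
  have sqE' : IsPullback ((pyon S).map (hrep.fst' τ')) ((pyon S).map (hrep.snd τ')) σ τ :=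
    sqE.map (sheafToPresheaf (J S) (Type (u + 1)))
  have key := Groth.Agent.H5.Cat.isPullback_diagonal_of_sections a x y hxy sqT hσ1 hσ2 hτ1 hτ2 sqE'
  rw [← hξ] at key
  exact ⟨_, _, _, key⟩

theorem repBySp_of_relativelyRepresentable {F G : PSp S} (a : F ⟶ G)
    (ha : (pyon S).relativelyRepresentable a) : RepBySp a := by
  intro U ξ F' fst snd sq
  obtain ⟨V, snd', fst', sq'⟩ := ha ξ
  exact (isAlgSpaceP_pyon V).of_iso (sq'.isoIsPullback _ _ sq)

/-- S10090 -/
theorem repBySp_diagonal {F G : PSp S} (a : F ⟶ G) (ha : RepBySp a) :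
    RepBySp (pullback.diagonal a) :=
  repBySp_of_relativelyRepresentable _ (relativelyRepresentable_diagonal_of_repBySp a ha)

/-- S10097, forward direction. -/
theorem repBySp_of_repBySp_diag {F : PSp S} (hΔ : RepBySp (Limits.diag F)) (T : Over S)
    (ξ : (pyon S).obj T ⟶ F) : RepBySp ξ := by
  intro U η F' fst snd sq
  have key := Groth.Agent.H5.Cat.isPullback_diag_of_isPullback sq
  let e : (pyon S).obj (T ⨯ U) ≅ (pyon S).obj T ⨯ (pyon S).obj U :=
    PreservesLimitPair.iso (pyon S) T U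
  have key2 : IsPullback (fst ≫ ξ) (prod.lift fst snd ≫ e.inv) (Limits.diag F)
      (e.hom ≫ prod.map ξ η) :=
    IsPullback.of_iso key (Iso.refl _) (Iso.refl _) e.symm (Iso.refl _) (by simp) (by simp)
      (by simp) (by simp)
  exact hΔ _ _ _ key2

/-- S10097, backward direction. -/
theorem repBySp_diag_of_forall {F : PSp S}
    (h : ∀ (T : Over S) (ξ : (pyon S).obj T ⟶ F), RepBySp ξ) : RepBySp (Limits.diag F) := by
  intro T ζ P r s sq
  have hQ : IsAlgSpaceP (pullback (ζ ≫ prod.fst) (ζ ≫ prod.snd)) :=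
    h T (ζ ≫ prod.fst) (ζ ≫ prod.snd) _ _ (IsPullback.of_hasPullback _ _)
  obtain ⟨s', sq'⟩ := Groth.Agent.H5.Cat.isPullback_of_isPullback_diag ζ sq
    (IsPullback.of_hasPullback (ζ ≫ prod.fst) (ζ ≫ prod.snd))
  have hd : (pyon S).relativelyRepresentable (Limits.diag ((pyon S).obj T)) := by
    apply Functor.relativelyRepresentable.diag_of_map_from_obj
    intro a g
    have := Functor.relativelyRepresentable.map (pyon S) ((pyon S).preimage g)
    rwa [Functor.map_preimage] at this
  have hs' : (pyon S).relativelyRepresentable s' :=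
    MorphismProperty.of_isPullback (P := (pyon S).relativelyRepresentable) sq'.flip hd
  exact isAlgSpaceP_of_repBySp _ _ s' (repBySp_of_relativelyRepresentable s' hs') hQ

end Groth.Agent.H5.AlgSp
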