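import Groth.Agent.Lib.Helper5.AlgSp.SevenClasses
import Mathlib

/-!
# Étale morphisms of algebraic spaces: `IsEtaleMor` versus `LocP @Etale`, and monotonicity of `LocP`
-/

set_option autoImplicit false

universe u

open CategoryTheory CategoryTheory.Limits AlgebraicGeometry MorphismProperty

namespace Groth.Agent.H5.AlgSp

open _root_.AlgSp Groth.Agent.H5.EtSrc

variable {S : Scheme.{u}} {F G H : Sp S}

/-- `LocP` is monotone in the property. -/
theorem locP_mono {P Q : MorphismProperty Scheme.{u}} (h : P ≤ Q) {f : F ⟶ G} (hf : LocP P f) :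
    LocP Q f := fun _ _ a b k ha hb comm => h _ (hf a b k ha hb comm)

/-- `LocP (P ⊓ Q)` is the conjunction. -/
theorem locP_inf_iff {P Q : MorphismProperty Scheme.{u}} {f : F ⟶ G} :
    LocP (P ⊓ Q) f ↔ LocP P f ∧ LocP Q f :=
  ⟨fun h => ⟨locP_mono inf_le_left h, locP_mono inf_le_right h⟩,
    fun h _ _ a b k ha hb comm => ⟨h.1 a b k ha hb comm, h.2 a b k ha hb comm⟩⟩

/-- An étale morphism (in the sense of the reference) is étale on every chart diagram. -/
theorem locP_etale_of_isEtaleMor {f : F ⟶ G} (hf : IsEtaleMor f) : LocP @Etale f := by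
  intro U V a b h ha hb comm
  have h1 : RepWith @Etale ((yon S).map h ≫ b) := by rw [← comm]; exact hf a ha
  exact (repWith_yon_map_iff @Etale h).1 (repWith_etale_of_comp h1 hb)

/-- A morphism of algebraic spaces which is étale on every chart diagram is étale (in the sense of
the reference). -/
theorem isEtaleMor_of_locP_etale {f : F ⟶ G} (hG : IsAlgSpace G) (hf : LocP @Etale f) :
    IsEtaleMor f := by
  intro U φ hφ
  exact repWith_of_locP hG (hG.representable_from_yon _) (locP_comp_etale hφ hf)

theorem isEtaleMor_iff_locP_etale {f : F ⟶ G} (hG : IsAlgSpace G) :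
    IsEtaleMor f ↔ LocP @Etale f :=
  ⟨locP_etale_of_isEtaleMor, isEtaleMor_of_locP_etale hG⟩

end Groth.Agent.H5.AlgSp
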