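import Groth.Agent.Lib.Helper5.AlgSp.LocPCalc
import Groth.Agent.Lib.Helper5.AlgSp.RelDiag
set_option autoImplicit false
universe u
open CategoryTheory CategoryTheory.Limits AlgebraicGeometry MorphismProperty
namespace Groth.Agent.H5.AlgSp
open _root_.AlgSp

lemma isPullback_prodLift_diag {C : Type*} [Category C] [HasPullbacks C] [HasBinaryProducts C]
    {F G : C} (f : F ⟶ G) :
    IsPullback (pullback.fst f f ≫ f) (prod.lift (pullback.fst f f) (pullback.snd f f))
      (Limits.diag G) (prod.map f f) := by
  refine ⟨⟨?_⟩, ⟨PullbackCone.IsLimit.mk _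
    (fun s => pullback.lift (s.snd ≫ prod.fst) (s.snd ≫ prod.snd) ?_) ?_ ?_ ?_⟩⟩
  · apply Limits.prod.hom_ext
    · simp only [Category.assoc, prod.map_fst, Limits.diag, prod.lift_fst, Category.comp_id,
        prod.lift_fst_assoc]
    · simp only [Category.assoc, prod.map_snd, Limits.diag, prod.lift_snd, Category.comp_id,
        prod.lift_snd_assoc, pullback.condition]
  · have h1 := congrArg (· ≫ prod.fst) s.condition
    have h2 := congrArg (· ≫ prod.snd) s.condition
    simp only [Category.assoc, prod.map_fst, prod.map_snd, Limits.diag, prod.lift_fst,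
      prod.lift_snd, Category.comp_id] at h1 h2
    rw [Category.assoc, Category.assoc, ← h1, ← h2]
  · intro s
    have h1 := congrArg (· ≫ prod.fst) s.condition
    simp only [Category.assoc, prod.map_fst, Limits.diag, prod.lift_fst, Category.comp_id] at h1
    rw [pullback.lift_fst_assoc, Category.assoc, ← h1]
  · intro s
    apply Limits.prod.hom_ext
    · simp only [Category.assoc, prod.lift_fst, pullback.lift_fst]
    · simp only [Category.assoc, prod.lift_snd, pullback.lift_snd]
  · intro s m h1 h2
    apply pullback.hom_ext
    · rw [pullback.lift_fst, ← h2, Category.assoc, prod.lift_fst]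
    · rw [pullback.lift_snd, ← h2, Category.assoc, prod.lift_snd]

variable {S : Scheme.{u}} {F G : Sp S}

/-- A morphism with `Q` relative diagonal to a sheaf with `Q` diagonal has `Q` diagonal. -/
theorem repWith_diag_of_relDiag {Q : MorphismProperty Scheme.{u}} [Q.IsStableUnderBaseChange]
    [Q.IsStableUnderComposition] {f : F ⟶ G}
    (hf : RepWith Q (pullback.diagonal f)) (hG : RepWith Q (Limits.diag G)) :
    RepWith Q (Limits.diag F) := by
  have h1 : RepWith Q (prod.lift (pullback.fst f f) (pullback.snd f f)) :=
    MorphismProperty.of_isPullback (P := RepWith Q) (isPullback_prodLift_diag f) hG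
  have h2 : Limits.diag F = pullback.diagonal f ≫ prod.lift (pullback.fst f f) (pullback.snd f f) := by
    apply Limits.prod.hom_ext
    · rw [Limits.diag, prod.lift_fst, Category.assoc, prod.lift_fst, pullback.diagonal_fst]
    · rw [Limits.diag, prod.lift_snd, Category.assoc, prod.lift_snd, pullback.diagonal_snd]
  rw [h2]
  exact (RepWith Q).comp_mem _ _ hf h1

end Groth.Agent.H5.AlgSp
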