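import Groth.Prelude.Def_AlgSp4
import Groth.Agent.Lib.Helper5.AlgSp.LocPCalc
import Groth.Agent.Lib.Helper5.AlgSp.UnivClosed2
import Groth.Agent.Lib.Helper5.AlgSp.QSepComp
import Groth.Agent.Lib.Helper5.AlgSp.EtaleMor
import Groth.Agent.Lib.Helper5.AlgSp.AffineBase
import Mathlib

/-!
# Proper morphisms of algebraic spaces: permanence properties
-/

set_option autoImplicit false

universe u

open CategoryTheory CategoryTheory.Limits AlgebraicGeometry Opposite Topology

namespace Groth.Agent.H5.AlgSp

open _root_.AlgSp Groth.Agent.H5.EtSrc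

variable {S : Scheme.{u}} {F G H : Sp S}

/-- Diagonal-type properties are stable under composition. -/
theorem repWith_diag_comp {Q : MorphismProperty Scheme.{u}} [Q.IsStableUnderBaseChange]
    [Q.IsStableUnderComposition] {f : F ⟶ G} {g : G ⟶ H}
    (hf : RepWith Q (pullback.diagonal f)) (hg : RepWith Q (pullback.diagonal g)) :
    RepWith Q (pullback.diagonal (f ≫ g)) := by
  have h1 : RepWith Q (pullback.mapDesc f f g) :=
    MorphismProperty.of_isPullback (P := RepWith Q) (pullback_map_diagonal_isPullback f f g) hg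
  have h2 : pullback.diagonal (f ≫ g) = pullback.diagonal f ≫ pullback.mapDesc f f g := by
    apply pullback.hom_ext
    · rw [pullback.diagonal_fst, Category.assoc, pullback.mapDesc, pullback.lift_fst,
        Category.comp_id, pullback.diagonal_fst]
    · rw [pullback.diagonal_snd, Category.assoc, pullback.mapDesc, pullback.lift_snd,
        Category.comp_id, pullback.diagonal_snd]
  rw [h2]
  exact (RepWith Q).comp_mem _ _ hf h1

theorem isSeparatedMor_comp {f : F ⟶ G} {g : G ⟶ H} (hf : IsSeparatedMor f)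
    (hg : IsSeparatedMor g) : IsSeparatedMor (f ≫ g) :=
  repWith_diag_comp hf hg

theorem isQuasiSeparatedMor_comp {f : F ⟶ G} {g : G ⟶ H} (hf : IsQuasiSeparatedMor f)
    (hg : IsQuasiSeparatedMor g) : IsQuasiSeparatedMor (f ≫ g) :=
  repWith_diag_comp hf hg

lemma etale_le_lft : (@Etale : MorphismProperty Scheme.{u}) ≤ @LocallyOfFiniteType :=
  fun _ _ g (_ : Etale g) => (inferInstance : LocallyOfFiniteType g)

theorem isFiniteTypeMor_comp {f : F ⟶ G} {g : G ⟶ H} (hF : IsAlgSpace F) (hG : IsAlgSpace G)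
    (hH : IsAlgSpace H) (hf : IsFiniteTypeMor f) (hg : IsFiniteTypeMor g) :
    IsFiniteTypeMor (f ≫ g) :=
  ⟨locP_comp etale_le_lft hF hG hH hf.1 hg.1, isQuasiCompactMor_comp hG hH hf.2 hg.2⟩

theorem isFiniteTypeMor_of_isPullback {F' G' : Sp S} {f : F ⟶ G} {g : G' ⟶ G} {fst : F' ⟶ F}
    {f' : F' ⟶ G'} (sq : IsPullback fst f' f g) (hF : IsAlgSpace F) (hG : IsAlgSpace G)
    (hG' : IsAlgSpace G') (hf : IsFiniteTypeMor f) : IsFiniteTypeMor f' :=
  ⟨locP_of_isPullback etale_le_lft sq hF hG hG' hf.1, isQuasiCompactMor_of_isPullback sq hf.2⟩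

/-- A composition of proper morphisms of algebraic spaces is proper. -/
theorem isProperMor_comp {f : F ⟶ G} {g : G ⟶ H} (hF : IsAlgSpace F) (hG : IsAlgSpace G)
    (hH : IsAlgSpace H) (hf : IsProperMor f) (hg : IsProperMor g) : IsProperMor (f ≫ g) :=
  ⟨isSeparatedMor_comp hf.1 hg.1, isFiniteTypeMor_comp hF hG hH hf.2.1 hg.2.1,
    isUnivClosedMor_comp hG hH hf.2.2 hg.2.2⟩

/-- A base change of a proper morphism of algebraic spaces is proper. -/
theorem isProperMor_of_isPullback {F' G' : Sp S} {f : F ⟶ G} {g : G' ⟶ G} {fst : F' ⟶ F}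
    {f' : F' ⟶ G'} (sq : IsPullback fst f' f g) (hF : IsAlgSpace F) (hG : IsAlgSpace G)
    (hG' : IsAlgSpace G') (hf : IsProperMor f) : IsProperMor f' :=
  ⟨repWith_diag_of_isPullback sq hf.1, isFiniteTypeMor_of_isPullback sq hF hG hG' hf.2.1,
    univSp_of_isPullback sq hf.2.2⟩

lemma isClosedImmersion_le_lft :
    (@IsClosedImmersion : MorphismProperty Scheme.{u}) ≤ @LocallyOfFiniteType :=
  fun _ _ g (_ : IsClosedImmersion g) => (inferInstance : LocallyOfFiniteType g)

lemma isClosedImmersion_le_universallyClosed :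
    (@IsClosedImmersion : MorphismProperty Scheme.{u}) ≤ @UniversallyClosed :=
  fun _ _ g (_ : IsClosedImmersion g) => (inferInstance : UniversallyClosed g)

/-- A closed immersion of algebraic spaces is proper. -/
theorem isProperMor_of_isClosedImmersion {f : F ⟶ G} (hf : RepWith @IsClosedImmersion f) :
    IsProperMor f :=
  ⟨isSeparatedMor_of_isClosedImmersion hf,
    ⟨locP_of_repWith etale_le_lft (repWith_mono isClosedImmersion_le_lft hf),
      isQuasiCompactMor_of_isClosedImmersion hf⟩,
    isUnivClosedMor_of_repWith (repWith_mono isClosedImmersion_le_universallyClosed hf)⟩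


/-- `LocP P` can be tested after base change to affine schemes, for `P` Zariski local on the
target. -/
theorem locP_of_forall_affine {P : MorphismProperty Scheme.{u}} [P.IsStableUnderBaseChange]
    [P.IsStableUnderComposition] [IsEtaleLocalSource P] [IsZariskiLocalAtTarget P]
    (hP : (@Etale : MorphismProperty Scheme.{u}) ≤ P) {f : F ⟶ G} (hF : IsAlgSpace F)
    (hG : IsAlgSpace G)
    (h : ∀ (Z : Over S), IsAffine Z.left → ∀ (g : (yon S).obj Z ⟶ G) (P₀ : Sp S)
      (fst : P₀ ⟶ F) (snd : P₀ ⟶ (yon S).obj Z), IsPullback fst snd f g → LocP P snd) :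
    LocP P f := by
  have : P.RespectsIso := MorphismProperty.IsStableUnderBaseChange.respectsIso
  obtain ⟨V, b, hbe, hbs⟩ := hG.atlas
  have sq := IsPullback.of_hasPullback f b
  have hQ : IsAlgSpace (pullback f b) := isAlgSpace_pullback hG.diag hF (IsAlgSpace.yon_obj V) sq
  refine locP_of_baseChange_etale_surjective hP sq hQ (IsAlgSpace.yon_obj V) hbe hbs ?_
  obtain ⟨U, a, hae, has⟩ := hQ.atlas
  obtain ⟨k, hk⟩ := (yon S).map_surjective (a ≫ pullback.snd f b)
  refine locP_of_one_chart hP a (𝟙 _) k hae has (repWith_id _ V)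
    (by rw [hk, Category.comp_id]) ?_
  rw [IsZariskiLocalAtTarget.iff_of_openCover (P := P) V.left.affineCover]
  intro i
  let V' : Over S := Over.mk (V.left.affineCover.f i ≫ V.hom)
  let ι : V' ⟶ V := Over.homMk (V.left.affineCover.f i) rfl
  have hV' : IsAffine V'.left := by
    change IsAffine (V.left.affineCover.X i); infer_instance
  change P (pullback.snd k.left ι.left)
  rw [← left_pullback_snd_iff P k ι]
  have t := IsPullback.of_hasPullback (pullback.snd f b) ((yon S).map ι)
  have big : IsPullback (pullback.fst (pullback.snd f b) ((yon S).map ι) ≫ pullback.fst f b)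
      (pullback.snd (pullback.snd f b) ((yon S).map ι)) f ((yon S).map ι ≫ b) :=
    (t.flip.paste_vert sq.flip).flip
  have hloc := h V' hV' _ _ _ _ big
  have sqU := (IsPullback.of_hasPullback k ι).map (yon S)
  have hw : ((yon S).map (pullback.fst k ι) ≫ a) ≫ pullback.snd f b =
      (yon S).map (pullback.snd k ι) ≫ (yon S).map ι := by
    rw [Category.assoc, ← hk]
    exact sqU.w
  have left : IsPullback (t.lift _ _ hw) ((yon S).map (pullback.fst k ι))
      (pullback.fst (pullback.snd f b) ((yon S).map ι)) a := by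
    apply IsPullback.of_right (h₁₂ := pullback.snd (pullback.snd f b) ((yon S).map ι))
      (h₂₂ := pullback.snd f b) _ (t.lift_fst _ _ _) t.flip
    rw [t.lift_snd, ← hk]
    exact sqU.flip
  have hae' : RepWith @Etale (t.lift _ _ hw) :=
    MorphismProperty.of_isPullback (P := RepWith @Etale) left.flip hae
  exact hloc (t.lift _ _ hw) (𝟙 _) (pullback.snd k ι) hae' (repWith_id _ V')
    (by rw [t.lift_snd, Category.comp_id])

/-- Properness descends along a surjective étale base change. -/
theorem isProperMor_of_baseChange {f : F ⟶ G} (hF : IsAlgSpace F) (hG : IsAlgSpace G)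
    {p : H ⟶ G} (hH : IsAlgSpace H) (hpe : RepWith @Etale p) (hps : RepWith @Surjective p)
    {P : Sp S} {fst : P ⟶ F} {snd : P ⟶ H} (sq : IsPullback fst snd f p)
    (h : IsProperMor snd) : IsProperMor f := by
  have hrep := (repWith_relDiag_of_isAlgSpace hF f).1
  have : Sheaf.IsLocallySurjective p := isLocallySurjective_of_etale_surjective p hpe hps
  have hP : IsAlgSpace P := isAlgSpace_pullback hG.diag hF hH sq
  have hpo : IsUnivOpenMor p :=
    isUnivOpenMor_of_isEtaleMor hH (fun U φ hφ => (RepWith @Etale).comp_mem _ _ hφ hpe)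
  refine ⟨repWith_diag_of_locallySurjective_baseChange sq hrep @IsClosedImmersion h.1,
    ⟨locP_of_baseChange_etale_surjective etale_le_lft sq hP hH hpe hps h.2.1.1,
      isQuasiCompactMor_of_baseChange_univOpen hF hG hH sq hpo
        (points_map_surjective_of_repWith hps) h.2.1.2⟩,
    isUnivClosedMor_of_baseChange hG hH hpe hps sq h.2.2⟩

/-- Properness can be tested on affine base changes. -/
theorem isProperMor_of_forall_affine {f : F ⟶ G} (hF : IsAlgSpace F) (hG : IsAlgSpace G)
    (h : ∀ (Z : Over S), IsAffine Z.left → ∀ (g : (yon S).obj Z ⟶ G) (P : Sp S) (fst : P ⟶ F)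
      (snd : P ⟶ (yon S).obj Z), IsPullback fst snd f g → IsProperMor snd) : IsProperMor f := by
  have hrep := (repWith_relDiag_of_isAlgSpace hF f).1
  refine ⟨?_, ⟨?_, ?_⟩, ?_⟩
  · exact repWith_diag_of_forall_affine hrep @IsClosedImmersion
      (fun Z hZ g => (h Z hZ g _ _ _ (IsPullback.of_hasPullback f g)).1)
  · exact locP_of_forall_affine etale_le_lft hF hG
      (fun Z hZ g P fst snd sq => (h Z hZ g P fst snd sq).2.1.1)
  · refine isQuasiCompactMor_of_forall_affine hF hG (fun Z hZ g P fst snd sq => ?_)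
    have hq := (h Z hZ g P fst snd sq).2.1.2
    have : IsAffine Z.left := hZ
    exact hq (IsAlgSpace.yon_obj Z) ((isQuasiCompactSp_yon_iff Z).2 inferInstance) (𝟙 _) (𝟙 P)
      snd (IsPullback.of_horiz_isIso ⟨by simp⟩)
  · refine isUnivClosedMor_iff_forall_affine.2 (fun Z hZ g P fst snd sq => ?_)
    have hc := (h Z hZ g P fst snd sq).2.2
    exact hc (IsAlgSpace.yon_obj Z) (𝟙 _) (𝟙 P) snd (IsPullback.of_horiz_isIso ⟨by simp⟩)

/-- Over a separated base morphism, a morphism from a universally closed space is universally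
closed. -/
theorem isUnivClosedMor_of_comp_of_isSeparatedMor {X Y B : Sp S} (hX : IsAlgSpace X)
    (hY : IsAlgSpace Y) (hB : IsAlgSpace B) {f : X ⟶ Y} {q : Y ⟶ B} (hq : IsSeparatedMor q)
    (hp : IsUnivClosedMor (f ≫ q)) : IsUnivClosedMor f := by
  have sqΓ := pullback_lift_diagonal_isPullback f q
  have hΓ : RepWith @IsClosedImmersion (pullback.lift (𝟙 X) f (by simp) :
      X ⟶ pullback (f ≫ q) q) :=
    MorphismProperty.of_isPullback (P := RepWith @IsClosedImmersion) sqΓ hq
  have hW : IsAlgSpace (pullback (f ≫ q) q) :=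
    isAlgSpace_pullback hB.diag hX hY (IsPullback.of_hasPullback _ _)
  have h2 : IsUnivClosedMor (pullback.snd (f ≫ q) q) :=
    univSp_of_isPullback (IsPullback.of_hasPullback (f ≫ q) q) hp
  have := isUnivClosedMor_comp hW hY
    (isUnivClosedMor_of_repWith (repWith_mono isClosedImmersion_le_universallyClosed hΓ)) h2
  rwa [pullback.lift_snd] at this

theorem isProperMor_of_comp_of_isSeparatedMor {X Y B : Sp S} (hX : IsAlgSpace X)
    (hY : IsAlgSpace Y) (hB : IsAlgSpace B) {f : X ⟶ Y} {q : Y ⟶ B} (hq : IsSeparatedMor q)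
    (hp : IsProperMor (f ≫ q)) : IsProperMor f := by
  have sqΓ := pullback_lift_diagonal_isPullback f q
  have hΓ : RepWith @IsClosedImmersion (pullback.lift (𝟙 X) f (by simp) :
      X ⟶ pullback (f ≫ q) q) :=
    MorphismProperty.of_isPullback (P := RepWith @IsClosedImmersion) sqΓ hq
  have hW : IsAlgSpace (pullback (f ≫ q) q) :=
    isAlgSpace_pullback hB.diag hX hY (IsPullback.of_hasPullback _ _)
  have h2 : IsProperMor (pullback.snd (f ≫ q) q) :=
    isProperMor_of_isPullback (IsPullback.of_hasPullback (f ≫ q) q) hX hB hY hp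
  have := isProperMor_comp hX hW hY (isProperMor_of_isClosedImmersion hΓ) h2
  rwa [pullback.lift_snd] at this

/-- A morphism of algebraic spaces is separated iff its diagonal is universally closed. -/
theorem isSeparatedMor_iff_isUnivClosedMor_diagonal {f : F ⟶ G} (hF : IsAlgSpace F) :
    IsSeparatedMor f ↔ IsUnivClosedMor (pullback.diagonal f) := by
  obtain ⟨hrep, h1, h2, h3, -⟩ := repWith_relDiag_of_isAlgSpace hF f
  constructor
  · intro h
    exact isUnivClosedMor_of_repWith (repWith_mono isClosedImmersion_le_universallyClosed h)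
  · intro h
    exact repWith_isClosedImmersion_of_univClosed h1 h2 h3
      ((repWith_universallyClosed_iff hrep).2 h)

end Groth.Agent.H5.AlgSp
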