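import Groth.Prelude.Def_AlgSp4
import Groth.Agent.Lib.Helper5.AlgSp.Permanence
import Mathlib

/-!
# Affine morphisms of sheaves
-/

set_option autoImplicit false

universe u

open CategoryTheory CategoryTheory.Limits AlgebraicGeometry Opposite Topology

namespace Groth.Agent.H5.AlgSp

open _root_.AlgSp

variable {S : Scheme.{u}} {F G H : Sp S}

theorem isAffineMor_of_isPullback {F' G' : Sp S} {f : F ⟶ G} {g : G' ⟶ G} {fst : F' ⟶ F}
    {snd : F' ⟶ G'} (sq : IsPullback fst snd f g) (hf : IsAffineMor f) : IsAffineMor snd := by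
  intro Z hZ k
  obtain ⟨W, i, a, sqW, hW⟩ := hf hZ (k ≫ g)
  have hw : a ≫ f = ((yon S).map i ≫ k) ≫ g := by rw [Category.assoc]; exact sqW.w
  refine ⟨W, i, sq.lift a ((yon S).map i ≫ k) hw, ?_, hW⟩
  apply IsPullback.of_right (h₁₂ := fst) (h₂₂ := g) _ _ sq
  · rw [sq.lift_fst]; exact sqW
  · exact sq.lift_snd _ _ _

theorem isAffineMor_comp {f : F ⟶ G} {g : G ⟶ H} (hf : IsAffineMor f) (hg : IsAffineMor g) :
    IsAffineMor (f ≫ g) := by
  intro Z hZ k
  obtain ⟨W, i, a, sqW, hW⟩ := hg hZ k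
  obtain ⟨W', i', a', sqW', hW'⟩ := hf hW a
  refine ⟨W', i' ≫ i, a', ?_, hW'⟩
  rw [Functor.map_comp]
  exact sqW'.paste_vert sqW

theorem isAffineMor_of_repWith {f : F ⟶ G} (hf : RepWith @IsAffineHom f) : IsAffineMor f := by
  intro Z hZ k
  have sq := hf.rep.isPullback k
  have h : IsAffineHom (hf.rep.snd k).left := hf.property_snd k
  exact ⟨_, hf.rep.snd k, hf.rep.fst k, sq, isAffine_of_isAffineHom (hf.rep.snd k).left⟩

theorem isClosedImmersion_le_isAffineHom :
    (@IsClosedImmersion : MorphismProperty Scheme.{u}) ≤ @IsAffineHom := fun _ _ f hf => by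
  have : IsClosedImmersion f := hf
  exact (inferInstance : IsAffineHom f)

/-- A morphism over `B` from a `B`-affine sheaf is affine when the target has affine diagonal
over `B`. -/
theorem isAffineMor_of_comp_of_diag {g : F ⟶ G} {q : G ⟶ H} (hp : IsAffineMor (g ≫ q))
    (hq : IsAffineMor (pullback.diagonal q)) : IsAffineMor g := by
  have hfac : g = pullback.lift (𝟙 F) g (by simp) ≫ pullback.snd (g ≫ q) q := by
    rw [pullback.lift_snd]
  rw [hfac]
  apply isAffineMor_comp
  · exact isAffineMor_of_isPullback (pullback_lift_diagonal_isPullback g q) hq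
  · exact isAffineMor_of_isPullback (IsPullback.of_hasPullback (g ≫ q) q) hp

end Groth.Agent.H5.AlgSp
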