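import Groth.Prelude.Def_AlgSp
import Groth.Agent.Lib.Helper5.AlgSp.MonoDesc
import Groth.Agent.Lib.Helper5.AlgSp.DiagPres
import Groth.Agent.Lib.Helper3.AlgSpCov.YonCoprod
import Groth.Agent.Lib.Helper5.AlgSp.PointsTop
import Groth.Agent.Lib.Helper5.AlgSp.FppfLocal
import Mathlib

/-!
# Coproducts of fppf sheaves
-/

set_option autoImplicit false

universe w u

open CategoryTheory CategoryTheory.Limits AlgebraicGeometry Opposite

namespace Groth.Agent.H5.AlgSp

open _root_.AlgSp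

variable {S : Scheme.{u}}

section Lift

variable {F G : Sp S}

/-- A point of `G` which locally lifts through a monomorphism `a : F ⟶ G` lifts. -/
theorem exists_lift_of_mono_of_liftSieve_mem (a : F ⟶ G) [Mono a] {T : Over S}
    (ξ : (yon S).obj T ⟶ G) (h : liftSieve a ξ ∈ J S T) : ∃ τ : (yon S).obj T ⟶ F, τ ≫ a = ξ := by
  have hmono : Mono (pullback.snd a ξ) := inferInstance
  have hsurj : Sheaf.IsLocallySurjective (pullback.snd a ξ) := by
    apply isLocallySurjective_of_liftSieve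
    intro T' σ
    obtain ⟨k, rfl⟩ := (yon S).map_surjective σ
    refine (J S).superset_covering ?_ ((J S).pullback_stable k h)
    rintro T'' g ⟨τ, hτ⟩
    refine ⟨pullback.lift τ ((yon S).map (g ≫ k)) hτ, ?_⟩
    rw [pullback.lift_snd, Functor.map_comp]
  have : IsIso (pullback.snd a ξ) := isIso_of_mono_of_isLocallySurjective _
  refine ⟨inv (pullback.snd a ξ) ≫ pullback.fst a ξ, ?_⟩
  rw [Category.assoc, pullback.condition, IsIso.inv_hom_id_assoc]

end Lift

section Cofan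

variable {ι : Type w} {F : ι → Sp S} (c : Cofan F)

/-- The sieve of maps over which a point of the coproduct lies in a single summand. -/
def cofanSieve {T : Over S} (ξ : (yon S).obj T ⟶ c.pt) : Sieve T where
  arrows T' g := ∃ (i : ι) (τ : (yon S).obj T' ⟶ F i), τ ≫ c.inj i = (yon S).map g ≫ ξ
  downward_closed := by
    rintro T' T'' g ⟨i, τ, hτ⟩ k
    exact ⟨i, (yon S).map k ≫ τ, by rw [Category.assoc, hτ, Functor.map_comp, Category.assoc]⟩

/-- The subpresheaf of the coproduct: union of the images of the summands. -/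
def cofanRange : Subfunctor c.pt.obj where
  obj U := {s | ∃ i, s ∈ Set.range ((c.inj i).hom.app U)}
  map := by
    rintro U V k s ⟨i, x, rfl⟩
    refine ⟨i, (F i).obj.map k x, ?_⟩
    exact NatTrans.naturality_apply (c.inj i).hom k x

variable {c}

/-- Points of a coproduct of sheaves lie locally in a single summand. -/
theorem cofanSieve_mem (hc : IsColimit c) {T : Over S} (ξ : (yon S).obj T ⟶ c.pt) :
    cofanSieve c ξ ∈ J S T := by
  have hF : Presieve.IsSheaf (J S) c.pt.obj := (isSheaf_iff_isSheaf_of_type _ _).1 c.pt.property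
  let G := (cofanRange c).sheafify (J S)
  let Gs : Sp S := ⟨G.toFunctor, (isSheaf_iff_isSheaf_of_type _ _).2
    ((cofanRange c).sheafify_isSheaf hF)⟩
  let ιG : Gs ⟶ c.pt := ⟨G.ι⟩
  have hle : ∀ i, Subfunctor.range (c.inj i).hom ≤ G := fun i =>
    le_trans (show Subfunctor.range (c.inj i).hom ≤ cofanRange c from fun U s hs => ⟨i, hs⟩)
      ((cofanRange c).le_sheafify (J S))
  let k : ∀ i, F i ⟶ Gs := fun i => ⟨Subfunctor.lift (c.inj i).hom (hle i)⟩
  have hk : ∀ i, k i ≫ ιG = c.inj i := fun i => rfl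
  let d : c.pt ⟶ Gs := Cofan.IsColimit.desc hc k
  have hd : d ≫ ιG = 𝟙 _ := by
    apply Cofan.IsColimit.hom_ext hc
    intro i
    rw [Cofan.IsColimit.fac_assoc, hk, Category.comp_id]
  -- so every section lies in `G`
  have key : ∀ (U : (Over S)ᵒᵖ) (x : c.pt.obj.obj U), x ∈ G.obj U := by
    intro U x
    have h1 : ιG.hom.app U (d.hom.app U x) = x := by
      have := congrArg (fun m => m.hom.app U x) hd
      exact this
    rw [← h1]
    exact (d.hom.app U x).2
  have hx := key (op T) (yEquiv c.pt T ξ)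
  refine (J S).superset_covering ?_ hx
  rintro T' g ⟨i, x, hx⟩
  refine ⟨i, (yEquiv (F i) T').symm x, ?_⟩
  apply (yEquiv c.pt T').injective
  rw [yEquiv_comp, Equiv.apply_symm_apply, hx]
  exact (J S).uliftYonedaEquiv_naturality ξ g

/-- Distinct summands of a coproduct of sheaves are disjoint. -/
theorem isEmpty_of_cofan_inj_eq (hc : IsColimit c) {i j : ι} (hij : i ≠ j) {T : Over S}
    (τi : (yon S).obj T ⟶ F i) (τj : (yon S).obj T ⟶ F j)
    (h : τi ≫ c.inj i = τj ≫ c.inj j) : IsEmpty T.left := by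
  classical
  let W : ULift.{u} Bool → Over S := fun _ => Over.mk (𝟙 S)
  let hT : IsTerminal ((yon S).obj (Over.mk (𝟙 S))) :=
    IsTerminal.isTerminalObj (yon S) _ Over.mkIdTerminal
  let r : c.pt ⟶ (yon S).obj (Groth.Agent.H3.AlgSpCov.sigmaOver W) :=
    Cofan.IsColimit.desc hc (fun k => hT.from (F k) ≫
      (yon S).map (Groth.Agent.H3.AlgSpCov.sigmaOverι W ⟨decide (k = i)⟩))
  obtain ⟨e, he⟩ := (yon S).map_surjective (τi ≫ hT.from (F i))
  have he' : (yon S).map e = τj ≫ hT.from (F j) := by rw [he]; exact hT.hom_ext _ _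
  have h1 : τi ≫ c.inj i ≫ r =
      (yon S).map (e ≫ Groth.Agent.H3.AlgSpCov.sigmaOverι W ⟨true⟩) := by
    rw [Cofan.IsColimit.fac, ← Category.assoc, ← he, Functor.map_comp]
    have : decide (i = i) = true := by simp
    rw [this]
  have h2 : τj ≫ c.inj j ≫ r =
      (yon S).map (e ≫ Groth.Agent.H3.AlgSpCov.sigmaOverι W ⟨false⟩) := by
    rw [Cofan.IsColimit.fac, ← Category.assoc, ← he', Functor.map_comp]
    have : decide (j = i) = false := by simpa using (Ne.symm hij)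
    rw [this]
  have h3 : e ≫ Groth.Agent.H3.AlgSpCov.sigmaOverι W ⟨true⟩ =
      e ≫ Groth.Agent.H3.AlgSpCov.sigmaOverι W ⟨false⟩ := by
    apply (yon S).map_injective
    rw [← h1, ← h2, ← Category.assoc, h, Category.assoc]
  exact Groth.Agent.H3.AlgSpCov.isEmpty_of_sigmaOverι_ne W (i := ⟨true⟩) (j := ⟨false⟩)
    (by simp) e e h3

/-- The coprojections of a coproduct of sheaves are monomorphisms. -/
theorem mono_cofan_inj (hc : IsColimit c) (i : ι) : Mono (c.inj i) := by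
  classical
  let r : c.pt ⟶ F i ⨿ ⊤_ (Sp S) := Cofan.IsColimit.desc hc (fun k =>
    if h : k = i then eqToHom (by rw [h]) ≫ coprod.inl else terminal.from _ ≫ coprod.inr)
  have hr : c.inj i ≫ r = coprod.inl := by
    rw [Cofan.IsColimit.fac]
    simp
  exact mono_of_mono_fac hr

end Cofan

section OpenCriterion

variable {A G : Sp S}

/-- A morphism over `S` whose image lies in an open factors through it. -/
lemma exists_overOpen_lift {T T'' : Over S} (V : T.left.Opens) (y : T'' ⟶ T)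
    (hmem : ∀ t'' : ↥T''.left, y.left t'' ∈ V) :
    ∃ z : T'' ⟶ overOpen T V, z ≫ overOpenι T V = y := by
  have hrange : Set.range y.left ⊆ Set.range V.ι := by
    rintro _ ⟨t'', rfl⟩
    rw [Scheme.Opens.range_ι]
    exact hmem t''
  let z₀ : T''.left ⟶ V.toScheme := IsOpenImmersion.lift V.ι y.left hrange
  have hz₀ : z₀ ≫ V.ι = y.left := IsOpenImmersion.lift_fac _ _ _
  refine ⟨Over.homMk z₀ ?_, Over.OverMorphism.ext hz₀⟩
  change z₀ ≫ V.ι ≫ T.hom = T''.hom
  rw [← Category.assoc, hz₀]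
  exact Over.w y

instance mono_overOpenι {T : Over S} (V : T.left.Opens) : Mono (overOpenι T V) := by
  refine ⟨fun g h hgh => ?_⟩
  apply Over.OverMorphism.ext
  rw [← cancel_mono V.ι]
  exact congrArg (fun f => f.left) hgh

/-- Criterion for the base change of a monomorphism of sheaves to be an open subscheme. -/
theorem isPullback_of_mono_of_forall_mem (a : A ⟶ G) [Mono a] {T : Over S}
    (ξ : (yon S).obj T ⟶ G) (V : T.left.Opens) (τ : (yon S).obj (overOpen T V) ⟶ A)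
    (hτ : τ ≫ a = (yon S).map (overOpenι T V) ≫ ξ)
    (h : ∀ (T'' : Over S) (y : T'' ⟶ T) (x : (yon S).obj T'' ⟶ A),
      x ≫ a = (yon S).map y ≫ ξ → ∀ t'' : ↥T''.left, y.left t'' ∈ V) :
    IsPullback τ ((yon S).map (overOpenι T V)) a ξ := by
  apply isPullback_of_yon hτ
  intro T'' x y hxy
  obtain ⟨y', rfl⟩ := (yon S).map_surjective y
  obtain ⟨z', hz'⟩ := exists_overOpen_lift V y' (h T'' y' x hxy)
  refine ⟨(yon S).map z', ⟨?_, ?_⟩, ?_⟩
  · rw [← cancel_mono a, Category.assoc, hτ, ← Category.assoc, ← Functor.map_comp, hz', hxy]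
  · rw [← Functor.map_comp, hz']
  · rintro w ⟨-, hw2⟩
    obtain ⟨w', rfl⟩ := (yon S).map_surjective w
    congr 1
    rw [← Functor.map_comp] at hw2
    have hw2' := (yon S).map_injective hw2
    rw [← cancel_mono (overOpenι T V), hw2', hz']

end OpenCriterion

section Locus

variable {ι : Type w} {F : ι → Sp S} (c : Cofan F)

/-- The locus of `T` over which a point `ξ` of the coproduct lies in the `i`-th summand. -/
def cofanLocus {T : Over S} (ξ : (yon S).obj T ⟶ c.pt) (i : ι) : Set T.left :=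
  {t | ∃ (T' : Over S) (g : T' ⟶ T), Flat g.left ∧ LocallyOfFinitePresentation g.left ∧
    t ∈ Set.range g.left ∧ ∃ τ : (yon S).obj T' ⟶ F i, τ ≫ c.inj i = (yon S).map g ≫ ξ}

variable {c}

lemma isOpen_cofanLocus {T : Over S} (ξ : (yon S).obj T ⟶ c.pt) (i : ι) :
    IsOpen (cofanLocus c ξ i) := by
  rw [isOpen_iff_forall_mem_open]
  rintro t ⟨T', g, h1, h2, ht, τ, hτ⟩
  refine ⟨Set.range g.left, ?_, g.left.isOpenMap.isOpen_range, ht⟩
  rintro t' ht'
  exact ⟨T', g, h1, h2, ht', τ, hτ⟩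

lemma exists_mem_cofanLocus (hc : IsColimit c) {T : Over S} (ξ : (yon S).obj T ⟶ c.pt)
    (t : T.left) : ∃ i, t ∈ cofanLocus c ξ i := by
  obtain ⟨R₀, hR₀, hle⟩ := (mem_J_iff _).1 (cofanSieve_mem hc ξ)
  obtain ⟨Y₀, g₀, hg₀, ht⟩ := exists_mem_range_of_mem_fppf hR₀ t
  have hfl : (@Flat ⊓ @LocallyOfFinitePresentation : MorphismProperty Scheme) g₀ := hR₀.2 hg₀
  obtain ⟨hg⟩ := hg₀
  rename_i Y g
  obtain ⟨i, τ, hτ⟩ := hle _ _ hg
  exact ⟨i, Y, g, hfl.1, hfl.2, ht, τ, hτ⟩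

/-- Two points of summands lying over the same point of `T` lie in the same summand. -/
lemma eq_of_cofan_inj_eq_of_apply_eq (hc : IsColimit c) {T T₁ T₂ : Over S}
    (ξ : (yon S).obj T ⟶ c.pt) {i j : ι} (y₁ : T₁ ⟶ T) (x₁ : (yon S).obj T₁ ⟶ F i)
    (h₁ : x₁ ≫ c.inj i = (yon S).map y₁ ≫ ξ) (y₂ : T₂ ⟶ T) (x₂ : (yon S).obj T₂ ⟶ F j)
    (h₂ : x₂ ≫ c.inj j = (yon S).map y₂ ≫ ξ) (t₁ : T₁.left) (t₂ : T₂.left)
    (ht : y₁.left t₁ = y₂.left t₂) : i = j := by
  by_contra hij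
  obtain ⟨z, -, -⟩ := Scheme.Pullback.exists_preimage_pullback t₁ t₂ ht
  let P : Over S := Over.mk (pullback.fst y₁.left y₂.left ≫ T₁.hom)
  let p₁ : P ⟶ T₁ := Over.homMk (pullback.fst y₁.left y₂.left) rfl
  let p₂ : P ⟶ T₂ := Over.homMk (pullback.snd y₁.left y₂.left) (by
    change pullback.snd y₁.left y₂.left ≫ T₂.hom = pullback.fst y₁.left y₂.left ≫ T₁.hom
    rw [← Over.w y₁, ← Over.w y₂, ← Category.assoc, ← Category.assoc, pullback.condition])
  have hp : p₁ ≫ y₁ = p₂ ≫ y₂ := Over.OverMorphism.ext pullback.condition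
  have hE : IsEmpty P.left := isEmpty_of_cofan_inj_eq hc hij ((yon S).map p₁ ≫ x₁)
    ((yon S).map p₂ ≫ x₂) (by
      rw [Category.assoc, h₁, Category.assoc, h₂, ← Category.assoc, ← Category.assoc,
        ← Functor.map_comp, ← Functor.map_comp, hp])
  exact hE.false z

lemma mem_cofanLocus_of_lift (hc : IsColimit c) {T T'' : Over S} (ξ : (yon S).obj T ⟶ c.pt)
    {i : ι} (y : T'' ⟶ T) (x : (yon S).obj T'' ⟶ F i)
    (hx : x ≫ c.inj i = (yon S).map y ≫ ξ) (t'' : T''.left) :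
    y.left t'' ∈ cofanLocus c ξ i := by
  obtain ⟨j, hj⟩ := exists_mem_cofanLocus hc ξ (y.left t'')
  obtain ⟨T', g, h1, h2, ⟨t', ht'⟩, τ, hτ⟩ := hj
  have : i = j := eq_of_cofan_inj_eq_of_apply_eq hc ξ y x hx g τ hτ t'' t' ht'.symm
  subst this
  exact ⟨T', g, h1, h2, ⟨t', ht'⟩, τ, hτ⟩

lemma disjoint_cofanLocus (hc : IsColimit c) {T : Over S} (ξ : (yon S).obj T ⟶ c.pt)
    {i j : ι} (hij : i ≠ j) : Disjoint (cofanLocus c ξ i) (cofanLocus c ξ j) := by
  rw [Set.disjoint_left]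
  rintro t ⟨T₁, g₁, -, -, ⟨t₁, ht₁⟩, τ₁, hτ₁⟩ ⟨T₂, g₂, -, -, ⟨t₂, ht₂⟩, τ₂, hτ₂⟩
  exact hij (eq_of_cofan_inj_eq_of_apply_eq hc ξ g₁ τ₁ hτ₁ g₂ τ₂ hτ₂ t₁ t₂ (ht₁.trans ht₂.symm))

/-- The open subscheme of `T` over which `ξ` lies in the `i`-th summand. -/
def cofanOpen {T : Over S} (ξ : (yon S).obj T ⟶ c.pt) (i : ι) : T.left.Opens :=
  ⟨cofanLocus c ξ i, isOpen_cofanLocus ξ i⟩

lemma exists_section_of_isEmpty (G : Sp S) (Z : Over S) [IsEmpty Z.left] :
    Nonempty ((yon S).obj Z ⟶ G) := by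
  have hG : Presieve.IsSheaf (J S) G.obj := (isSheaf_iff_isSheaf_of_type _ _).1 G.property
  have h := hG (⊥ : Sieve Z) (Groth.Agent.H3.AlgSpCov.bot_mem_J_of_isEmpty Z)
  obtain ⟨t, -, -⟩ := h (fun _ _ hf => hf.elim) (fun _ _ _ _ _ _ _ hf => hf.elim)
  exact ⟨(yEquiv G Z).symm t⟩

lemma hom_ext_of_isEmpty (G : Sp S) (Z : Over S) [IsEmpty Z.left] (a b : (yon S).obj Z ⟶ G) :
    a = b := by
  have := Groth.Agent.H3.AlgSpCov.subsingleton_sections_of_isEmpty G Z
  apply (yEquiv G Z).injective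
  exact Subsingleton.elim _ _

/-- Over its locus, `ξ` lifts to the `i`-th summand. -/
theorem exists_lift_cofanOpen (hc : IsColimit c) {T : Over S} (ξ : (yon S).obj T ⟶ c.pt)
    (i : ι) : ∃ τ : (yon S).obj (overOpen T (cofanOpen ξ i)) ⟶ F i,
      τ ≫ c.inj i = (yon S).map (overOpenι T (cofanOpen ξ i)) ≫ ξ := by
  have := mono_cofan_inj hc i
  apply exists_lift_of_mono_of_liftSieve_mem
  refine (J S).superset_covering ?_
    (cofanSieve_mem hc ((yon S).map (overOpenι T (cofanOpen ξ i)) ≫ ξ))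
  rintro T' g ⟨j, τ, hτ⟩
  by_cases hE : IsEmpty T'.left
  · obtain ⟨τ'⟩ := exists_section_of_isEmpty (F i) T'
    exact ⟨τ', hom_ext_of_isEmpty _ _ _ _⟩
  · rw [not_isEmpty_iff] at hE
    obtain ⟨t'⟩ := hE
    have hmem : (g ≫ overOpenι T (cofanOpen ξ i)).left t' ∈ cofanLocus c ξ i :=
      (g.left t').2
    obtain ⟨T₂, g₂, -, -, ⟨t₂, ht₂⟩, τ₂, hτ₂⟩ := hmem
    have hτ' : τ ≫ c.inj j = (yon S).map (g ≫ overOpenι T (cofanOpen ξ i)) ≫ ξ := by
      rw [hτ, Functor.map_comp, Category.assoc]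
    have : j = i := eq_of_cofan_inj_eq_of_apply_eq hc ξ _ τ hτ' g₂ τ₂ hτ₂ t' t₂ ht₂.symm
    subst this
    exact ⟨τ, hτ⟩

/-- The base change of a coprojection is the inclusion of an open and closed subscheme. -/
theorem isPullback_cofanOpen (hc : IsColimit c) {T : Over S} (ξ : (yon S).obj T ⟶ c.pt) (i : ι)
    (τ : (yon S).obj (overOpen T (cofanOpen ξ i)) ⟶ F i)
    (hτ : τ ≫ c.inj i = (yon S).map (overOpenι T (cofanOpen ξ i)) ≫ ξ) :
    IsPullback τ ((yon S).map (overOpenι T (cofanOpen ξ i))) (c.inj i) ξ := by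
  have := mono_cofan_inj hc i
  exact isPullback_of_mono_of_forall_mem (c.inj i) ξ (cofanOpen ξ i) τ hτ
    (fun T'' y x hx t'' => mem_cofanLocus_of_lift hc ξ y x hx t'')

lemma isClosed_cofanLocus (hc : IsColimit c) {T : Over S} (ξ : (yon S).obj T ⟶ c.pt) (i : ι) :
    IsClosed (cofanLocus c ξ i) := by
  have : (cofanLocus c ξ i)ᶜ = ⋃ j ∈ {j | j ≠ i}, cofanLocus c ξ j := by
    ext t
    simp only [Set.mem_compl_iff, Set.mem_iUnion, Set.mem_ofPred_eq, exists_prop]
    constructor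
    · intro ht
      obtain ⟨j, hj⟩ := exists_mem_cofanLocus hc ξ t
      exact ⟨j, fun h => ht (h ▸ hj), hj⟩
    · rintro ⟨j, hji, hj⟩ hi
      exact Set.disjoint_left.1 (disjoint_cofanLocus hc ξ hji) hj hi
  rw [← isOpen_compl_iff, this]
  exact isOpen_biUnion fun j _ => isOpen_cofanLocus ξ j

/-- **Coprojections of coproducts of sheaves are representable by open and closed
immersions.** -/
theorem repWith_clopen_cofan_inj (hc : IsColimit c) (i : ι) :
    RepWith (@IsOpenImmersion ⊓ @IsClosedImmersion) (c.inj i) := by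
  apply MorphismProperty.relative.of_exists
  intro T ξ
  obtain ⟨τ, hτ⟩ := exists_lift_cofanOpen hc ξ i
  refine ⟨overOpen T (cofanOpen ξ i), τ, overOpenι T (cofanOpen ξ i),
    isPullback_cofanOpen hc ξ i τ hτ, ?_, ?_⟩
  · change IsOpenImmersion (cofanOpen ξ i).ι
    infer_instance
  · change IsClosedImmersion (cofanOpen ξ i).ι
    apply IsClosedImmersion.of_isPreimmersion
    rw [Scheme.Opens.range_ι]
    exact isClosed_cofanLocus hc ξ i

end Locus

end Groth.Agent.H5.AlgSp
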