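import Groth.Prelude.Def_AlgSp
import Groth.Prelude.Def_AlgSpSub
import Groth.Agent.Lib.Helper5.AlgSp.Coprod
import Groth.Agent.Lib.Helper5.AlgSp.Mono
import Groth.Agent.Lib.Helper5.AlgSp.RepOver
import Mathlib

/-!
# Intersections of closed subspaces and scheme theoretic images
-/

set_option autoImplicit false

universe w u

open CategoryTheory CategoryTheory.Limits AlgebraicGeometry Opposite

namespace Groth.Agent.H5.AlgSp

open _root_.AlgSp

variable {S : Scheme.{u}}

section Criterion

variable {A G : Sp S}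

/-- Criterion for the base change of a monomorphism of sheaves to be a given monomorphism of
schemes. -/
theorem isPullback_of_mono_of_forall_exists (a : A ⟶ G) [Mono a] {T T₀ : Over S}
    (ξ : (yon S).obj T ⟶ G) (ι₀ : T₀ ⟶ T) [Mono ι₀] (τ : (yon S).obj T₀ ⟶ A)
    (hτ : τ ≫ a = (yon S).map ι₀ ≫ ξ)
    (h : ∀ (T'' : Over S) (y : T'' ⟶ T) (x : (yon S).obj T'' ⟶ A),
      x ≫ a = (yon S).map y ≫ ξ → ∃ z : T'' ⟶ T₀, z ≫ ι₀ = y) :
    IsPullback τ ((yon S).map ι₀) a ξ := by
  apply isPullback_of_yon hτ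
  intro T'' x y hxy
  obtain ⟨y', rfl⟩ := (yon S).map_surjective y
  obtain ⟨z', hz'⟩ := h T'' y' x hxy
  refine ⟨(yon S).map z', ⟨?_, ?_⟩, ?_⟩
  · rw [← cancel_mono a, Category.assoc, hτ, ← Category.assoc, ← Functor.map_comp, hz', hxy]
  · rw [← Functor.map_comp, hz']
  · rintro w ⟨-, hw2⟩
    obtain ⟨w', rfl⟩ := (yon S).map_surjective w
    congr 1
    rw [← Functor.map_comp] at hw2
    have hw2' := (yon S).map_injective hw2
    rw [← cancel_mono ι₀, hw2', hz']

/-- A morphism of sheaves all of whose scheme-valued points lift through a monomorphism lifts. -/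
theorem exists_lift_of_mono_of_forall_yon {F H : Sp S} (a : F ⟶ G) [Mono a] (f : H ⟶ G)
    (h : ∀ (T : Over S) (x : (yon S).obj T ⟶ H), ∃ y : (yon S).obj T ⟶ F, y ≫ a = x ≫ f) :
    ∃ k : H ⟶ F, k ≫ a = f := by
  have hmono : Mono (pullback.snd a f) := inferInstance
  have hsurj : Sheaf.IsLocallySurjective (pullback.snd a f) := by
    apply isLocallySurjective_of_liftSieve
    intro T σ
    obtain ⟨y, hy⟩ := h T σ
    refine (J S).superset_covering ?_ ((J S).top_mem T)
    intro T' g _
    refine ⟨(yon S).map g ≫ pullback.lift y σ hy, ?_⟩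
    rw [Category.assoc, pullback.lift_snd]
  have : IsIso (pullback.snd a f) := isIso_of_mono_of_isLocallySurjective _
  refine ⟨inv (pullback.snd a f) ≫ pullback.fst a f, ?_⟩
  rw [Category.assoc, pullback.condition, IsIso.inv_hom_id_assoc]

end Criterion

section Inter

variable {G : Sp S} {A : Type w} {Z : A → Sp S} (i : ∀ α, Z α ⟶ G)

/-- The subfunctor of `G` of sections lifting through all `i α`. -/
def interSubfunctor : Subfunctor G.obj where
  obj T := {s | ∀ α, ∃ y : (yon S).obj T.unop ⟶ Z α, y ≫ i α = (yEquiv G T.unop).symm s}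
  map := by
    intro T T' k s hs α
    obtain ⟨y, hy⟩ := hs α
    refine ⟨(yon S).map k.unop ≫ y, ?_⟩
    rw [Category.assoc, hy]
    exact ((J S).uliftYonedaEquiv_symm_map k s).symm

lemma interSubfunctor_isSheaf [∀ α, Mono (i α)] :
    Presieve.IsSheaf (J S) (interSubfunctor i).toFunctor := by
  have hG : Presieve.IsSheaf (J S) G.obj := (isSheaf_iff_isSheaf_of_type _ _).1 G.property
  rw [Subfunctor.isSheaf_iff _ hG]
  intro T s hs α
  apply exists_lift_of_mono_of_liftSieve_mem (i α)
  refine (J S).superset_covering ?_ hs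
  intro T' g hg
  obtain ⟨y, hy⟩ := hg α
  refine ⟨y, ?_⟩
  rw [hy]
  exact (J S).uliftYonedaEquiv_symm_map g.op s

/-- The intersection of a family of subsheaves. -/
def inter [∀ α, Mono (i α)] : Sp S :=
  ⟨(interSubfunctor i).toFunctor, (isSheaf_iff_isSheaf_of_type _ _).2 (interSubfunctor_isSheaf i)⟩

/-- The inclusion of the intersection. -/
def interι [∀ α, Mono (i α)] : inter i ⟶ G := ⟨(interSubfunctor i).ι⟩

instance [∀ α, Mono (i α)] : Mono (interι i) := by
  apply mono_of_yon
  intro T x y hxy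
  apply (yEquiv _ T).injective
  have := congrArg (yEquiv G T) hxy
  rw [yEquiv_comp, yEquiv_comp] at this
  exact Subtype.ext this

/-- A section factors through the intersection iff it factors through each member. -/
lemma factors_interι_iff [∀ α, Mono (i α)] {T : Over S} (x : (yon S).obj T ⟶ G) :
    (∃ y : (yon S).obj T ⟶ inter i, y ≫ interι i = x) ↔
      ∀ α, ∃ y : (yon S).obj T ⟶ Z α, y ≫ i α = x := by
  constructor
  · rintro ⟨y, rfl⟩ α
    obtain ⟨z, hz⟩ := (yEquiv (inter i) T y).2 α
    refine ⟨z, hz.trans ?_⟩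
    apply (yEquiv G T).injective
    rw [Equiv.apply_symm_apply, yEquiv_comp]
    rfl
  · intro h
    refine ⟨(yEquiv (inter i) T).symm ⟨yEquiv G T x, ?_⟩, ?_⟩
    · intro α
      obtain ⟨y, hy⟩ := h α
      refine ⟨y, ?_⟩
      change y ≫ i α = (yEquiv G T).symm (yEquiv G T x)
      rw [Equiv.symm_apply_apply]
      exact hy
    · apply (yEquiv G T).injective
      rw [yEquiv_comp, Equiv.apply_symm_apply]
      rfl

/-- The intersection maps to each member. -/
lemma exists_inter_proj [∀ α, Mono (i α)] (α : A) : ∃ k : inter i ⟶ Z α, k ≫ i α = interι i := by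
  apply exists_lift_of_mono_of_forall_yon
  intro T x
  exact (factors_interι_iff i _).1 ⟨x, rfl⟩ α

/-- A morphism of sheaves factors through the intersection iff it factors through each member. -/
lemma exists_lift_inter [∀ α, Mono (i α)] {F : Sp S} (f : F ⟶ G)
    (h : ∀ α, ∃ y : F ⟶ Z α, y ≫ i α = f) : ∃ y : F ⟶ inter i, y ≫ interι i = f := by
  have hmem : ∀ (U : (Over S)ᵒᵖ) (s : F.obj.obj U), f.hom.app U s ∈ (interSubfunctor i).obj U := by
    intro U s α
    obtain ⟨y, hy⟩ := h α
    refine ⟨(yEquiv F U.unop).symm s ≫ y, ?_⟩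
    rw [Category.assoc, hy]
    apply (yEquiv G U.unop).injective
    rw [yEquiv_comp, Equiv.apply_symm_apply, Equiv.apply_symm_apply]
  refine ⟨⟨Subfunctor.lift f.hom ?_⟩, ?_⟩
  · rintro U _ ⟨s, rfl⟩
    exact hmem U s
  · apply Sheaf.hom_ext
    rfl

/-- The closed subscheme of `T` cut out by all base changes of the `i α`. -/
noncomputable def interIdeal (hi : ∀ α, RepWith @IsClosedImmersion (i α)) {T : Over S}
    (ξ : (yon S).obj T ⟶ G) : Scheme.IdealSheafData T.left :=
  ⨆ α, ((hi α).rep.snd ξ).left.ker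

/-- The closed subscheme of `T` cut out by all base changes of the `i α`, over `S`. -/
noncomputable def interOver (hi : ∀ α, RepWith @IsClosedImmersion (i α)) {T : Over S}
    (ξ : (yon S).obj T ⟶ G) : Over S :=
  Over.mk ((interIdeal i hi ξ).subschemeι ≫ T.hom)

/-- The inclusion of `interOver`. -/
noncomputable def interOverι (hi : ∀ α, RepWith @IsClosedImmersion (i α)) {T : Over S}
    (ξ : (yon S).obj T ⟶ G) : interOver i hi ξ ⟶ T :=
  Over.homMk (interIdeal i hi ξ).subschemeι rfl

instance (hi : ∀ α, RepWith @IsClosedImmersion (i α)) {T : Over S}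
    (ξ : (yon S).obj T ⟶ G) : Mono (interOverι i hi ξ) := by
  refine ⟨fun g h hgh => ?_⟩
  apply Over.OverMorphism.ext
  have h1 : g.left ≫ (interIdeal i hi ξ).subschemeι = h.left ≫ (interIdeal i hi ξ).subschemeι :=
    congrArg (fun f => f.left) hgh
  exact (cancel_mono (interIdeal i hi ξ).subschemeι).1 h1

lemma isClosedImmersion_le_mono :
    @IsClosedImmersion ≤ MorphismProperty.monomorphisms Scheme.{u} := by
  intro X Y f hf
  have : IsClosedImmersion f := hf
  exact MorphismProperty.monomorphisms.infer_property f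

lemma mono_of_repWith_isClosedImmersion {F : Sp S} {a : F ⟶ G}
    (ha : RepWith @IsClosedImmersion a) : Mono a :=
  mono_of_repWith isClosedImmersion_le_mono ha

/-- A morphism over `S` whose kernel contains an ideal factors through its closed subscheme. -/
lemma exists_subscheme_lift {T T'' : Over S} (I : Scheme.IdealSheafData T.left) (y : T'' ⟶ T)
    (hle : I ≤ y.left.ker) :
    ∃ z : T'' ⟶ Over.mk (I.subschemeι ≫ T.hom),
      z ≫ (Over.homMk I.subschemeι rfl : Over.mk (I.subschemeι ≫ T.hom) ⟶ T) = y := by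
  let z₀ : T''.left ⟶ I.subscheme :=
    IsClosedImmersion.lift I.subschemeι y.left (by rw [Scheme.IdealSheafData.ker_subschemeι]; exact hle)
  have hz₀ : z₀ ≫ I.subschemeι = y.left := IsClosedImmersion.lift_fac _ _ _
  refine ⟨Over.homMk z₀ ?_, Over.OverMorphism.ext hz₀⟩
  change z₀ ≫ I.subschemeι ≫ T.hom = T''.hom
  rw [← Category.assoc, hz₀]
  exact Over.w y

theorem repWith_isClosedImmersion_interι (hi : ∀ α, RepWith @IsClosedImmersion (i α)) :
    haveI : ∀ α, Mono (i α) := fun α => mono_of_repWith_isClosedImmersion (hi α)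
    RepWith @IsClosedImmersion (interι i) := by
  have : ∀ α, Mono (i α) := fun α => mono_of_repWith_isClosedImmersion (hi α)
  apply MorphismProperty.relative.of_exists
  intro T ξ
  -- the lift of the closed subscheme
  have hlift : ∀ α, ∃ y : (yon S).obj (interOver i hi ξ) ⟶ Z α,
      y ≫ i α = (yon S).map (interOverι i hi ξ) ≫ ξ := by
    intro α
    have hc : IsClosedImmersion ((hi α).rep.snd ξ).left := (hi α).property_snd ξ
    have hle : ((hi α).rep.snd ξ).left.ker ≤ (interIdeal i hi ξ).subschemeι.ker := by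
      rw [Scheme.IdealSheafData.ker_subschemeι]
      exact le_iSup (fun α => ((hi α).rep.snd ξ).left.ker) α
    let z₀ : (interIdeal i hi ξ).subscheme ⟶ ((hi α).rep.pullback ξ).left :=
      IsClosedImmersion.lift ((hi α).rep.snd ξ).left (interIdeal i hi ξ).subschemeι hle
    have hz₀ : z₀ ≫ ((hi α).rep.snd ξ).left = (interIdeal i hi ξ).subschemeι :=
      IsClosedImmersion.lift_fac _ _ _
    let z : interOver i hi ξ ⟶ (hi α).rep.pullback ξ := Over.homMk z₀ (by
      change z₀ ≫ ((hi α).rep.pullback ξ).hom = (interIdeal i hi ξ).subschemeι ≫ T.hom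
      rw [← hz₀, Category.assoc, Over.w])
    have hz : z ≫ (hi α).rep.snd ξ = interOverι i hi ξ := Over.OverMorphism.ext hz₀
    refine ⟨(yon S).map z ≫ (hi α).rep.fst ξ, ?_⟩
    rw [Category.assoc, ((hi α).rep.isPullback ξ).w, ← Category.assoc, ← Functor.map_comp, hz]
  obtain ⟨τ, hτ⟩ := (factors_interι_iff i _).2 hlift
  refine ⟨_, τ, interOverι i hi ξ, ?_, ?_⟩
  · apply isPullback_of_mono_of_forall_exists (interι i) ξ (interOverι i hi ξ) τ hτ
    intro T'' y x hxy
    apply exists_subscheme_lift
    apply iSup_le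
    intro α
    obtain ⟨w, hw⟩ := (factors_interι_iff i _).1 ⟨x, hxy⟩ α
    let l := ((hi α).rep.isPullback ξ).lift w ((yon S).map y) hw
    obtain ⟨l', hl'⟩ := (yon S).map_surjective l
    have h1 : l' ≫ (hi α).rep.snd ξ = y := by
      apply (yon S).map_injective
      rw [Functor.map_comp, hl']
      exact ((hi α).rep.isPullback ξ).lift_snd _ _ _
    rw [← h1]
    exact Scheme.Hom.le_ker_comp _ _
  · change IsClosedImmersion (interIdeal i hi ξ).subschemeι
    infer_instance

theorem isAlgSpace_inter (hG : IsAlgSpace G) (hi : ∀ α, RepWith @IsClosedImmersion (i α)) :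
    haveI : ∀ α, Mono (i α) := fun α => mono_of_repWith_isClosedImmersion (hi α)
    IsAlgSpace (inter i) :=
  haveI : ∀ α, Mono (i α) := fun α => mono_of_repWith_isClosedImmersion (hi α)
  isAlgSpace_of_representable hG (interι i) (repWith_isClosedImmersion_interι i hi).rep

end Inter

end Groth.Agent.H5.AlgSp
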