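import Groth.Prelude.Def_AlgSp
import Groth.Agent.Lib.Helper5.AlgSp.InterClosed
import Mathlib

/-!
# Subsheaves cut out by a local predicate on scheme valued points
-/

set_option autoImplicit false

universe u

open CategoryTheory CategoryTheory.Limits AlgebraicGeometry Opposite

namespace Groth.Agent.H5.AlgSp

open _root_.AlgSp

variable {S : Scheme.{u}}

/-- A predicate on scheme valued points of `G` which is stable under pullback and local for
the fppf topology. -/
structure PointPred (G : Sp S) where
  /-- the predicate -/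
  pred : ∀ {T : Over S}, ((yon S).obj T ⟶ G) → Prop
  /-- stability under pullback -/
  map : ∀ {T T' : Over S} (k : T' ⟶ T) (ξ : (yon S).obj T ⟶ G), pred ξ → pred ((yon S).map k ≫ ξ)
  /-- locality -/
  loc : ∀ {T : Over S} (ξ : (yon S).obj T ⟶ G) (R : Sieve T), R ∈ J S T →
    (∀ (T' : Over S) (k : T' ⟶ T), R k → pred ((yon S).map k ≫ ξ)) → pred ξ

namespace PointPred

variable {G : Sp S} (P : PointPred G)

/-- The subfunctor of `G` of sections satisfying `P`. -/
def subfunctor : Subfunctor G.obj where
  obj T := {s | P.pred ((yEquiv G T.unop).symm s)}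
  map := by
    intro T T' k s hs
    have : (yEquiv G T'.unop).symm (G.obj.map k s) =
        (yon S).map k.unop ≫ (yEquiv G T.unop).symm s :=
      (J S).uliftYonedaEquiv_symm_map k s
    change P.pred _
    rw [this]
    exact P.map _ _ hs

lemma subfunctor_isSheaf : Presieve.IsSheaf (J S) P.subfunctor.toFunctor := by
  have hG : Presieve.IsSheaf (J S) G.obj := (isSheaf_iff_isSheaf_of_type _ _).1 G.property
  rw [Subfunctor.isSheaf_iff _ hG]
  intro T s hs
  refine P.loc _ _ hs ?_
  intro T' k hk
  have h1 : P.pred ((yEquiv G T').symm (G.obj.map k.op s)) := hk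
  have : (yEquiv G T').symm (G.obj.map k.op s) =
      (yon S).map k ≫ (yEquiv G T.unop).symm s :=
    (J S).uliftYonedaEquiv_symm_map k.op s
  rw [this] at h1
  exact h1

/-- The subsheaf of `G` cut out by `P`. -/
def sub : Sp S :=
  ⟨P.subfunctor.toFunctor, (isSheaf_iff_isSheaf_of_type _ _).2 P.subfunctor_isSheaf⟩

/-- The inclusion. -/
def ι : P.sub ⟶ G := ⟨P.subfunctor.ι⟩

instance : Mono P.ι := by
  apply mono_of_yon
  intro T x y hxy
  apply (yEquiv _ T).injective
  have := congrArg (yEquiv G T) hxy
  rw [yEquiv_comp, yEquiv_comp] at this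
  exact Subtype.ext this

/-- A scheme valued point factors through the subsheaf iff it satisfies the predicate. -/
lemma factors_iff {T : Over S} (x : (yon S).obj T ⟶ G) :
    (∃ y : (yon S).obj T ⟶ P.sub, y ≫ P.ι = x) ↔ P.pred x := by
  constructor
  · rintro ⟨y, rfl⟩
    have h : P.pred ((yEquiv G T).symm (yEquiv P.sub T y).1) := (yEquiv P.sub T y).2
    have e : (yEquiv G T).symm (yEquiv P.sub T y).1 = y ≫ P.ι := by
      apply (yEquiv G T).injective
      rw [Equiv.apply_symm_apply, yEquiv_comp]
      rfl
    rw [← e]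
    exact h
  · intro h
    refine ⟨(yEquiv P.sub T).symm ⟨yEquiv G T x, ?_⟩, ?_⟩
    · change P.pred ((yEquiv G T).symm (yEquiv G T x))
      rw [Equiv.symm_apply_apply]
      exact h
    · apply (yEquiv G T).injective
      rw [yEquiv_comp, Equiv.apply_symm_apply]
      rfl

/-- A morphism of sheaves factors through the subsheaf iff all its points satisfy the predicate. -/
lemma exists_lift_iff {F : Sp S} (f : F ⟶ G) :
    (∃ y : F ⟶ P.sub, y ≫ P.ι = f) ↔
      ∀ (T : Over S) (x : (yon S).obj T ⟶ F), P.pred (x ≫ f) := by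
  constructor
  · rintro ⟨y, rfl⟩ T x
    exact (P.factors_iff _).1 ⟨x ≫ y, by rw [Category.assoc]⟩
  · intro h
    apply exists_lift_of_mono_of_forall_yon
    intro T x
    exact (P.factors_iff _).2 (h T x)

end PointPred

end Groth.Agent.H5.AlgSp
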