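import Groth.Prelude.Def_AlgSp
import Groth.Agent.Lib.Helper5.AlgSp.SubSp
import Groth.Agent.Lib.Helper5.Descent.ImmersionDescent
import Mathlib

/-!
# Descending subschemes of a chart to subspaces
-/

set_option autoImplicit false

universe u

open CategoryTheory CategoryTheory.Limits AlgebraicGeometry Opposite

namespace Groth.Agent.H5.AlgSp

open _root_.AlgSp

variable {S : Scheme.{u}}

section Desc

variable {Y : Sp S} {V Z₀ : Over S} (p : (yon S).obj V ⟶ Y) (ι : Z₀ ⟶ V) [Mono ι]

instance mono_yon_map_of_mono : Mono ((yon S).map ι) := by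
  refine ⟨fun {W} a b hab => ?_⟩
  apply hom_ext_yon
  intro T x
  obtain ⟨xa, hxa⟩ := (yon S).map_surjective (x ≫ a)
  obtain ⟨xb, hxb⟩ := (yon S).map_surjective (x ≫ b)
  rw [← hxa, ← hxb]
  congr 1
  rw [← cancel_mono ι]
  apply (yon S).map_injective
  rw [Functor.map_comp, Functor.map_comp, hxa, hxb, Category.assoc, Category.assoc, hab]

/-- The predicate on points of `Y`: all local lifts to the chart `V` land in `Z₀`. -/
def descPred : PointPred Y where
  pred {T} ξ := ∀ (T' : Over S) (a : T' ⟶ T) (v : T' ⟶ V),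
    (yon S).map v ≫ p = (yon S).map a ≫ ξ → ∃ w : T' ⟶ Z₀, w ≫ ι = v
  map k ξ h := fun T'' a v hv => h T'' (a ≫ k) v (by rw [hv, Functor.map_comp, Category.assoc])
  loc {T} ξ R hR h := by
    intro T' a v hv
    have hR' := (J S).pullback_stable a hR
    have hmem : liftSieve ((yon S).map ι) ((yon S).map v) ∈ J S T' := by
      refine (J S).superset_covering ?_ hR'
      intro T'' k hk
      obtain ⟨w, hw⟩ := h T'' (k ≫ a) hk T'' (𝟙 _) (k ≫ v) (by
        rw [Functor.map_comp, Category.assoc, hv, CategoryTheory.Functor.map_id, Category.id_comp,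
          Functor.map_comp, Category.assoc])
      exact ⟨(yon S).map w, by rw [← Functor.map_comp, hw, Functor.map_comp]⟩
    obtain ⟨τ, hτ⟩ := exists_lift_of_mono_of_liftSieve_mem ((yon S).map ι) _ hmem
    obtain ⟨w, rfl⟩ := (yon S).map_surjective τ
    exact ⟨w, (yon S).map_injective (by rw [Functor.map_comp, hτ])⟩

/-- The descended subsheaf. -/
def desc : Sp S := (descPred p ι).sub

/-- The inclusion of the descended subsheaf. -/
def descι : desc p ι ⟶ Y := (descPred p ι).ι

instance : Mono (descι p ι) := inferInstanceAs (Mono (descPred p ι).ι)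

variable {p ι}

/-- If `Z₀` is saturated for the equivalence relation defined by `p`, it maps to the descended
subsheaf. -/
lemma exists_descLift
    (hsat : ∀ (T : Over S) (v v' : T ⟶ V), (yon S).map v ≫ p = (yon S).map v' ≫ p →
      (∃ w : T ⟶ Z₀, w ≫ ι = v') → ∃ w : T ⟶ Z₀, w ≫ ι = v) :
    ∃ l : (yon S).obj Z₀ ⟶ desc p ι, l ≫ descι p ι = (yon S).map ι ≫ p := by
  apply ((descPred p ι).factors_iff _).2
  intro T' a v hv
  refine hsat T' v (a ≫ ι) ?_ ⟨a, rfl⟩
  rw [hv, Functor.map_comp, Category.assoc]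

/-- The descended subsheaf pulls back to the given subscheme of the chart. -/
theorem isPullback_desc (l : (yon S).obj Z₀ ⟶ desc p ι)
    (hl : l ≫ descι p ι = (yon S).map ι ≫ p) :
    IsPullback l ((yon S).map ι) (descι p ι) p := by
  apply isPullback_of_mono_of_forall_exists (descι p ι) p ι l hl
  intro T'' y x hxy
  have h := ((descPred p ι).factors_iff _).1 ⟨x, hxy⟩
  exact h T'' (𝟙 _) y (by rw [CategoryTheory.Functor.map_id, Category.id_comp])

/-- A morphism factors through the descended subsheaf iff its local lifts to the chart land in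
`Z₀`. -/
lemma exists_lift_desc_iff {F : Sp S} (f : F ⟶ Y) :
    (∃ g : F ⟶ desc p ι, g ≫ descι p ι = f) ↔
      ∀ (T : Over S) (x : (yon S).obj T ⟶ F) (v : T ⟶ V),
        (yon S).map v ≫ p = x ≫ f → ∃ w : T ⟶ Z₀, w ≫ ι = v := by
  refine Iff.trans ((descPred p ι).exists_lift_iff f) ?_
  constructor
  · intro h T x v hv
    exact h T x T (𝟙 _) v (by rw [hv, CategoryTheory.Functor.map_id, Category.id_comp])
  · intro h T x T' a v hv
    exact h T' ((yon S).map a ≫ x) v (by rw [hv, Category.assoc])

open Groth.Agent.H5.Descent in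
/-- The descended subsheaf of a closed subscheme of an étale chart is a closed subspace. -/
theorem repWith_isClosedImmersion_descι (hp : RepWith @Etale p) (hp' : RepWith @Surjective p)
    [IsClosedImmersion ι.left]
    (hsat : ∀ (T : Over S) (v v' : T ⟶ V), (yon S).map v ≫ p = (yon S).map v' ≫ p →
      (∃ w : T ⟶ Z₀, w ≫ ι = v') → ∃ w : T ⟶ Z₀, w ≫ ι = v) :
    RepWith @IsClosedImmersion (descι p ι) := by
  obtain ⟨l, hl⟩ := exists_descLift hsat
  exact repWith_isClosedImmersion_of_baseChange (repWith_mono etale_le_flat hp)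
    (repWith_mono etale_le_lfp hp) hp' (isPullback_desc l hl)
    ((repWith_yon_map_iff @IsClosedImmersion ι).2 inferInstance)

end Desc

end Groth.Agent.H5.AlgSp
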