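import Groth.Prelude.Def_AlgSp
import Groth.Agent.Lib.Helper5.AlgSp.ClosedDescent
import Mathlib

/-!
# The kernel ideal of a morphism from a sheaf to a scheme
-/

set_option autoImplicit false

universe u

open CategoryTheory CategoryTheory.Limits AlgebraicGeometry Opposite

namespace Groth.Agent.H5.AlgSp

open _root_.AlgSp

variable {S : Scheme.{u}}

section Scheme

/-- The morphism to the scheme theoretic image is scheme theoretically dominant. -/
instance isSchemeTheoreticallyDominant_toImage {X Y : Scheme.{u}} (f : X ⟶ Y) :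
    IsSchemeTheoreticallyDominant f.toImage := by
  rw [isSchemeTheoreticallyDominant_iff]
  set K := f.toImage.ker with hK
  -- `f.toImage` factors through `V(K)`
  have h1 : (K.subschemeι ≫ f.imageι).ker ≤ f.ker := by
    have : f = (f.toImage.toImage) ≫ (K.subschemeι ≫ f.imageι) := by
      rw [← Category.assoc]
      change f = (f.toImage.toImage ≫ f.toImage.imageι) ≫ f.imageι
      rw [Scheme.Hom.toImage_imageι, Scheme.Hom.toImage_imageι]
    conv_rhs => rw [this]
    exact Scheme.Hom.le_ker_comp _ _
  have h2 : f.imageι.ker = f.ker := Scheme.IdealSheafData.ker_subschemeι _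
  let l := IsClosedImmersion.lift (K.subschemeι ≫ f.imageι) f.imageι (by rw [h2]; exact h1)
  have hl : l ≫ K.subschemeι ≫ f.imageι = f.imageι := IsClosedImmersion.lift_fac _ _ _
  have hl' : l ≫ K.subschemeι = 𝟙 _ := by
    rw [← cancel_mono f.imageι, Category.assoc, hl, Category.id_comp]
  have : IsSplitEpi K.subschemeι := ⟨⟨l, hl'⟩⟩
  have : IsIso K.subschemeι := isIso_of_mono_of_isSplitEpi _
  exact (Scheme.isIso_subschemeι_iff_eq_bot K).1 this

/-- Flat base change for the kernel of a quasi-compact morphism. -/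
theorem ker_eq_comap_of_isPullback {U T U' T' : Scheme.{u}} {g : U ⟶ T} {c : T' ⟶ T}
    {g' : U' ⟶ T'} {c' : U' ⟶ U} (sq : IsPullback c' g' g c) [QuasiCompact g] [Flat c] :
    g'.ker = g.ker.comap c := by
  let h : U' ⟶ pullback c g.imageι := pullback.lift g' (c' ≫ g.toImage) (by
    rw [Category.assoc, Scheme.Hom.toImage_imageι, sq.w])
  have hfst : h ≫ pullback.fst c g.imageι = g' := pullback.lift_fst _ _ _
  have hsnd : h ≫ pullback.snd c g.imageι = c' ≫ g.toImage := pullback.lift_snd _ _ _
  have left : IsPullback h c' (pullback.snd c g.imageι) g.toImage := by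
    apply IsPullback.of_right (h₁₂ := pullback.fst c g.imageι) (h₂₂ := g.imageι) _ hsnd
      (IsPullback.of_hasPullback c g.imageι)
    rw [hfst, Scheme.Hom.toImage_imageι]
    exact sq.flip
  have : IsSchemeTheoreticallyDominant h := IsSchemeTheoreticallyDominant.of_isPullback left.flip
  rw [← hfst, Scheme.Hom.ker_comp, h.ker_eq_bot, Scheme.IdealSheafData.map_bot,
    Scheme.IdealSheafData.ker_fst_of_isClosedImmersion]
  congr 1
  exact Scheme.IdealSheafData.ker_subschemeι _

end Scheme


section IsKer

open Groth.Agent.H5.Descent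

/-- A closed immersion over `S` is a monomorphism of `Over S`. -/
lemma mono_of_isClosedImmersion_left {W T : Over S} (c : W ⟶ T) [IsClosedImmersion c.left] :
    Mono c := by
  refine ⟨fun g h hgh => ?_⟩
  apply Over.OverMorphism.ext
  have h1 : g.left ≫ c.left = h.left ≫ c.left := congrArg (fun f => f.left) hgh
  exact (cancel_mono c.left).1 h1

/-- `I` is the kernel of `φ : F ⟶ h_T`: `φ` factors through a closed subscheme of `T` iff its
ideal is contained in `I`. -/
def IsKer {F : Sp S} {T : Over S} (φ : F ⟶ (yon S).obj T) (I : Scheme.IdealSheafData T.left) :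
    Prop :=
  ∀ (W : Over S) (c : W ⟶ T), IsClosedImmersion c.left →
    ((∃ l : F ⟶ (yon S).obj W, l ≫ (yon S).map c = φ) ↔ c.left.ker ≤ I)

/-- A morphism of schemes over `S` factors through a closed immersion iff the kernels are
comparable. -/
lemma exists_over_lift_iff_ker_le {U W T : Over S} (g : U ⟶ T) (c : W ⟶ T)
    [IsClosedImmersion c.left] : (∃ l : U ⟶ W, l ≫ c = g) ↔ c.left.ker ≤ g.left.ker := by
  constructor
  · rintro ⟨l, rfl⟩
    exact Scheme.Hom.le_ker_comp _ _
  · intro h
    have hfac : IsClosedImmersion.lift c.left g.left h ≫ c.left = g.left :=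
      IsClosedImmersion.lift_fac _ _ _
    refine ⟨Over.homMk (IsClosedImmersion.lift c.left g.left h) ?_, Over.OverMorphism.ext hfac⟩
    rw [← Over.w c, ← Category.assoc, hfac, Over.w]

theorem isKer_yon_map {U T : Over S} (g : U ⟶ T) : IsKer ((yon S).map g) g.left.ker := by
  intro W c hc
  rw [← exists_over_lift_iff_ker_le g c]
  constructor
  · rintro ⟨l, hl⟩
    obtain ⟨l, rfl⟩ := (yon S).map_surjective l
    exact ⟨l, (yon S).map_injective (by rw [Functor.map_comp, hl])⟩
  · rintro ⟨l, rfl⟩
    exact ⟨(yon S).map l, by rw [Functor.map_comp]⟩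

theorem isKer_epi_comp_iff {F F' : Sp S} {T : Over S} (e : F' ⟶ F) [Epi e]
    (φ : F ⟶ (yon S).obj T) (I : Scheme.IdealSheafData T.left) :
    IsKer (e ≫ φ) I ↔ IsKer φ I := by
  have key : ∀ (W : Over S) (c : W ⟶ T), IsClosedImmersion c.left →
      ((∃ l : F' ⟶ (yon S).obj W, l ≫ (yon S).map c = e ≫ φ) ↔
        ∃ l : F ⟶ (yon S).obj W, l ≫ (yon S).map c = φ) := by
    intro W c hc
    have := mono_of_isClosedImmersion_left c
    constructor
    · rintro ⟨l, hl⟩
      obtain ⟨π', hπ', -⟩ := exists_factor_of_epi_of_mono e ((yon S).map c) φ l hl.symm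
      exact ⟨π', hπ'⟩
    · rintro ⟨l, rfl⟩
      exact ⟨e ≫ l, by rw [Category.assoc]⟩
  constructor
  · intro h W c hc
    rw [← key W c hc]
    exact h W c hc
  · intro h W c hc
    rw [key W c hc]
    exact h W c hc

theorem IsKer.unique {F : Sp S} {T : Over S} {φ : F ⟶ (yon S).obj T}
    {I I' : Scheme.IdealSheafData T.left} (h : IsKer φ I) (h' : IsKer φ I') : I = I' := by
  have hc : ∀ K : Scheme.IdealSheafData T.left, IsClosedImmersion
      (Over.homMk K.subschemeι rfl : Over.mk (K.subschemeι ≫ T.hom) ⟶ T).left :=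
    fun K => inferInstanceAs (IsClosedImmersion K.subschemeι)
  have hk : ∀ K : Scheme.IdealSheafData T.left,
      (Over.homMk K.subschemeι rfl : Over.mk (K.subschemeι ≫ T.hom) ⟶ T).left.ker = K :=
    fun K => Scheme.IdealSheafData.ker_subschemeι K
  apply le_antisymm
  · have := (h' _ _ (hc I)).1 ((h _ _ (hc I)).2 (by rw [hk]))
    rwa [hk] at this
  · have := (h _ _ (hc I')).1 ((h' _ _ (hc I')).2 (by rw [hk]))
    rwa [hk] at this

/-- The kernel of a morphism with a quasi-compact cover by a scheme. -/
theorem isKer_of_cover {F : Sp S} {T U : Over S} (φ : F ⟶ (yon S).obj T) (u : (yon S).obj U ⟶ F)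
    [Sheaf.IsLocallySurjective u] (g : U ⟶ T) (hg : u ≫ φ = (yon S).map g) :
    IsKer φ g.left.ker := by
  have : Epi u := inferInstance
  rw [← isKer_epi_comp_iff u, hg]
  exact isKer_yon_map g

/-- **Flat base change** for kernels of morphisms with a quasi-compact cover by a scheme. -/
theorem isKer_of_isPullback_of_flat {F F' : Sp S} {T T' U : Over S} {φ : F ⟶ (yon S).obj T}
    {c : T' ⟶ T} {fst : F' ⟶ F} {φ' : F' ⟶ (yon S).obj T'}
    (sq : IsPullback fst φ' φ ((yon S).map c)) (u : (yon S).obj U ⟶ F)
    [Sheaf.IsLocallySurjective u] (g : U ⟶ T) (hg : u ≫ φ = (yon S).map g)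
    [QuasiCompact g.left] [Flat c.left] : IsKer φ' (g.left.ker.comap c.left) := by
  have sqO := IsPullback.of_hasPullback g c
  have sqY := sqO.map (yon S)
  have sqS := sqO.map (Over.forget S)
  let u' : (yon S).obj (pullback g c) ⟶ F' :=
    sq.lift ((yon S).map (pullback.fst g c) ≫ u) ((yon S).map (pullback.snd g c)) (by
      rw [Category.assoc, hg]
      exact sqY.w)
  have hu'1 : u' ≫ fst = (yon S).map (pullback.fst g c) ≫ u := sq.lift_fst _ _ _
  have hu'2 : u' ≫ φ' = (yon S).map (pullback.snd g c) := sq.lift_snd _ _ _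
  have left : IsPullback u' ((yon S).map (pullback.fst g c)) fst u := by
    apply IsPullback.of_right (h₁₂ := φ') (h₂₂ := φ) _ hu'1 sq.flip
    rw [hu'2, hg]
    exact sqY.flip
  have : Sheaf.IsLocallySurjective u' := isLocallySurjective_of_isPullback left.flip
  have h1 := isKer_of_cover φ' u' (pullback.snd g c) hu'2
  have h2 : (pullback.snd g c).left.ker = g.left.ker.comap c.left :=
    ker_eq_comap_of_isPullback sqS
  rw [← h2]
  exact h1

end IsKer

end Groth.Agent.H5.AlgSp
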