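import Groth.Agent.Lib.Helper5.AlgSp.LocPCalc
import Groth.Agent.Lib.Helper5.AlgSp.FibreProduct
import Groth.Agent.Lib.Helper5.AlgSp.QCompact
set_option autoImplicit false
universe u
open CategoryTheory CategoryTheory.Limits AlgebraicGeometry MorphismProperty Topology
namespace Groth.Agent.H5.AlgSp
open _root_.AlgSp

/-- A nonempty scheme locally of finite type over an algebraically closed field has a rational
point. -/
theorem exists_section_of_nonempty {K : Type u} [Field K] [IsAlgClosed K] {U : Scheme.{u}}
    (f : U ⟶ Spec (.of K)) [LocallyOfFiniteType f] [Nonempty ↥U] :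
    ∃ p : Spec (.of K) ⟶ U, p ≫ f = 𝟙 _ := by
  have : JacobsonSpace ↥U := LocallyOfFiniteType.jacobsonSpace f
  obtain ⟨x, -, hx⟩ := nonempty_inter_closedPoints (X := ↥U) (Z := Set.univ) Set.univ_nonempty
    isOpen_univ.isLocallyClosed
  exact ⟨pointOfClosedPoint f x hx, pointOfClosedPoint_comp f x hx⟩

variable {S : Scheme.{u}} {F G H : Sp S}

/-- A morphism of algebraic spaces locally of finite type whose source is nonempty has a section
over an algebraically closed field. -/
theorem exists_section_of_locP_lft {P : Sp S} (hP : IsAlgSpace P) {k : Type u} [Field k]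
    [IsAlgClosed k] (str : Spec (CommRingCat.of k) ⟶ S) (snd : P ⟶ (yon S).obj (Over.mk str))
    (hlft : LocP @LocallyOfFiniteType snd) (hne : Nonempty (Points P)) :
    ∃ s : (yon S).obj (Over.mk str) ⟶ P, s ≫ snd = 𝟙 _ := by
  obtain ⟨U, c, hce, hcs⟩ := hP.atlas
  obtain ⟨h, hh⟩ := (yon S).map_surjective (c ≫ snd)
  have hl : LocallyOfFiniteType h.left :=
    hlft c (𝟙 _) h hce (repWith_id _ _) (by rw [hh, Category.comp_id])
  obtain ⟨x⟩ := hne
  obtain ⟨u, -⟩ := ofPt_surjective_of_repWith hcs x
  have : Nonempty ↥U.left := ⟨u⟩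
  obtain ⟨p, hp⟩ := exists_section_of_nonempty (K := k) (U := U.left) h.left
  have hw : p ≫ U.hom = str := by
    have := Over.w h
    change h.left ≫ str = U.hom at this
    rw [← this, ← Category.assoc, hp, Category.id_comp]
  let p' : Over.mk str ⟶ U := Over.homMk p hw
  have hp' : p' ≫ h = 𝟙 _ := by
    apply Over.OverMorphism.ext
    exact hp
  refine ⟨(yon S).map p' ≫ c, ?_⟩
  rw [Category.assoc, ← hh, ← Functor.map_comp, hp', CategoryTheory.Functor.map_id]

end Groth.Agent.H5.AlgSp
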