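import Groth.Prelude.Def_AlgSp4
import Groth.Agent.Lib.Helper5.AlgSp.Proper
import Groth.Agent.Lib.Helper5.AlgSp.ZarLocalRep
import Groth.Agent.Lib.Helper5.AlgSp.AffineMor
import Mathlib

/-!
# Integral and finite morphisms of algebraic spaces
-/

set_option autoImplicit false

universe u

open CategoryTheory CategoryTheory.Limits AlgebraicGeometry Opposite Topology

namespace Groth.Agent.H5.AlgSp

open _root_.AlgSp Groth.Agent.H5.EtSrc

variable {S : Scheme.{u}} {F G H : Sp S}

/-- `RepWith P` from representing squares over affine schemes with `P`. -/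
theorem repWith_of_forall_affine_exists {f : F ⟶ G} (P : MorphismProperty Scheme.{u})
    [P.IsStableUnderBaseChange] [IsZariskiLocalAtTarget P]
    (key : ∀ (T : Over S), IsAffine T.left → ∀ g : (yon S).obj T ⟶ G,
      ∃ (W : Over S) (i : W ⟶ T) (fst : (yon S).obj W ⟶ F),
        IsPullback fst ((yon S).map i) f g ∧ P i.left) : RepWith P f := by
  have hrep : Representable f := representable_of_forall_affine (fun T hT g => by
    obtain ⟨W, i, fst, sq, -⟩ := key T hT g
    exact ⟨W, i, fst, sq⟩)
  have : P.RespectsIso := MorphismProperty.IsStableUnderBaseChange.respectsIso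
  apply repWith_of_forall_affine hrep
  intro T V g fst snd hT sq
  obtain ⟨W, i, fst', sq', hW⟩ := key T hT g
  obtain ⟨e, he⟩ := nonempty_iso_of_isPullback sq sq'
  have : IsIso e.hom.left := inferInstanceAs (IsIso ((Over.forget S).map e.hom))
  have : snd.left = e.hom.left ≫ i.left := by rw [← Over.comp_left, he]
  rw [this]
  exact (P.cancel_left_of_respectsIso e.hom.left i.left).2 hW

theorem isIntegralMor_iff_repWith {f : F ⟶ G} :
    IsIntegralMor f ↔ RepWith @IsIntegralHom f := by
  constructor
  · intro h
    refine repWith_of_forall_affine_exists @IsIntegralHom (fun T hT g => ?_)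
    obtain ⟨W, i, fst, sq, -, hi⟩ := h hT g
    exact ⟨W, i, fst, sq, hi⟩
  · intro h Z hZ g
    have hi : IsIntegralHom (h.rep.snd g).left := h.property_snd g
    exact ⟨_, h.rep.snd g, h.rep.fst g, h.rep.isPullback g,
      isAffine_of_isAffineHom (h.rep.snd g).left, hi⟩

theorem isFiniteMor_iff_repWith {f : F ⟶ G} :
    IsFiniteMor f ↔ RepWith @IsFinite f := by
  constructor
  · intro h
    refine repWith_of_forall_affine_exists @IsFinite (fun T hT g => ?_)
    obtain ⟨W, i, fst, sq, -, hi⟩ := h hT g
    exact ⟨W, i, fst, sq, hi⟩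
  · intro h Z hZ g
    have hi : IsFinite (h.rep.snd g).left := h.property_snd g
    exact ⟨_, h.rep.snd g, h.rep.fst g, h.rep.isPullback g,
      isAffine_of_isAffineHom (h.rep.snd g).left, hi⟩

lemma isFinite_le_isIntegralHom :
    (@IsFinite : MorphismProperty Scheme.{u}) ≤ @IsIntegralHom :=
  fun _ _ g (_ : IsFinite g) => (inferInstance : IsIntegralHom g)

theorem isIntegralMor_of_isFiniteMor {f : F ⟶ G} (h : IsFiniteMor f) : IsIntegralMor f :=
  isIntegralMor_iff_repWith.2 (repWith_mono isFinite_le_isIntegralHom (isFiniteMor_iff_repWith.1 h))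

theorem isFiniteMor_of_isIntegralMor_of_locP {f : F ⟶ G} (hG : IsAlgSpace G)
    (h : IsIntegralMor f) (hl : LocP @LocallyOfFiniteType f) : IsFiniteMor f := by
  have h1 := isIntegralMor_iff_repWith.1 h
  have h2 : RepWith @LocallyOfFiniteType f := repWith_of_locP hG h1.rep hl
  refine isFiniteMor_iff_repWith.2 (repWith_mono ?_ (repWith_inf h1 h2))
  rintro _ _ g ⟨hg1, hg2⟩
  exact (IsFinite.iff_isIntegralHom_and_locallyOfFiniteType g).2 ⟨hg1, hg2⟩

lemma isClosedImmersion_le_isFinite :
    (@IsClosedImmersion : MorphismProperty Scheme.{u}) ≤ @IsFinite :=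
  fun _ _ g (_ : IsClosedImmersion g) => (inferInstance : IsFinite g)

lemma isClosedImmersion_le_isIntegralHom :
    (@IsClosedImmersion : MorphismProperty Scheme.{u}) ≤ @IsIntegralHom :=
  fun _ _ g (_ : IsClosedImmersion g) => (inferInstance : IsIntegralHom g)

theorem isFiniteMor_of_comp {f : F ⟶ G} {g : G ⟶ H} (hg : IsSeparatedMor g)
    (h : IsFiniteMor (f ≫ g)) : IsFiniteMor f :=
  isFiniteMor_iff_repWith.2 (repWith_of_comp_of_diag (isFiniteMor_iff_repWith.1 h)
    (repWith_mono isClosedImmersion_le_isFinite hg))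

theorem isIntegralMor_of_comp {f : F ⟶ G} {g : G ⟶ H} (hg : IsSeparatedMor g)
    (h : IsIntegralMor (f ≫ g)) : IsIntegralMor f :=
  isIntegralMor_iff_repWith.2 (repWith_of_comp_of_diag (isIntegralMor_iff_repWith.1 h)
    (repWith_mono isClosedImmersion_le_isIntegralHom hg))

/-- A morphism of algebraic spaces is integral iff it is affine and universally closed. -/
theorem isIntegralMor_iff_isAffineMor_and_isUnivClosedMor {f : F ⟶ G} :
    IsIntegralMor f ↔ IsAffineMor f ∧ IsUnivClosedMor f := by
  rw [isIntegralMor_iff_repWith]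
  constructor
  · intro h
    refine ⟨isAffineMor_of_repWith (repWith_mono ?_ h), isUnivClosedMor_of_repWith (repWith_mono ?_ h)⟩
    · exact fun _ _ g (_ : IsIntegralHom g) => (inferInstance : IsAffineHom g)
    · exact fun _ _ g (_ : IsIntegralHom g) => (inferInstance : UniversallyClosed g)
  · rintro ⟨h1, h2⟩
    have h1' := repWith_isAffineHom_of_isAffineMor h1
    have h2' := (repWith_universallyClosed_iff h1'.rep).2 h2
    refine repWith_mono ?_ (repWith_inf h2' h1')
    rintro _ _ g ⟨hg1, hg2⟩
    exact IsIntegralHom.iff_universallyClosed_and_isAffineHom.2 ⟨hg1, hg2⟩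

/-- For a representable morphism to an algebraic space, properness is the representable
properness. -/
theorem isProperMor_iff_repWith {f : F ⟶ G} (hG : IsAlgSpace G) (hf : Representable f) :
    IsProperMor f ↔ RepWith @IsProper f := by
  constructor
  · rintro ⟨h1, ⟨h2, h3⟩, h4⟩
    have a1 := (isSeparatedMor_iff_repWith hf).1 h1
    have a2 : RepWith @LocallyOfFiniteType f := repWith_of_locP hG hf h2
    have a3 := (repWith_quasiCompact_iff hf).2 h3
    have a4 := (repWith_universallyClosed_iff hf).2 h4
    refine ⟨hf, fun _ _ g fst snd sq => ?_⟩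
    have b1 : IsSeparated snd.left := a1.property g fst snd sq
    have b2 : LocallyOfFiniteType snd.left := a2.property g fst snd sq
    have b3 : QuasiCompact snd.left := a3.property g fst snd sq
    have b4 : UniversallyClosed snd.left := a4.property g fst snd sq
    exact ({} : IsProper snd.left)
  · intro h
    refine ⟨(isSeparatedMor_iff_repWith hf).2 (repWith_mono ?_ h),
      ⟨locP_of_repWith etale_le_lft (repWith_mono ?_ h),
        (repWith_quasiCompact_iff hf).1 (repWith_mono ?_ h)⟩,
      (repWith_universallyClosed_iff hf).1 (repWith_mono ?_ h)⟩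
    · exact fun _ _ g (_ : IsProper g) => (inferInstance : IsSeparated g)
    · exact fun _ _ g (_ : IsProper g) => (inferInstance : LocallyOfFiniteType g)
    · exact fun _ _ g (_ : IsProper g) => (inferInstance : QuasiCompact g)
    · exact fun _ _ g (_ : IsProper g) => (inferInstance : UniversallyClosed g)

/-- A morphism of algebraic spaces is finite iff it is affine and proper. -/
theorem isFiniteMor_iff_isAffineMor_and_isProperMor {f : F ⟶ G} (hG : IsAlgSpace G) :
    IsFiniteMor f ↔ IsAffineMor f ∧ IsProperMor f := by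
  rw [isFiniteMor_iff_repWith]
  constructor
  · intro h
    refine ⟨isAffineMor_of_repWith (repWith_mono ?_ h),
      (isProperMor_iff_repWith hG h.rep).2 (repWith_mono ?_ h)⟩
    · exact fun _ _ g (_ : IsFinite g) => (inferInstance : IsAffineHom g)
    · exact fun _ _ g (_ : IsFinite g) => (inferInstance : IsProper g)
  · rintro ⟨h1, h2⟩
    have h1' := repWith_isAffineHom_of_isAffineMor h1
    have h2' := (isProperMor_iff_repWith hG h1'.rep).1 h2
    refine repWith_mono ?_ (repWith_inf h2' h1')
    rintro _ _ g ⟨hg1, hg2⟩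
    have : IsProper g := hg1
    have : IsAffineHom g := hg2
    have hi : IsIntegralHom g :=
      IsIntegralHom.iff_universallyClosed_and_isAffineHom.2 ⟨inferInstance, inferInstance⟩
    exact (IsFinite.iff_isIntegralHom_and_locallyOfFiniteType g).2 ⟨hi, inferInstance⟩

end Groth.Agent.H5.AlgSp
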