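import Groth.Prelude.Def_AlgSp4
import Groth.Agent.Lib.Helper5.AlgSp.LocalRep
import Groth.Agent.Lib.Helper5.AlgSp.OpenSubspace
import Groth.Agent.Lib.Helper5.AlgSp.OpenSub
import Mathlib

/-!
# The schematic locus of an algebraic space
-/

set_option autoImplicit false

universe u

open CategoryTheory CategoryTheory.Limits AlgebraicGeometry Opposite Topology

namespace Groth.Agent.H5.AlgSp

open _root_.AlgSp

variable {S : Scheme.{u}} {X : Sp S}

lemma isOpenImmersion_le_etale :
    (@IsOpenImmersion : MorphismProperty Scheme.{u}) ≤ @Etale := fun _ _ f hf => by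
  have : IsOpenImmersion f := hf
  exact (inferInstance : Etale f)

/-- The set of points of `X` lying in some representable open subspace. -/
def schematicSet (X : Sp S) : Set (Points X) :=
  {x | ∃ (T : Over S) (j : (yon S).obj T ⟶ X), RepWith @IsOpenImmersion j ∧
    x ∈ Set.range (Points.ofPt j)}

lemma isOpen_schematicSet (X : Sp S) : IsOpen (schematicSet X) := by
  rw [isOpen_iff_forall_mem_open]
  rintro x ⟨T, j, hj, hx⟩
  refine ⟨Set.range (Points.ofPt j), ?_, ?_, hx⟩
  · rintro y hy
    exact ⟨T, j, hj, hy⟩
  · rw [← Set.image_univ]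
    exact isOpenMap_ofPt_of_etale (repWith_mono isOpenImmersion_le_etale hj) _ isOpen_univ

/-- The largest open subspace which is a scheme is representable. -/
theorem exists_iso_openSub_schematicSet (hX : IsAlgSpace X) :
    ∃ (X₁ : Over S), Nonempty ((yon S).obj X₁ ≅ openSub X (schematicSet X)) := by
  obtain ⟨U₀, a, hae, has⟩ := hX.atlas
  let ι : Type u := {u : ↥U₀.left // Points.ofPt a u ∈ schematicSet X}
  choose T j hj hmem using fun u : ι => u.2
  have hfac : ∀ u : ι, ∃ c : (yon S).obj (T u) ⟶ openSub X (schematicSet X),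
      c ≫ openSubι X (schematicSet X) = j u := fun u =>
    (factors_openSubι_iff X (schematicSet X) (j u)).2 (fun t => ⟨T u, j u, hj u, t, rfl⟩)
  choose c hc using hfac
  have : (@IsOpenImmersion : MorphismProperty Scheme.{u}).RespectsIso := inferInstance
  have hcrep : ∀ u, RepWith @IsOpenImmersion (c u) := fun u =>
    repWith_of_comp_mono (openSubι X (schematicSet X)) (by rw [hc u]; exact hj u)
  have hsurj : ∀ x : Points (openSub X (schematicSet X)), ∃ (u : ι) (t : ↥(T u).left),
      Points.ofPt (c u) t = x := by
    intro x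
    have hy : Points.map (openSubι X (schematicSet X)) x ∈ schematicSet X := by
      have : Points.map (openSubι X (schematicSet X)) x ∈
          Set.range (Points.map (openSubι X (schematicSet X))) := ⟨x, rfl⟩
      rwa [range_points_map_openSubι] at this
    obtain ⟨u₀, hu₀⟩ := ofPt_surjective_of_repWith has (Points.map (openSubι X (schematicSet X)) x)
    let u : ι := ⟨u₀, by rw [hu₀]; exact hy⟩
    obtain ⟨t, ht⟩ := hmem u
    refine ⟨u, t, ?_⟩
    apply points_map_injective_of_mono (openSubι X (schematicSet X))
    rw [Points.map_ofPt, hc u, ht]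
    exact hu₀
  obtain ⟨X₁, e, -⟩ := LocalRep.exists_iso hcrep hsurj
  exact ⟨X₁, ⟨e⟩⟩

/-- Every representable open subspace factors through the schematic locus. -/
theorem factors_schematicSet {T : Over S} (j : (yon S).obj T ⟶ X)
    (hj : RepWith @IsOpenImmersion j) :
    ∃ y : (yon S).obj T ⟶ openSub X (schematicSet X), y ≫ openSubι X (schematicSet X) = j :=
  (factors_openSubι_iff X (schematicSet X) j).2 (fun t => ⟨T, j, hj, t, rfl⟩)

end Groth.Agent.H5.AlgSp
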