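import Groth.Prelude.Def_AlgSp2
import Groth.Agent.Lib.Helper5.AlgSp.PointsTop
import Mathlib

/-!
# Refining charts: coproducts of open covers
-/

set_option autoImplicit false

universe u

open CategoryTheory CategoryTheory.Limits AlgebraicGeometry Opposite Topology

namespace Groth.Agent.H5.AlgSp

open _root_.AlgSp

variable {S : Scheme.{u}} {F G H : Sp S}

/-- The coproduct of an open cover as an object over `S`. -/
noncomputable abbrev sigmaOver (U : Over S) (𝒰 : U.left.OpenCover) [Small.{u} 𝒰.I₀] : Over S :=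
  Over.mk (Sigma.desc 𝒰.f ≫ U.hom)

/-- The canonical map from the coproduct of an open cover. -/
noncomputable abbrev sigmaOverHom (U : Over S) (𝒰 : U.left.OpenCover) [Small.{u} 𝒰.I₀] :
    sigmaOver U 𝒰 ⟶ U :=
  Over.homMk (Sigma.desc 𝒰.f) rfl

lemma etale_sigmaOverHom (U : Over S) (𝒰 : U.left.OpenCover) [Small.{u} 𝒰.I₀] :
    Etale (sigmaOverHom U 𝒰).left := by
  change Etale (Sigma.desc 𝒰.f)
  exact IsZariskiLocalAtSource.sigmaDesc (P := @Etale) (fun i => inferInstance)

lemma surjective_sigmaOverHom (U : Over S) (𝒰 : U.left.OpenCover) [Small.{u} 𝒰.I₀] :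
    Surjective (sigmaOverHom U 𝒰).left := by
  change Surjective (Sigma.desc 𝒰.f)
  refine ⟨fun x => ?_⟩
  obtain ⟨i, y, rfl⟩ := 𝒰.exists_eq x
  refine ⟨Sigma.ι 𝒰.X i y, ?_⟩
  rw [← Scheme.Hom.comp_apply, Sigma.ι_desc]

/-- The coproduct of an open cover, as a scheme over `S`, with its étale surjective map. -/
theorem exists_sigma_cover (U : Over S) (𝒰 : U.left.OpenCover) [Small.{u} 𝒰.I₀] :
    ∃ (U' : Over S) (q : U' ⟶ U), U'.left = (∐ 𝒰.X) ∧ Etale q.left ∧ Surjective q.left := by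
  refine ⟨Over.mk (Sigma.desc 𝒰.f ≫ U.hom), Over.homMk (Sigma.desc 𝒰.f) rfl, rfl, ?_, ?_⟩
  · change Etale (Sigma.desc 𝒰.f)
    exact IsZariskiLocalAtSource.sigmaDesc (P := @Etale) (fun i => inferInstance)
  · change Surjective (Sigma.desc 𝒰.f)
    refine ⟨fun x => ?_⟩
    obtain ⟨i, y, rfl⟩ := 𝒰.exists_eq x
    refine ⟨Sigma.ι 𝒰.X i y, ?_⟩
    rw [← Scheme.Hom.comp_apply, Sigma.ι_desc]

theorem exists_affine_chart_of_compact (U : Over S) [CompactSpace ↥U.left] :
    ∃ (U' : Over S) (q : U' ⟶ U), IsAffine U'.left ∧ Etale q.left ∧ Surjective q.left := by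
  obtain ⟨U', q, h, h1, h2⟩ := exists_sigma_cover U U.left.affineCover.finiteSubcover
  refine ⟨U', q, ?_, h1, h2⟩
  rw [h]
  infer_instance

/-- Precomposing a chart with an étale surjective morphism of schemes. -/
theorem repWith_comp_yon_map (P : MorphismProperty Scheme.{u}) [P.IsStableUnderBaseChange]
    [P.IsStableUnderComposition] {U U' : Over S} (q : U' ⟶ U) (hq : P q.left)
    {p : (yon S).obj U ⟶ F} (hp : RepWith P p) : RepWith P ((yon S).map q ≫ p) :=
  MorphismProperty.comp_mem _ _ _ ((repWith_yon_map_iff P _).2 hq) hp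

end Groth.Agent.H5.AlgSp
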