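import Groth.Agent.Lib.Helper5.AlgSp.LocalBase

/-!
# Representable properties can be checked after a jointly locally surjective base change
-/

set_option autoImplicit false

universe w u

open CategoryTheory CategoryTheory.Limits AlgebraicGeometry Opposite

namespace Groth.Agent.H5.AlgSp

open _root_.AlgSp

variable {S : Scheme.{u}}

/-- The sieve of maps over which a point of `G` lifts to one of the `H k`. -/
def jointLiftSieve {G : Sp S} {κ : Type w} {H : κ → Sp S} (b : ∀ k, H k ⟶ G) {T : Over S}
    (ξ : (yon S).obj T ⟶ G) : Sieve T where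
  arrows T' g := ∃ (k : κ) (τ : (yon S).obj T' ⟶ H k), τ ≫ b k = (yon S).map g ≫ ξ
  downward_closed := by
    rintro T' T'' g ⟨k, τ, hτ⟩ l
    exact ⟨k, (yon S).map l ≫ τ, by rw [Category.assoc, hτ, Functor.map_comp, Category.assoc]⟩

/-- Family version of `repWith_of_locallySurjective_baseChange`. -/
theorem repWith_of_jointly_locallySurjective_baseChange {F G : Sp S} (a : F ⟶ G)
    (ha : Representable a) {κ : Type w} {H : κ → Sp S} (b : ∀ k, H k ⟶ G)
    (hcov : ∀ (T : Over S) (ξ : (yon S).obj T ⟶ G), jointLiftSieve b ξ ∈ J S T)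
    {Q : κ → Sp S} (b' : ∀ k, Q k ⟶ F) (a' : ∀ k, Q k ⟶ H k)
    (sq : ∀ k, IsPullback (b' k) (a' k) a (b k)) (P : MorphismProperty Scheme.{u})
    [P.IsStableUnderBaseChange] [P.IsLocalAtTarget Scheme.fppfPrecoverage]
    (h : ∀ k, RepWith P (a' k)) : RepWith P a := by
  refine ⟨ha, ?_⟩
  intro U V ξ fst snd sqV
  obtain ⟨R₀, hR₀, hle⟩ := (mem_J_iff _).1 (hcov U ξ)
  refine MorphismProperty.IsLocalAtTarget.of_forall_pullbackSnd (P := P) hR₀ ?_
  rintro W g _ ⟨hg₀⟩
  rename_i U' g₀ _
  obtain ⟨k, η', hη'⟩ := hle _ _ hg₀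
  have sqO := IsPullback.of_hasPullback snd g₀
  have sqY := sqO.map (yon S)
  have big : IsPullback ((yon S).map (pullback.fst snd g₀) ≫ fst) ((yon S).map (pullback.snd snd g₀))
      a (η' ≫ b k) := by
    rw [hη']
    exact (sqY.flip.paste_vert sqV.flip).flip
  have hw : ((yon S).map (pullback.fst snd g₀) ≫ fst) ≫ a =
      ((yon S).map (pullback.snd snd g₀) ≫ η') ≫ b k := by
    rw [Category.assoc _ η' (b k)]; exact big.w
  have left : IsPullback ((sq k).lift _ _ hw) ((yon S).map (pullback.snd snd g₀)) (a' k) η' := by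
    apply IsPullback.of_right (h₁₂ := b' k) (h₂₂ := b k) _ _ (sq k)
    · rw [(sq k).lift_fst]; exact big
    · exact (sq k).lift_snd _ _ _
  have hP : P (pullback.snd snd g₀).left := (h k).property _ _ _ left
  have sqS : IsPullback (pullback.fst snd g₀).left (pullback.snd snd g₀).left snd.left g₀.left :=
    sqO.map (Over.forget S)
  have : P.RespectsIso := MorphismProperty.IsStableUnderBaseChange.respectsIso
  have e := sqS.isoPullback_hom_snd
  change P (pullback.snd snd.left g₀.left)
  rw [← P.cancel_left_of_respectsIso sqS.isoPullback.hom, e]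
  exact hP

end Groth.Agent.H5.AlgSp
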