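import Groth.Agent.Lib.Helper5.AlgSp.SourceLocalRep
import Groth.Agent.Lib.Helper5.AlgSp.LocalBaseFam
import Groth.Agent.Lib.Helper5.AlgSp.Coprod
import Groth.Agent.Lib.Helper5.AlgSp.SchematicLocus
import Groth.Agent.S9873
import Mathlib

/-!
# Sheaves with a jointly surjective family of étale charts are algebraic spaces
-/

set_option autoImplicit false

universe w u

open CategoryTheory CategoryTheory.Limits AlgebraicGeometry Opposite

namespace Groth.Agent.H5.AlgSp

open _root_.AlgSp Groth.Agent.H3.AlgSpCov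

variable {S : Scheme.{u}}

/-- Covering sieves are jointly surjective on points. -/
lemma exists_apply_eq_of_mem_J {T : Over S} {R : Sieve T} (hR : R ∈ J S T) (t : T.left) :
    ∃ (T' : Over S) (g : T' ⟶ T) (t' : T'.left), R g ∧ g.left t' = t := by
  obtain ⟨R₀, hR₀, hle⟩ := (mem_J_iff R).1 hR
  obtain ⟨Y₀, g₀, hg₀, t', ht'⟩ := exists_mem_range_of_mem_fppf hR₀ t
  obtain ⟨hg⟩ := hg₀
  rename_i Y g
  exact ⟨Y, g, t', hle _ _ hg, ht'⟩

/-- A jointly locally surjective family of maps of sheaves is jointly surjective on points. -/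
theorem points_jointly_surjective {G : Sp S} {κ : Type w} {H : κ → Sp S} (b : ∀ k, H k ⟶ G)
    (hcov : ∀ (T : Over S) (ξ : (yon S).obj T ⟶ G), jointLiftSieve b ξ ∈ J S T)
    (x : Points G) : ∃ (k : κ) (y : Points (H k)), Points.map (b k) y = x := by
  obtain ⟨K, _, str, ξ, rfl⟩ := exists_fpOfHom x
  obtain ⟨T', g, t', ⟨k, τ, hτ⟩, -⟩ :=
    exists_apply_eq_of_mem_J (hcov _ ξ) (IsLocalRing.closedPoint K)
  refine ⟨k, Points.ofPt τ t', ?_⟩
  rw [Points.map_ofPt, hτ, ofPt_yon_map_comp, ← ofPt_closedPoint]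
  congr 1
  exact (inferInstance : Subsingleton (Spec (.of K))).elim _ _

/-- A locally surjective map of sheaves is surjective on points. -/
theorem points_map_surjective_of_isLocallySurjective {F G : Sp S} (f : F ⟶ G)
    [Sheaf.IsLocallySurjective f] : Function.Surjective (Points.map f) := by
  intro x
  obtain ⟨_, y, hy⟩ := points_jointly_surjective (κ := PUnit.{1}) (H := fun _ => F) (fun _ => f)
    (fun T ξ => (J S).superset_covering (by
      rintro T' g ⟨τ, hτ⟩
      exact ⟨PUnit.unit, τ, hτ⟩) (liftSieve_mem f ξ)) x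
  exact ⟨y, hy⟩

section ChartFamily

variable {F : Sp S} {ι : Type u} (U : ι → Over S) (q : ∀ i, (yon S).obj (U i) ⟶ F)

/-- The chart on the disjoint union induced by a family of charts. -/
noncomputable def sigmaChart : (yon S).obj (sigmaOver U) ⟶ F :=
  Cofan.IsColimit.desc (yonCofanIsColimit U) q

lemma ι_sigmaChart (i : ι) : (yon S).map (sigmaOverι U i) ≫ sigmaChart U q = q i :=
  Cofan.IsColimit.fac (yonCofanIsColimit U) q i

lemma sigmaOverι_jointly_surjective (x : (sigmaOver U).left) :
    ∃ i, x ∈ Set.range (sigmaOverι U i).left := by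
  obtain ⟨⟨i, y⟩, rfl⟩ := (sigmaMk (fun i => (U i).left)).surjective x
  refine ⟨i, y, ?_⟩
  rw [sigmaOverι_left]
  exact (sigmaMk_mk (fun i => (U i).left) i y).symm

theorem repWith_sigmaChart (P : MorphismProperty Scheme.{u}) [P.IsStableUnderBaseChange]
    [IsZariskiLocalAtSource P] (h : ∀ i, RepWith P (q i)) : RepWith P (sigmaChart U q) := by
  refine repWith_of_source_openCover (sigmaChart U q) (sigmaOverι U) P
    (fun i => ?_) (sigmaOverι_jointly_surjective U) (fun i => ?_)
  · rw [sigmaOverι_left]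
    exact inferInstanceAs (IsOpenImmersion (Sigma.ι (fun i => (U i).left) i))
  · rw [ι_sigmaChart]; exact h i

theorem sigmaChart_surjective (hsurj : ∀ x : Points F, ∃ (i : ι) (u : ↥(U i).left),
    Points.ofPt (q i) u = x) : Function.Surjective (Points.ofPt (sigmaChart U q)) := by
  intro x
  obtain ⟨i, u, rfl⟩ := hsurj x
  refine ⟨(sigmaOverι U i).left u, ?_⟩
  rw [← ofPt_yon_map_comp, ι_sigmaChart]

/-- **A sheaf with a jointly surjective family of étale charts is an algebraic space.** -/
theorem isAlgSpace_of_chart_family (he : ∀ i, RepWith @Etale (q i))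
    (hsurj : ∀ x : Points F, ∃ (i : ι) (u : ↥(U i).left), Points.ofPt (q i) u = x) :
    IsAlgSpace F := by
  have h1 : RepWith @Etale (sigmaChart U q) := repWith_sigmaChart U q @Etale he
  have h2 : RepWith @Surjective (sigmaChart U q) :=
    repWith_surjective_of_ofPt h1.rep (sigmaChart_surjective U q hsurj)
  exact Groth.Agent.S9873.result S ⟨(yon S).obj (sigmaOver U), IsAlgSpace.yon_obj _⟩ F
    (sigmaChart U q) h1 h2

end ChartFamily

end Groth.Agent.H5.AlgSp
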