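import Groth.Prelude.Def_AlgSp
import Groth.Agent.Lib.Helper5.AlgSp.ClosedDescent
import Groth.Agent.Lib.Helper5.Descent.SepLQFFam
import Mathlib

/-!
# Descending closed subschemes of a family of charts to a closed subspace
-/

set_option autoImplicit false

universe w u

open CategoryTheory CategoryTheory.Limits AlgebraicGeometry Opposite

namespace Groth.Agent.H5.AlgSp

open _root_.AlgSp

variable {S : Scheme.{u}}

section DescFam

variable {Y : Sp S} {κ : Type w} {V Z₀ : κ → Over S} (p : ∀ k, (yon S).obj (V k) ⟶ Y)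
  (ι : ∀ k, Z₀ k ⟶ V k) [∀ k, Mono (ι k)]

/-- The predicate on points of `Y`: all local lifts to the charts `V k` land in `Z₀ k`. -/
def descPredFam : PointPred Y where
  pred {T} ξ := ∀ (k : κ) (T' : Over S) (a : T' ⟶ T) (v : T' ⟶ V k),
    (yon S).map v ≫ p k = (yon S).map a ≫ ξ → ∃ w : T' ⟶ Z₀ k, w ≫ ι k = v
  map j ξ h := fun k T'' a v hv =>
    h k T'' (a ≫ j) v (by rw [hv, Functor.map_comp, Category.assoc])
  loc {T} ξ R hR h := by
    intro k T' a v hv
    have hR' := (J S).pullback_stable a hR
    have hmem : liftSieve ((yon S).map (ι k)) ((yon S).map v) ∈ J S T' := by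
      refine (J S).superset_covering ?_ hR'
      intro T'' j hj
      obtain ⟨w, hw⟩ := h T'' (j ≫ a) hj k T'' (𝟙 _) (j ≫ v) (by
        rw [Functor.map_comp, Category.assoc, hv, CategoryTheory.Functor.map_id, Category.id_comp,
          Functor.map_comp, Category.assoc])
      exact ⟨(yon S).map w, by rw [← Functor.map_comp, hw, Functor.map_comp]⟩
    obtain ⟨τ, hτ⟩ := exists_lift_of_mono_of_liftSieve_mem ((yon S).map (ι k)) _ hmem
    obtain ⟨w, rfl⟩ := (yon S).map_surjective τ
    exact ⟨w, (yon S).map_injective (by rw [Functor.map_comp, hτ])⟩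

/-- The descended subsheaf. -/
def descFam : Sp S := (descPredFam p ι).sub

/-- The inclusion of the descended subsheaf. -/
def descFamι : descFam p ι ⟶ Y := (descPredFam p ι).ι

instance : Mono (descFamι p ι) := inferInstanceAs (Mono (descPredFam p ι).ι)

variable {p ι}

/-- If the `Z₀ k` are compatible, they map to the descended subsheaf. -/
lemma exists_descFamLift
    (hsat : ∀ (k k' : κ) (T : Over S) (v : T ⟶ V k) (v' : T ⟶ V k'),
      (yon S).map v ≫ p k = (yon S).map v' ≫ p k' →
      (∃ w : T ⟶ Z₀ k', w ≫ ι k' = v') → ∃ w : T ⟶ Z₀ k, w ≫ ι k = v) (k : κ) :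
    ∃ l : (yon S).obj (Z₀ k) ⟶ descFam p ι, l ≫ descFamι p ι = (yon S).map (ι k) ≫ p k := by
  apply ((descPredFam p ι).factors_iff _).2
  intro k' T' a v hv
  refine hsat k' k T' v (a ≫ ι k) ?_ ⟨a, rfl⟩
  rw [hv, Functor.map_comp, Category.assoc]

/-- The descended subsheaf pulls back to the given subscheme of each chart. -/
theorem isPullback_descFam (k : κ) (l : (yon S).obj (Z₀ k) ⟶ descFam p ι)
    (hl : l ≫ descFamι p ι = (yon S).map (ι k) ≫ p k) :
    IsPullback l ((yon S).map (ι k)) (descFamι p ι) (p k) := by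
  apply isPullback_of_mono_of_forall_exists (descFamι p ι) (p k) (ι k) l hl
  intro T'' y x hxy
  have h := ((descPredFam p ι).factors_iff _).1 ⟨x, hxy⟩
  exact h k T'' (𝟙 _) y (by rw [CategoryTheory.Functor.map_id, Category.id_comp])

/-- A morphism factors through the descended subsheaf iff its local lifts to the charts land in
the `Z₀ k`. -/
lemma exists_lift_descFam_iff {F : Sp S} (f : F ⟶ Y) :
    (∃ g : F ⟶ descFam p ι, g ≫ descFamι p ι = f) ↔
      ∀ (k : κ) (T : Over S) (x : (yon S).obj T ⟶ F) (v : T ⟶ V k),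
        (yon S).map v ≫ p k = x ≫ f → ∃ w : T ⟶ Z₀ k, w ≫ ι k = v := by
  refine Iff.trans ((descPredFam p ι).exists_lift_iff f) ?_
  constructor
  · intro h k T x v hv
    exact h T x k T (𝟙 _) v (by rw [hv, CategoryTheory.Functor.map_id, Category.id_comp])
  · intro h T x k T' a v hv
    exact h k T' ((yon S).map a ≫ x) v (by rw [hv, Category.assoc])

open Groth.Agent.H5.Descent in
/-- The descended subsheaf of compatible closed subschemes of a jointly surjective family of
charts is a closed subspace. -/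
theorem repWith_isClosedImmersion_descFamι
    (hcov : ∀ (T : Over S) (ξ : (yon S).obj T ⟶ Y), jointLiftSieve p ξ ∈ J S T)
    [∀ k, IsClosedImmersion (ι k).left]
    (hsat : ∀ (k k' : κ) (T : Over S) (v : T ⟶ V k) (v' : T ⟶ V k'),
      (yon S).map v ≫ p k = (yon S).map v' ≫ p k' →
      (∃ w : T ⟶ Z₀ k', w ≫ ι k' = v') → ∃ w : T ⟶ Z₀ k, w ≫ ι k = v) :
    RepWith @IsClosedImmersion (descFamι p ι) := by
  choose l hl using exists_descFamLift hsat
  exact repWith_isClosedImmersion_of_jointly_locallySurjective_baseChange p hcov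
    (fun k => isPullback_descFam k (l k) (hl k))
    (fun k => (repWith_yon_map_iff @IsClosedImmersion (ι k)).2 inferInstance)

end DescFam

end Groth.Agent.H5.AlgSp
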