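import Groth.Prelude.Def_AlgSp
import Groth.Prelude.Def_AlgSpSub
import Groth.Prelude.Def_AlgSp4
import Groth.Agent.Lib.Helper5.AlgSp.SchKer
import Groth.Agent.Lib.Helper5.AlgSp.ClosedDescentFam
import Groth.Agent.Lib.Helper5.AlgSp.QCompact
import Groth.Agent.Lib.Helper5.AlgSp.AffineChart
import Groth.Agent.Lib.Helper5.AlgSp.ChartFamily
import Mathlib

/-!
# Scheme theoretic images of quasi-compact morphisms of algebraic spaces
-/

set_option autoImplicit false

universe u

open CategoryTheory CategoryTheory.Limits AlgebraicGeometry Opposite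

namespace Groth.Agent.H5.AlgSp

open _root_.AlgSp Groth.Agent.H5.Descent

variable {S : Scheme.{u}}

section Zariski

/-- A sieve containing a Zariski open cover is covering for the big fppf site. -/
lemma mem_J_of_openCover {T : Over S} {ι : Type*} (U : ι → T.left.Opens)
    (hU : ∀ t : T.left, ∃ i, t ∈ U i) (R : Sieve T) (hR : ∀ i, R (overOpenι T (U i))) :
    R ∈ J S T := by
  rw [mem_J_iff]
  refine ⟨Presieve.ofArrows (fun i => overOpen T (U i)) (fun i => overOpenι T (U i)), ?_, ?_⟩
  · rw [Presieve.map_ofArrows]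
    apply Scheme.zariskiPrecoverage_le_fppfPrecoverage
    change Presieve.ofArrows (fun i => (overOpen T (U i)).left)
      (fun i => (overOpenι T (U i)).left) ∈ Scheme.precoverage @IsOpenImmersion T.left
    rw [Scheme.ofArrows_mem_precoverage_iff]
    refine ⟨fun x => ?_, fun i => ?_⟩
    · obtain ⟨i, hi⟩ := hU x
      exact ⟨i, ⟨x, hi⟩, rfl⟩
    · exact inferInstanceAs (IsOpenImmersion (U i).ι)
  · rintro _ _ ⟨i⟩
    exact hR i

end Zariski

section Charts

/-- An étale chart of a sheaf by an affine scheme. -/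
structure AffEtChart (Y : Sp S) where
  /-- the affine scheme -/
  W : Over S
  /-- the chart -/
  q : (yon S).obj W ⟶ Y
  affine : IsAffine W.left
  etale : RepWith @Etale q

variable {Y : Sp S}

/-- The affine étale charts of an algebraic space are jointly locally surjective. -/
theorem jointLiftSieve_affEtChart_mem (hY : IsAlgSpace Y) (T : Over S)
    (ξ : (yon S).obj T ⟶ Y) : jointLiftSieve (fun k : AffEtChart Y => k.q) ξ ∈ J S T := by
  obtain ⟨V₀, p₀, hpe, hps⟩ := hY.atlas
  have : Sheaf.IsLocallySurjective p₀ := isLocallySurjective_of_etale_surjective p₀ hpe hps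
  refine (J S).transitive (liftSieve_mem p₀ ξ) _ (fun T' k hk => ?_)
  obtain ⟨τ, hτ⟩ := hk
  obtain ⟨τ₀, rfl⟩ := (yon S).map_surjective τ
  refine mem_J_of_openCover (fun A : V₀.left.affineOpens => τ₀.left ⁻¹ᵁ A.1) (fun t => ?_) _
    (fun A => ?_)
  · obtain ⟨_, ⟨A, hA, rfl⟩, htA, -⟩ :=
      V₀.left.isBasis_affineOpens.exists_subset_of_mem_open (Set.mem_univ (τ₀.left t)) isOpen_univ
    exact ⟨⟨A, hA⟩, htA⟩
  · refine ⟨⟨overOpen V₀ A.1, (yon S).map (overOpenι V₀ A.1) ≫ p₀, A.2,
      repWith_comp_yon_map @Etale _ (inferInstanceAs (Etale A.1.ι)) hpe⟩,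
      (yon S).map (overRestrict τ₀ A.1), ?_⟩
    change (yon S).map (overRestrict τ₀ A.1) ≫ (yon S).map (overOpenι V₀ A.1) ≫ p₀ = _
    rw [← Category.assoc, ← Functor.map_comp, overRestrict_comp, Functor.map_comp, Category.assoc,
      hτ, Functor.map_comp, Category.assoc]

end Charts

section Cover

/-- `φ : F ⟶ h_T` admits a cover of `F` by a scheme which is quasi-compact over `T`. -/
def HasQCCover {F : Sp S} {T : Over S} (φ : F ⟶ (yon S).obj T) : Prop :=
  ∃ (U : Over S) (u : (yon S).obj U ⟶ F) (g : U ⟶ T),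
    Sheaf.IsLocallySurjective u ∧ u ≫ φ = (yon S).map g ∧ QuasiCompact g.left

variable {F : Sp S} {T : Over S} {φ : F ⟶ (yon S).obj T}

lemma HasQCCover.exists_isKer (h : HasQCCover φ) : ∃ I, IsKer φ I := by
  obtain ⟨U, u, g, hu, hg, -⟩ := h
  exact ⟨_, isKer_of_cover φ u g hg⟩

/-- The kernel ideal of a morphism with a quasi-compact cover. -/
noncomputable def HasQCCover.ker (h : HasQCCover φ) : Scheme.IdealSheafData T.left :=
  h.exists_isKer.choose

lemma HasQCCover.isKer (h : HasQCCover φ) : IsKer φ h.ker := h.exists_isKer.choose_spec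

/-- Flat base change for the kernel ideal. -/
theorem HasQCCover.isKer_comap (h : HasQCCover φ) {F' : Sp S} {T' : Over S} {c : T' ⟶ T}
    {fst : F' ⟶ F} {φ' : F' ⟶ (yon S).obj T'} (sq : IsPullback fst φ' φ ((yon S).map c))
    [Flat c.left] : IsKer φ' (h.ker.comap c.left) := by
  obtain ⟨U, u, g, hu, hg, hqc⟩ := id h
  have h1 : h.ker = g.left.ker := h.isKer.unique (isKer_of_cover φ u g hg)
  rw [h1]
  exact isKer_of_isPullback_of_flat sq u g hg

/-- Quasi-compact covers are stable under base change. -/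
theorem HasQCCover.of_isPullback (h : HasQCCover φ) {F' : Sp S} {T' : Over S} {c : T' ⟶ T}
    {fst : F' ⟶ F} {φ' : F' ⟶ (yon S).obj T'} (sq : IsPullback fst φ' φ ((yon S).map c)) :
    HasQCCover φ' := by
  obtain ⟨U, u, g, hu, hg, hqc⟩ := h
  have sqO := IsPullback.of_hasPullback g c
  have sqY := sqO.map (yon S)
  have sqS := sqO.map (Over.forget S)
  let u' : (yon S).obj (pullback g c) ⟶ F' :=
    sq.lift ((yon S).map (pullback.fst g c) ≫ u) ((yon S).map (pullback.snd g c)) (by
      rw [Category.assoc, hg]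
      exact sqY.w)
  have hu'1 : u' ≫ fst = (yon S).map (pullback.fst g c) ≫ u := sq.lift_fst _ _ _
  have hu'2 : u' ≫ φ' = (yon S).map (pullback.snd g c) := sq.lift_snd _ _ _
  have left : IsPullback u' ((yon S).map (pullback.fst g c)) fst u := by
    apply IsPullback.of_right (h₁₂ := φ') (h₂₂ := φ) _ hu'1 sq.flip
    rw [hu'2, hg]
    exact sqY.flip
  refine ⟨pullback g c, u', pullback.snd g c, isLocallySurjective_of_isPullback left.flip, hu'2, ?_⟩
  exact MorphismProperty.of_isPullback (P := @QuasiCompact) sqS hqc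

/-- A point of `T` lies in the closed subscheme of the kernel ideal: ideal formulation. -/
lemma exists_lift_subscheme_iff {T T' : Over S} (I : Scheme.IdealSheafData T.left) (y : T' ⟶ T) :
    (∃ z : T' ⟶ Over.mk (I.subschemeι ≫ T.hom),
      z ≫ (Over.homMk I.subschemeι rfl : Over.mk (I.subschemeι ≫ T.hom) ⟶ T) = y) ↔
      I ≤ y.left.ker := by
  have hc : IsClosedImmersion
      (Over.homMk I.subschemeι rfl : Over.mk (I.subschemeι ≫ T.hom) ⟶ T).left :=
    inferInstanceAs (IsClosedImmersion I.subschemeι)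
  rw [exists_over_lift_iff_ker_le y _]
  change I.subschemeι.ker ≤ _ ↔ _
  rw [Scheme.IdealSheafData.ker_subschemeι]

end Cover

section Construction

variable {X Y : Sp S} (f : X ⟶ Y)

/-- Every affine étale chart of `Y` admits a quasi-compact cover of the base change of `f`. -/
def HasQCCovers : Prop := ∀ k : AffEtChart Y, HasQCCover (pullback.snd f k.q)

variable {f} (hc : HasQCCovers f)

/-- The kernel ideal on an affine étale chart. -/
noncomputable def imgIdeal (k : AffEtChart Y) : Scheme.IdealSheafData k.W.left := (hc k).ker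

/-- The closed subscheme of the chart cut out by the kernel ideal. -/
noncomputable abbrev imgOver (k : AffEtChart Y) : Over S :=
  Over.mk ((imgIdeal hc k).subschemeι ≫ k.W.hom)

/-- The inclusion of `imgOver`. -/
noncomputable abbrev imgOverι (k : AffEtChart Y) : imgOver hc k ⟶ k.W :=
  Over.homMk (imgIdeal hc k).subschemeι rfl

instance (k : AffEtChart Y) : IsClosedImmersion (imgOverι hc k).left :=
  inferInstanceAs (IsClosedImmersion (imgIdeal hc k).subschemeι)

instance (k : AffEtChart Y) : Mono (imgOverι hc k) := mono_of_isClosedImmersion_left _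

/-- Flat base change of the kernel ideal of a chart to a scheme flat over the chart. -/
lemma isKer_comap_chart (k : AffEtChart Y) {R : Over S} (s : R ⟶ k.W) [Flat s.left]
    (ξ : (yon S).obj R ⟶ Y) (hξ : ξ = (yon S).map s ≫ k.q) :
    IsKer (pullback.snd f ξ) ((imgIdeal hc k).comap s.left) := by
  subst hξ
  let a : pullback f ((yon S).map s ≫ k.q) ⟶ pullback f k.q :=
    pullback.lift (pullback.fst f _) (pullback.snd f _ ≫ (yon S).map s) (by
      rw [Category.assoc, pullback.condition])
  have ha1 : a ≫ pullback.fst f k.q = pullback.fst f _ := pullback.lift_fst _ _ _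
  have ha2 : a ≫ pullback.snd f k.q = pullback.snd f _ ≫ (yon S).map s := pullback.lift_snd _ _ _
  have left : IsPullback a (pullback.snd f ((yon S).map s ≫ k.q)) (pullback.snd f k.q)
      ((yon S).map s) := by
    apply IsPullback.of_right (h₁₂ := pullback.fst f k.q) (h₂₂ := k.q) _ ha2
      (IsPullback.of_hasPullback f k.q)
    rw [ha1]
    exact IsPullback.of_hasPullback f ((yon S).map s ≫ k.q)
  exact (hc k).isKer_comap left

include hc in
/-- The kernel ideals of the charts are compatible. -/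
lemma imgOver_saturated (hY : IsAlgSpace Y) (k k' : AffEtChart Y) (T : Over S) (v : T ⟶ k.W)
    (v' : T ⟶ k'.W) (h : (yon S).map v ≫ k.q = (yon S).map v' ≫ k'.q)
    (hv' : ∃ w : T ⟶ imgOver hc k', w ≫ imgOverι hc k' = v') :
    ∃ w : T ⟶ imgOver hc k, w ≫ imgOverι hc k = v := by
  have hrep := hY.representable_from_yon k.q
  have sqR := hrep.isPullback k'.q
  obtain ⟨s, hs⟩ := (yon S).map_surjective (hrep.fst k'.q)
  rw [← hs] at sqR
  have ht : Etale (hrep.snd k'.q).left := k.etale.property_snd k'.q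
  set t := hrep.snd k'.q with ht_def
  have hs' : Etale s.left :=
    (repWith_yon_map_iff @Etale s).1 ((RepWith @Etale).of_isPullback sqR.flip k'.etale)
  obtain ⟨r, hr⟩ := (yon S).map_surjective (sqR.lift ((yon S).map v) ((yon S).map v') h)
  have hr1 : r ≫ s = v := by
    apply (yon S).map_injective
    rw [Functor.map_comp, hr, sqR.lift_fst]
  have hr2 : r ≫ t = v' := by
    apply (yon S).map_injective
    rw [Functor.map_comp, hr, sqR.lift_snd]
  have h1 := isKer_comap_chart hc k s ((yon S).map s ≫ k.q) rfl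
  have h2 := isKer_comap_chart hc k' t ((yon S).map s ≫ k.q) sqR.w
  have heq := h1.unique h2
  rw [exists_lift_subscheme_iff] at hv' ⊢
  rw [← hr1, Over.comp_left, Scheme.Hom.ker_comp, Scheme.IdealSheafData.le_map_iff_comap_le, heq,
    ← Scheme.IdealSheafData.le_map_iff_comap_le, ← Scheme.Hom.ker_comp, ← Over.comp_left, hr2]
  exact hv'

/-- The scheme theoretic image of `f`, as a subsheaf of `Y`. -/
noncomputable def schImg : Sp S := descFam (fun k : AffEtChart Y => k.q) (imgOverι hc)

/-- The inclusion of the scheme theoretic image. -/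
noncomputable def schImgι : schImg hc ⟶ Y := descFamι (fun k : AffEtChart Y => k.q) (imgOverι hc)

instance : Mono (schImgι hc) :=
  inferInstanceAs (Mono (descFamι (fun k : AffEtChart Y => k.q) (imgOverι hc)))

theorem repWith_isClosedImmersion_schImgι (hY : IsAlgSpace Y) :
    RepWith @IsClosedImmersion (schImgι hc) :=
  repWith_isClosedImmersion_descFamι (jointLiftSieve_affEtChart_mem hY)
    (fun k k' T v v' h hv' => imgOver_saturated hc hY k k' T v v' h hv')

theorem isAlgSpace_schImg (hY : IsAlgSpace Y) : IsAlgSpace (schImg hc) :=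
  isAlgSpace_of_representable hY (schImgι hc) (repWith_isClosedImmersion_schImgι hc hY).rep

/-- The scheme theoretic image pulls back to the closed subscheme of the kernel ideal on each
affine étale chart. -/
theorem exists_isPullback_schImg (hY : IsAlgSpace Y) (k : AffEtChart Y) :
    ∃ l : (yon S).obj (imgOver hc k) ⟶ schImg hc,
      IsPullback l ((yon S).map (imgOverι hc k)) (schImgι hc) k.q := by
  obtain ⟨l, hl⟩ := exists_descFamLift (p := fun k : AffEtChart Y => k.q) (ι := imgOverι hc)
    (fun k k' T v v' h hv' => imgOver_saturated hc hY k k' T v v' h hv') k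
  exact ⟨l, isPullback_descFam k l hl⟩

/-- Points of the scheme theoretic image. -/
theorem factors_schImgι_iff {F : Sp S} (g : F ⟶ Y) :
    (∃ g' : F ⟶ schImg hc, g' ≫ schImgι hc = g) ↔
      ∀ (k : AffEtChart Y) (T : Over S) (x : (yon S).obj T ⟶ F) (v : T ⟶ k.W),
        (yon S).map v ≫ k.q = x ≫ g → ∃ w : T ⟶ imgOver hc k, w ≫ imgOverι hc k = v :=
  exists_lift_descFam_iff g

/-- `f` factors through its scheme theoretic image. -/
theorem exists_fac_schImg : ∃ f' : X ⟶ schImg hc, f' ≫ schImgι hc = f := by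
  rw [factors_schImgι_iff]
  intro k T x v hv
  obtain ⟨l, hl⟩ := ((hc k).isKer _ (imgOverι hc k) inferInstance).2 (by
    change (imgIdeal hc k).subschemeι.ker ≤ _
    rw [Scheme.IdealSheafData.ker_subschemeι]
    exact le_refl _)
  obtain ⟨w, hw⟩ := (yon S).map_surjective (pullback.lift x ((yon S).map v) hv.symm ≫ l)
  refine ⟨w, (yon S).map_injective ?_⟩
  rw [Functor.map_comp, hw, Category.assoc, hl, pullback.lift_snd]

/-- Minimality of the scheme theoretic image. -/
theorem exists_schImg_lift (hY : IsAlgSpace Y) {Z' : Sp S} (i' : Z' ⟶ Y)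
    (hi' : RepWith @IsClosedImmersion i')
    (hf : ∃ f'' : X ⟶ Z', f'' ≫ i' = f) : ∃ j : schImg hc ⟶ Z', j ≫ i' = schImgι hc := by
  obtain ⟨f'', hf''⟩ := hf
  have hm : Mono i' := mono_of_repWith_isClosedImmersion hi'
  apply exists_lift_of_mono_of_forall_yon
  intro T x
  apply exists_lift_of_mono_of_liftSieve_mem
  refine (J S).superset_covering ?_ (jointLiftSieve_affEtChart_mem hY T (x ≫ schImgι hc))
  rintro T' a ⟨k, τ, hτ⟩
  obtain ⟨v, rfl⟩ := (yon S).map_surjective τ
  obtain ⟨w, hw⟩ := (factors_schImgι_iff hc (schImgι hc)).1 ⟨𝟙 _, Category.id_comp _⟩ k T'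
    ((yon S).map a ≫ x) v (by rw [hτ, Category.assoc])
  have sq' := hi'.rep.isPullback k.q
  have hc' : IsClosedImmersion (hi'.rep.snd k.q).left := hi'.property_snd k.q
  have hle : (hi'.rep.snd k.q).left.ker ≤ imgIdeal hc k := by
    refine ((hc k).isKer _ (hi'.rep.snd k.q) hc').1
      ⟨sq'.lift (pullback.fst f k.q ≫ f'') (pullback.snd f k.q) ?_, sq'.lift_snd _ _ _⟩
    rw [Category.assoc, hf'', pullback.condition]
  obtain ⟨m, hm'⟩ := (exists_over_lift_iff_ker_le (imgOverι hc k) (hi'.rep.snd k.q)).2 (by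
    change _ ≤ (imgIdeal hc k).subschemeι.ker
    rw [Scheme.IdealSheafData.ker_subschemeι]
    exact hle)
  refine ⟨(yon S).map (w ≫ m) ≫ hi'.rep.fst k.q, ?_⟩
  rw [Category.assoc, sq'.w, ← Category.assoc, ← Functor.map_comp, Category.assoc, hm', hw, hτ]

/-- **The scheme theoretic image restricted to any étale chart by a scheme is the scheme theoretic
image of the base change.** -/
theorem isKer_of_isPullback_schImg {T A : Over S} (ξ : (yon S).obj T ⟶ Y)
    (hξ : RepWith @Etale ξ) (c : A ⟶ T) [IsClosedImmersion c.left]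
    (a : (yon S).obj A ⟶ schImg hc) (sq : IsPullback a ((yon S).map c) (schImgι hc) ξ) :
    IsKer (pullback.snd f ξ) c.left.ker := by
  intro W'' c'' hc''
  have hm'' := mono_of_isClosedImmersion_left c''
  constructor
  · rintro ⟨l'', hl''⟩
    rw [← exists_over_lift_iff_ker_le c c'']
    suffices h : ∃ τ : (yon S).obj A ⟶ (yon S).obj W'', τ ≫ (yon S).map c'' = (yon S).map c by
      obtain ⟨τ, hτ⟩ := h
      obtain ⟨m, rfl⟩ := (yon S).map_surjective τ
      exact ⟨m, (yon S).map_injective (by rw [Functor.map_comp, hτ])⟩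
    apply exists_lift_of_mono_of_liftSieve_mem
    refine mem_J_of_openCover (fun B : T.left.affineOpens => c.left ⁻¹ᵁ B.1) (fun t => ?_) _
      (fun B => ?_)
    · obtain ⟨_, ⟨B, hB, rfl⟩, htB, -⟩ :=
        T.left.isBasis_affineOpens.exists_subset_of_mem_open (Set.mem_univ (c.left t)) isOpen_univ
      exact ⟨⟨B, hB⟩, htB⟩
    · -- the chart of `Y` defined by the affine open `B`
      let kB : AffEtChart Y := ⟨overOpen T B.1, (yon S).map (overOpenι T B.1) ≫ ξ, B.2,
        repWith_comp_yon_map @Etale _ (inferInstanceAs (Etale B.1.ι)) hξ⟩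
      have hv : (yon S).map (overRestrict c B.1) ≫ kB.q =
          ((yon S).map (overOpenι A (c.left ⁻¹ᵁ B.1)) ≫ a) ≫ schImgι hc := by
        change (yon S).map (overRestrict c B.1) ≫ (yon S).map (overOpenι T B.1) ≫ ξ = _
        rw [← Category.assoc, ← Functor.map_comp, overRestrict_comp, Functor.map_comp,
          Category.assoc, Category.assoc, sq.w]
      obtain ⟨w, hw⟩ := (factors_schImgι_iff hc (schImgι hc)).1 ⟨𝟙 _, Category.id_comp _⟩ kB _
        ((yon S).map (overOpenι A (c.left ⁻¹ᵁ B.1)) ≫ a) (overRestrict c B.1) hv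
      -- base change of `c''` to `B`
      have sqO := IsPullback.of_hasPullback c'' (overOpenι T B.1)
      have sqY := sqO.map (yon S)
      have sqS := sqO.map (Over.forget S)
      have hcB : IsClosedImmersion (pullback.snd c'' (overOpenι T B.1)).left :=
        MorphismProperty.of_isPullback (P := @IsClosedImmersion) sqS hc''
      let aB : pullback f kB.q ⟶ pullback f ξ :=
        pullback.lift (pullback.fst f kB.q)
          (pullback.snd f kB.q ≫ (yon S).map (overOpenι T B.1)) (by
            rw [Category.assoc]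
            exact pullback.condition)
      have haB : aB ≫ pullback.snd f ξ = pullback.snd f kB.q ≫ (yon S).map (overOpenι T B.1) :=
        pullback.lift_snd _ _ _
      have hle : (pullback.snd c'' (overOpenι T B.1)).left.ker ≤ imgIdeal hc kB := by
        refine ((hc kB).isKer _ _ hcB).1 ⟨sqY.lift (aB ≫ l'') (pullback.snd f kB.q) ?_,
          sqY.lift_snd _ _ _⟩
        rw [Category.assoc, hl'', haB]
      obtain ⟨mB, hmB⟩ := (exists_over_lift_iff_ker_le (imgOverι hc kB)
        (pullback.snd c'' (overOpenι T B.1))).2 (by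
          change _ ≤ (imgIdeal hc kB).subschemeι.ker
          rw [Scheme.IdealSheafData.ker_subschemeι]
          exact hle)
      refine ⟨(yon S).map (w ≫ mB ≫ pullback.fst c'' (overOpenι T B.1)), ?_⟩
      rw [← Functor.map_comp, ← Functor.map_comp, Category.assoc, Category.assoc,
        pullback.condition, ← Category.assoc mB, hmB, ← Category.assoc, hw, overRestrict_comp]
  · intro h
    obtain ⟨m, hm⟩ := (exists_over_lift_iff_ker_le c c'').2 h
    obtain ⟨f', hf'⟩ := exists_fac_schImg hc
    refine ⟨sq.lift (pullback.fst f ξ ≫ f') (pullback.snd f ξ) ?_ ≫ (yon S).map m, ?_⟩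
    · rw [Category.assoc, hf', pullback.condition]
    · rw [Category.assoc, ← Functor.map_comp, hm, sq.lift_snd]

/-- **The scheme theoretic image of a morphism with quasi-compact covers.** -/
theorem isSchImage_schImgι (hY : IsAlgSpace Y) : IsSchImage f (schImgι hc) :=
  ⟨repWith_isClosedImmersion_schImgι hc hY, exists_fac_schImg hc,
    fun _ i' _ hi' hf => exists_schImg_lift hc hY i' hi' hf⟩

end Construction

section QC

variable {X Y : Sp S}

/-- A quasi-compact morphism has quasi-compact covers over every affine étale chart. -/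
theorem hasQCCovers_of_isQuasiCompactMor (f : X ⟶ Y) (hf : IsQuasiCompactMor f) :
    HasQCCovers f := by
  intro k
  have : IsAffine k.W.left := k.affine
  obtain ⟨U, u, hue, hus, hU⟩ := hf (IsAlgSpace.yon_obj k.W)
    ((isQuasiCompactSp_yon_iff k.W).2 inferInstance) k.q (pullback.fst f k.q)
    (pullback.snd f k.q) (IsPullback.of_hasPullback f k.q)
  obtain ⟨g, hg⟩ := (yon S).map_surjective (u ≫ pullback.snd f k.q)
  have : CompactSpace U.left := hU
  exact ⟨U, u, g, isLocallySurjective_of_etale_surjective u hue hus, hg.symm, inferInstance⟩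

/-- Scheme theoretic images which are algebraic spaces are unique up to isomorphism. -/
theorem exists_iso_of_isSchImage {Z Z' : Sp S} {f : X ⟶ Y} {i : Z ⟶ Y} {i' : Z' ⟶ Y}
    (hZ : IsAlgSpace Z) (hZ' : IsAlgSpace Z') (h : IsSchImage f i) (h' : IsSchImage f i') :
    ∃ e : Z ≅ Z', e.hom ≫ i' = i := by
  obtain ⟨a, ha⟩ := h.2.2 i' hZ' h'.1 h'.2.1
  obtain ⟨b, hb⟩ := h'.2.2 i hZ h.1 h.2.1
  have hm : Mono i := mono_of_repWith_isClosedImmersion h.1
  have hm' : Mono i' := mono_of_repWith_isClosedImmersion h'.1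
  refine ⟨⟨a, b, ?_, ?_⟩, ha⟩
  · rw [← cancel_mono i, Category.assoc, hb, ha, Category.id_comp]
  · rw [← cancel_mono i', Category.assoc, ha, hb, Category.id_comp]

/-- **Scheme theoretic images of quasi-compact morphisms commute with étale base change.** -/
theorem isSchImage_of_isPullback_of_isEtaleMor {Z V XV ZV : Sp S} (hY : IsAlgSpace Y)
    (hV : IsAlgSpace V) {f : X ⟶ Y} {i : Z ⟶ Y}
    (hq : IsQuasiCompactMor f) (hZi : IsSchImage f i) {b : V ⟶ Y} (hb : IsEtaleMor b)
    {f₁ : XV ⟶ X} {fV : XV ⟶ V} {i₁ : ZV ⟶ Z} {iV : ZV ⟶ V}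
    (sqX : IsPullback f₁ fV f b) (sqZ : IsPullback i₁ iV i b) : IsSchImage fV iV := by
  obtain ⟨hi, ⟨f', hf'⟩, hmin⟩ := hZi
  have hcY := hasQCCovers_of_isQuasiCompactMor f hq
  have hcV := hasQCCovers_of_isQuasiCompactMor fV (isQuasiCompactMor_of_isPullback sqX hq)
  refine ⟨(RepWith @IsClosedImmersion).of_isPullback sqZ hi,
    ⟨sqZ.lift (f₁ ≫ f') fV (by rw [Category.assoc, hf', sqX.w]), sqZ.lift_snd _ _ _⟩, ?_⟩
  intro Z'' i'' hZ'' hi'' hf''
  obtain ⟨j, hj⟩ := exists_schImg_lift hcV hV i'' hi'' hf''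
  suffices h : ∃ m : ZV ⟶ schImg hcV, m ≫ schImgι hcV = iV by
    obtain ⟨m, hm⟩ := h
    exact ⟨m ≫ j, by rw [Category.assoc, hj, hm]⟩
  rw [factors_schImgι_iff]
  intro k T x v hv
  -- the chart of `Y` below `k`
  let k₀ : AffEtChart Y := ⟨k.W, k.q ≫ b, k.affine, hb k.q k.etale⟩
  -- the kernel ideals agree
  have hA : imgIdeal hcV k = imgIdeal hcY k₀ := by
    have sqP : IsPullback (pullback.fst fV k.q ≫ f₁) (pullback.snd fV k.q) f (k.q ≫ b) :=
      (IsPullback.of_hasPullback fV k.q).paste_horiz sqX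
    let e := sqP.isoPullback
    have he : e.hom ≫ pullback.snd f (k.q ≫ b) = pullback.snd fV k.q := sqP.isoPullback_hom_snd
    have h1 : IsKer (pullback.snd fV k.q) (imgIdeal hcY k₀) := by
      rw [← he, isKer_epi_comp_iff]
      exact (hcY k₀).isKer
    exact ((hcV k).isKer).unique h1
  -- the point of `Z` lies in the constructed image of `f`
  obtain ⟨k', hk'⟩ := hmin (schImgι hcY) (isAlgSpace_schImg hcY hY)
    (repWith_isClosedImmersion_schImgι hcY hY) (exists_fac_schImg hcY)
  obtain ⟨w, hw⟩ := (factors_schImgι_iff hcY (schImgι hcY)).1 ⟨𝟙 _, Category.id_comp _⟩ k₀ T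
    (x ≫ i₁ ≫ k') v (by
      change (yon S).map v ≫ k.q ≫ b = _
      rw [← Category.assoc, hv, Category.assoc, Category.assoc, Category.assoc, hk', sqZ.w])
  rw [exists_lift_subscheme_iff, hA, ← exists_lift_subscheme_iff]
  exact ⟨w, hw⟩

/-- **The image of a quasi-compact morphism is dense in its scheme theoretic image.** -/
theorem range_subset_closure_of_isSchImage {Z : Sp S} (hY : IsAlgSpace Y) {f : X ⟶ Y}
    {i : Z ⟶ Y} (hq : IsQuasiCompactMor f) (hZi : IsSchImage f i) :
    Set.range (Points.map i) ⊆ closure (Set.range (Points.map f)) := by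
  have hc := hasQCCovers_of_isQuasiCompactMor f hq
  obtain ⟨k', hk'⟩ := hZi.2.2 (schImgι hc) (isAlgSpace_schImg hc hY)
    (repWith_isClosedImmersion_schImgι hc hY) (exists_fac_schImg hc)
  rintro _ ⟨z', rfl⟩
  set z := Points.map k' z' with hz
  have hzy : Points.map i z' = Points.map (schImgι hc) z := by
    rw [hz, ← Points.map_comp, hk']
  rw [hzy, mem_closure_iff]
  intro O hO hyO
  obtain ⟨k, w', hw'⟩ := points_jointly_surjective (fun k : AffEtChart Y => k.q)
    (jointLiftSieve_affEtChart_mem hY) (Points.map (schImgι hc) z)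
  obtain ⟨w, rfl⟩ := ofScheme_surjective k.W w'
  rw [← Points.ofPt_eq_map_ofScheme] at hw'
  obtain ⟨l, sqk⟩ := exists_isPullback_schImg hc hY k
  obtain ⟨z₀, hz₀, -⟩ := exists_point_of_isPullback sqk z w hw'.symm
  obtain ⟨U, u, g, hu, hg, hqc⟩ := id (hc k)
  have hI : imgIdeal hc k = g.left.ker := ((hc k).isKer).unique (isKer_of_cover _ u g hg)
  have hwmem : w ∈ closure (Set.range g.left) := by
    rw [← Scheme.Hom.support_ker, ← hI, ← Scheme.IdealSheafData.range_subschemeι]
    exact ⟨z₀, hz₀⟩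
  have hOW : IsOpen (Points.ofPt k.q ⁻¹' O) := hO.preimage (Points.continuous_ofPt k.q)
  obtain ⟨_, hmem, u₀, rfl⟩ := mem_closure_iff.1 hwmem _ hOW (by
    change Points.ofPt k.q w ∈ O
    rw [hw']; exact hyO)
  refine ⟨Points.ofPt k.q (g.left u₀), hmem, Points.ofPt (u ≫ pullback.fst f k.q) u₀, ?_⟩
  rw [Points.map_ofPt, Category.assoc, pullback.condition, ← Category.assoc, hg, ofPt_yon_map_comp]

/-- The kernel on an étale chart by a scheme of any scheme theoretic image of a quasi-compact
morphism. -/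
theorem isKer_of_isPullback_of_isSchImage (hY : IsAlgSpace Y) {f : X ⟶ Y}
    (hq : IsQuasiCompactMor f) {Z : Sp S} {i : Z ⟶ Y} (hZ : IsAlgSpace Z) (hZi : IsSchImage f i)
    {T A : Over S} (ξ : (yon S).obj T ⟶ Y) (hξ : RepWith @Etale ξ) (c : A ⟶ T)
    [IsClosedImmersion c.left] (a : (yon S).obj A ⟶ Z)
    (sq : IsPullback a ((yon S).map c) i ξ) : IsKer (pullback.snd f ξ) c.left.ker := by
  have hc := hasQCCovers_of_isQuasiCompactMor f hq
  obtain ⟨e, he⟩ := exists_iso_of_isSchImage hZ (isAlgSpace_schImg hc hY) hZi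
    (isSchImage_schImgι hc hY)
  refine isKer_of_isPullback_schImg hc ξ hξ c (a ≫ e.hom) ?_
  exact IsPullback.of_iso sq (Iso.refl _) e (Iso.refl _) (Iso.refl _) (by simp) (by simp)
    (by simp [he]) (by simp)

end QC

end Groth.Agent.H5.AlgSp
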