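import Groth.Prelude.Def_AlgSpSub
import Groth.Agent.Lib.Helper5.AlgSp.SchImageQC
import Groth.Agent.Lib.Helper5.AlgSp.LocPMore
import Groth.Agent.Lib.Helper5.AlgSp.LocalRep
import Mathlib

/-!
# Scheme theoretic density of quasi-compact opens
-/

set_option autoImplicit false

universe u

open CategoryTheory CategoryTheory.Limits AlgebraicGeometry Opposite

namespace Groth.Agent.H5.AlgSp

open _root_.AlgSp Groth.Agent.H5.Descent

section Scheme

variable {X : Scheme.{u}}

lemma presheaf_map_injective_congr {A B B' : X.Opens} (h : B = B') (hB : B ≤ A) (hB' : B' ≤ A) :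
    Function.Injective (X.presheaf.map (homOfLE hB).op) ↔
      Function.Injective (X.presheaf.map (homOfLE hB').op) := by
  subst h
  rfl

lemma ι_image_preimage_eq_inf (W V : X.Opens) : W.ι ''ᵁ W.ι ⁻¹ᵁ V = V ⊓ W := by
  ext x
  constructor
  · rintro ⟨y, hy, rfl⟩
    exact ⟨hy, y.2⟩
  · rintro ⟨hxV, hxW⟩
    exact ⟨⟨x, hxW⟩, hxV, rfl⟩

/-- Injectivity of `W.ι.app V` is injectivity of the restriction map to `V ⊓ W`. -/
lemma injective_ι_app_iff (W V : X.Opens) :
    Function.Injective (W.ι.app V) ↔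
      Function.Injective (X.presheaf.map (homOfLE (inf_le_left : V ⊓ W ≤ V)).op) := by
  rw [Scheme.Opens.ι_app]
  exact presheaf_map_injective_congr (ι_image_preimage_eq_inf W V) _ _

/-- A scheme theoretically dense open has trivial kernel ideal. -/
theorem ker_eq_bot_of_isSchematicallyDense {W : X.Opens} (h : CInt.IsSchematicallyDense W) :
    W.ι.ker = ⊥ := by
  rw [← le_bot_iff, Scheme.IdealSheafData.le_def]
  intro A
  refine (Scheme.Hom.ideal_ker_le W.ι A).trans ?_
  rw [Scheme.IdealSheafData.ideal_bot, Pi.bot_apply, le_bot_iff,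
    ← RingHom.injective_iff_ker_eq_bot]
  exact (injective_ι_app_iff W A.1).2 (h A.1)

/-- A quasi-compact open with trivial kernel ideal is scheme theoretically dense. -/
theorem isSchematicallyDense_of_ker_eq_bot {W : X.Opens} [QuasiCompact W.ι] (h : W.ι.ker = ⊥) :
    CInt.IsSchematicallyDense W := by
  have : IsSchemeTheoreticallyDominant W.ι := ⟨h⟩
  intro V
  exact (injective_ι_app_iff W V).1 (Scheme.Hom.app_injective W.ι V)

theorem isSchematicallyDense_iff_ker_eq_bot {W : X.Opens} [QuasiCompact W.ι] :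
    CInt.IsSchematicallyDense W ↔ W.ι.ker = ⊥ :=
  ⟨ker_eq_bot_of_isSchematicallyDense, isSchematicallyDense_of_ker_eq_bot⟩

/-- Flat base change of a quasi-compact scheme theoretically dense open. -/
theorem isSchematicallyDense_preimage_of_flat {A : Scheme.{u}} (h : A ⟶ X) [Flat h] {W : X.Opens}
    [QuasiCompact W.ι] (hW : CInt.IsSchematicallyDense W) :
    CInt.IsSchematicallyDense (h ⁻¹ᵁ W) := by
  have : IsSchemeTheoreticallyDominant W.ι := ⟨ker_eq_bot_of_isSchematicallyDense hW⟩
  have sq := isPullback_morphismRestrict h W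
  have h1 : IsSchemeTheoreticallyDominant (h ⁻¹ᵁ W).ι :=
    IsSchemeTheoreticallyDominant.of_isPullback sq
  have h2 : QuasiCompact (h ⁻¹ᵁ W).ι :=
    MorphismProperty.of_isPullback (P := @QuasiCompact) sq (inferInstance : QuasiCompact W.ι)
  exact isSchematicallyDense_of_ker_eq_bot h1.ker_eq_bot

end Scheme

section Flat

variable {S : Scheme.{u}}

/-- **The inverse image of a quasi-compact scheme theoretically dense open under a flat morphism
is scheme theoretically dense.** -/
theorem isSchDense_of_isPullback_of_flat {X Y V V' : Sp S} (hX : IsAlgSpace X) {f : X ⟶ Y}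
    (hf : LocP @Flat f) {j : V ⟶ Y} (hj : IsSchDense j) (hjq : IsQuasiCompactMor j)
    {fst : V' ⟶ V} {jX : V' ⟶ X} (sq : IsPullback fst jX j f) : IsSchDense jX := by
  obtain ⟨hjo, V₁, φ₁, W₁, fst₁, hφe, hφs, sq₁, hW₁⟩ := hj
  obtain ⟨A, a, h, c, hae, comm, hce, hcs, hca, hch⟩ := exists_chart_diagram hX f hφe
  have has : RepWith @Surjective a := by
    rw [← hca]
    exact (RepWith @Surjective).comp_mem _ _ hcs
      (MorphismProperty.of_isPullback (P := RepWith @Surjective)
        (IsPullback.of_hasPullback f φ₁).flip hφs)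
  have hflat : Flat h.left := hf a φ₁ h hae hφe comm
  have hjXo : RepWith @IsOpenImmersion jX := (RepWith @IsOpenImmersion).of_isPullback sq hjo
  have hmono : Mono jX := mono_of_repWith LocalRep.isOpenImmersion_le_mono hjXo
  have hqcW₁ : QuasiCompact W₁.ι :=
    (repWith_quasiCompact_of_isQuasiCompactMor hjo.rep hjq).property _ _ _ sq₁
  have hw : ((yon S).map (overRestrict h W₁) ≫ fst₁) ≫ j =
      ((yon S).map (overOpenι A (h.left ⁻¹ᵁ W₁)) ≫ a) ≫ f := by
    rw [Category.assoc, sq₁.w, ← Category.assoc, ← Functor.map_comp]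
    change (yon S).map (overRestrict h W₁ ≫ overOpenι V₁ W₁) ≫ φ₁ = _
    rw [overRestrict_comp, Functor.map_comp, Category.assoc, Category.assoc, comm]
  refine ⟨hjXo, A, a, h.left ⁻¹ᵁ W₁, sq.lift _ _ hw, hae, has, ?_, ?_⟩
  · apply isPullback_of_mono_of_forall_mem jX a (h.left ⁻¹ᵁ W₁) _ (sq.lift_snd _ _ _)
    intro T'' y x hxy t''
    have hz : (x ≫ fst) ≫ j = (yon S).map (y ≫ h) ≫ φ₁ := by
      rw [Category.assoc, sq.w, ← Category.assoc, hxy, Category.assoc, comm, Functor.map_comp,
        Category.assoc]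
    obtain ⟨z₀, hz₀⟩ := (yon S).map_surjective (sq₁.lift (x ≫ fst) ((yon S).map (y ≫ h)) hz)
    have h1 : z₀ ≫ overOpenι V₁ W₁ = y ≫ h := by
      apply (yon S).map_injective
      rw [Functor.map_comp, hz₀]
      exact sq₁.lift_snd _ _ _
    have h2 : (z₀.left ≫ W₁.ι) t'' = (y.left ≫ h.left) t'' := by
      have := congrArg (fun m => m.left) h1
      exact congrArg (fun m : T''.left ⟶ V₁.left => m t'') this
    change h.left (y.left t'') ∈ W₁
    rw [← Scheme.Hom.comp_apply, ← h2, Scheme.Hom.comp_apply]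
    exact (z₀.left t'').2
  · exact isSchematicallyDense_preimage_of_flat h.left hW₁

end Flat

section Closure

variable {S : Scheme.{u}}

/-- A pullback square whose scheme leg is an open immersion can be put in `overOpen` form. -/
lemma exists_isPullback_overOpen {F G : Sp S} {j : F ⟶ G} {V U' : Over S}
    {φ : (yon S).obj V ⟶ G} {fst₀ : (yon S).obj U' ⟶ F} {g : U' ⟶ V} [IsOpenImmersion g.left]
    (sq : IsPullback fst₀ ((yon S).map g) j φ) :
    ∃ (W : V.left.Opens) (fst : (yon S).obj (overOpen V W) ⟶ F),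
      IsPullback fst ((yon S).map (overOpenι V W)) j φ ∧
        ∃ e : U' ≅ overOpen V W, e.hom ≫ overOpenι V W = g := by
  let W : V.left.Opens := g.left.opensRange
  have hr : Set.range g.left = Set.range W.ι := by
    rw [Scheme.Opens.range_ι]
    rfl
  let e₀ : U'.left ≅ W.toScheme := IsOpenImmersion.isoOfRangeEq g.left W.ι hr
  have he₀ : e₀.hom ≫ W.ι = g.left := IsOpenImmersion.isoOfRangeEq_hom_fac _ _ _
  let e : U' ≅ overOpen V W := Over.isoMk e₀ (by
    change e₀.hom ≫ W.ι ≫ V.hom = U'.hom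
    rw [← Category.assoc, he₀, Over.w])
  have he : e.hom ≫ overOpenι V W = g := Over.OverMorphism.ext he₀
  refine ⟨W, (yon S).map e.inv ≫ fst₀, ?_, e, he⟩
  refine IsPullback.of_iso sq ((yon S).mapIso e) (Iso.refl _) (Iso.refl _) (Iso.refl _) ?_ ?_
    (by simp) (by simp)
  · simp only [Functor.mapIso_hom, Iso.refl_hom, Category.comp_id]
    rw [← Category.assoc, ← Functor.map_comp, Iso.hom_inv_id, CategoryTheory.Functor.map_id,
      Category.id_comp]
  · simp only [Functor.mapIso_hom, Iso.refl_hom, Category.comp_id]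
    rw [← Functor.map_comp, he]

/-- A scheme theoretically dense open subspace has scheme theoretic closure everything. -/
theorem isSchImage_id_of_isSchDense {U X : Sp S} {j : U ⟶ X} (hj : IsSchDense j) :
    IsSchImage j (𝟙 X) := by
  obtain ⟨hjo, V, φ, W, fst, hφe, hφs, sq, hW⟩ := hj
  refine ⟨MorphismProperty.id_mem _ X, ⟨j, Category.comp_id _⟩, ?_⟩
  rintro Z' i' hZ' hi' ⟨f'', hf''⟩
  have hm : Mono i' := mono_of_repWith_isClosedImmersion hi'
  have sq' := hi'.rep.isPullback φ
  have hc' : IsClosedImmersion (hi'.rep.snd φ).left := hi'.property_snd φ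
  obtain ⟨m, hm'⟩ := (yon S).map_surjective
    (sq'.lift (fst ≫ f'') ((yon S).map (overOpenι V W)) (by rw [Category.assoc, hf'', sq.w]))
  have hmc : m ≫ hi'.rep.snd φ = overOpenι V W := by
    apply (yon S).map_injective
    rw [Functor.map_comp, hm']
    exact sq'.lift_snd _ _ _
  have hker : (hi'.rep.snd φ).left.ker = ⊥ := by
    rw [← le_bot_iff, ← ker_eq_bot_of_isSchematicallyDense hW]
    change _ ≤ (overOpenι V W).left.ker
    rw [← hmc]
    exact Scheme.Hom.le_ker_comp _ _
  have hiso : IsIso (hi'.rep.snd φ).left := IsClosedImmersion.isIso_iff_ker_eq_bot.2 hker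
  have hiso' : IsIso (hi'.rep.snd φ) := by
    have : IsIso ((Over.forget S).map (hi'.rep.snd φ)) := hiso
    exact isIso_of_reflects_iso _ (Over.forget S)
  have hφ' : ((yon S).map (inv (hi'.rep.snd φ)) ≫ hi'.rep.fst φ) ≫ i' = φ := by
    rw [Category.assoc, sq'.w, ← Category.assoc, ← Functor.map_comp, IsIso.inv_hom_id,
      CategoryTheory.Functor.map_id, Category.id_comp]
  have : Sheaf.IsLocallySurjective φ := isLocallySurjective_of_etale_surjective φ hφe hφs
  have hls : Sheaf.IsLocallySurjective i' := by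
    apply isLocallySurjective_of_liftSieve
    intro T σ
    refine (J S).superset_covering ?_ (liftSieve_mem φ σ)
    rintro T' a ⟨τ, hτ⟩
    exact ⟨τ ≫ (yon S).map (inv (hi'.rep.snd φ)) ≫ hi'.rep.fst φ, by
      rw [Category.assoc, hφ', hτ]⟩
  have : IsIso i' := isIso_of_mono_of_isLocallySurjective i'
  exact ⟨inv i', IsIso.inv_hom_id i'⟩

/-- A quasi-compact open subspace with scheme theoretic closure everything is scheme
theoretically dense. -/
theorem isSchDense_of_isSchImage_id {U X : Sp S} (hX : IsAlgSpace X) {j : U ⟶ X}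
    (hjo : RepWith @IsOpenImmersion j) (hq : IsQuasiCompactMor j) (hcl : IsSchImage j (𝟙 X)) :
    IsSchDense j := by
  obtain ⟨V, φ, hφe, hφs⟩ := hX.atlas
  have sq₀ := hjo.rep.isPullback φ
  have : IsOpenImmersion (hjo.rep.snd φ).left := hjo.property_snd φ
  obtain ⟨W, fst, sq, e, he⟩ := exists_isPullback_overOpen sq₀
  have hqc : QuasiCompact W.ι :=
    (repWith_quasiCompact_of_isQuasiCompactMor hjo.rep hq).property _ _ _ sq
  refine ⟨hjo, V, φ, W, fst, hφe, hφs, sq, ?_⟩
  apply isSchematicallyDense_of_ker_eq_bot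
  have h1 : IsKer (pullback.snd j φ) (𝟙 V : V ⟶ V).left.ker :=
    isKer_of_isPullback_of_isSchImage hX hq hX hcl φ hφe (𝟙 V) φ (by
      rw [CategoryTheory.Functor.map_id]
      exact IsPullback.of_vert_isIso ⟨by simp⟩)
  have : Sheaf.IsLocallySurjective sq.isoPullback.hom := inferInstance
  have h2 : IsKer (pullback.snd j φ) (overOpenι V W).left.ker :=
    isKer_of_cover _ sq.isoPullback.hom (overOpenι V W) sq.isoPullback_hom_snd
  have h3 := h2.unique h1
  have h4 : (𝟙 V : V ⟶ V).left.ker = ⊥ := Scheme.Hom.ker_eq_bot_of_isIso (𝟙 V.left)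
  exact h3.trans h4

end Closure

end Groth.Agent.H5.AlgSp
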