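import Groth.Prelude.Def_AlgSp
import Groth.Prelude.Def_AlgSpSub
import Groth.Agent.Lib.Helper5.AlgSp.ClosedDescent
import Groth.Agent.Lib.Helper5.AlgSp.Points
import Groth.Agent.Lib.Helper5.AlgSp.ImmersionTop
import Groth.Agent.H4.SmRed2
import Mathlib

/-!
# Reduced induced closed subspaces
-/

set_option autoImplicit false

universe u

open CategoryTheory CategoryTheory.Limits AlgebraicGeometry Opposite

namespace Groth.Agent.H5.AlgSp

open _root_.AlgSp

variable {S : Scheme.{u}}

/-- A morphism from a reduced scheme whose image lies in a closed subscheme factors through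
it. -/
lemma exists_lift_of_isReduced_of_range_subset {P V Z₀ : Scheme.{u}} (g : P ⟶ V) (ι : Z₀ ⟶ V)
    [IsClosedImmersion ι] [AlgebraicGeometry.IsReduced P] (h : Set.range g ⊆ Set.range ι) :
    ∃ g' : P ⟶ Z₀, g' ≫ ι = g := by
  have hs : Surjective (pullback.fst g ι) := by
    refine ⟨fun x => ?_⟩
    obtain ⟨z, hz⟩ := h ⟨x, rfl⟩
    obtain ⟨w, hw, -⟩ := Scheme.Pullback.exists_preimage_pullback (f := g) (g := ι) x z hz.symm
    exact ⟨w, hw⟩
  have : IsIso (pullback.fst g ι) := isIso_of_isClosedImmersion_of_surjective _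
  refine ⟨inv (pullback.fst g ι) ≫ pullback.snd g ι, ?_⟩
  rw [Category.assoc, ← pullback.condition, IsIso.inv_hom_id_assoc]

/-- Version over a base. -/
lemma exists_over_lift_of_isReduced_of_range_subset {P V Z₀ : Over S} (g : P ⟶ V) (ι : Z₀ ⟶ V)
    [IsClosedImmersion ι.left] [AlgebraicGeometry.IsReduced P.left]
    (h : Set.range g.left ⊆ Set.range ι.left) :
    ∃ g' : P ⟶ Z₀, g' ≫ ι = g := by
  obtain ⟨g', hg'⟩ := exists_lift_of_isReduced_of_range_subset g.left ι.left h
  refine ⟨Over.homMk g' ?_, Over.OverMorphism.ext hg'⟩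
  rw [← Over.w ι, ← Category.assoc, hg', Over.w]

/-- The closed subscheme of a radical ideal sheaf is reduced. -/
theorem isReduced_subscheme_of_isRadical {X : Scheme.{u}} (I : X.IdealSheafData)
    (h : ∀ U : X.affineOpens, (I.ideal U).IsRadical) : AlgebraicGeometry.IsReduced I.subscheme := by
  have : ∀ U, AlgebraicGeometry.IsReduced (I.subschemeCover.openCover.X U) := fun U => by
    have := (Ideal.isRadical_iff_quotient_reduced _).mp (h U)
    exact (affine_isReduced_iff (.of (Γ(X, (U : X.affineOpens).1) ⧸ I.ideal U))).mpr this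
  exact AlgebraicGeometry.IsReduced.of_openCover (X := I.subscheme) I.subschemeCover.openCover

instance isReduced_subscheme_vanishingIdeal {X : Scheme.{u}} (Z : TopologicalSpace.Closeds X) :
    AlgebraicGeometry.IsReduced (Scheme.IdealSheafData.vanishingIdeal Z).subscheme := by
  apply isReduced_subscheme_of_isRadical
  intro U
  rw [Scheme.IdealSheafData.vanishingIdeal_ideal]
  exact PrimeSpectrum.isRadical_vanishingIdeal _

section RedInd

variable {X : Sp S} {V : Over S} (p : (yon S).obj V ⟶ X) (T : Set (Points X)) (hT : IsClosed T)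

/-- The preimage of a closed subset of `|X|` in a chart. -/
def chartCloseds : TopologicalSpace.Closeds V.left :=
  ⟨Points.ofPt p ⁻¹' T, hT.preimage (Points.continuous_ofPt p)⟩

/-- The reduced induced subscheme of the chart on the preimage of `T`. -/
noncomputable def redOver : Over S :=
  Over.mk ((Scheme.IdealSheafData.vanishingIdeal (chartCloseds p T hT)).subschemeι ≫ V.hom)

/-- The inclusion of `redOver`. -/
noncomputable def redOverι : redOver p T hT ⟶ V :=
  Over.homMk (Scheme.IdealSheafData.vanishingIdeal (chartCloseds p T hT)).subschemeι rfl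

instance : IsClosedImmersion (redOverι p T hT).left :=
  inferInstanceAs (IsClosedImmersion
    (Scheme.IdealSheafData.vanishingIdeal (chartCloseds p T hT)).subschemeι)

instance : AlgebraicGeometry.IsReduced (redOver p T hT).left :=
  inferInstanceAs (AlgebraicGeometry.IsReduced
    (Scheme.IdealSheafData.vanishingIdeal (chartCloseds p T hT)).subscheme)

instance : Mono (redOverι p T hT) := by
  refine ⟨fun g h hgh => ?_⟩
  apply Over.OverMorphism.ext
  have h1 : g.left ≫ (redOverι p T hT).left = h.left ≫ (redOverι p T hT).left :=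
    congrArg (fun f => f.left) hgh
  exact (cancel_mono (redOverι p T hT).left).1 h1

lemma range_redOverι : Set.range (redOverι p T hT).left = Points.ofPt p ⁻¹' T := by
  change Set.range (Scheme.IdealSheafData.vanishingIdeal (chartCloseds p T hT)).subschemeι = _
  rw [Scheme.IdealSheafData.range_subschemeι, Scheme.IdealSheafData.coe_support_vanishingIdeal]
  rfl

variable {p T hT}

/-- The reduced induced subscheme of a chart is saturated for the equivalence relation of the
chart. -/
lemma redOver_saturated (hX : IsAlgSpace X) (hp : RepWith @Etale p)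
    (T' : Over S) (v v' : T' ⟶ V) (h : (yon S).map v ≫ p = (yon S).map v' ≫ p)
    (hv' : ∃ w : T' ⟶ redOver p T hT, w ≫ redOverι p T hT = v') :
    ∃ w : T' ⟶ redOver p T hT, w ≫ redOverι p T hT = v := by
  obtain ⟨w', hw'⟩ := hv'
  have hrep := hX.representable_from_yon p
  have sq := hrep.isPullback p
  obtain ⟨t, ht⟩ := (yon S).map_surjective (hrep.fst p)
  rw [← ht] at sq
  have hs : Etale (hrep.snd p).left := hp.property_snd p
  set s := hrep.snd p with hs_def
  obtain ⟨r', hr'⟩ := (yon S).map_surjective (sq.lift ((yon S).map v) ((yon S).map v') h)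
  have hr1 : r' ≫ t = v := by
    apply (yon S).map_injective
    rw [Functor.map_comp, hr', sq.lift_fst]
  have hr2 : r' ≫ s = v' := by
    apply (yon S).map_injective
    rw [Functor.map_comp, hr', sq.lift_snd]
  set ι := redOverι p T hT with hι
  have hred : AlgebraicGeometry.IsReduced (pullback s.left ι.left) :=
    Groth.Agent.H4.SmRed.isReduced_of_smooth_scheme (pullback.snd s.left ι.left)
  have hrange : Set.range (pullback.fst s.left ι.left ≫ t.left) ⊆ Set.range ι.left := by
    rintro _ ⟨x, rfl⟩
    rw [range_redOverι]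
    change Points.ofPt p ((pullback.fst s.left ι.left ≫ t.left) x) ∈ T
    rw [Scheme.Hom.comp_apply, ← ofPt_yon_map_comp, sq.w, ofPt_yon_map_comp]
    have h1 : s.left (pullback.fst s.left ι.left x) = ι.left (pullback.snd s.left ι.left x) := by
      rw [← Scheme.Hom.comp_apply, ← Scheme.Hom.comp_apply, pullback.condition]
    rw [h1]
    have h2 : ι.left (pullback.snd s.left ι.left x) ∈ Set.range ι.left := ⟨_, rfl⟩
    rw [range_redOverι] at h2
    exact h2
  obtain ⟨g', hg'⟩ := exists_lift_of_isReduced_of_range_subset _ ι.left hrange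
  have hcond : r'.left ≫ s.left = w'.left ≫ ι.left := by
    have := congrArg (fun f => f.left) (hr2.trans hw'.symm)
    exact this
  have hfac : (pullback.lift r'.left w'.left hcond ≫ g') ≫ ι.left = v.left := by
    rw [Category.assoc, hg', ← Category.assoc, pullback.lift_fst, ← hr1]
    rfl
  refine ⟨Over.homMk (pullback.lift r'.left w'.left hcond ≫ g') ?_, Over.OverMorphism.ext hfac⟩
  rw [← Over.w ι, ← Category.assoc, hfac, Over.w]

/-- **Existence of the reduced induced closed subspace structure** on a closed subset of the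
points of an algebraic space. -/
theorem exists_isRedInduced (hX : IsAlgSpace X) (T : Set (Points X)) (hT : IsClosed T) :
    ∃ (Z : Sp S) (i : Z ⟶ X), IsAlgSpace Z ∧ IsRedInduced T i := by
  obtain ⟨V, p, hpe, hps⟩ := hX.atlas
  have hsat := fun T' v v' h hv' => redOver_saturated (T := T) (hT := hT) hX hpe T' v v' h hv'
  have hcl := repWith_isClosedImmersion_descι hpe hps hsat
  obtain ⟨l, hl⟩ := exists_descLift hsat
  have sq := isPullback_desc l hl
  have hls : RepWith @Surjective l := (RepWith @Surjective).of_isPullback sq.flip hps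
  refine ⟨desc p (redOverι p T hT), descι _ _, isAlgSpace_of_representable hX _ hcl.rep, hcl, ?_,
    ⟨redOver p T hT, l, (RepWith @Etale).of_isPullback sq.flip hpe, hls, inferInstance⟩⟩
  ext x
  constructor
  · rintro ⟨z, rfl⟩
    obtain ⟨z₀, rfl⟩ := ofPt_surjective_of_repWith hls z
    rw [Points.map_ofPt, hl, ofPt_yon_map_comp]
    have h2 : (redOverι p T hT).left z₀ ∈ Set.range (redOverι p T hT).left := ⟨_, rfl⟩
    rw [range_redOverι] at h2
    exact h2
  · intro hx
    obtain ⟨v, rfl⟩ := ofPt_surjective_of_repWith hps x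
    have h2 : v ∈ Set.range (redOverι p T hT).left := by
      rw [range_redOverι]
      exact hx
    obtain ⟨z₀, rfl⟩ := h2
    refine ⟨Points.ofPt l z₀, ?_⟩
    rw [Points.map_ofPt, hl, ofPt_yon_map_comp]

end RedInd

section Factor

open Groth.Agent.H5.Descent in
/-- A morphism from a reduced sheaf factors through a closed subspace as soon as it does so on
points. -/
theorem exists_lift_closed_of_isReducedSp {X Y Z : Sp S} (i : Z ⟶ X)
    (hi : RepWith @IsClosedImmersion i) (hY : IsReducedSp Y) (f : Y ⟶ X)
    (h : Set.range (Points.map f) ⊆ Set.range (Points.map i)) : ∃ g : Y ⟶ Z, g ≫ i = f := by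
  obtain ⟨U, q, hqe, hqs, hUr⟩ := hY
  have hUr' : AlgebraicGeometry.IsReduced U.left := hUr
  have sq := hi.rep.isPullback (q ≫ f)
  have hc : IsClosedImmersion (hi.rep.snd (q ≫ f)).left := hi.property_snd _
  have hsurj : Surjective (hi.rep.snd (q ≫ f)).left := by
    refine ⟨fun u => ?_⟩
    obtain ⟨z, hz⟩ := h ⟨Points.ofPt q u, rfl⟩
    obtain ⟨v, hv, -⟩ := exists_point_of_isPullback sq z u (by rw [hz, Points.map_ofPt])
    exact ⟨v, hv⟩
  have hiso : IsIso (hi.rep.snd (q ≫ f)).left := isIso_of_isClosedImmersion_of_surjective _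
  have hiso' : IsIso (hi.rep.snd (q ≫ f)) := by
    have : IsIso ((Over.forget S).map (hi.rep.snd (q ≫ f))) := hiso
    exact isIso_of_reflects_iso _ (Over.forget S)
  have : Sheaf.IsLocallySurjective q := isLocallySurjective_of_etale_surjective q hqe hqs
  have hepi : Epi q := inferInstance
  have hm : Mono i := mono_of_repWith_isClosedImmersion hi
  obtain ⟨π', hπ', -⟩ := exists_factor_of_epi_of_mono q i f
    ((yon S).map (inv (hi.rep.snd (q ≫ f))) ≫ hi.rep.fst (q ≫ f)) (by
      rw [Category.assoc, sq.w, ← Category.assoc, ← Functor.map_comp, IsIso.inv_hom_id,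
        CategoryTheory.Functor.map_id, Category.id_comp])
  exact ⟨π', hπ'⟩

/-- The image of a closed subspace is closed. -/
theorem isClosed_range_points_map_of_isClosedImmersion {X Z : Sp S} (hX : IsAlgSpace X) (i : Z ⟶ X)
    (hi : RepWith @IsClosedImmersion i) : IsClosed (Set.range (Points.map i)) := by
  obtain ⟨V, p, hpe, hps⟩ := hX.atlas
  have sq := hi.rep.isPullback p
  have hc : IsClosedImmersion (hi.rep.snd p).left := hi.property_snd p
  rw [← (isQuotientMap_ofPt hpe hps).isClosed_preimage, preimage_range_points_map i sq]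
  exact (hi.rep.snd p).left.isClosedEmbedding.isClosed_range

/-- The scheme theoretic image of a morphism from a reduced space is the reduced induced
structure on the closure of the image. -/
theorem isRedInduced_of_isSchImage {X Y Z : Sp S} (hY : IsAlgSpace Y) (f : X ⟶ Y) (i : Z ⟶ Y)
    (hXr : IsReducedSp X) (hZ : IsSchImage f i) :
    IsRedInduced (closure (Set.range (Points.map f))) i := by
  obtain ⟨hi, ⟨f', hf'⟩, hmin⟩ := hZ
  obtain ⟨Z', i', hZ', hi', hrange, hred⟩ :=
    exists_isRedInduced hY (closure (Set.range (Points.map f))) isClosed_closure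
  have hfac : ∃ f'' : X ⟶ Z', f'' ≫ i' = f := by
    apply exists_lift_closed_of_isReducedSp i' hi' hXr f
    rw [hrange]
    exact subset_closure
  obtain ⟨k, hk⟩ := hmin i' hZ' hi' hfac
  have hsub : closure (Set.range (Points.map f)) ⊆ Set.range (Points.map i) := by
    apply closure_minimal _ (isClosed_range_points_map_of_isClosedImmersion hY i hi)
    rintro _ ⟨x, rfl⟩
    exact ⟨Points.map f' x, by rw [← Points.map_comp, hf']⟩
  obtain ⟨g, hg⟩ := exists_lift_closed_of_isReducedSp i hi hred i' (by rw [hrange]; exact hsub)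
  have hm : Mono i := mono_of_repWith_isClosedImmersion hi
  have hm' : Mono i' := mono_of_repWith_isClosedImmersion hi'
  have hkg : k ≫ g = 𝟙 Z := by rw [← cancel_mono i, Category.assoc, hg, hk, Category.id_comp]
  have hgk : g ≫ k = 𝟙 Z' := by rw [← cancel_mono i', Category.assoc, hk, hg, Category.id_comp]
  have hgiso : IsIso g := ⟨k, hgk, hkg⟩
  refine ⟨hi, ?_, ?_⟩
  · apply subset_antisymm _ hsub
    rintro _ ⟨z, rfl⟩
    rw [← hrange]
    exact ⟨Points.map k z, by rw [← Points.map_comp, hk]⟩
  · obtain ⟨U', l', hl'e, hl's, hU'⟩ := hred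
    exact ⟨U', l' ≫ g, (MorphismProperty.cancel_right_of_respectsIso (RepWith @Etale) l' g).2 hl'e,
      (MorphismProperty.cancel_right_of_respectsIso (RepWith @Surjective) l' g).2 hl's, hU'⟩

end Factor

end Groth.Agent.H5.AlgSp
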