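import Groth.Agent.Lib.Helper5.AlgSp.ZarLocalRep
import Groth.Agent.Lib.Helper5.AlgSp.AffineMor
import Mathlib

/-!
# Representability is Zariski local on the target (arbitrary open covers)
-/

set_option autoImplicit false

universe u

open CategoryTheory CategoryTheory.Limits AlgebraicGeometry Opposite

namespace Groth.Agent.H5.AlgSp

open _root_.AlgSp

variable {S : Scheme.{u}} {F G H : Sp S}

/-- Representability of a pullback can be checked on an open cover of the base scheme. -/
theorem exists_rep_of_openCover {f : F ⟶ G} {T : Over S} (g : (yon S).obj T ⟶ G) {ι : Type u}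
    (V : ι → T.left.Opens) (hV : ∀ t : ↥T.left, ∃ i, t ∈ V i)
    (h : ∀ i, ∃ (W : Over S) (k : W ⟶ overOpen T (V i)) (fst : (yon S).obj W ⟶ F),
      IsPullback fst ((yon S).map k) f ((yon S).map (overOpenι T (V i)) ≫ g)) :
    ∃ (X : Over S) (snd : X ⟶ T) (fst : (yon S).obj X ⟶ F),
      IsPullback fst ((yon S).map snd) f g := by
  have sqP := IsPullback.of_hasPullback f g
  choose W i fst hsq using h
  have hw : ∀ V₁, fst V₁ ≫ f = ((yon S).map (i V₁ ≫ overOpenι T (V V₁))) ≫ g := fun V₁ => by
    rw [Functor.map_comp, Category.assoc]; exact (hsq V₁).w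
  let c : ∀ V₁ : ι, (yon S).obj (W V₁) ⟶ pullback f g := fun V₁ =>
    pullback.lift (fst V₁) ((yon S).map (i V₁ ≫ overOpenι T (V V₁))) (hw V₁)
  have hcsq : ∀ V₁, IsPullback (c V₁) ((yon S).map (i V₁)) (pullback.snd f g)
      ((yon S).map (overOpenι T (V V₁))) := fun V₁ => by
    apply IsPullback.of_right (h₁₂ := pullback.fst f g) (h₂₂ := g) _ _ sqP
    · have : c V₁ ≫ pullback.fst f g = fst V₁ := pullback.lift_fst _ _ _
      rw [this]
      exact hsq V₁
    · have : c V₁ ≫ pullback.snd f g = (yon S).map (i V₁ ≫ overOpenι T (V V₁)) :=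
        pullback.lift_snd _ _ _
      rw [this, Functor.map_comp]
  have hc : ∀ V₁, RepWith @IsOpenImmersion (c V₁) := fun V₁ =>
    MorphismProperty.of_isPullback (P := RepWith @IsOpenImmersion) (hcsq V₁).flip
      (repWith_overOpenι @IsOpenImmersion (fun _ => inferInstance) T (V V₁))
  have hsurj : ∀ x : Points (pullback f g), ∃ (V₁ : ι) (u : ↥(W V₁).left),
      Points.ofPt (c V₁) u = x := by
    intro x
    obtain ⟨t, ht⟩ := (Points.schemeHomeo T).surjective (Points.map (pullback.snd f g) x)
    obtain ⟨V₁, htV⟩ := hV t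
    have hpt : Points.map (pullback.snd f g) x =
        Points.ofPt ((yon S).map (overOpenι T (V V₁))) ⟨t, htV⟩ := by
      rw [← ht, Points.ofPt_eq_map_ofScheme]
      have := Points.map_yon_map_apply (overOpenι T (V V₁)) ⟨t, htV⟩
      exact this.symm
    obtain ⟨u, -, hu⟩ := exists_point_of_isPullback (hcsq V₁) x ⟨t, htV⟩ hpt
    exact ⟨V₁, u, hu⟩
  obtain ⟨X, e, -⟩ := LocalRep.exists_iso hc hsurj
  obtain ⟨snd, fst', sq'⟩ := exists_isPullback_of_iso g sqP e
  exact ⟨X, snd, fst', sq'⟩

/-- An affine-ness criterion which is Zariski local on a scheme target. -/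
theorem isAffineMor_of_openCover {V₀ : Over S} {f : F ⟶ (yon S).obj V₀} {ι : Type u}
    (V : ι → V₀.left.Opens) (hV : ∀ t : ↥V₀.left, ∃ i, t ∈ V i)
    (h : ∀ i, ∃ (W : Over S) (k : W ⟶ overOpen V₀ (V i)) (fst : (yon S).obj W ⟶ F),
      IsPullback fst ((yon S).map k) f ((yon S).map (overOpenι V₀ (V i))) ∧
        IsAffineHom k.left) : IsAffineMor f := by
  have hrep : ∃ (X : Over S) (snd : X ⟶ V₀) (fst : (yon S).obj X ⟶ F),
      IsPullback fst ((yon S).map snd) f (𝟙 _) := by
    apply exists_rep_of_openCover (𝟙 _) V hV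
    intro i
    obtain ⟨W, k, fst, sq, -⟩ := h i
    exact ⟨W, k, fst, by rwa [Category.comp_id]⟩
  obtain ⟨X, snd, fst, sq⟩ := hrep
  have hiso : IsIso fst := IsPullback.isIso_fst_of_isIso sq
  have hsnd : IsAffineHom snd.left := by
    rw [IsZariskiLocalAtTarget.iff_of_iSup_eq_top (P := @IsAffineHom) V]
    · intro i
      obtain ⟨W, k, fst', sq', hk⟩ := h i
      -- `snd ∣_ V i` is isomorphic to `k`
      have sqO := (IsPullback.of_hasPullback snd (overOpenι V₀ (V i)))
      have sqY := sqO.map (yon S)
      have big : IsPullback ((yon S).map (pullback.fst snd (overOpenι V₀ (V i))) ≫ fst)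
          ((yon S).map (pullback.snd snd (overOpenι V₀ (V i)))) f
          ((yon S).map (overOpenι V₀ (V i)) ≫ 𝟙 _) := (sqY.flip.paste_vert sq.flip).flip
      rw [Category.comp_id] at big
      obtain ⟨e, he⟩ := nonempty_iso_of_isPullback big sq'
      have : IsIso e.hom.left := inferInstanceAs (IsIso ((Over.forget S).map e.hom))
      have h1 : IsAffineHom (pullback.snd snd (overOpenι V₀ (V i))).left := by
        have : (pullback.snd snd (overOpenι V₀ (V i))).left = e.hom.left ≫ k.left := by
          rw [← Over.comp_left, he]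
        rw [this]
        infer_instance
      rw [left_pullback_snd_iff @IsAffineHom] at h1
      have h2 : IsAffineHom (pullback.snd snd.left (V i).ι) := h1
      rw [← pullbackRestrictIsoRestrict_hom_morphismRestrict] at h2
      exact (MorphismProperty.cancel_left_of_respectsIso @IsAffineHom
        (pullbackRestrictIsoRestrict snd.left (V i)).hom _).1 h2
    · ext t
      simp only [TopologicalSpace.Opens.coe_iSup, Set.mem_iUnion, SetLike.mem_coe,
        TopologicalSpace.Opens.coe_top, Set.mem_univ, iff_true]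
      exact hV t
  apply isAffineMor_of_repWith
  have hf : f = inv fst ≫ (yon S).map snd := by
    rw [IsIso.eq_inv_comp, sq.w, Category.comp_id]
  rw [hf]
  exact (MorphismProperty.cancel_left_of_respectsIso (RepWith @IsAffineHom) (inv fst) _).2
    ((repWith_yon_map_iff @IsAffineHom snd).2 hsnd)

end Groth.Agent.H5.AlgSp
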