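import Groth.Prelude.Def_AlgSpCov
import Groth.Agent.Lib.Helper5.AlgSp.ZarLocalRep2
import Groth.Agent.Lib.Helper5.AlgSp.SchDenseQC
import Groth.Agent.Lib.Helper5.AlgSp.AffineBase
import Mathlib

/-!
# Representable properties which are Zariski local on the target can be checked on Zariski
coverings of the base
-/

set_option autoImplicit false

universe u

open CategoryTheory CategoryTheory.Limits AlgebraicGeometry Opposite

namespace Groth.Agent.H5.AlgSp

open _root_.AlgSp

variable {S : Scheme.{u}} {F G : Sp S}

/-- `RepWith P` from open coverings of the test schemes over whose members the base change is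
represented with `P`. -/
theorem repWith_of_openCovers {f : F ⟶ G} (P : MorphismProperty Scheme.{u})
    [P.IsStableUnderBaseChange] [IsZariskiLocalAtTarget P]
    (key : ∀ (T : Over S) (g : (yon S).obj T ⟶ G), ∃ (ι : Type u) (V : ι → T.left.Opens),
      (∀ t : ↥T.left, ∃ i, t ∈ V i) ∧
      ∀ i, ∃ (W : Over S) (k : W ⟶ overOpen T (V i)) (fst : (yon S).obj W ⟶ F),
        IsPullback fst ((yon S).map k) f ((yon S).map (overOpenι T (V i)) ≫ g) ∧ P k.left) :
    RepWith P f := by
  have : P.RespectsIso := MorphismProperty.IsStableUnderBaseChange.respectsIso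
  refine ⟨fun T g => ?_, fun T X g fst snd sq => ?_⟩
  · obtain ⟨ι, V, hV, h⟩ := key T g
    exact exists_rep_of_openCover g V hV (fun i => by
      obtain ⟨W, k, fst, sq, -⟩ := h i
      exact ⟨W, k, fst, sq⟩)
  · obtain ⟨ι, V, hV, h⟩ := key T g
    change P snd.left
    rw [IsZariskiLocalAtTarget.iff_of_iSup_eq_top (P := P) V]
    · intro i
      obtain ⟨W, k, fst', sq', hk⟩ := h i
      have sqO := (IsPullback.of_hasPullback snd (overOpenι T (V i)))
      have sqY := sqO.map (yon S)
      have big : IsPullback ((yon S).map (pullback.fst snd (overOpenι T (V i))) ≫ fst)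
          ((yon S).map (pullback.snd snd (overOpenι T (V i)))) f
          ((yon S).map (overOpenι T (V i)) ≫ g) := (sqY.flip.paste_vert sq.flip).flip
      obtain ⟨e, he⟩ := nonempty_iso_of_isPullback big sq'
      have : IsIso e.hom.left := inferInstanceAs (IsIso ((Over.forget S).map e.hom))
      have h1 : P (pullback.snd snd (overOpenι T (V i))).left := by
        have : (pullback.snd snd (overOpenι T (V i))).left = e.hom.left ≫ k.left := by
          rw [← Over.comp_left, he]
        rw [this]
        exact (P.cancel_left_of_respectsIso e.hom.left k.left).2 hk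
      rw [left_pullback_snd_iff P] at h1
      have h2 : P (pullback.snd snd.left (V i).ι) := h1
      rw [← pullbackRestrictIsoRestrict_hom_morphismRestrict] at h2
      exact (MorphismProperty.cancel_left_of_respectsIso P
        (pullbackRestrictIsoRestrict snd.left (V i)).hom _).1 h2
    · ext t
      simp only [TopologicalSpace.Opens.coe_iSup, Set.mem_iUnion, SetLike.mem_coe,
        TopologicalSpace.Opens.coe_top, Set.mem_univ, iff_true]
      exact hV t

/-- **A property of representable morphisms which is Zariski local on the target can be checked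
over the members of a Zariski covering of the base.** -/
theorem repWith_of_isZarCover {f : F ⟶ G} {ι : Type u} (Yi : ι → Sp S) (j : ∀ i, Yi i ⟶ G)
    (hj : IsZarCover Yi j) (Xi : ι → Sp S) (p : ∀ i, Xi i ⟶ F) (q : ∀ i, Xi i ⟶ Yi i)
    (sq : ∀ i, IsPullback (p i) (q i) f (j i)) (P : MorphismProperty Scheme.{u})
    [P.IsStableUnderBaseChange] [IsZariskiLocalAtTarget P] (h : ∀ i, RepWith P (q i)) :
    RepWith P f := by
  apply repWith_of_openCovers P
  intro T g
  have hex : ∀ i, ∃ (W : T.left.Opens) (fst : (yon S).obj (overOpen T W) ⟶ Yi i),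
      IsPullback fst ((yon S).map (overOpenι T W)) (j i) g := fun i => by
    have hoi : IsOpenImmersion ((hj.1 i).rep.snd g).left := (hj.1 i).property_snd g
    obtain ⟨W, fst, sqW, -⟩ := exists_isPullback_overOpen ((hj.1 i).rep.isPullback g)
    exact ⟨W, fst, sqW⟩
  choose V fstV sqV using hex
  refine ⟨ι, V, fun t => ?_, fun i => ?_⟩
  · obtain ⟨i, y, hy⟩ := hj.2 (Points.ofPt g t)
    obtain ⟨v, hv, -⟩ := exists_point_of_isPullback (sqV i) y t hy
    refine ⟨i, ?_⟩
    rw [← hv]
    exact v.2
  · have sqq := (h i).rep.isPullback (fstV i)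
    have hP : P ((h i).rep.snd (fstV i)).left := (h i).property_snd (fstV i)
    refine ⟨_, (h i).rep.snd (fstV i), (h i).rep.fst (fstV i) ≫ p i, ?_, hP⟩
    have := sqq.paste_horiz (sq i)
    rw [(sqV i).w] at this
    exact this

end Groth.Agent.H5.AlgSp
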