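import Groth.Prelude.Def_AlgSpMor5
import Groth.Agent.Lib.Helper5.AlgSp.QCompact
import Groth.Agent.Lib.Helper5.AlgSp.PointsTop
import Mathlib

/-!
# Points in the closure of the image of a quasi-compact morphism are specializations of
points of the image
-/

set_option autoImplicit false

universe u

open CategoryTheory CategoryTheory.Limits AlgebraicGeometry Opposite IsLocalRing

namespace Groth.Agent.H5.AlgSp

open _root_.AlgSp

variable {S : Scheme.{u}}

/-- For a ring map `φ : R → R'`, a prime of `R` in the closure of the image of `Spec φ` is a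
specialization of a point of the image. -/
lemma exists_specializes_of_mem_closure_range_comap {R R' : Type u} [CommRing R] [CommRing R']
    (φ : R →+* R') {y : PrimeSpectrum R} (hy : y ∈ closure (Set.range (PrimeSpectrum.comap φ))) :
    ∃ x : PrimeSpectrum R', PrimeSpectrum.comap φ x ⤳ y := by
  rw [PrimeSpectrum.closure_range_comap, PrimeSpectrum.mem_zeroLocus] at hy
  have hle : (⊥ : Ideal R').comap φ ≤ y.asIdeal := hy
  obtain ⟨p, hp, hpy⟩ := Ideal.exists_minimalPrimes_le hle
  obtain ⟨q, hq, -, hqp⟩ := Ideal.exists_comap_eq_of_mem_minimalPrimes φ p hp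
  refine ⟨⟨q, hq⟩, ?_⟩
  rw [← PrimeSpectrum.le_iff_specializes]
  change q.comap φ ≤ y.asIdeal
  rw [hqp]
  exact hpy

/-- For a morphism from a quasi-compact scheme to an affine scheme, a point in the closure of
the image is a specialization of a point of the image. -/
lemma exists_specializes_of_mem_closure_range {X Y : Scheme.{u}} (f : X ⟶ Y) [IsAffine Y]
    [CompactSpace X] {y : Y} (hy : y ∈ closure (Set.range f)) : ∃ x : X, f x ⤳ y := by
  wlog hY : ∃ R, Y = Spec R
  · have h1 : Set.range (f ≫ Y.isoSpec.hom) = Y.isoSpec.hom '' (Set.range f) := by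
      rw [Scheme.Hom.comp_base, TopCat.coe_comp, Set.range_comp]
    obtain ⟨x, hx⟩ := this (f ≫ Y.isoSpec.hom) (y := Y.isoSpec.hom y) (by
      rw [h1]
      exact image_closure_subset_closure_image Y.isoSpec.hom.continuous ⟨y, hy, rfl⟩) ⟨_, rfl⟩
    refine ⟨x, ?_⟩
    rw [Scheme.Hom.comp_apply] at hx
    exact (Scheme.homeoOfIso Y.isoSpec).isInducing.specializes_iff.1 hx
  obtain ⟨R, rfl⟩ := hY
  obtain ⟨R', g, hg⟩ := compactSpace_iff_exists.mp (inferInstance : CompactSpace X)
  have h1 : Set.range f = Set.range (g ≫ f) := by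
    rw [Scheme.Hom.comp_base, TopCat.coe_comp, Set.range_comp, Set.range_eq_univ.2 hg,
      Set.image_univ]
  rw [h1] at hy
  obtain ⟨φ, hφ⟩ := Spec.homEquiv.symm.surjective (g ≫ f)
  rw [← hφ] at hy
  obtain ⟨x, hx⟩ := exists_specializes_of_mem_closure_range_comap φ.hom hy
  refine ⟨g x, ?_⟩
  have : (g ≫ f) x = f (g x) := Scheme.Hom.comp_apply _ _ _
  rw [← this, ← hφ]
  exact hx

/-- **Points in the closure of the image of a quasi-compact morphism, on a chart.**  For a
quasi-compact morphism `f : X ⟶ Y`, an étale chart `p : h_V ⟶ Y` and a point `v` of `V` whose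
image lies in the closure of the image of `f`, there are an affine open neighbourhood `V₀` of
`v`, a quasi-compact étale atlas `U₀` of `X ×_Y V₀` and a point of `U₀` whose image in `V₀`
specializes to `v`. -/
theorem exists_chart_specializes {X Y : Sp S} {f : X ⟶ Y} (hf : IsQuasiCompactMor f) {V : Over S}
    (p : (yon S).obj V ⟶ Y) (hpe : RepWith @Etale p) (v : V.left)
    (hv : Points.ofPt p v ∈ closure (Set.range (Points.map f))) :
    ∃ (V₀ : V.left.Opens) (_ : IsAffineOpen V₀) (hvV₀ : v ∈ V₀) (U₀ : Over S)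
      (_ : CompactSpace U₀.left)
      (b : (yon S).obj U₀ ⟶ pullback f ((yon S).map (overOpenι V V₀) ≫ p))
      (g₀ : U₀ ⟶ overOpen V V₀) (u₀ : U₀.left),
      RepWith @Etale b ∧ RepWith @Surjective b ∧
        b ≫ pullback.snd f ((yon S).map (overOpenι V V₀) ≫ p) = (yon S).map g₀ ∧
        g₀.left u₀ ⤳ (⟨v, hvV₀⟩ : V₀) := by
  obtain ⟨_, ⟨V₀, hV₀, rfl⟩, hvV₀, -⟩ :=
    V.left.isBasis_affineOpens.exists_subset_of_mem_open (Set.mem_univ v) isOpen_univ
  have : IsAffine (overOpen V V₀).left := hV₀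
  have hp₀e : RepWith @Etale ((yon S).map (overOpenι V V₀) ≫ p) := repWith_etale_restrict hpe V₀
  have sq := IsPullback.of_hasPullback f ((yon S).map (overOpenι V V₀) ≫ p)
  have hq : IsQuasiCompactSp (pullback f ((yon S).map (overOpenι V V₀) ≫ p)) :=
    hf (IsAlgSpace.yon_obj _) ((isQuasiCompactSp_yon_iff _).2 inferInstance) _ _ _ sq
  obtain ⟨U₀, b, hbe, hbs, hU₀⟩ := hq
  have : CompactSpace U₀.left := hU₀
  obtain ⟨g₀, hg₀⟩ := (yon S).map_surjective
    (b ≫ pullback.snd f ((yon S).map (overOpenι V V₀) ≫ p))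
  have hsurj := ofPt_surjective_of_repWith hbs
  -- the preimage of the image of `f` in `V₀` is the image of `g₀`
  have hpre : Points.ofPt ((yon S).map (overOpenι V V₀) ≫ p) ⁻¹' Set.range (Points.map f) =
      Set.range g₀.left := by
    ext v'
    rw [Set.mem_preimage]
    have h1 : Points.ofPt ((yon S).map (overOpenι V V₀) ≫ p) v' =
        Points.map ((yon S).map (overOpenι V V₀) ≫ p) (Points.ofScheme _ v') := by
      rw [Points.map_ofPt, Category.id_comp]
    rw [h1, ← Set.mem_preimage, ← range_points_map_fst sq.flip]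
    constructor
    · rintro ⟨z, hz⟩
      obtain ⟨u, rfl⟩ := hsurj z
      refine ⟨u, ?_⟩
      apply (Points.schemeHomeo (overOpen V V₀)).injective
      change Points.ofScheme _ (g₀.left u) = Points.ofScheme _ v'
      rw [← hz, Points.map_ofPt, ← hg₀, ← Category.comp_id ((yon S).map g₀), ofPt_yon_map_comp]
    · rintro ⟨u, rfl⟩
      refine ⟨Points.ofPt b u, ?_⟩
      rw [Points.map_ofPt, ← hg₀, ← Category.comp_id ((yon S).map g₀), ofPt_yon_map_comp]
  have hcl : (⟨v, hvV₀⟩ : V₀) ∈ closure (Set.range g₀.left) := by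
    rw [← hpre]
    apply (isOpenMap_ofPt_of_etale hp₀e).preimage_closure_subset_closure_preimage
    rw [Set.mem_preimage, ofPt_restrict]
    exact hv
  obtain ⟨u₀, hu₀⟩ := exists_specializes_of_mem_closure_range g₀.left hcl
  exact ⟨V₀, hV₀, hvV₀, U₀, hU₀, b, g₀, u₀, hbe, hbs, hg₀.symm, hu₀⟩

end Groth.Agent.H5.AlgSp
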