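import Groth.Agent.Lib.Helper5.AlgSp.UCSpace
import Groth.Agent.Lib.Helper5.AlgSp.AffineChart
import Groth.Agent.Lib.Helper5.AlgSp.QCompact

/-!
# Universally closed can be tested on affine spaces, for algebraic spaces: globalization
-/

set_option autoImplicit false

universe u

open CategoryTheory CategoryTheory.Limits AlgebraicGeometry Opposite Topology MvPolynomial

namespace Groth.Agent.H5.UC

open _root_.AlgSp Groth.Agent.H5.AlgSp Groth.Agent.H8.UC

variable {S : Scheme.{u}}

lemma isClosedMap_points_map_of_isIso {F G : Sp S} (e : F ⟶ G) [IsIso e] :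
    IsClosedMap (Points.map e) := by
  intro C hC
  have : Points.map e '' C = Points.map (inv e) ⁻¹' C := by
    ext y
    constructor
    · rintro ⟨x, hx, rfl⟩
      rw [Set.mem_preimage, ← Points.map_comp, IsIso.hom_inv_id, Points.map_id]
      exact hx
    · intro hy
      refine ⟨Points.map (inv e) y, hy, ?_⟩
      rw [← Points.map_comp, IsIso.inv_hom_id, Points.map_id]
  rw [this]
  exact hC.preimage (Points.continuous_map _)

/-- Closedness of a base change passes to further base changes along immersions (general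
target). -/
theorem isClosedMap_snd_comp_of_isImmersion' {X Y : Sp S} (hX : IsAlgSpace X) (hY : IsAlgSpace Y)
    {T' T'' : Over S} (f : X ⟶ Y) (c : (yon S).obj T' ⟶ Y) (k : T'' ⟶ T') [IsImmersion k.left]
    (h : IsClosedMap (Points.map (pullback.snd f c)))
    {P : Sp S} {fst : P ⟶ X} {snd : P ⟶ (yon S).obj T''}
    {g : (yon S).obj T'' ⟶ Y} (hg : g = (yon S).map k ≫ c)
    (sq : IsPullback fst snd f g) : IsClosedMap (Points.map snd) := by
  subst hg
  have sq1 := IsPullback.of_hasPullback f c
  have hP1 : IsAlgSpace (pullback f c) :=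
    isAlgSpace_pullback hY.diag hX (IsAlgSpace.yon_obj T') sq1
  have hw : fst ≫ f = (snd ≫ (yon S).map k) ≫ c := by
    rw [Category.assoc]; exact sq.w
  have sq2 : IsPullback (sq1.lift fst (snd ≫ (yon S).map k) hw) snd
      (pullback.snd f c) ((yon S).map k) := by
    refine IsPullback.of_right ?_ (sq1.lift_snd _ _ _) sq1
    rw [sq1.lift_fst]
    exact sq
  exact isClosedMap_points_of_isPullback_of_isImmersion hP1 k sq2 h

/-- Universal closedness can be checked Zariski locally on affine test schemes. -/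
theorem isUnivClosedMor_of_local {X Y : Sp S} {f : X ⟶ Y}
    (H : ∀ (Z : Over S), IsAffine Z.left → ∀ (g : (yon S).obj Z ⟶ Y) (z : Z.left),
      ∃ W : Z.left.Opens, z ∈ W ∧
        IsClosedMap (Points.map (pullback.snd f ((yon S).map (overOpenι Z W) ≫ g)))) :
    IsUnivClosedMor f := by
  rw [isUnivClosedMor_iff_forall_affine]
  intro Z hZ g P fst snd sq
  choose W hzW hW using H Z hZ g
  apply isClosedMap_points_of_openCover snd W (fun z => ⟨z, hzW z⟩)
  intro z
  have sq1 := IsPullback.of_hasPullback snd ((yon S).map (overOpenι Z (W z)))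
  have big := sq1.paste_horiz sq
  have h1 : Points.map (pullback.snd snd ((yon S).map (overOpenι Z (W z)))) =
      Points.map (pullback.snd f ((yon S).map (overOpenι Z (W z)) ≫ g)) ∘
        Points.map big.isoPullback.hom := by
    funext x
    rw [Function.comp_apply, ← Points.map_comp, big.isoPullback_hom_snd]
  rw [h1]
  exact (hW z).comp (isClosedMap_points_map_of_isIso _)

/-- Over an affine base: closedness after base change to all finite-dimensional affine spaces
implies universal closedness, for quasi-compact algebraic spaces. -/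
theorem isUnivClosedMor_of_affineSpace_affine' {R : CommRingCat.{u}} (strR : Spec R ⟶ S)
    {X : Sp S} (f : X ⟶ (yon S).obj (Over.mk strR)) (hX : IsAlgSpace X)
    (hXq : IsQuasiCompactSp X)
    (hfin : ∀ n : ℕ, IsClosedMap
      (Points.map (pullback.snd f ((yon S).map (cRo strR (ULift.{u} (Fin n))))))) :
    IsUnivClosedMor f := by
  obtain ⟨U, a, hae, has, hU⟩ := hXq
  have : CompactSpace U.left := hU
  obtain ⟨U', q, hU'aff, hqe, hqs⟩ := exists_affine_chart_of_compact U
  obtain ⟨g', hg'⟩ := (yon S).map_surjective (((yon S).map q ≫ a) ≫ f)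
  let A : CommRingCat.{u} := Γ(U'.left, ⊤)
  let e : U'.left ≅ Spec A := U'.left.isoSpec
  let φ : R ⟶ A := Spec.preimage (e.inv ≫ g'.left)
  have hφ : Spec.map φ = e.inv ≫ g'.left := Spec.map_preimage _
  have heo : e.inv ≫ U'.hom = Spec.map φ ≫ strR := by
    rw [hφ, Category.assoc]
    congr 1
    exact (Over.w g').symm
  let eo : Over.mk (Spec.map φ ≫ strR) ⟶ U' := Over.homMk e.inv heo
  have heoe : Etale eo.left := inferInstanceAs (Etale e.inv)
  have heos : Surjective eo.left := inferInstanceAs (Surjective e.inv)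
  have hρe : RepWith @Etale ((yon S).map eo ≫ (yon S).map q ≫ a) :=
    repWith_comp_yon_map @Etale eo heoe (repWith_comp_yon_map @Etale q hqe hae)
  have hρs : RepWith @Surjective ((yon S).map eo ≫ (yon S).map q ≫ a) :=
    repWith_comp_yon_map @Surjective eo heos (repWith_comp_yon_map @Surjective q hqs has)
  have hρ : ((yon S).map eo ≫ (yon S).map q ≫ a) ≫ f = (yon S).map (φo strR φ) := by
    rw [Category.assoc, ← hg', ← Functor.map_comp]
    congr 1
    apply Over.OverMorphism.ext
    exact hφ.symm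
  exact isUnivClosedMor_of_affineSpace_affine strR φ f _ hρ hX hρe hρs hfin

/-- **A quasi-compact morphism of algebraic spaces is universally closed as soon as its base
changes to the affine spaces over one étale atlas of the target are closed.** -/
theorem isUnivClosedMor_of_affineSpace {X Y : Sp S} (hX : IsAlgSpace X) (hY : IsAlgSpace Y)
    {f : X ⟶ Y} (hqc : IsQuasiCompactMor f) {V : Over S} (p : (yon S).obj V ⟶ Y)
    (hpe : RepWith @Etale p) (hps : RepWith @Surjective p)
    (H : ∀ n : ℕ, IsClosedMap (Points.map (pullback.snd f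
      ((yon S).map (Over.homMk (𝔸(ULift.{u} (Fin n); V.left) ↘ V.left) :
        Over.mk ((𝔸(ULift.{u} (Fin n); V.left) ↘ V.left) ≫ V.hom) ⟶ V) ≫ p)))) :
    IsUnivClosedMor f := by
  have sqV := IsPullback.of_hasPullback f p
  have hXV : IsAlgSpace (pullback f p) :=
    isAlgSpace_pullback hY.diag hX (IsAlgSpace.yon_obj V) sqV
  refine isUnivClosedMor_of_baseChange hY (IsAlgSpace.yon_obj V) hpe hps sqV ?_
  apply isUnivClosedMor_of_local
  intro Z hZ g z
  obtain ⟨γ, rfl⟩ := (yon S).map_surjective g
  obtain ⟨_, ⟨W', hW', rfl⟩, hzW', -⟩ :=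
    V.left.isBasis_affineOpens.exists_subset_of_mem_open (Set.mem_univ (γ.left z)) isOpen_univ
  refine ⟨γ.left ⁻¹ᵁ W', hzW', ?_⟩
  let R : CommRingCat.{u} := Γ(V.left, W')
  let w : Spec R ⟶ V.left := hW'.fromSpec
  have hwo : IsOpenImmersion w := inferInstance
  let wo : Over.mk (w ≫ V.hom) ⟶ V := Over.homMk w rfl
  -- the affine piece is universally closed
  have sqR := IsPullback.of_hasPullback (pullback.snd f p) ((yon S).map wo)
  have hXR : IsAlgSpace (pullback (pullback.snd f p) ((yon S).map wo)) :=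
    isAlgSpace_pullback (IsAlgSpace.yon_obj V).diag hXV (IsAlgSpace.yon_obj _) sqR
  have bigR : IsPullback
      (pullback.fst (pullback.snd f p) ((yon S).map wo) ≫ pullback.fst f p)
      (pullback.snd (pullback.snd f p) ((yon S).map wo)) f ((yon S).map wo ≫ p) :=
    sqR.paste_horiz sqV
  have hRaff : CompactSpace ↥(Over.mk (w ≫ V.hom)).left :=
    inferInstanceAs (CompactSpace ↥(Spec R))
  have hXRq : IsQuasiCompactSp (pullback (pullback.snd f p) ((yon S).map wo)) :=
    hqc (IsAlgSpace.yon_obj _) ((isQuasiCompactSp_yon_iff _).2 hRaff) _ _ _ bigR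
  have hfR : IsUnivClosedMor (pullback.snd (pullback.snd f p) ((yon S).map wo)) := by
    apply isUnivClosedMor_of_affineSpace_affine' (w ≫ V.hom) _ hXR hXRq
    intro n
    let j : Spec (PR (ULift.{u} (Fin n)) R) ⟶ 𝔸(ULift.{u} (Fin n); V.left) :=
      (AffineSpace.SpecIso (ULift.{u} (Fin n)) R).inv ≫ AffineSpace.map (ULift.{u} (Fin n)) w
    have hj : j ≫ (𝔸(ULift.{u} (Fin n); V.left) ↘ V.left) =
        Spec.map (cR (ULift.{u} (Fin n)) R) ≫ w := by
      rw [Category.assoc, AffineSpace.map_over, ← Category.assoc, AffineSpace.SpecIso_inv_over]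
    have hopen : IsOpenImmersion (AffineSpace.map (ULift.{u} (Fin n)) w) :=
      MorphismProperty.of_isPullback (P := @IsOpenImmersion)
        (AffineSpace.isPullback_map (n := ULift.{u} (Fin n)) w).flip hwo
    let jo : TR (w ≫ V.hom) (ULift.{u} (Fin n)) ⟶
        Over.mk ((𝔸(ULift.{u} (Fin n); V.left) ↘ V.left) ≫ V.hom) :=
      Over.homMk j (by
        change j ≫ _ ≫ V.hom = Spec.map _ ≫ w ≫ V.hom
        rw [← Category.assoc, hj, Category.assoc])
    have hjo : IsImmersion jo.left := inferInstanceAs (IsImmersion j)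
    have s1 := IsPullback.of_hasPullback (pullback.snd (pullback.snd f p) ((yon S).map wo))
      ((yon S).map (cRo (w ≫ V.hom) (ULift.{u} (Fin n))))
    have big := s1.paste_horiz bigR
    refine isClosedMap_snd_comp_of_isImmersion' hX hY f _ jo (H n) ?_ big
    rw [← Category.assoc, ← Functor.map_comp, ← Category.assoc, ← Functor.map_comp]
    congr 2
    apply Over.OverMorphism.ext
    exact hj.symm
  -- factor through the affine piece
  have hrange : Set.range ((γ.left ⁻¹ᵁ W').ι ≫ γ.left) ⊆ Set.range w := by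
    rw [hW'.range_fromSpec]
    rintro _ ⟨x, rfl⟩
    exact x.2
  have hδ₀ : IsOpenImmersion.lift w ((γ.left ⁻¹ᵁ W').ι ≫ γ.left) hrange ≫ w =
      (γ.left ⁻¹ᵁ W').ι ≫ γ.left := IsOpenImmersion.lift_fac _ _ _
  let δ : overOpen Z (γ.left ⁻¹ᵁ W') ⟶ Over.mk (w ≫ V.hom) :=
    Over.homMk (IsOpenImmersion.lift w ((γ.left ⁻¹ᵁ W').ι ≫ γ.left) hrange) (by
      change _ ≫ w ≫ V.hom = (γ.left ⁻¹ᵁ W').ι ≫ Z.hom
      rw [← Category.assoc, hδ₀, Category.assoc, Over.w γ])
  have hδ : δ ≫ wo = overOpenι Z (γ.left ⁻¹ᵁ W') ≫ γ := Over.OverMorphism.ext hδ₀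
  have hδy : (yon S).map δ ≫ (yon S).map wo =
      (yon S).map (overOpenι Z (γ.left ⁻¹ᵁ W')) ≫ (yon S).map γ := by
    rw [← Functor.map_comp, hδ, Functor.map_comp]
  have sq' := IsPullback.of_hasPullback (pullback.snd f p)
    ((yon S).map (overOpenι Z (γ.left ⁻¹ᵁ W')) ≫ (yon S).map γ)
  have hw' : pullback.fst (pullback.snd f p)
      ((yon S).map (overOpenι Z (γ.left ⁻¹ᵁ W')) ≫ (yon S).map γ) ≫ pullback.snd f p =
      (pullback.snd (pullback.snd f p)
        ((yon S).map (overOpenι Z (γ.left ⁻¹ᵁ W')) ≫ (yon S).map γ) ≫ (yon S).map δ) ≫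
        (yon S).map wo := by
    rw [Category.assoc, hδy]
    exact sq'.w
  have sq'' : IsPullback (sqR.lift _ _ hw')
      (pullback.snd (pullback.snd f p)
        ((yon S).map (overOpenι Z (γ.left ⁻¹ᵁ W')) ≫ (yon S).map γ))
      (pullback.snd (pullback.snd f p) ((yon S).map wo)) ((yon S).map δ) := by
    refine IsPullback.of_right ?_ (sqR.lift_snd _ _ _) sqR
    rw [sqR.lift_fst, hδy]
    exact sq'
  exact hfR (IsAlgSpace.yon_obj _) _ _ _ sq''

end Groth.Agent.H5.UC
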