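import Groth.Prelude.Def_AlgSpMor5
import Groth.Agent.Lib.Helper5.AlgSp.SchKer
import Mathlib

/-!
# Valuative criteria for morphisms of algebraic spaces: basics
-/

set_option autoImplicit false

universe u

open CategoryTheory CategoryTheory.Limits AlgebraicGeometry Opposite

namespace Groth.Agent.H5.AlgSp

open _root_.AlgSp

variable {S : Scheme.{u}} {F G H : Sp S}

/-- A closed subscheme of `Spec A` through which `Spec K ⟶ Spec A` factors, for an injective
`A → K`, is everything. -/
lemma isIso_of_isClosedImmersion_of_fac_of_injective {A K : CommRingCat.{u}} (φ : A ⟶ K)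
    (hφ : Function.Injective φ.hom) {E : Scheme.{u}} (c : E ⟶ Spec A) [IsClosedImmersion c]
    (t : Spec K ⟶ E) (ht : t ≫ c = Spec.map φ) : IsIso c := by
  apply IsClosedImmersion.isIso_of_injective_of_isAffine
  have h1 : Function.Injective (Spec.map φ).appTop.hom := by
    have h := Scheme.ΓSpecIso_naturality φ
    have h2 : (Spec.map φ).appTop = (Scheme.ΓSpecIso A).hom ≫ φ ≫ (Scheme.ΓSpecIso K).inv := by
      rw [← Category.assoc, ← h, Category.assoc, Iso.hom_inv_id, Category.comp_id]
    rw [h2]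
    simp only [CommRingCat.hom_comp, RingHom.coe_comp]
    exact ((ConcreteCategory.bijective_of_isIso (Scheme.ΓSpecIso K).inv).1.comp hφ).comp
      (ConcreteCategory.bijective_of_isIso (Scheme.ΓSpecIso A).hom).1
  rw [← ht, Scheme.Hom.comp_appTop] at h1
  simp only [CommRingCat.hom_comp, RingHom.coe_comp] at h1
  exact Function.Injective.of_comp h1

/-- **A separated morphism satisfies the uniqueness part of the valuative criterion.** -/
theorem uniqVC_of_isSeparatedMor {f : F ⟶ G} (hf : IsSeparatedMor f) : UniqVC f := by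
  intro sq l l' h1 h2 h1' h2'
  have hll : l ≫ f = l' ≫ f := by rw [h2, h2']
  have sqD := hf.rep.isPullback (pullback.lift l l' hll)
  have hc : IsClosedImmersion (hf.rep.snd (pullback.lift l l' hll)).left := hf.property_snd _
  have hw : ((yon S).map sq.j ≫ l) ≫ pullback.diagonal f =
      (yon S).map sq.j ≫ pullback.lift l l' hll := by
    apply pullback.hom_ext
    · simp only [Category.assoc, pullback.diagonal_fst, pullback.lift_fst, Category.comp_id]
    · simp only [Category.assoc, pullback.diagonal_snd, pullback.lift_snd, Category.comp_id]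
      rw [h1, h1']
  obtain ⟨t, ht⟩ := (yon S).map_surjective (sqD.lift _ _ hw)
  have htc : t ≫ hf.rep.snd (pullback.lift l l' hll) = sq.j := by
    apply (yon S).map_injective
    rw [Functor.map_comp, ht, sqD.lift_snd]
  have hiso : IsIso (hf.rep.snd (pullback.lift l l' hll)).left :=
    isIso_of_isClosedImmersion_of_fac_of_injective
      (CommRingCat.ofHom (algebraMap sq.A sq.K)) (IsFractionRing.injective sq.A sq.K) _ t.left
      (congrArg (·.left) htc)
  have hiso' : IsIso (hf.rep.snd (pullback.lift l l' hll)) := by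
    have : IsIso ((Over.forget S).map (hf.rep.snd (pullback.lift l l' hll))) := hiso
    exact isIso_of_reflects_iso _ (Over.forget S)
  have e1 := congrArg (· ≫ pullback.fst f f) sqD.w
  have e2 := congrArg (· ≫ pullback.snd f f) sqD.w
  simp only [Category.assoc, pullback.diagonal_fst, pullback.diagonal_snd, pullback.lift_fst,
    pullback.lift_snd, Category.comp_id] at e1 e2
  rw [← cancel_epi ((yon S).map (hf.rep.snd (pullback.lift l l' hll))), ← e1, ← e2]

/-! ## The morphisms of a dominating extension -/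

section DomExt

variable {f : F ⟶ G} {sq : ValSq f} (e : sq.DomExt)

/-- `Spec A' ⟶ Spec A` over `S`. -/
noncomputable abbrev domExtA : e.ptA' ⟶ sq.ptA :=
  Over.homMk (Spec.map (CommRingCat.ofHom e.φ)) rfl

/-- `Spec K' ⟶ Spec A'` over `S`. -/
noncomputable abbrev domExtJ : e.ptK' ⟶ e.ptA' :=
  Over.homMk (Spec.map (CommRingCat.ofHom (algebraMap e.A' e.K'))) rfl

lemma domExt_wK : Spec.map (CommRingCat.ofHom e.ψ) ≫ sq.ptK.hom = e.ptK'.hom := by
  change Spec.map _ ≫ Spec.map _ ≫ _ = Spec.map _ ≫ Spec.map _ ≫ _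
  rw [← Spec.map_comp_assoc, ← Spec.map_comp_assoc, ← CommRingCat.ofHom_comp,
    ← CommRingCat.ofHom_comp, e.comm]

/-- `Spec K' ⟶ Spec K` over `S`. -/
noncomputable abbrev domExtK : e.ptK' ⟶ sq.ptK :=
  Over.homMk (Spec.map (CommRingCat.ofHom e.ψ)) (domExt_wK e)

lemma domExt_w : domExtJ e ≫ domExtA e = domExtK e ≫ sq.j := by
  apply Over.OverMorphism.ext
  change Spec.map _ ≫ Spec.map _ = Spec.map _ ≫ Spec.map _
  rw [← Spec.map_comp, ← Spec.map_comp, ← CommRingCat.ofHom_comp, ← CommRingCat.ofHom_comp,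
    e.comm]

lemma domExt_hasLift_iff : e.HasLift ↔ ∃ l : (yon S).obj e.ptA' ⟶ F,
    (yon S).map (domExtJ e) ≫ l = (yon S).map (domExtK e) ≫ sq.top ∧
      l ≫ f = (yon S).map (domExtA e) ≫ sq.bot := Iff.rfl

/-- The trivial extension. -/
noncomputable def domExtRefl (sq : ValSq f) : sq.DomExt where
  A' := sq.A
  K' := sq.K
  φ := RingHom.id _
  ψ := RingHom.id _
  comm := by rw [RingHom.comp_id, RingHom.id_comp]
  isLocalHom := ⟨fun _ h => h⟩

/-- A lift over a scheme over `S` which is only propositionally equal to `Spec A'`. -/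
lemma domExt_hasLift_of (sA : Spec (.of e.A') ⟶ S)
    (hsA : Spec.map (CommRingCat.ofHom e.φ) ≫ sq.str = sA)
    (l : (yon S).obj (Over.mk sA) ⟶ F)
    (h1 : (yon S).map (Over.homMk (Spec.map (CommRingCat.ofHom (algebraMap e.A' e.K'))) rfl :
        Over.mk (Spec.map (CommRingCat.ofHom (algebraMap e.A' e.K')) ≫ sA) ⟶ Over.mk sA) ≫ l =
      (yon S).map (Over.homMk (Spec.map (CommRingCat.ofHom e.ψ))
        (by subst hsA; exact domExt_wK e) :
        Over.mk (Spec.map (CommRingCat.ofHom (algebraMap e.A' e.K')) ≫ sA) ⟶ sq.ptK) ≫ sq.top)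
    (h2 : l ≫ f = (yon S).map (Over.homMk (Spec.map (CommRingCat.ofHom e.φ)) hsA :
        Over.mk sA ⟶ sq.ptA) ≫ sq.bot) : e.HasLift := by
  subst hsA
  exact ⟨l, h1, h2⟩

end DomExt

/-- The existence part without extensions implies the existence part with extensions. -/
theorem existVC_of_existVCStrict {f : F ⟶ G} (hf : ExistVCStrict f) : ExistVC f := by
  intro sq
  obtain ⟨l, h1, h2⟩ := hf sq
  refine ⟨domExtRefl sq, domExt_hasLift_of (domExtRefl sq) sq.str ?_ l ?_ ?_⟩
  · change Spec.map (CommRingCat.ofHom (RingHom.id _)) ≫ sq.str = sq.str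
    rw [show CommRingCat.ofHom (RingHom.id sq.A) = 𝟙 _ from rfl, Spec.map_id, Category.id_comp]
  · rw [← h1, ← Category.assoc, ← Functor.map_comp]
    refine congrArg (fun t => (yon S).map t ≫ l) ?_
    apply Over.OverMorphism.ext
    change Spec.map (CommRingCat.ofHom (algebraMap sq.A sq.K)) =
      Spec.map (CommRingCat.ofHom (RingHom.id sq.K)) ≫
        Spec.map (CommRingCat.ofHom (algebraMap sq.A sq.K))
    rw [show CommRingCat.ofHom (RingHom.id sq.K) = 𝟙 _ from rfl, Spec.map_id, Category.id_comp]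
  · refine h2.trans ?_
    have : (Over.homMk (Spec.map (CommRingCat.ofHom (RingHom.id sq.A)))
        (by rw [show CommRingCat.ofHom (RingHom.id sq.A) = 𝟙 _ from rfl, Spec.map_id]
            exact Category.id_comp _) : sq.ptA ⟶ sq.ptA) = 𝟙 _ := by
      apply Over.OverMorphism.ext
      change Spec.map (CommRingCat.ofHom (RingHom.id sq.A)) = 𝟙 _
      rw [show CommRingCat.ofHom (RingHom.id sq.A) = 𝟙 _ from rfl, Spec.map_id]
    change sq.bot = (yon S).map (Over.homMk (Spec.map (CommRingCat.ofHom (RingHom.id sq.A))) _ :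
      sq.ptA ⟶ sq.ptA) ≫ sq.bot
    rw [this, CategoryTheory.Functor.map_id, Category.id_comp]

/-! ## Base change -/

section BaseChange

variable {F' : Sp S} {f : F ⟶ G} {g : H ⟶ G} {fst : F' ⟶ F} {f' : F' ⟶ H}
  (sqp : IsPullback fst f' f g)

/-- The valuative square of `f` induced by a valuative square of a base change of `f`. -/
noncomputable def valSqOfIsPullback (sq : ValSq f') : ValSq f where
  A := sq.A
  K := sq.K
  str := sq.str
  top := sq.top ≫ fst
  bot := sq.bot ≫ g
  comm := by rw [Category.assoc, sqp.w, ← Category.assoc, sq.comm, Category.assoc]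

include sqp in
theorem uniqVC_of_isPullback (hf : UniqVC f) : UniqVC f' := by
  intro sq l l' h1 h2 h1' h2'
  apply sqp.hom_ext
  · refine hf (valSqOfIsPullback sqp sq) (l ≫ fst) (l' ≫ fst) ?_ ?_ ?_ ?_
    · exact (Category.assoc ((yon S).map sq.j) l fst).symm.trans (congrArg (· ≫ fst) h1)
    · exact ((Category.assoc l fst f).trans ((congrArg (l ≫ ·) sqp.w).trans
        (Category.assoc l f' g).symm)).trans (congrArg (· ≫ g) h2)
    · exact (Category.assoc ((yon S).map sq.j) l' fst).symm.trans (congrArg (· ≫ fst) h1')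
    · exact ((Category.assoc l' fst f).trans ((congrArg (l' ≫ ·) sqp.w).trans
        (Category.assoc l' f' g).symm)).trans (congrArg (· ≫ g) h2')
  · rw [h2, h2']

include sqp in
theorem existVC_of_isPullback (hf : ExistVC f) : ExistVC f' := by
  intro sq
  obtain ⟨e₀, l, hl1, hl2⟩ := hf (valSqOfIsPullback sqp sq)
  let e : sq.DomExt :=
    { A' := e₀.A', K' := e₀.K', φ := e₀.φ, ψ := e₀.ψ, comm := e₀.comm,
      isLocalHom := e₀.isLocalHom }
  have hw : l ≫ f = ((yon S).map (domExtA e) ≫ sq.bot) ≫ g := by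
    rw [hl2, Category.assoc]; rfl
  refine ⟨e, sqp.lift l ((yon S).map (domExtA e) ≫ sq.bot) hw, ?_, sqp.lift_snd _ _ _⟩
  apply sqp.hom_ext
  · rw [Category.assoc, sqp.lift_fst, Category.assoc]
    exact hl1
  · rw [Category.assoc, sqp.lift_snd, Category.assoc, sq.comm]
    change (yon S).map (domExtJ e) ≫ (yon S).map (domExtA e) ≫ sq.bot =
      (yon S).map (domExtK e) ≫ (yon S).map sq.j ≫ sq.bot
    rw [← Category.assoc, ← Functor.map_comp, domExt_w, Functor.map_comp, Category.assoc]

end BaseChange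

/-! ## Composition -/

section Comp

variable {f : F ⟶ G} {g : G ⟶ H}

/-- The valuative square of `g` induced by a valuative square of `f ≫ g`. -/
noncomputable def valSqCompRight (sq : ValSq (f ≫ g)) : ValSq g where
  A := sq.A
  K := sq.K
  str := sq.str
  top := sq.top ≫ f
  bot := sq.bot
  comm := by rw [Category.assoc]; exact sq.comm

/-- The valuative square of `f` induced by a valuative square of `f ≫ g` and a lift to `G`. -/
noncomputable def valSqCompLeft (sq : ValSq (f ≫ g)) (m : (yon S).obj sq.ptA ⟶ G)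
    (hm : sq.top ≫ f = (yon S).map sq.j ≫ m) : ValSq f where
  A := sq.A
  K := sq.K
  str := sq.str
  top := sq.top
  bot := m
  comm := hm

theorem uniqVC_comp (hf : UniqVC f) (hg : UniqVC g) : UniqVC (f ≫ g) := by
  intro sq l l' h1 h2 h1' h2'
  have hm : l ≫ f = l' ≫ f := by
    refine hg (valSqCompRight sq) (l ≫ f) (l' ≫ f) ?_ ?_ ?_ ?_
    · exact (Category.assoc ((yon S).map sq.j) l f).symm.trans (congrArg (· ≫ f) h1)
    · exact (Category.assoc l f g).trans h2
    · exact (Category.assoc ((yon S).map sq.j) l' f).symm.trans (congrArg (· ≫ f) h1')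
    · exact (Category.assoc l' f g).trans h2'
  exact hf (valSqCompLeft sq (l ≫ f)
    ((congrArg (· ≫ f) h1).symm.trans (Category.assoc ((yon S).map sq.j) l f))) l l' h1 rfl h1'
    hm.symm

theorem existVC_comp (hf : ExistVC f) (hg : ExistVC g) : ExistVC (f ≫ g) := by
  intro sq
  obtain ⟨e₁, l₁, h11, h12⟩ := hg (valSqCompRight sq)
  let sqf : ValSq f :=
    { A := e₁.A', K := e₁.K', str := Spec.map (CommRingCat.ofHom e₁.φ) ≫ sq.str,
      top := (yon S).map (domExtK e₁) ≫ sq.top, bot := l₁,
      comm := (Category.assoc _ _ _).trans h11.symm }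
  obtain ⟨e₂, l₂, h21, h22⟩ := hf sqf
  have := e₁.isLocalHom
  have := e₂.isLocalHom
  let e : sq.DomExt :=
    { A' := e₂.A', K' := e₂.K', φ := e₂.φ.comp e₁.φ, ψ := e₂.ψ.comp e₁.ψ,
      comm := by
        have h1 := e₁.comm
        have h2 := e₂.comm
        ext x
        exact (RingHom.congr_fun h2 (e₁.φ x)).trans (congrArg e₂.ψ (RingHom.congr_fun h1 x))
      isLocalHom := RingHom.isLocalHom_comp e₂.φ e₁.φ }
  have hsA : Spec.map (CommRingCat.ofHom e.φ) ≫ sq.str =
      Spec.map (CommRingCat.ofHom e₂.φ) ≫ Spec.map (CommRingCat.ofHom e₁.φ) ≫ sq.str := by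
    change Spec.map (CommRingCat.ofHom (e₂.φ.comp e₁.φ)) ≫ sq.str = _
    rw [CommRingCat.ofHom_comp, Spec.map_comp, Category.assoc]
  refine ⟨e, domExt_hasLift_of e _ hsA l₂ ?_ ?_⟩
  · refine h21.trans ?_
    change (yon S).map (domExtK e₂) ≫ (yon S).map (domExtK e₁) ≫ sq.top = _
    rw [← Category.assoc, ← Functor.map_comp]
    refine congrArg (fun t => (yon S).map t ≫ sq.top) ?_
    apply Over.OverMorphism.ext
    change Spec.map (CommRingCat.ofHom e₂.ψ) ≫ Spec.map (CommRingCat.ofHom e₁.ψ) =
      Spec.map (CommRingCat.ofHom (e₂.ψ.comp e₁.ψ))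
    rw [CommRingCat.ofHom_comp, Spec.map_comp]
  · have h3 : l₂ ≫ f ≫ g = (yon S).map (domExtA e₂) ≫ (yon S).map (domExtA e₁) ≫ sq.bot := by
      rw [← Category.assoc]
      refine (congrArg (· ≫ g) h22).trans ?_
      refine (Category.assoc _ _ _).trans ?_
      exact congrArg ((yon S).map (domExtA e₂) ≫ ·) h12
    refine h3.trans ?_
    rw [← Category.assoc, ← Functor.map_comp]
    refine congrArg (fun t => (yon S).map t ≫ sq.bot) ?_
    apply Over.OverMorphism.ext
    change Spec.map (CommRingCat.ofHom e₂.φ) ≫ Spec.map (CommRingCat.ofHom e₁.φ) =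
      Spec.map (CommRingCat.ofHom (e₂.φ.comp e₁.φ))
    rw [CommRingCat.ofHom_comp, Spec.map_comp]

end Comp

end Groth.Agent.H5.AlgSp
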