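import Groth.Prelude.Def_AlgSpMor5
import Groth.Agent.Lib.Helper5.AlgSp.Valuative
import Groth.Agent.Lib.Helper5.AlgSp.UnivClosed
import Groth.Agent.Lib.Helper5.AlgSp.QCompact
import Mathlib

/-!
# The valuative criterion for universal closedness of morphisms of algebraic spaces
-/

set_option autoImplicit false

universe u

open CategoryTheory CategoryTheory.Limits AlgebraicGeometry Opposite IsLocalRing

namespace Groth.Agent.H5.AlgSp

open _root_.AlgSp

variable {S : Scheme.{u}}

/-- For a morphism from a quasi-compact scheme to an affine scheme, the image of a closed set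
is closed as soon as it is stable under specialization. -/
lemma isClosed_image_of_stableUnderSpecialization {X Y : Scheme.{u}} (f : X ⟶ Y) [IsAffine Y]
    [CompactSpace X] {W : Set X} (hW : IsClosed W)
    (H : StableUnderSpecialization (f '' W)) : IsClosed (f '' W) := by
  wlog hY : ∃ R, Y = Spec R
  · have h1 : (f ≫ Y.isoSpec.hom) '' W = Y.isoSpec.hom '' (f '' W) := by
      rw [Scheme.Hom.comp_base, TopCat.coe_comp, Set.image_comp]
    have h2 := this (f ≫ Y.isoSpec.hom) hW (by
      rw [h1]
      exact H.image (Scheme.homeoOfIso Y.isoSpec).isClosedMap.specializingMap) ⟨_, rfl⟩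
    rw [h1] at h2
    exact ((Scheme.homeoOfIso Y.isoSpec).isClosed_image).1 h2
  obtain ⟨R, rfl⟩ := hY
  obtain ⟨R', g, hg⟩ := compactSpace_iff_exists.mp (inferInstance : CompactSpace X)
  have h1 : f '' W = (g ≫ f) '' (g ⁻¹' W) := by
    rw [Scheme.Hom.comp_base, TopCat.coe_comp, Set.image_comp, Set.image_preimage_eq _ hg]
  rw [h1] at H ⊢
  generalize g ≫ f = k at H ⊢
  obtain ⟨φ, rfl⟩ := Spec.homEquiv.symm.surjective k
  exact PrimeSpectrum.isClosed_image_of_stableUnderSpecialization φ.hom _
    (hW.preimage g.continuous) H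

section Chart

variable {P : Sp S} {U Z : Over S} (a : (yon S).obj U ⟶ P) (q : P ⟶ (yon S).obj Z) (g : U ⟶ Z)
  (hg : a ≫ q = (yon S).map g)

lemma valuativeCommSq_w (c : ValuativeCommSq g.left) :
    c.i₁ ≫ U.hom = Spec.map (CommRingCat.ofHom (algebraMap c.R c.K)) ≫ c.i₂ ≫ Z.hom := by
  rw [← Over.w g, ← Category.assoc, c.commSq.w, Category.assoc]

/-- The valuative square of `q : P ⟶ h_Z` defined by a valuative square of schemes for a
chart of `P`. -/
noncomputable def valSqOfChart (c : ValuativeCommSq g.left) : ValSq q where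
  A := c.R
  K := c.K
  str := c.i₂ ≫ Z.hom
  top := (yon S).map (Over.homMk c.i₁ (valuativeCommSq_w g c) :
    Over.mk (Spec.map (CommRingCat.ofHom (algebraMap c.R c.K)) ≫ c.i₂ ≫ Z.hom) ⟶ U) ≫ a
  bot := (yon S).map (Over.homMk c.i₂ rfl : Over.mk (c.i₂ ≫ Z.hom) ⟶ Z)
  comm := by
    rw [Category.assoc, hg, ← Functor.map_comp, ← Functor.map_comp]
    congr 1
    apply Over.OverMorphism.ext
    exact c.commSq.w

include hg in
/-- If `q : P ⟶ h_Z` satisfies the existence part of the valuative criterion, the image of a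
closed set of points of `P`, computed on a chart, is stable under specialization. -/
theorem stableUnderSpecialization_image_of_existVC (ha : Function.Surjective (Points.ofPt a))
    (he : ExistVC q) {W : Set (Points P)} (hW : IsClosed W) :
    StableUnderSpecialization (g.left '' (Points.ofPt a ⁻¹' W)) := by
  rintro _ y hspec ⟨u', hu', rfl⟩
  -- the valuation ring, as in the case of schemes
  let stalk_y_to_residue_x' : Z.left.presheaf.stalk y ⟶ U.left.residueField u' :=
    Z.left.presheaf.stalkSpecializes hspec ≫ g.left.stalkMap u' ≫ U.left.residue u'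
  obtain ⟨A, hA, hA_local⟩ := exists_factor_valuationRing stalk_y_to_residue_x'.hom
  let stalk_y_to_A : Z.left.presheaf.stalk y ⟶ .of A :=
    CommRingCat.ofHom (stalk_y_to_residue_x'.hom.codRestrict _ hA)
  have w : U.left.fromSpecResidueField u' ≫ g.left =
      Spec.map (CommRingCat.ofHom (algebraMap A (U.left.residueField u'))) ≫
        Spec.map stalk_y_to_A ≫ Z.left.fromSpecStalk y := by
    rw [Scheme.fromSpecResidueField, Category.assoc, ← Scheme.SpecMap_stalkMap_fromSpecStalk,
      ← Scheme.SpecMap_stalkSpecializes_fromSpecStalk hspec]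
    simp_rw [← Spec.map_comp_assoc]
    rfl
  let c : ValuativeCommSq g.left :=
    { R := A, K := U.left.residueField u', i₁ := U.left.fromSpecResidueField u',
      i₂ := Spec.map stalk_y_to_A ≫ Z.left.fromSpecStalk y, commSq := ⟨w⟩ }
  obtain ⟨e, l, hl1, hl2⟩ := he (valSqOfChart a q g hg c)
  -- the new point
  have hcp : (Spec.map stalk_y_to_A ≫ Z.left.fromSpecStalk y) (closedPoint A) = y := by
    have : Spec.map stalk_y_to_A (closedPoint A) = closedPoint (Z.left.presheaf.stalk y) :=
      comap_closedPoint (S := A) (stalk_y_to_residue_x'.hom.codRestrict A.toSubring hA)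
    rw [Scheme.Hom.comp_apply, this, Z.left.fromSpecStalk_closedPoint]
  have hloc := e.isLocalHom
  have hφcp : (domExtA e).left (closedPoint e.A') = closedPoint A :=
    comap_closedPoint (S := e.A') e.φ
  have claim2 : Points.map q (Points.ofPt l (closedPoint e.A')) = Points.ofScheme Z y := by
    rw [Points.map_ofPt, hl2]
    change Points.ofPt ((yon S).map (domExtA e) ≫ (valSqOfChart a q g hg c).bot) _ = _
    rw [ofPt_yon_map_comp, hφcp]
    change Points.ofPt ((yon S).map (Over.homMk c.i₂ rfl : Over.mk (c.i₂ ≫ Z.hom) ⟶ Z)) _ = _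
    rw [← Category.comp_id ((yon S).map _), ofPt_yon_map_comp]
    exact congrArg _ hcp
  have claim1 : Points.ofPt l (closedPoint e.A') ∈ W := by
    refine hW.stableUnderSpecialization ?_ hu'
    have hη : Points.ofPt l ((domExtJ e).left (closedPoint e.K')) = Points.ofPt a u' := by
      rw [← ofPt_yon_map_comp, hl1]
      change Points.ofPt ((yon S).map (domExtK e) ≫ (valSqOfChart a q g hg c).top) _ = _
      rw [ofPt_yon_map_comp]
      change Points.ofPt ((yon S).map (Over.homMk c.i₁ (valuativeCommSq_w g c) :
        Over.mk (Spec.map (CommRingCat.ofHom (algebraMap c.R c.K)) ≫ c.i₂ ≫ Z.hom) ⟶ U) ≫ a) _ = _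
      rw [ofPt_yon_map_comp]
      congr 1
      exact Scheme.fromSpecResidueField_apply _ _
    rw [← hη]
    exact (specializes_closedPoint _).map (Points.continuous_ofPt l)
  obtain ⟨u, hu⟩ := ha (Points.ofPt l (closedPoint e.A'))
  refine ⟨u, by rw [Set.mem_preimage, hu]; exact claim1, ?_⟩
  apply (Points.schemeHomeo Z).injective
  change Points.ofScheme Z (g.left u) = Points.ofScheme Z y
  rw [← claim2, ← hu, Points.map_ofPt, hg, ← Category.comp_id ((yon S).map g), ofPt_yon_map_comp]

end Chart

/-- **A quasi-compact morphism satisfying the existence part of the valuative criterion is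
universally closed.** -/
theorem isUnivClosedMor_of_existVC {X Y : Sp S} {f : X ⟶ Y} (hq : IsQuasiCompactMor f)
    (he : ExistVC f) : IsUnivClosedMor f := by
  rw [isUnivClosedMor_iff_forall_affine]
  intro Z hZ g P fst snd sq W hW
  have hPq : IsQuasiCompactSp P :=
    hq (IsAlgSpace.yon_obj Z) ((isQuasiCompactSp_yon_iff Z).2 inferInstance) g fst snd sq
  obtain ⟨U, a, hae, has, hU⟩ := hPq
  have : CompactSpace U.left := hU
  obtain ⟨g', hg'⟩ := (yon S).map_surjective (a ≫ snd)
  have he' : ExistVC snd := existVC_of_isPullback sq he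
  have hsurj := ofPt_surjective_of_repWith has
  have hst := stableUnderSpecialization_image_of_existVC a snd g' hg'.symm hsurj he' hW
  have hcl : IsClosed (g'.left '' (Points.ofPt a ⁻¹' W)) :=
    isClosed_image_of_stableUnderSpecialization g'.left
      (hW.preimage (Points.continuous_ofPt a)) hst
  have himg : Points.map snd '' W =
      Points.schemeHomeo Z '' (g'.left '' (Points.ofPt a ⁻¹' W)) := by
    ext z
    constructor
    · rintro ⟨x, hx, rfl⟩
      obtain ⟨u, rfl⟩ := hsurj x
      refine ⟨g'.left u, ⟨u, hx, rfl⟩, ?_⟩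
      change Points.ofScheme Z (g'.left u) = _
      rw [Points.map_ofPt, ← hg', ← Category.comp_id ((yon S).map g'), ofPt_yon_map_comp]
    · rintro ⟨_, ⟨u, hu, rfl⟩, rfl⟩
      refine ⟨Points.ofPt a u, hu, ?_⟩
      change _ = Points.ofScheme Z (g'.left u)
      rw [Points.map_ofPt, ← hg', ← Category.comp_id ((yon S).map g'), ofPt_yon_map_comp]
  rw [himg]
  exact (Points.schemeHomeo Z).isClosedMap _ hcl

end Groth.Agent.H5.AlgSp
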