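import Groth.Prelude.Def_AlgSpMor5
import Groth.Agent.Lib.Helper5.AlgSp.Valuative
import Groth.Agent.Lib.Helper5.AlgSp.ValuativeClosed
import Groth.Agent.Lib.Helper5.AlgSp.SpecializeImage
import Groth.Agent.Lib.Helper5.Alg.ValuationComposite
import Groth.Agent.Lib.Helper5.AlgSp.UCMainSp
import Groth.Agent.Lib.Helper5.AlgSp.ProdSp
import Groth.Agent.Lib.Helper5.AlgSp.Proper
import Mathlib

/-!
# The refined valuative criterion for universal closedness
-/

set_option autoImplicit false

universe u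

open CategoryTheory CategoryTheory.Limits AlgebraicGeometry Opposite IsLocalRing

namespace Groth.Agent.H5.AlgSp

open _root_.AlgSp Groth.Agent.H5.Val

variable {S : Scheme.{u}}

section Sharp

variable {T : Scheme.{u}} [IsAffine T]

/-- The ring map corresponding to a morphism from `Spec R` to an affine scheme. -/
noncomputable def sharpR {R : CommRingCat.{u}} (γ : Spec R ⟶ T) : Γ(T, ⊤) ⟶ R :=
  γ.appTop ≫ (Scheme.ΓSpecIso R).hom

lemma sharpR_comp {R R' : CommRingCat.{u}} (φ : R ⟶ R') (γ : Spec R ⟶ T) :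
    sharpR (Spec.map φ ≫ γ) = sharpR γ ≫ φ := by
  unfold sharpR
  rw [Scheme.Hom.comp_appTop, Category.assoc, Scheme.ΓSpecIso_naturality, Category.assoc]

lemma sharpR_injective {R : CommRingCat.{u}} {γ γ' : Spec R ⟶ T} (h : sharpR γ = sharpR γ') :
    γ = γ' := by
  apply ext_of_isAffine
  unfold sharpR at h
  exact (cancel_mono _).1 h

/-- The morphism from `Spec R` to an affine scheme defined by a ring map. -/
noncomputable def ofSharpR {R : CommRingCat.{u}} (ρ : Γ(T, ⊤) ⟶ R) : Spec R ⟶ T :=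
  Spec.map ρ ≫ T.isoSpec.inv

lemma sharpR_ofSharpR {R : CommRingCat.{u}} (ρ : Γ(T, ⊤) ⟶ R) : sharpR (ofSharpR ρ) = ρ := by
  have h0 : T.isoSpec.inv.appTop = (Scheme.ΓSpecIso Γ(T, ⊤)).inv := by
    have h := congrArg Scheme.Hom.appTop (Scheme.toSpecΓ_isoSpec_inv T)
    rw [Scheme.Hom.comp_appTop, Scheme.toSpecΓ_appTop, Scheme.Hom.id_appTop] at h
    rw [← cancel_mono (Scheme.ΓSpecIso Γ(T, ⊤)).hom, h, Iso.inv_hom_id]
  unfold sharpR ofSharpR
  rw [Scheme.Hom.comp_appTop, h0, Category.assoc, Scheme.ΓSpecIso_naturality,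
    Iso.inv_hom_id_assoc]

end Sharp

section Composite

variable {T : Over S} [IsAffine T.left] {X U : Sp S} (f : X ⟶ (yon S).obj T) (h : U ⟶ X)

/-- **The composite square.**  Given a valuative square for `f : X ⟶ h_T` (`T` affine), a
valuation ring `B` with a morphism `Spec B ⟶ X` whose generic point factors through `U` and
whose closed point is, through an inclusion `K ⟶ κ(B)`, the `K`-point of the square, the
refined hypothesis provides a lift after extension. -/
theorem hasLiftExt_of_composite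
    (hv : ∀ sq : ValSq f, (∃ t : (yon S).obj sq.ptK ⟶ U, t ≫ h = sq.top) →
      sq.HasUniq ∧ sq.HasLiftExt)
    (sq : ValSq f) {L : Type u} [Field L] (B : ValuationSubring L)
    (sB : Spec (CommRingCat.of B) ⟶ S) (lB : (yon S).obj (Over.mk sB) ⟶ X)
    (t : (yon S).obj (Over.mk (Spec.map (CommRingCat.ofHom (algebraMap B L)) ≫ sB)) ⟶ U)
    (ht : t ≫ h = (yon S).map (Over.homMk (Spec.map (CommRingCat.ofHom (algebraMap B L))) rfl :
      Over.mk (Spec.map (CommRingCat.ofHom (algebraMap B L)) ≫ sB) ⟶ Over.mk sB) ≫ lB)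
    (χ : sq.K →+* ResidueField B)
    (hχs : Spec.map (CommRingCat.ofHom χ) ≫ sq.ptK.hom =
      Spec.map (CommRingCat.ofHom (residue B)) ≫ sB)
    (hχ : (yon S).map (Over.homMk (Spec.map (CommRingCat.ofHom (residue B))) rfl :
        Over.mk (Spec.map (CommRingCat.ofHom (residue B)) ≫ sB) ⟶ Over.mk sB) ≫ lB =
      (yon S).map (Over.homMk (Spec.map (CommRingCat.ofHom χ)) hχs :
        Over.mk (Spec.map (CommRingCat.ofHom (residue B)) ≫ sB) ⟶ sq.ptK) ≫ sq.top) :
    sq.HasLiftExt := by
  -- the maps to `T`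
  obtain ⟨gB, hgB⟩ := (yon S).map_surjective (lB ≫ f)
  obtain ⟨b₀, hb₀⟩ := (yon S).map_surjective sq.bot
  let ρB : Γ(T.left, ⊤) ⟶ CommRingCat.of B := sharpR gB.left
  let ρA : Γ(T.left, ⊤) ⟶ CommRingCat.of sq.A := sharpR b₀.left
  -- compatibility in the residue field of `B`
  have hcompat : ρB ≫ CommRingCat.ofHom (residue B) =
      ρA ≫ CommRingCat.ofHom (algebraMap sq.A sq.K) ≫ CommRingCat.ofHom χ := by
    have h1 : (Over.homMk (Spec.map (CommRingCat.ofHom (residue B))) rfl :
        Over.mk (Spec.map (CommRingCat.ofHom (residue B)) ≫ sB) ⟶ Over.mk sB) ≫ gB =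
        (Over.homMk (Spec.map (CommRingCat.ofHom χ)) hχs :
          Over.mk (Spec.map (CommRingCat.ofHom (residue B)) ≫ sB) ⟶ sq.ptK) ≫ sq.j ≫ b₀ := by
      apply (yon S).map_injective
      rw [Functor.map_comp, Functor.map_comp, Functor.map_comp, hgB, hb₀, ← Category.assoc,
        hχ, Category.assoc, sq.comm]
    have h2 := congrArg (fun m => sharpR m.left) h1
    simp only [Over.comp_left, Over.homMk_left] at h2
    rw [sharpR_comp, sharpR_comp, sharpR_comp] at h2
    simpa using h2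
  -- the valuation ring of the residue field and the composite
  obtain ⟨A', hA', hA'loc⟩ :=
    IsLocalRing.exists_factor_valuationRing (χ.comp (algebraMap sq.A sq.K))
  let φA : sq.A →+* A' := (χ.comp (algebraMap sq.A sq.K)).codRestrict A'.toSubring hA'
  let incl : composite B A' →+* B := compositeIncl B A'
  have hρmem : ∀ r : Γ(T.left, ⊤),
      (algebraMap B L).comp ρB.hom r ∈ (composite B A').toSubring := by
    intro r
    refine ⟨(ρB.hom r).2, ?_⟩
    have h1 := congrArg (fun m => m.hom r) hcompat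
    change residue B (ρB.hom r) = χ (algebraMap sq.A sq.K (ρA.hom r)) at h1
    change residue B (ρB.hom r) ∈ A'
    rw [h1]
    exact hA' _
  let ρC : Γ(T.left, ⊤) →+* composite B A' :=
    ((algebraMap B L).comp ρB.hom).codRestrict (composite B A').toSubring hρmem
  have hρCB : CommRingCat.ofHom ρC ≫ CommRingCat.ofHom incl = ρB := by
    ext r
    rfl
  have hρCA : (toRes B A').comp ρC = φA.comp ρA.hom := by
    ext r
    have h1 := congrArg (fun m => m.hom r) hcompat
    exact h1
  let γC : Spec (CommRingCat.of (composite B A')) ⟶ T.left := ofSharpR (CommRingCat.ofHom ρC)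
  have hγC : sharpR γC = CommRingCat.ofHom ρC := sharpR_ofSharpR _
  have hincl : Spec.map (CommRingCat.ofHom incl) ≫ γC = gB.left := by
    apply sharpR_injective
    rw [sharpR_comp, hγC, hρCB]
  let sC : Spec (CommRingCat.of (composite B A')) ⟶ S := γC ≫ T.hom
  let gC : Over.mk sC ⟶ T := Over.homMk γC rfl
  have hiCB : Spec.map (CommRingCat.ofHom incl) ≫ sC = sB := by
    change Spec.map (CommRingCat.ofHom incl) ≫ γC ≫ T.hom = sB
    rw [← Category.assoc, hincl]
    exact Over.w gB
  let iCB : Over.mk sB ⟶ Over.mk sC := Over.homMk (Spec.map (CommRingCat.ofHom incl)) hiCB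
  have hiCBg : iCB ≫ gC = gB := by
    apply Over.OverMorphism.ext
    exact hincl
  -- the composite square
  have hιL : 𝟙 (Spec (CommRingCat.of L)) ≫
      (Spec.map (CommRingCat.ofHom (algebraMap B L)) ≫ sB) =
      Spec.map (CommRingCat.ofHom (algebraMap (composite B A') L)) ≫ sC := by
    rw [Category.id_comp, ← hiCB, ← Category.assoc, ← Spec.map_comp]
    rfl
  let ιL : Over.mk (Spec.map (CommRingCat.ofHom (algebraMap (composite B A') L)) ≫ sC) ⟶
      Over.mk (Spec.map (CommRingCat.ofHom (algebraMap B L)) ≫ sB) := Over.homMk (𝟙 _) hιL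
  let jB : Over.mk (Spec.map (CommRingCat.ofHom (algebraMap B L)) ≫ sB) ⟶ Over.mk sB :=
    Over.homMk (Spec.map (CommRingCat.ofHom (algebraMap B L))) rfl
  have hιLj : ιL ≫ jB ≫ iCB = (Over.homMk (Spec.map (CommRingCat.ofHom
      (algebraMap (composite B A') L))) rfl :
      Over.mk (Spec.map (CommRingCat.ofHom (algebraMap (composite B A') L)) ≫ sC) ⟶
        Over.mk sC) := by
    apply Over.OverMorphism.ext
    change 𝟙 _ ≫ Spec.map _ ≫ Spec.map _ = Spec.map _
    rw [Category.id_comp, ← Spec.map_comp]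
    rfl
  let sqC : ValSq f :=
    { A := composite B A', K := L, str := sC, top := (yon S).map ιL ≫ t ≫ h,
      bot := (yon S).map gC,
      comm := by
        have h1 : (t ≫ h) ≫ f = (yon S).map (jB ≫ iCB ≫ gC) := by
          rw [ht, Category.assoc, ← hgB, ← Functor.map_comp, hiCBg]
        rw [Category.assoc, h1, ← Functor.map_comp, ← Functor.map_comp]
        congr 1
        rw [← hιLj, Category.assoc, Category.assoc] }
  obtain ⟨-, e, l, hl1, hl2⟩ := hv sqC ⟨(yon S).map ιL ≫ t, by rw [Category.assoc]⟩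
  have hl1' : (yon S).map (domExtJ e) ≫ l = (yon S).map (domExtK e) ≫ sqC.top := hl1
  have hl2' : l ≫ f = (yon S).map (domExtA e) ≫ (yon S).map gC := hl2
  -- the prime of `e.A'` over the prime of the composite
  let φ : composite B A' →+* e.A' := e.φ
  have hφinj : Function.Injective φ := by
    have h1 : Function.Injective ((algebraMap e.A' e.K').comp e.φ) := by
      rw [e.comm]
      exact e.ψ.injective.comp (IsFractionRing.injective (composite B A') L)
    exact Function.Injective.of_comp h1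
  have hφloc : IsLocalHom φ := e.isLocalHom
  obtain ⟨p'', hp''prime, hp''⟩ := exists_isPrime_comap_eq φ hφinj (compositePrime B A')
  -- the localization
  have hB''val : ValuationRing (Localization.AtPrime p'') :=
    valuationRing_of_isLocalization p''.primeCompl (Localization.AtPrime p'')
  obtain ⟨θ, hθincl, hθloc⟩ := exists_map_of_comap_eq B A' φ p'' hp''
  -- the fraction field of the localization is `e.K'`
  have hunits : ∀ y : p''.primeCompl, IsUnit (algebraMap e.A' e.K' y) := by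
    rintro ⟨y, hy⟩
    rw [isUnit_iff_ne_zero]
    intro h0
    have : y = 0 := (IsFractionRing.injective e.A' e.K') (h0.trans (map_zero _).symm)
    exact hy (this ▸ p''.zero_mem)
  let ιB : Localization.AtPrime p'' →+* e.K' := IsLocalization.lift hunits
  have hιB : ιB.comp (algebraMap e.A' (Localization.AtPrime p'')) = algebraMap e.A' e.K' :=
    RingHom.ext fun x => IsLocalization.lift_eq hunits x
  letI algB : Algebra (Localization.AtPrime p'') e.K' := ιB.toAlgebra
  have htower : IsScalarTower e.A' (Localization.AtPrime p'') e.K' :=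
    IsScalarTower.of_algebraMap_eq fun x => (IsLocalization.lift_eq hunits x).symm
  have hfrac : IsFractionRing (Localization.AtPrime p'') e.K' :=
    IsFractionRing.isFractionRing_of_isDomain_of_isLocalization p''.primeCompl _ _
  -- `Spec B''` over `S`
  let pB'' : Over S :=
    Over.mk (Spec.map (CommRingCat.ofHom (algebraMap e.A' (Localization.AtPrime p''))) ≫ e.ptA'.hom)
  let cB'' : pB'' ⟶ e.ptA' :=
    Over.homMk (Spec.map (CommRingCat.ofHom (algebraMap e.A' (Localization.AtPrime p'')))) rfl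
  have hθspec : Spec.map (CommRingCat.ofHom θ) ≫ Spec.map (CommRingCat.ofHom incl) =
      Spec.map (CommRingCat.ofHom (algebraMap e.A' (Localization.AtPrime p''))) ≫
        Spec.map (CommRingCat.ofHom φ) := by
    rw [← Spec.map_comp, ← Spec.map_comp, ← CommRingCat.ofHom_comp, ← CommRingCat.ofHom_comp,
      hθincl]
  have hθ'w : Spec.map (CommRingCat.ofHom θ) ≫ sB = pB''.hom := by
    change _ = Spec.map _ ≫ Spec.map (CommRingCat.ofHom φ) ≫ sC
    rw [← hiCB, ← Category.assoc, hθspec, Category.assoc]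
  let θ' : pB'' ⟶ Over.mk sB := Over.homMk (Spec.map (CommRingCat.ofHom θ)) hθ'w
  have hθ'i : θ' ≫ iCB = cB'' ≫ domExtA e := by
    apply Over.OverMorphism.ext
    exact hθspec
  have hkBw : 𝟙 (Spec (CommRingCat.of e.K')) ≫ e.ptK'.hom =
      Spec.map (CommRingCat.ofHom ιB) ≫ pB''.hom := by
    change 𝟙 _ ≫ Spec.map (CommRingCat.ofHom (algebraMap e.A' e.K')) ≫ e.ptA'.hom =
      Spec.map _ ≫ Spec.map _ ≫ e.ptA'.hom
    rw [Category.id_comp, ← Category.assoc, ← Spec.map_comp, ← CommRingCat.ofHom_comp, hιB]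
  let kB : Over.mk (Spec.map (CommRingCat.ofHom ιB) ≫ pB''.hom) ⟶ e.ptK' :=
    Over.homMk (𝟙 _) hkBw
  let jB'' : Over.mk (Spec.map (CommRingCat.ofHom ιB) ≫ pB''.hom) ⟶ pB'' :=
    Over.homMk (Spec.map (CommRingCat.ofHom ιB)) rfl
  have hkJ : kB ≫ domExtJ e = jB'' ≫ cB'' := by
    apply Over.OverMorphism.ext
    change 𝟙 _ ≫ Spec.map _ = Spec.map _ ≫ Spec.map _
    rw [Category.id_comp, ← Spec.map_comp, ← CommRingCat.ofHom_comp, hιB]
  have hjθ : jB'' ≫ θ' = kB ≫ domExtK e ≫ ιL ≫ jB := by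
    apply Over.OverMorphism.ext
    change Spec.map _ ≫ Spec.map _ = 𝟙 _ ≫ Spec.map (CommRingCat.ofHom e.ψ) ≫ 𝟙 _ ≫
      Spec.map _
    rw [Category.id_comp, Category.id_comp, ← Spec.map_comp, ← Spec.map_comp,
      ← CommRingCat.ofHom_comp, ← CommRingCat.ofHom_comp]
    congr 2
    apply ringHom_ext_composite B A'
    change (ιB.comp θ).comp incl = (e.ψ.comp (algebraMap B L)).comp incl
    rw [RingHom.comp_assoc, hθincl, ← RingHom.comp_assoc, hιB]
    exact e.comm
  -- the square over the localization and the two lifts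
  let sqB : ValSq f :=
    { A := Localization.AtPrime p'', K := e.K', algebra := algB, isFractionRing := hfrac,
      str := pB''.hom,
      top := (yon S).map kB ≫ (yon S).map (domExtK e) ≫ sqC.top,
      bot := (yon S).map (cB'' ≫ domExtA e ≫ gC),
      comm := by
        rw [Category.assoc, Category.assoc, sqC.comm]
        change (yon S).map kB ≫ (yon S).map (domExtK e) ≫ (yon S).map sqC.j ≫ (yon S).map gC =
          (yon S).map jB'' ≫ (yon S).map (cB'' ≫ domExtA e ≫ gC)
        rw [← Functor.map_comp, ← Functor.map_comp, ← Functor.map_comp, ← Functor.map_comp,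
          ← Category.assoc (domExtK e), ← domExt_w, Category.assoc, ← Category.assoc kB, hkJ,
          Category.assoc] }
  have huniq : sqB.HasUniq :=
    (hv sqB ⟨(yon S).map kB ≫ (yon S).map (domExtK e) ≫ (yon S).map ιL ≫ t, by
      simp only [Category.assoc]; rfl⟩).1
  have hl12 : (yon S).map cB'' ≫ l = (yon S).map θ' ≫ lB := by
    refine huniq _ _ ?_ ?_ ?_ ?_
    · change (yon S).map jB'' ≫ (yon S).map cB'' ≫ l = _
      rw [← Category.assoc, ← Functor.map_comp, ← hkJ, Functor.map_comp, Category.assoc, hl1']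
    · change ((yon S).map cB'' ≫ l) ≫ f = (yon S).map (cB'' ≫ domExtA e ≫ gC)
      rw [Category.assoc, hl2', ← Functor.map_comp, ← Functor.map_comp]
    · change (yon S).map jB'' ≫ (yon S).map θ' ≫ lB =
        (yon S).map kB ≫ (yon S).map (domExtK e) ≫ (yon S).map ιL ≫ t ≫ h
      rw [← Category.assoc, ← Functor.map_comp, hjθ, ht]
      simp only [Functor.map_comp, Category.assoc]
      rfl
    · change ((yon S).map θ' ≫ lB) ≫ f = (yon S).map (cB'' ≫ domExtA e ≫ gC)
      rw [Category.assoc, ← hgB, ← Functor.map_comp, ← hiCBg, ← Category.assoc, hθ'i,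
        Category.assoc]
  -- the quotient valuation ring and the new dominating extension
  have hDval : ValuationRing (e.A' ⧸ p'') :=
    Function.Surjective.valuationRing (Ideal.Quotient.mk p'') Ideal.Quotient.mk_surjective
  have hσker : RingHom.ker (toRes B A') ≤ RingHom.ker ((Ideal.Quotient.mk p'').comp φ) := by
    intro c hc
    rw [RingHom.mem_ker] at hc ⊢
    have h1 : c ∈ compositePrime B A' := (mem_compositePrime_iff B A').2 hc
    rw [← hp''] at h1
    exact Ideal.Quotient.eq_zero_iff_mem.2 h1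
  let σ : A' →+* e.A' ⧸ p'' :=
    (toRes B A').liftOfSurjective (toRes_surjective B A') ⟨_, hσker⟩
  have hσ : σ.comp (toRes B A') = (Ideal.Quotient.mk p'').comp φ :=
    (toRes B A').liftOfRightInverse_comp _ _ ⟨_, hσker⟩
  let φ' : sq.A →+* e.A' ⧸ p'' := σ.comp φA
  haveI : IsLocalHom θ := hθloc
  let ψ' : sq.K →+* p''.ResidueField := (IsLocalRing.ResidueField.map θ).comp χ
  have hcomm' : (algebraMap (e.A' ⧸ p'') p''.ResidueField).comp φ' =
      ψ'.comp (algebraMap sq.A sq.K) := by
    ext a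
    obtain ⟨c, hc⟩ := toRes_surjective B A' (φA a)
    change algebraMap (e.A' ⧸ p'') p''.ResidueField (σ (φA a)) =
      IsLocalRing.ResidueField.map θ (χ (algebraMap sq.A sq.K a))
    rw [← hc]
    have h1 : σ (toRes B A' c) = Ideal.Quotient.mk p'' (φ c) := RingHom.congr_fun hσ c
    rw [h1, Ideal.algebraMap_quotient_residueField_mk]
    have h2 : algebraMap e.A' p''.ResidueField (φ c) =
        residue (Localization.AtPrime p'') (θ (incl c)) := by
      rw [← RingHom.comp_apply θ incl, hθincl]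
      rfl
    rw [h2, ← IsLocalRing.ResidueField.map_residue]
    congr 1
    exact congrArg Subtype.val hc
  have hσloc : IsLocalHom σ := ⟨fun x hx => by
    obtain ⟨c, rfl⟩ := toRes_surjective B A' x
    have h1 : σ (toRes B A' c) = Ideal.Quotient.mk p'' (φ c) := RingHom.congr_fun hσ c
    rw [h1] at hx
    have hmk : IsLocalHom (Ideal.Quotient.mk p'') :=
      IsLocalHom.of_surjective _ Ideal.Quotient.mk_surjective
    have h2 : IsUnit (φ c) := hmk.map_nonunit _ hx
    have h3 : IsUnit c := hφloc.map_nonunit _ h2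
    exact h3.map _⟩
  have hφAloc : IsLocalHom φA := hA'loc
  have hφ'loc : IsLocalHom φ' := RingHom.isLocalHom_comp σ φA
  let e' : sq.DomExt :=
    { A' := e.A' ⧸ p'', K' := p''.ResidueField, valuationRing := hDval, φ := φ', ψ := ψ',
      comm := hcomm', isLocalHom := hφ'loc }
  -- compatibility over `T`
  have hkey : Spec.map (CommRingCat.ofHom (Ideal.Quotient.mk p'')) ≫
      Spec.map (CommRingCat.ofHom φ) ≫ γC = Spec.map (CommRingCat.ofHom φ') ≫ b₀.left := by
    apply sharpR_injective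
    rw [sharpR_comp, sharpR_comp, sharpR_comp, hγC]
    change CommRingCat.ofHom ρC ≫ CommRingCat.ofHom φ ≫ CommRingCat.ofHom (Ideal.Quotient.mk p'') =
      ρA ≫ CommRingCat.ofHom φ'
    ext r
    have h1 : σ (toRes B A' (ρC r)) = Ideal.Quotient.mk p'' (φ (ρC r)) :=
      RingHom.congr_fun hσ (ρC r)
    have h2 : toRes B A' (ρC r) = φA (ρA.hom r) := RingHom.congr_fun hρCA r
    change Ideal.Quotient.mk p'' (φ (ρC r)) = σ (φA (ρA.hom r))
    rw [← h1, h2]
  have hcDw : Spec.map (CommRingCat.ofHom (Ideal.Quotient.mk p'')) ≫ e.ptA'.hom = e'.ptA'.hom := by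
    change _ ≫ Spec.map (CommRingCat.ofHom φ) ≫ γC ≫ T.hom =
      Spec.map (CommRingCat.ofHom φ') ≫ sq.str
    have hb₀w : b₀.left ≫ T.hom = sq.str := Over.w b₀
    rw [← hb₀w, ← Category.assoc (Spec.map (CommRingCat.ofHom φ')), ← hkey]
    simp only [Category.assoc]
  let cD : e'.ptA' ⟶ e.ptA' := Over.homMk (Spec.map (CommRingCat.ofHom (Ideal.Quotient.mk p''))) hcDw
  have hcDg : cD ≫ domExtA e ≫ gC = domExtA e' ≫ b₀ := by
    apply Over.OverMorphism.ext
    exact hkey
  -- the residue field of the localization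
  have hres : (residue (Localization.AtPrime p'')).comp (algebraMap e.A' (Localization.AtPrime p'')) =
      (algebraMap (e.A' ⧸ p'') p''.ResidueField).comp (Ideal.Quotient.mk p'') := rfl
  have hρ''w : Spec.map (CommRingCat.ofHom (residue (Localization.AtPrime p''))) ≫ pB''.hom =
      e'.ptK'.hom := by
    change _ ≫ Spec.map (CommRingCat.ofHom (algebraMap e.A' (Localization.AtPrime p''))) ≫ e.ptA'.hom =
      Spec.map (CommRingCat.ofHom (algebraMap (e.A' ⧸ p'') p''.ResidueField)) ≫ e'.ptA'.hom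
    rw [← hcDw, ← Category.assoc, ← Category.assoc, ← Spec.map_comp, ← Spec.map_comp,
      ← CommRingCat.ofHom_comp, ← CommRingCat.ofHom_comp, hres]
  let ρ'' : e'.ptK' ⟶ pB'' :=
    Over.homMk (Spec.map (CommRingCat.ofHom (residue (Localization.AtPrime p'')))) hρ''w
  have ha1 : domExtJ e' ≫ cD = ρ'' ≫ cB'' := by
    apply Over.OverMorphism.ext
    change Spec.map _ ≫ Spec.map _ = Spec.map _ ≫ Spec.map _
    rw [← Spec.map_comp, ← Spec.map_comp, ← CommRingCat.ofHom_comp, ← CommRingCat.ofHom_comp,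
      hres]
  have hmapres : (IsLocalRing.ResidueField.map θ).comp (residue B) =
      (residue (Localization.AtPrime p'')).comp θ := rfl
  have hμspec : Spec.map (CommRingCat.ofHom (IsLocalRing.ResidueField.map θ)) ≫
      Spec.map (CommRingCat.ofHom (residue B)) =
      Spec.map (CommRingCat.ofHom (residue (Localization.AtPrime p''))) ≫
        Spec.map (CommRingCat.ofHom θ) := by
    rw [← Spec.map_comp, ← Spec.map_comp, ← CommRingCat.ofHom_comp, ← CommRingCat.ofHom_comp,
      hmapres]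
  have hμw : Spec.map (CommRingCat.ofHom (IsLocalRing.ResidueField.map θ)) ≫
      (Spec.map (CommRingCat.ofHom (residue B)) ≫ sB) = e'.ptK'.hom := by
    rw [← Category.assoc, hμspec, Category.assoc, hθ'w, hρ''w]
  let μ : e'.ptK' ⟶ Over.mk (Spec.map (CommRingCat.ofHom (residue B)) ≫ sB) :=
    Over.homMk (Spec.map (CommRingCat.ofHom (IsLocalRing.ResidueField.map θ))) hμw
  let rB : Over.mk (Spec.map (CommRingCat.ofHom (residue B)) ≫ sB) ⟶ Over.mk sB :=
    Over.homMk (Spec.map (CommRingCat.ofHom (residue B))) rfl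
  let χ' : Over.mk (Spec.map (CommRingCat.ofHom (residue B)) ≫ sB) ⟶ sq.ptK :=
    Over.homMk (Spec.map (CommRingCat.ofHom χ)) hχs
  have ha2 : ρ'' ≫ θ' = μ ≫ rB := by
    apply Over.OverMorphism.ext
    exact hμspec.symm
  have ha3 : μ ≫ χ' = domExtK e' := by
    apply Over.OverMorphism.ext
    change Spec.map _ ≫ Spec.map _ = Spec.map (CommRingCat.ofHom ψ')
    rw [← Spec.map_comp, ← CommRingCat.ofHom_comp]
  refine ⟨e', (yon S).map cD ≫ l, ?_, ?_⟩
  · change (yon S).map (domExtJ e') ≫ (yon S).map cD ≫ l = (yon S).map (domExtK e') ≫ sq.top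
    rw [← Category.assoc, ← Functor.map_comp, ha1, Functor.map_comp, Category.assoc, hl12,
      ← Category.assoc, ← Functor.map_comp, ha2, Functor.map_comp, Category.assoc]
    change (yon S).map μ ≫ (yon S).map rB ≫ lB = _
    rw [hχ, ← Category.assoc, ← Functor.map_comp, ha3]
  · change ((yon S).map cD ≫ l) ≫ f = (yon S).map (domExtA e') ≫ sq.bot
    rw [Category.assoc, hl2', ← hb₀, ← Functor.map_comp, ← Functor.map_comp, ← Functor.map_comp,
      hcDg]

/-- **The refined valuative criterion over an affine base: existence.** -/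
theorem existVC_of_refined_affine (hX : IsAlgSpace X) (hh : IsQuasiCompactMor h)
    (hd : DenseRange (Points.map h))
    (hv : ∀ sq : ValSq f, (∃ t : (yon S).obj sq.ptK ⟶ U, t ≫ h = sq.top) →
      sq.HasUniq ∧ sq.HasLiftExt) : ExistVC f := by
  intro sq
  obtain ⟨W, a, hae, has⟩ := hX.atlas
  obtain ⟨w, hw⟩ := ofPt_surjective_of_repWith has (Points.ofPt sq.top (closedPoint sq.K))
  obtain ⟨W₀, hW₀, hwW₀, U₀, hU₀, b, g₀, u₀, hbe, hbs, hg₀, hspec⟩ :=
    exists_chart_specializes hh a hae w (by rw [hd.closure_range]; trivial)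
  -- the relation between the chart point and the `K`-point
  have hux : Points.ofPt ((yon S).map (overOpenι W W₀) ≫ a) (⟨w, hwW₀⟩ : W₀) =
      Points.ofPt sq.top (closedPoint sq.K) := by
    rw [ofPt_restrict]
    exact hw
  rw [ofPt_eq_mk, ofPt_closedPoint, mk_fpOfHom_eq_iff] at hux
  obtain ⟨Ω, _, wΩ, α, β, hrel⟩ := hux
  -- the rings
  let W' : Over S := overOpen W W₀
  let w₀ : W'.left := ⟨w, hwW₀⟩
  let ρ : W'.left.presheaf.stalk w₀ ⟶ U₀.left.residueField u₀ :=
    W'.left.presheaf.stalkSpecializes hspec ≫ g₀.left.stalkMap u₀ ≫ U₀.left.residue u₀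
  let π : W'.left.presheaf.stalk w₀ ⟶ CommRingCat.of Ω :=
    W'.left.residue w₀ ≫ Spec.preimage α.left
  have hπloc : IsLocalHom π.hom := ⟨fun x hx => by
    by_contra hn
    have h1 : W'.left.residue w₀ x = 0 :=
      (IsLocalRing.residue_eq_zero_iff _).2 ((IsLocalRing.mem_maximalIdeal _).2 hn)
    have h2 : π.hom x = 0 := by
      change (Spec.preimage α.left).hom (W'.left.residue w₀ x) = 0
      rw [h1, map_zero]
    rw [h2] at hx
    exact not_isUnit_zero hx⟩
  have hρspec : Spec.map ρ ≫ W'.left.fromSpecStalk w₀ =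
      U₀.left.fromSpecResidueField u₀ ≫ g₀.left := by
    rw [Scheme.fromSpecResidueField, Category.assoc, ← Scheme.SpecMap_stalkMap_fromSpecStalk,
      ← Scheme.SpecMap_stalkSpecializes_fromSpecStalk hspec]
    simp_rw [← Spec.map_comp_assoc]
    rfl
  have hπspec : Spec.map π ≫ W'.left.fromSpecStalk w₀ =
      α.left ≫ W'.left.fromSpecResidueField w₀ := by
    rw [Spec.map_comp, Spec.map_preimage, Category.assoc]
    rfl
  obtain ⟨L₁, _, ι, B, θ, ω, h1, h2⟩ := exists_valuationSubring_residue_ext ρ.hom π.hom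
  have h1' : CommRingCat.ofHom θ ≫ CommRingCat.ofHom (algebraMap B L₁) =
      ρ ≫ CommRingCat.ofHom ι := by
    ext x
    exact RingHom.congr_fun h1 x
  have h2' : CommRingCat.ofHom θ ≫ CommRingCat.ofHom (residue B) =
      π ≫ CommRingCat.ofHom ω := by
    ext x
    exact RingHom.congr_fun h2 x
  -- the morphism from `Spec B`
  let a₀ : (yon S).obj W' ⟶ X := (yon S).map (overOpenι W W₀) ≫ a
  let mB : Spec (CommRingCat.of B) ⟶ W'.left :=
    Spec.map (CommRingCat.ofHom θ) ≫ W'.left.fromSpecStalk w₀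
  let sB : Spec (CommRingCat.of B) ⟶ S := mB ≫ W'.hom
  let mB' : Over.mk sB ⟶ W' := Over.homMk mB rfl
  let lB : (yon S).obj (Over.mk sB) ⟶ X := (yon S).map mB' ≫ a₀
  -- the generic point
  have h1s : Spec.map (CommRingCat.ofHom (algebraMap B L₁)) ≫ Spec.map (CommRingCat.ofHom θ) =
      Spec.map (CommRingCat.ofHom ι) ≫ Spec.map ρ := by
    rw [← Spec.map_comp, ← Spec.map_comp]
    exact congrArg Spec.map h1'
  have h2s : Spec.map (CommRingCat.ofHom (residue B)) ≫ Spec.map (CommRingCat.ofHom θ) =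
      Spec.map (CommRingCat.ofHom ω) ≫ Spec.map π := by
    rw [← Spec.map_comp, ← Spec.map_comp]
    exact congrArg Spec.map h2'
  have hgen : (Spec.map (CommRingCat.ofHom ι) ≫ U₀.left.fromSpecResidueField u₀) ≫ g₀.left =
      Spec.map (CommRingCat.ofHom (algebraMap B L₁)) ≫ mB := by
    change _ = _ ≫ Spec.map (CommRingCat.ofHom θ) ≫ W'.left.fromSpecStalk w₀
    rw [Category.assoc, ← hρspec, ← Category.assoc, ← Category.assoc, h1s]
  have htLw : (Spec.map (CommRingCat.ofHom ι) ≫ U₀.left.fromSpecResidueField u₀) ≫ U₀.hom =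
      Spec.map (CommRingCat.ofHom (algebraMap B L₁)) ≫ sB := by
    have hg₀w : g₀.left ≫ W'.hom = U₀.hom := Over.w g₀
    rw [← hg₀w, ← Category.assoc, hgen, Category.assoc]
  let tL : Over.mk (Spec.map (CommRingCat.ofHom (algebraMap B L₁)) ≫ sB) ⟶ U₀ :=
    Over.homMk (Spec.map (CommRingCat.ofHom ι) ≫ U₀.left.fromSpecResidueField u₀) htLw
  let t : (yon S).obj (Over.mk (Spec.map (CommRingCat.ofHom (algebraMap B L₁)) ≫ sB)) ⟶ U :=
    (yon S).map tL ≫ b ≫ pullback.fst h a₀
  let jB₁ : Over.mk (Spec.map (CommRingCat.ofHom (algebraMap B L₁)) ≫ sB) ⟶ Over.mk sB :=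
    Over.homMk (Spec.map (CommRingCat.ofHom (algebraMap B L₁))) rfl
  have e0 : tL ≫ g₀ = jB₁ ≫ mB' := by
    apply Over.OverMorphism.ext
    exact hgen
  have hg₀' : b ≫ pullback.snd h a₀ = (yon S).map g₀ := hg₀
  have ht : t ≫ h = (yon S).map jB₁ ≫ lB := by
    calc t ≫ h = (yon S).map tL ≫ (b ≫ pullback.snd h a₀) ≫ a₀ := by
          simp only [t, Category.assoc, pullback.condition]
      _ = (yon S).map (tL ≫ g₀) ≫ a₀ := by rw [hg₀', Functor.map_comp, Category.assoc]
      _ = (yon S).map jB₁ ≫ lB := by rw [e0, Functor.map_comp, Category.assoc]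
  -- the closed point
  let χ : sq.K →+* ResidueField B := ω.comp (Spec.preimage β.left).hom
  have hresB : Spec.map (CommRingCat.ofHom (residue B)) ≫ mB =
      Spec.map (CommRingCat.ofHom ω) ≫ α.left ≫ W'.left.fromSpecResidueField w₀ := by
    change _ ≫ Spec.map (CommRingCat.ofHom θ) ≫ W'.left.fromSpecStalk w₀ = _
    rw [← Category.assoc, h2s, Category.assoc, hπspec]
  have hω'w : Spec.map (CommRingCat.ofHom ω) ≫ wΩ =
      Spec.map (CommRingCat.ofHom (residue B)) ≫ sB := by
    have hαw : α.left ≫ W'.left.fromSpecResidueField w₀ ≫ W'.hom = wΩ := Over.w α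
    symm
    change _ ≫ mB ≫ W'.hom = _
    rw [← Category.assoc, hresB, Category.assoc, Category.assoc, hαw]
  let ω' : Over.mk (Spec.map (CommRingCat.ofHom (residue B)) ≫ sB) ⟶ Over.mk wΩ :=
    Over.homMk (Spec.map (CommRingCat.ofHom ω)) hω'w
  have hχspec : Spec.map (CommRingCat.ofHom χ) = Spec.map (CommRingCat.ofHom ω) ≫ β.left := by
    change Spec.map (CommRingCat.ofHom (ω.comp (Spec.preimage β.left).hom)) = _
    rw [CommRingCat.ofHom_comp, Spec.map_comp, CommRingCat.ofHom_hom, Spec.map_preimage]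
  have hχs : Spec.map (CommRingCat.ofHom χ) ≫ sq.ptK.hom =
      Spec.map (CommRingCat.ofHom (residue B)) ≫ sB := by
    have hβw : β.left ≫ sq.ptK.hom = wΩ := Over.w β
    rw [hχspec, Category.assoc, hβw, hω'w]
  let rB₁ : Over.mk (Spec.map (CommRingCat.ofHom (residue B)) ≫ sB) ⟶ Over.mk sB :=
    Over.homMk (Spec.map (CommRingCat.ofHom (residue B))) rfl
  let κw : Over.mk (W'.left.fromSpecResidueField w₀ ≫ W'.hom) ⟶ W' :=
    Over.homMk (W'.left.fromSpecResidueField w₀) rfl
  let χ₁ : Over.mk (Spec.map (CommRingCat.ofHom (residue B)) ≫ sB) ⟶ sq.ptK :=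
    Over.homMk (Spec.map (CommRingCat.ofHom χ)) hχs
  have e1 : rB₁ ≫ mB' = ω' ≫ α ≫ κw := by
    apply Over.OverMorphism.ext
    exact hresB
  have e2 : χ₁ = ω' ≫ β := by
    apply Over.OverMorphism.ext
    exact hχspec
  have hrel' : (yon S).map α ≫ (yon S).map κw ≫ a₀ = (yon S).map β ≫ sq.top := hrel
  have hχ : (yon S).map rB₁ ≫ lB = (yon S).map χ₁ ≫ sq.top := by
    calc (yon S).map rB₁ ≫ lB = (yon S).map (rB₁ ≫ mB') ≫ a₀ := by
          rw [Functor.map_comp, Category.assoc]
      _ = (yon S).map ω' ≫ (yon S).map α ≫ (yon S).map κw ≫ a₀ := by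
          rw [e1, Functor.map_comp, Functor.map_comp, Category.assoc, Category.assoc]
      _ = (yon S).map (ω' ≫ β) ≫ sq.top := by
          rw [hrel', Functor.map_comp, Category.assoc]
      _ = (yon S).map χ₁ ≫ sq.top := by rw [e2]
  exact hasLiftExt_of_composite f h hv sq B sB lB t ht χ hχs hχ

end Composite

/-- A lift gives a lift after the trivial extension. -/
theorem hasLiftExt_of_hasLift {F G : Sp S} {f : F ⟶ G} (sq : ValSq f) (hs : sq.HasLift) :
    sq.HasLiftExt := by
  obtain ⟨l, h1, h2⟩ := hs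
  refine ⟨domExtRefl sq, domExt_hasLift_of (domExtRefl sq) sq.str ?_ l ?_ ?_⟩
  · change Spec.map (CommRingCat.ofHom (RingHom.id _)) ≫ sq.str = sq.str
    rw [show CommRingCat.ofHom (RingHom.id sq.A) = 𝟙 _ from rfl, Spec.map_id, Category.id_comp]
  · rw [← h1, ← Category.assoc, ← Functor.map_comp]
    refine congrArg (fun t => (yon S).map t ≫ l) ?_
    apply Over.OverMorphism.ext
    change Spec.map (CommRingCat.ofHom (algebraMap sq.A sq.K)) =
      Spec.map (CommRingCat.ofHom (RingHom.id sq.K)) ≫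
        Spec.map (CommRingCat.ofHom (algebraMap sq.A sq.K))
    rw [show CommRingCat.ofHom (RingHom.id sq.K) = 𝟙 _ from rfl, Spec.map_id, Category.id_comp]
  · refine h2.trans ?_
    have : (Over.homMk (Spec.map (CommRingCat.ofHom (RingHom.id sq.A)))
        (by rw [show CommRingCat.ofHom (RingHom.id sq.A) = 𝟙 _ from rfl, Spec.map_id]
            exact Category.id_comp _) : sq.ptA ⟶ sq.ptA) = 𝟙 _ := by
      apply Over.OverMorphism.ext
      change Spec.map (CommRingCat.ofHom (RingHom.id sq.A)) = 𝟙 _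
      rw [show CommRingCat.ofHom (RingHom.id sq.A) = 𝟙 _ from rfl, Spec.map_id]
    change sq.bot = (yon S).map (Over.homMk (Spec.map (CommRingCat.ofHom (RingHom.id sq.A))) _ :
      sq.ptA ⟶ sq.ptA) ≫ sq.bot
    rw [this, CategoryTheory.Functor.map_id, Category.id_comp]

section BaseChangeSq

variable {F G H F' : Sp S} {f : F ⟶ G} {g : H ⟶ G} {fst : F' ⟶ F} {f' : F' ⟶ H}
  (sqp : IsPullback fst f' f g)

include sqp in
theorem hasUniq_of_isPullback (sq : ValSq f') (hs : (valSqOfIsPullback sqp sq).HasUniq) :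
    sq.HasUniq := by
  intro l l' h1 h2 h1' h2'
  apply sqp.hom_ext
  · refine hs (l ≫ fst) (l' ≫ fst) ?_ ?_ ?_ ?_
    · exact (Category.assoc ((yon S).map sq.j) l fst).symm.trans (congrArg (· ≫ fst) h1)
    · exact ((Category.assoc l fst f).trans ((congrArg (l ≫ ·) sqp.w).trans
        (Category.assoc l f' g).symm)).trans (congrArg (· ≫ g) h2)
    · exact (Category.assoc ((yon S).map sq.j) l' fst).symm.trans (congrArg (· ≫ fst) h1')
    · exact ((Category.assoc l' fst f).trans ((congrArg (l' ≫ ·) sqp.w).trans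
        (Category.assoc l' f' g).symm)).trans (congrArg (· ≫ g) h2')
  · rw [h2, h2']

include sqp in
theorem hasLiftExt_of_isPullback (sq : ValSq f') (hs : (valSqOfIsPullback sqp sq).HasLiftExt) :
    sq.HasLiftExt := by
  obtain ⟨e₀, l, hl1, hl2⟩ := hs
  let e : sq.DomExt :=
    { A' := e₀.A', K' := e₀.K', φ := e₀.φ, ψ := e₀.ψ, comm := e₀.comm,
      isLocalHom := e₀.isLocalHom }
  have hw : l ≫ f = ((yon S).map (domExtA e) ≫ sq.bot) ≫ g := by
    rw [hl2, Category.assoc]; rfl
  refine ⟨e, sqp.lift l ((yon S).map (domExtA e) ≫ sq.bot) hw, ?_, sqp.lift_snd _ _ _⟩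
  apply sqp.hom_ext
  · rw [Category.assoc, sqp.lift_fst, Category.assoc]
    exact hl1
  · rw [Category.assoc, sqp.lift_snd, Category.assoc, sq.comm]
    change (yon S).map (domExtJ e) ≫ (yon S).map (domExtA e) ≫ sq.bot =
      (yon S).map (domExtK e) ≫ (yon S).map sq.j ≫ sq.bot
    rw [← Category.assoc, ← Functor.map_comp, domExt_w, Functor.map_comp, Category.assoc]

end BaseChangeSq

/-- Universal closedness of a morphism to a scheme can be checked over the affine opens. -/
theorem isUnivClosedMor_of_affineOpens {P : Sp S} {V : Over S} (q : P ⟶ (yon S).obj V)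
    (H : ∀ V₀ : V.left.Opens, IsAffineOpen V₀ →
      IsUnivClosedMor (pullback.snd q ((yon S).map (overOpenι V V₀)))) : IsUnivClosedMor q := by
  apply UC.isUnivClosedMor_of_local
  intro Z hZ g z
  obtain ⟨γ, rfl⟩ := (yon S).map_surjective g
  obtain ⟨_, ⟨V₀, hV₀, rfl⟩, hzV₀, -⟩ :=
    V.left.isBasis_affineOpens.exists_subset_of_mem_open (Set.mem_univ (γ.left z)) isOpen_univ
  refine ⟨γ.left ⁻¹ᵁ V₀, hzV₀, ?_⟩
  have sqR := IsPullback.of_hasPullback q ((yon S).map (overOpenι V V₀))
  have hrange : Set.range ((γ.left ⁻¹ᵁ V₀).ι ≫ γ.left) ⊆ Set.range (Scheme.Opens.ι (X := V.left) V₀) := by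
    rw [Scheme.Opens.range_ι]
    rintro _ ⟨x, rfl⟩
    exact x.2
  have hδ₀ : IsOpenImmersion.lift (Scheme.Opens.ι (X := V.left) V₀) ((γ.left ⁻¹ᵁ V₀).ι ≫ γ.left) hrange ≫ (Scheme.Opens.ι (X := V.left) V₀) =
      (γ.left ⁻¹ᵁ V₀).ι ≫ γ.left := IsOpenImmersion.lift_fac _ _ _
  let δ : overOpen Z (γ.left ⁻¹ᵁ V₀) ⟶ overOpen V V₀ :=
    Over.homMk (IsOpenImmersion.lift (Scheme.Opens.ι (X := V.left) V₀) ((γ.left ⁻¹ᵁ V₀).ι ≫ γ.left) hrange) (by
      change _ ≫ (Scheme.Opens.ι (X := V.left) V₀) ≫ V.hom = (γ.left ⁻¹ᵁ V₀).ι ≫ Z.hom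
      rw [← Category.assoc, hδ₀, Category.assoc, Over.w γ])
  have hδ : δ ≫ overOpenι V V₀ = overOpenι Z (γ.left ⁻¹ᵁ V₀) ≫ γ := Over.OverMorphism.ext hδ₀
  have hδy : (yon S).map δ ≫ (yon S).map (overOpenι V V₀) =
      (yon S).map (overOpenι Z (γ.left ⁻¹ᵁ V₀)) ≫ (yon S).map γ := by
    rw [← Functor.map_comp, hδ, Functor.map_comp]
  have sq' := IsPullback.of_hasPullback q
    ((yon S).map (overOpenι Z (γ.left ⁻¹ᵁ V₀)) ≫ (yon S).map γ)
  have hw' : pullback.fst q
      ((yon S).map (overOpenι Z (γ.left ⁻¹ᵁ V₀)) ≫ (yon S).map γ) ≫ q =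
      (pullback.snd q
        ((yon S).map (overOpenι Z (γ.left ⁻¹ᵁ V₀)) ≫ (yon S).map γ) ≫ (yon S).map δ) ≫
        (yon S).map (overOpenι V V₀) := by
    rw [Category.assoc, hδy]
    exact sq'.w
  have sq'' : IsPullback (sqR.lift _ _ hw')
      (pullback.snd q ((yon S).map (overOpenι Z (γ.left ⁻¹ᵁ V₀)) ≫ (yon S).map γ))
      (pullback.snd q ((yon S).map (overOpenι V V₀))) ((yon S).map δ) := by
    refine IsPullback.of_right ?_ (sqR.lift_snd _ _ _) sqR
    rw [sqR.lift_fst, hδy]
    exact sq'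
  exact H V₀ hV₀ (IsAlgSpace.yon_obj _) _ _ _ sq''

/-- The refined hypothesis: valuative squares whose top arrow factors through `U` have at most
one lift, and a lift after a dominating extension. -/
def RefinedVC {U X Y : Sp S} (h : U ⟶ X) (f : X ⟶ Y) : Prop :=
  ∀ sq : ValSq f, (∃ t : (yon S).obj sq.ptK ⟶ U, t ≫ h = sq.top) → sq.HasUniq ∧ sq.HasLiftExt

/-- The refined hypothesis passes to base changes. -/
theorem refinedVC_of_isPullback {U X Y X₀ Y₀ : Sp S} {h : U ⟶ X} {f : X ⟶ Y} {p₀ : Y₀ ⟶ Y}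
    {fst₀ : X₀ ⟶ X} {f₀ : X₀ ⟶ Y₀} (sqp : IsPullback fst₀ f₀ f p₀) (hv : RefinedVC h f) :
    RefinedVC (pullback.snd h fst₀) f₀ := by
  rintro sq ⟨t, ht⟩
  have h1 : (t ≫ pullback.fst h fst₀) ≫ h = sq.top ≫ fst₀ := by
    rw [Category.assoc, pullback.condition, ← Category.assoc, ht]
  have := hv (valSqOfIsPullback sqp sq) ⟨t ≫ pullback.fst h fst₀, h1⟩
  exact ⟨hasUniq_of_isPullback sqp sq this.1, hasLiftExt_of_isPullback sqp sq this.2⟩

/-- The refined criterion, after an étale base change to an affine scheme. -/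
theorem isUnivClosedMor_of_refined_aux {U X Y : Sp S} (hX : IsAlgSpace X) (hY : IsAlgSpace Y)
    {f : X ⟶ Y} {h : U ⟶ X} (hf : IsQuasiCompactMor f) (hh : IsQuasiCompactMor h)
    (hd : DenseRange (Points.map h)) (hv : RefinedVC h f) {T : Over S} [IsAffine T.left]
    {p₀ : (yon S).obj T ⟶ Y} (hp₀ : RepWith @Etale p₀) {X₀ : Sp S} {fst₀ : X₀ ⟶ X}
    {f₀ : X₀ ⟶ (yon S).obj T} (sqp : IsPullback fst₀ f₀ f p₀) : IsUnivClosedMor f₀ := by
  have hX₀ : IsAlgSpace X₀ := isAlgSpace_pullback hY.diag hX (IsAlgSpace.yon_obj T) sqp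
  have sqU := IsPullback.of_hasPullback h fst₀
  have hh₀ : IsQuasiCompactMor (pullback.snd h fst₀) := isQuasiCompactMor_of_isPullback sqU hh
  have hfst₀ : RepWith @Etale fst₀ :=
    MorphismProperty.of_isPullback (P := RepWith @Etale) sqp.flip hp₀
  have hd₀ : DenseRange (Points.map (pullback.snd h fst₀)) := by
    change Dense (Set.range (Points.map (pullback.snd h fst₀)))
    rw [range_points_map_fst sqU.flip]
    exact Dense.preimage hd (isOpenMap_points_map_of_etale hfst₀)
  have hv₀ := refinedVC_of_isPullback sqp hv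
  have he : ExistVC f₀ := existVC_of_refined_affine f₀ (pullback.snd h fst₀) hX₀ hh₀ hd₀ hv₀
  exact isUnivClosedMor_of_existVC (isQuasiCompactMor_of_isPullback sqp hf) he

/-- **The refined valuative criterion: universal closedness.** -/
theorem isUnivClosedMor_of_refined {U X Y : Sp S} (hX : IsAlgSpace X) (hY : IsAlgSpace Y)
    {f : X ⟶ Y} {h : U ⟶ X} (hf : IsQuasiCompactMor f) (hh : IsQuasiCompactMor h)
    (hd : DenseRange (Points.map h)) (hv : RefinedVC h f) : IsUnivClosedMor f := by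
  obtain ⟨V, p, hpe, hps⟩ := hY.atlas
  have sqV := IsPullback.of_hasPullback f p
  refine isUnivClosedMor_of_baseChange hY (IsAlgSpace.yon_obj V) hpe hps sqV ?_
  apply isUnivClosedMor_of_affineOpens
  intro V₀ hV₀
  have : IsAffine (overOpen V V₀).left := hV₀
  have big := (IsPullback.of_hasPullback (pullback.snd f p)
    ((yon S).map (overOpenι V V₀))).paste_horiz sqV
  exact isUnivClosedMor_of_refined_aux hX hY hf hh hd hv (repWith_etale_restrict hpe V₀) big

/-- **The refined valuative criterion: separatedness.** -/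
theorem isSeparatedMor_of_refined {U X Y : Sp S} (hX : IsAlgSpace X) (hY : IsAlgSpace Y)
    {f : X ⟶ Y} {h : U ⟶ X} (hh : IsQuasiCompactMor h)
    (hd : DenseRange (Points.map h)) (hv : RefinedVC h f) (hqs : IsQuasiSeparatedMor f) :
    IsSeparatedMor f := by
  rw [isSeparatedMor_iff_isUnivClosedMor_diagonal hX]
  have sq := IsPullback.of_hasPullback f f
  have hXX : IsAlgSpace (pullback f f) := isAlgSpace_pullback hY.diag hX hX sq
  refine isUnivClosedMor_of_refined hX hXX (isQuasiCompactMor_of_repWith hqs) hh hd ?_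
  rintro sqd ⟨t, ht⟩
  have ha : sqd.top = (yon S).map sqd.j ≫ sqd.bot ≫ pullback.fst f f := by
    have := congrArg (· ≫ pullback.fst f f) sqd.comm
    simpa using this
  have hb : sqd.top = (yon S).map sqd.j ≫ sqd.bot ≫ pullback.snd f f := by
    have := congrArg (· ≫ pullback.snd f f) sqd.comm
    simpa using this
  let sqf : ValSq f :=
    { A := sqd.A, K := sqd.K, str := sqd.str, top := sqd.top,
      bot := (sqd.bot ≫ pullback.fst f f) ≫ f,
      comm := by rw [ha, Category.assoc, Category.assoc] }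
  have hu : sqf.HasUniq := (hv sqf ⟨t, ht⟩).1
  have hab : sqd.bot ≫ pullback.fst f f = sqd.bot ≫ pullback.snd f f :=
    hu _ _ ha.symm rfl hb.symm (by
      change (sqd.bot ≫ pullback.snd f f) ≫ f = (sqd.bot ≫ pullback.fst f f) ≫ f
      rw [Category.assoc, Category.assoc, pullback.condition])
  have hmono : Mono (pullback.diagonal f) := inferInstance
  refine ⟨?_, ?_⟩
  · intro l l' _ h2 _ h2'
    rw [← cancel_mono (pullback.diagonal f), h2, h2']
  · apply hasLiftExt_of_hasLift
    refine ⟨sqd.bot ≫ pullback.fst f f, ha.symm, ?_⟩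
    apply pullback.hom_ext
    · rw [Category.assoc, pullback.diagonal_fst, Category.comp_id]
    · rw [Category.assoc, pullback.diagonal_snd, Category.comp_id, hab]

end Groth.Agent.H5.AlgSp
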