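import Groth.Prelude.Def_AlgSpDec
import Groth.Agent.Lib.Helper5.AlgSp.Points
import Groth.Agent.Lib.Helper5.AlgSp.ClosedDescent
import Groth.Agent.Lib.Helper5.AlgSp.AffineChart
import Groth.Agent.Lib.Helper5.AlgSp.FibreProduct
import Mathlib

/-!
# Decent spaces: basic permanence properties
-/

set_option autoImplicit false

universe u

open CategoryTheory CategoryTheory.Limits AlgebraicGeometry Opposite IsLocalRing

namespace Groth.Agent.H5.AlgSp

open _root_.AlgSp

variable {S : Scheme.{u}} {F G H : Sp S}

lemma toHom_eq_fpHom (p : FieldPt F) : p.toHom = fpHom p := rfl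

lemma toHom_fpOfHom {K : Type u} [Field K] (str : Spec (.of K) ⟶ S)
    (x : (yon S).obj (Over.mk str) ⟶ F) : (fpOfHom str x).toHom = x := fpHom_fpOfHom str x

/-- Decency in terms of morphisms from spectra of fields. -/
theorem isDecent_iff : IsDecent F ↔ ∀ x : Points F, ∃ (K : Type u) (_ : Field K)
    (str : Spec (.of K) ⟶ S) (ξ : (yon S).obj (Over.mk str) ⟶ F),
    Points.mk (fpOfHom str ξ) = x ∧ Mono ξ ∧ RepWith @QuasiCompact ξ := by
  constructor
  · intro h x
    obtain ⟨p, hp, hm, hq⟩ := h x
    refine ⟨p.K, inferInstance, p.str, p.toHom, ?_, hm, hq⟩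
    rw [toHom_eq_fpHom, fpOfHom_fpHom, hp]
  · intro h x
    obtain ⟨K, _, str, ξ, hξ, hm, hq⟩ := h x
    refine ⟨fpOfHom str ξ, hξ, ?_, ?_⟩
    · rw [toHom_fpOfHom]; exact hm
    · rw [toHom_fpOfHom]; exact hq

/-- A morphism from the spectrum of a field is quasi-compact. -/
lemma quasiCompact_of_field {K : Type u} [Field K] {X : Scheme.{u}}
    (f : Spec (CommRingCat.of K) ⟶ X) : QuasiCompact f := by
  rw [quasiCompact_iff]
  intro U _ _
  exact (Set.toFinite _).isCompact

/-- A morphism of schemes over `S` which is a monomorphism of schemes is a monomorphism. -/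
lemma mono_of_mono_left {W T : Over S} (c : W ⟶ T) [Mono c.left] : Mono c := by
  refine ⟨fun g h hgh => ?_⟩
  apply Over.OverMorphism.ext
  have h1 : g.left ≫ c.left = h.left ≫ c.left := congrArg (fun f => f.left) hgh
  exact (cancel_mono c.left).1 h1

/-- **The source of a representable morphism to a decent space is decent.** -/
theorem isDecent_of_representable {f : F ⟶ G} (hf : Representable f) (hG : IsDecent G) :
    IsDecent F := by
  rw [isDecent_iff] at hG ⊢
  intro x
  obtain ⟨K, _, str, η, hη, hmono, hqc⟩ := hG (Points.map f x)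
  have sqV := hf.isPullback η
  obtain ⟨v, -, hv⟩ := exists_point_of_isPullback sqV x (closedPoint K) (by
    rw [ofPt_closedPoint, hη])
  have hm1 : Mono (hf.fst η) := sqV.flip.mono_snd_of_mono
  have hq1 : RepWith @QuasiCompact (hf.fst η) :=
    MorphismProperty.of_isPullback (P := RepWith @QuasiCompact) sqV.flip hqc
  obtain ⟨c, hc⟩ : ∃ c : Over.mk ((hf.pullback η).left.fromSpecResidueField v ≫
      (hf.pullback η).hom) ⟶ hf.pullback η,
      c = Over.homMk ((hf.pullback η).left.fromSpecResidueField v) rfl := ⟨_, rfl⟩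
  have hm2 : Mono c := by
    have : Mono c.left := by
      rw [hc]
      exact inferInstanceAs (Mono ((hf.pullback η).left.fromSpecResidueField v))
    exact mono_of_mono_left c
  have hm3 : Mono ((yon S).map c) := mono_yon_map_of_mono c
  have hq2 : QuasiCompact c.left := by
    rw [hc]
    exact quasiCompact_of_field ((hf.pullback η).left.fromSpecResidueField v)
  refine ⟨↥((hf.pullback η).left.residueField v), inferInstance,
    (hf.pullback η).left.fromSpecResidueField v ≫ (hf.pullback η).hom,
    (yon S).map c ≫ hf.fst η, ?_, mono_comp _ _,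
    repWith_comp_yon_map @QuasiCompact _ hq2 hq1⟩
  rw [hc]
  exact (ofPt_eq_mk _ v).symm.trans hv

/-- Decent morphisms are stable under base change. -/
theorem isDecentMor_of_isPullback {F' G' : Sp S} {f : F ⟶ G} {g : G' ⟶ G} {fst : F' ⟶ F}
    {f' : F' ⟶ G'} (sq : IsPullback fst f' f g) (hf : IsDecentMor f) : IsDecentMor f' := by
  intro T P k a b sq'
  exact hf (k ≫ g) (a ≫ fst) b (sq'.paste_horiz sq)

/-- **A morphism of algebraic spaces with decent source is decent.** -/
theorem isDecentMor_of_isDecent (hG : IsAlgSpace G) (f : F ⟶ G) (hF : IsDecent F) :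
    IsDecentMor f := by
  intro T P k a b sq
  have hk : Representable k := hG.representable_from_yon k
  have ha : Representable a := (Representable (S := S)).of_isPullback sq.flip hk
  exact isDecent_of_representable ha hF

/-- **The source of a decent morphism to a decent space is decent.** -/
theorem isDecent_of_isDecentMor {f : F ⟶ G} (hf : IsDecentMor f) (hG : IsDecent G) :
    IsDecent F := by
  have hG' := isDecent_iff.1 hG
  rw [isDecent_iff]
  intro x
  obtain ⟨K, _, str, η, hη, hmono, hqc⟩ := hG' (Points.map f x)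
  have sqP := IsPullback.of_hasPullback f η
  have hP : IsDecent (pullback f η) := hf η _ _ sqP
  obtain ⟨z, hz, -⟩ := points_pullback_surjective sqP x (Points.mk (fpOfHom str (𝟙 _))) (by
    rw [map_mk_fpOfHom, Category.id_comp, hη])
  obtain ⟨K', _, str', ξ, hξ, hm, hq⟩ := isDecent_iff.1 hP z
  have hm1 : Mono (pullback.fst f η) := sqP.flip.mono_snd_of_mono
  have hq1 : RepWith @QuasiCompact (pullback.fst f η) :=
    MorphismProperty.of_isPullback (P := RepWith @QuasiCompact) sqP.flip hqc
  refine ⟨K', inferInstance, str', ξ ≫ pullback.fst f η, ?_, mono_comp _ _,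
    MorphismProperty.comp_mem _ _ _ hq hq1⟩
  rw [← map_mk_fpOfHom, hξ, hz]

/-- **Decent morphisms are stable under composition.** -/
theorem isDecentMor_comp {f : F ⟶ G} {g : G ⟶ H} (hf : IsDecentMor f) (hg : IsDecentMor g) :
    IsDecentMor (f ≫ g) := by
  intro T P k a b sq
  have sqG := IsPullback.of_hasPullback g k
  have hG' : IsDecent (pullback g k) := hg k _ _ sqG
  have hw : (a ≫ f) ≫ g = b ≫ k := by rw [Category.assoc]; exact sq.w
  have top : IsPullback a (sqG.lift (a ≫ f) b hw) f (pullback.fst g k) := by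
    apply IsPullback.of_bot _ _ sqG
    · rw [sqG.lift_snd]; exact sq
    · exact (sqG.lift_fst _ _ _).symm
  exact isDecent_of_isDecentMor (isDecentMor_of_isPullback top hf) hG'

/-- **A fibre product of decent spaces over an algebraic space is decent.** -/
theorem isDecent_of_isPullback {P X Y Z : Sp S} (hY : IsAlgSpace Y) {f : X ⟶ Y} {g : Z ⟶ Y}
    {fst : P ⟶ X} {snd : P ⟶ Z} (sq : IsPullback fst snd f g) (hX : IsDecent X)
    (hZ : IsDecent Z) : IsDecent P :=
  isDecent_of_isDecentMor (isDecentMor_of_isPullback sq (isDecentMor_of_isDecent hY f hX)) hZ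

end Groth.Agent.H5.AlgSp
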