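import Groth.Prelude.Def_AlgSpDec
import Groth.Agent.Lib.Helper5.AlgSp.Decent
import Groth.Agent.Lib.Helper5.AlgSp.PointsTop
import Groth.Agent.Lib.Helper5.AlgSp.LocPCalc
import Mathlib

/-!
# Generalizations lift at points represented by quasi-compact monomorphisms
-/

set_option autoImplicit false

universe u

open CategoryTheory CategoryTheory.Limits AlgebraicGeometry Opposite IsLocalRing

namespace Groth.Agent.H5.AlgSp

open _root_.AlgSp

variable {S : Scheme.{u}} {F G : Sp S}

/-- If the fibre of an étale chart over a point is finite, generalizations to that point lift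
along the chart. -/
theorem exists_specializes_of_finite_fibre {U : Over S} {a : (yon S).obj U ⟶ F}
    (ha : RepWith @Etale a) (x : Points F) (hfin : (Points.ofPt a ⁻¹' {x}).Finite) (u₀ : ↥U.left)
    (h : x ⤳ Points.ofPt a u₀) : ∃ u : ↥U.left, u ⤳ u₀ ∧ Points.ofPt a u = x := by
  have hmem : u₀ ∈ closure (Points.ofPt a ⁻¹' {x}) := by
    rw [← (isOpenMap_ofPt_of_etale ha).preimage_closure_eq_closure_preimage
      (Points.continuous_ofPt a)]
    exact specializes_iff_mem_closure.1 h
  rw [← Set.biUnion_of_singleton (Points.ofPt a ⁻¹' {x}), hfin.closure_biUnion] at hmem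
  obtain ⟨u, hu, hu₀⟩ := Set.mem_iUnion₂.1 hmem
  exact ⟨u, specializes_iff_mem_closure.2 hu₀, hu⟩

/-- The fibre of an étale chart by an affine scheme over a point represented by a quasi-compact
morphism from the spectrum of a field is finite. -/
theorem finite_fibre_of_quasiCompact_point {U : Over S} [IsAffine U.left]
    {a : (yon S).obj U ⟶ F} (ha : RepWith @Etale a) {K : Type u} [Field K]
    (str : Spec (.of K) ⟶ S) (ξ : (yon S).obj (Over.mk str) ⟶ F)
    (hq : RepWith @QuasiCompact ξ) :
    (Points.ofPt a ⁻¹' {Points.mk (fpOfHom str ξ)}).Finite := by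
  have sqT := hq.rep.isPullback a
  have hqc : QuasiCompact (hq.rep.snd a).left := hq.property_snd a
  have hT : CompactSpace (hq.rep.pullback a).left :=
    QuasiCompact.compactSpace_of_compactSpace (hq.rep.snd a).left
  obtain ⟨s, hs⟩ := (yon S).map_surjective (hq.rep.fst a)
  have hse : Etale s.left := by
    have := (RepWith @Etale).of_isPullback sqT.flip ha
    rw [← hs] at this
    exact (repWith_yon_map_iff @Etale s).1 this
  have hlqf : LocallyQuasiFinite s.left := locallyQuasiFinite_of_etale _
  have hsqc : QuasiCompact s.left := by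
    have : IsAffine (Over.mk str).left := inferInstanceAs (IsAffine (Spec (CommRingCat.of K)))
    infer_instance
  have hfinT : (Set.univ : Set ↥(hq.rep.pullback a).left).Finite := by
    have h1 := s.left.finite_preimage_singleton (closedPoint K)
    refine h1.subset (fun t _ => ?_)
    have : Subsingleton ↥(Spec (CommRingCat.of K)) := inferInstance
    exact Subsingleton.elim (α := ↥(Spec (CommRingCat.of K))) _ _
  refine (hfinT.image (hq.rep.snd a).left).subset ?_
  intro u hu
  have hxu : Points.map ξ (Points.ofScheme (Over.mk str) (closedPoint K)) = Points.ofPt a u := by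
    rw [← Points.ofPt_eq_map_ofScheme, ofPt_closedPoint]
    exact hu.symm
  obtain ⟨v, hv1, -⟩ := exists_point_of_isPullback sqT _ u hxu
  exact ⟨v, Set.mem_univ _, hv1⟩

/-- **Generalizations lift along étale charts at points represented by quasi-compact
morphisms from spectra of fields.** -/
theorem exists_specializes_of_quasiCompact_point {U : Over S} {a : (yon S).obj U ⟶ F}
    (ha : RepWith @Etale a) {K : Type u} [Field K] (str : Spec (.of K) ⟶ S)
    (ξ : (yon S).obj (Over.mk str) ⟶ F) (hq : RepWith @QuasiCompact ξ) (u : ↥U.left)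
    (h : Points.mk (fpOfHom str ξ) ⤳ Points.ofPt a u) :
    ∃ u' : ↥U.left, u' ⤳ u ∧ Points.ofPt a u' = Points.mk (fpOfHom str ξ) := by
  obtain ⟨_, ⟨B, hB, rfl⟩, huB, -⟩ :=
    U.left.isBasis_affineOpens.exists_subset_of_mem_open (Set.mem_univ u) isOpen_univ
  have hBaff : IsAffine (overOpen U B).left := hB
  have hae : RepWith @Etale ((yon S).map (overOpenι U B) ≫ a) :=
    repWith_comp_yon_map @Etale _ (inferInstanceAs (Etale (Scheme.Opens.ι (X := U.left) B))) ha
  have hau : Points.ofPt ((yon S).map (overOpenι U B) ≫ a) (⟨u, huB⟩ : ↥B) = Points.ofPt a u := by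
    rw [ofPt_yon_map_comp]
    rfl
  obtain ⟨u₁, hu₁, hu₁x⟩ := exists_specializes_of_finite_fibre hae _
    (finite_fibre_of_quasiCompact_point hae str ξ hq) (⟨u, huB⟩ : ↥B) (by rw [hau]; exact h)
  refine ⟨(overOpenι U B).left u₁, ?_, ?_⟩
  · exact hu₁.map (overOpenι U B).left.continuous
  · rw [← ofPt_yon_map_comp, hu₁x]

/-- Statement form with field-valued points. -/
theorem exists_specializes_ofPt_of_fieldPt {x x' : Points F} (h : x' ⤳ x)
    (hx' : ∃ p : FieldPt F, Points.mk p = x' ∧ Mono p.toHom ∧ RepWith @QuasiCompact p.toHom)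
    {U : Over S} (a : (yon S).obj U ⟶ F) (ha : RepWith @Etale a) (u : ↥U.left)
    (hu : Points.ofPt a u = x) : ∃ u' : ↥U.left, u' ⤳ u ∧ Points.ofPt a u' = x' := by
  obtain ⟨p, rfl, -, hq⟩ := hx'
  subst hu
  have hp : Points.mk p = Points.mk (fpOfHom p.str p.toHom) := by
    rw [toHom_eq_fpHom, fpOfHom_fpHom]
  rw [hp] at h ⊢
  exact exists_specializes_of_quasiCompact_point ha p.str p.toHom hq u h

/-- **Generalizations lift along flat morphisms at points represented by quasi-compact
monomorphisms.** -/
theorem exists_specializes_of_locP_flat (hF : IsAlgSpace F) (hG : IsAlgSpace G) {f : G ⟶ F}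
    (hf : LocP @Flat f) {x x' : Points F} (h : x' ⤳ x)
    (hx' : ∃ p : FieldPt F, Points.mk p = x' ∧ Mono p.toHom ∧ RepWith @QuasiCompact p.toHom)
    (y : Points G) (hy : Points.map f y = x) :
    ∃ y' : Points G, y' ⤳ y ∧ Points.map f y' = x' := by
  obtain ⟨U, b, hbe, hbs⟩ := hF.atlas
  obtain ⟨V, a, k, hae, has, comm⟩ := exists_chart_diagram_surj hG f hbe hbs
  have hfl : Flat k.left := hf a b k hae hbe comm
  obtain ⟨v, rfl⟩ := ofPt_surjective_of_repWith has y
  have hu : Points.ofPt b (k.left v) = x := by
    rw [← ofPt_yon_map_comp, ← comm, ← Points.map_ofPt, hy]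
  obtain ⟨u', hu', hu'x⟩ := exists_specializes_ofPt_of_fieldPt h hx' b hbe (k.left v) hu
  obtain ⟨v', hv', hv'u⟩ := (Flat.generalizingMap k.left) hu'
  refine ⟨Points.ofPt a v', hv'.map (Points.continuous_ofPt a), ?_⟩
  rw [Points.map_ofPt, comm, ofPt_yon_map_comp, hv'u, hu'x]

/-- **A morphism from the spectrum of a field in the class of a point represented by a
quasi-compact monomorphism is quasi-compact.** -/
theorem repWith_quasiCompact_of_mk_eq (p q : FieldPt F) (hm : Mono p.toHom)
    (hp : RepWith @QuasiCompact p.toHom) (h : Points.mk q = Points.mk p) :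
    RepWith @QuasiCompact q.toHom := by
  rw [Points.mk_eq_mk_iff] at h
  obtain ⟨Ω, _, w, α, β, hrel⟩ := h
  have hrel' : (yon S).map α ≫ q.toHom = (yon S).map β ≫ p.toHom := by
    apply (yEquiv F _).injective
    have h1 := (J S).uliftYonedaEquiv_naturality q.toHom α
    have h2 := (J S).uliftYonedaEquiv_naturality p.toHom β
    rw [FieldPt.uliftYonedaEquiv_toHom] at h1 h2
    exact h1.symm.trans (hrel.trans h2)
  have sqT := hp.rep.isPullback q.toHom
  have hmono : Mono ((yon S).map (hp.rep.snd q.toHom)) := sqT.mono_snd_of_mono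
  have hmono' : Mono (hp.rep.snd q.toHom) := (yon S).mono_of_mono_map hmono
  have hmonoL : Mono (hp.rep.snd q.toHom).left := by
    have : (Over.forget S).PreservesMonomorphisms := inferInstance
    exact (Over.forget S).map_mono (hp.rep.snd q.toHom)
  have hqc : QuasiCompact (hp.rep.snd q.toHom).left := hp.property_snd q.toHom
  have hflat : Flat (hp.rep.snd q.toHom).left := by
    have : Subsingleton ↥(Spec (CommRingCat.of q.K)) := inferInstance
    have : IsIntegral (Spec (CommRingCat.of q.K)) := inferInstance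
    exact inferInstanceAs (Flat (Y := Spec (CommRingCat.of q.K)) (hp.rep.snd q.toHom).left)
  have hsurj : Surjective (hp.rep.snd q.toHom).left := by
    obtain ⟨t, ht⟩ := (yon S).map_surjective (sqT.lift ((yon S).map β) ((yon S).map α) hrel'.symm)
    refine ⟨fun z => ⟨t.left (closedPoint Ω), ?_⟩⟩
    exact Subsingleton.elim (α := ↥(Spec (CommRingCat.of q.K))) _ _
  have hiso : IsIso (hp.rep.snd q.toHom).left := Flat.isIso_of_surjective_of_mono _
  have hiso' : IsIso (hp.rep.snd q.toHom) := by
    have : IsIso ((Over.forget S).map (hp.rep.snd q.toHom)) := hiso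
    exact isIso_of_reflects_iso _ (Over.forget S)
  obtain ⟨s, hs⟩ := (yon S).map_surjective (hp.rep.fst q.toHom)
  have hfac : q.toHom = (yon S).map (inv (hp.rep.snd q.toHom) ≫ s) ≫ p.toHom := by
    rw [Functor.map_comp, Category.assoc, hs, sqT.w, ← Category.assoc, ← Functor.map_comp,
      IsIso.inv_hom_id, CategoryTheory.Functor.map_id, Category.id_comp]
  rw [hfac]
  exact repWith_comp_yon_map @QuasiCompact _ (quasiCompact_of_field _) hp

end Groth.Agent.H5.AlgSp
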