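import Groth.Agent.Lib.Helper5.AlgSp.Coprod
import Groth.Agent.Lib.Helper5.AlgSp.OpenSubspace
import Mathlib

/-!
# A criterion for a monomorphism of sheaves to be an open immersion
-/

set_option autoImplicit false

universe u

open CategoryTheory CategoryTheory.Limits AlgebraicGeometry Opposite

namespace Groth.Agent.H5.AlgSp

open _root_.AlgSp

variable {S : Scheme.{u}} {F' F : Sp S}

/-- A monomorphism of sheaves whose image on points is open and through which every section with
points in the image lifts locally is representable by open immersions. -/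
theorem repWith_isOpenImmersion_of_mono_of_isOpen_range (φ : F' ⟶ F) [Mono φ]
    (hW : IsOpen (Set.range (Points.map φ)))
    (hlift : ∀ (T : Over S) (ξ : (yon S).obj T ⟶ F),
      (∀ t, Points.ofPt ξ t ∈ Set.range (Points.map φ)) → liftSieve φ ξ ∈ J S T) :
    RepWith @IsOpenImmersion φ := by
  apply MorphismProperty.relative.of_exists
  intro T ξ
  let V := preimageOpens hW ξ
  have hV : ∀ v : ↥(overOpen T V).left,
      Points.ofPt ((yon S).map (overOpenι T V) ≫ ξ) v ∈ Set.range (Points.map φ) := by
    intro v
    rw [ofPt_restrict]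
    exact v.2
  obtain ⟨τ, hτ⟩ := exists_lift_of_mono_of_liftSieve_mem φ _ (hlift _ _ hV)
  refine ⟨overOpen T V, τ, overOpenι T V, ?_, ?_⟩
  · refine isPullback_of_mono_of_forall_mem φ ξ V τ hτ ?_
    intro T'' y x hx t''
    change Points.ofPt ξ (y.left t'') ∈ Set.range (Points.map φ)
    rw [← ofPt_yon_map_comp, ← hx, ← Points.map_ofPt]
    exact ⟨_, rfl⟩
  · change IsOpenImmersion V.ι
    infer_instance

end Groth.Agent.H5.AlgSp
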