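import Groth.Agent.Lib.Helper5.AlgSp.Basic

/-!
# The pullback of the diagonal of a sheaf along `(a, b)` as a base change of `W ⟶ U × U`
-/

set_option autoImplicit false

universe u

open CategoryTheory CategoryTheory.Limits AlgebraicGeometry Opposite

namespace Groth.Agent.H5.AlgSp

open _root_.AlgSp

variable {S : Scheme.{u}}

section prodhelpers

variable {C : Type*} [Category C] [HasBinaryProducts C]

lemma eq_fst_of_lift_eq_diag {X T T' : C} {u v : T ⟶ X} {t : T ⟶ T'} {m : T' ⟶ X}
    (h : prod.lift u v = t ≫ prod.lift m m) : u = t ≫ m ∧ v = t ≫ m := by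
  constructor
  · have := congrArg (· ≫ prod.fst) h
    rwa [prod.lift_fst, Category.assoc, prod.lift_fst] at this
  · have := congrArg (· ≫ prod.snd) h
    rwa [prod.lift_snd, Category.assoc, prod.lift_snd] at this

end prodhelpers

lemma diag_pullback_baseChange {F : Sp S} {U V W : Over S} (a b : (yon S).obj U ⟶ F)
    (fst snd : W ⟶ U) (sqW : IsPullback ((yon S).map fst) ((yon S).map snd) a b)
    (g : (yon S).obj U ⟶ F ⨯ F) (hg₁ : g ≫ prod.fst = a) (hg₂ : g ≫ prod.snd = b)
    (fst' : (yon S).obj V ⟶ F) (snd' : V ⟶ U)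
    (sq : IsPullback fst' ((yon S).map snd') (Limits.diag F) g) :
    ∃ w : V ⟶ W, IsPullback w snd' (prod.lift fst snd) (Limits.diag U) := by
  have hf₁ : fst' = (yon S).map snd' ≫ a := by
    have := congrArg (· ≫ prod.fst) sq.w
    rwa [Category.assoc, prod.lift_fst, Category.comp_id, Category.assoc, hg₁] at this
  have hf₂ : fst' = (yon S).map snd' ≫ b := by
    have := congrArg (· ≫ prod.snd) sq.w
    rwa [Category.assoc, prod.lift_snd, Category.comp_id, Category.assoc, hg₂] at this
  obtain ⟨w, hw⟩ := (yon S).map_surjective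
    (sqW.lift ((yon S).map snd') ((yon S).map snd') (by rw [← hf₁, ← hf₂]))
  have hw₁ : w ≫ fst = snd' := by
    apply (yon S).map_injective
    rw [Functor.map_comp, hw, sqW.lift_fst]
  have hw₂ : w ≫ snd = snd' := by
    apply (yon S).map_injective
    rw [Functor.map_comp, hw, sqW.lift_snd]
  have hcone : ∀ s : PullbackCone (prod.lift fst snd) (Limits.diag U),
      s.fst ≫ fst = s.snd ∧ s.fst ≫ snd = s.snd := by
    intro s
    have := s.condition
    rw [prod.comp_lift] at this
    have h := eq_fst_of_lift_eq_diag (m := 𝟙 U) this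
    simpa using h
  have hab : ∀ s : PullbackCone (prod.lift fst snd) (Limits.diag U),
      (yon S).map s.snd ≫ a = (yon S).map s.snd ≫ b := by
    intro s
    obtain ⟨h1, h2⟩ := hcone s
    conv_lhs => rw [← h1]
    conv_rhs => rw [← h2]
    rw [Functor.map_comp, Functor.map_comp, Category.assoc, Category.assoc, sqW.w]
  have hlift : ∀ s : PullbackCone (prod.lift fst snd) (Limits.diag U),
      ((yon S).map s.snd ≫ a) ≫ Limits.diag F = (yon S).map s.snd ≫ g := by
    intro s
    apply Limits.prod.hom_ext
    · rw [Category.assoc, prod.lift_fst, Category.comp_id, Category.assoc, hg₁]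
    · rw [Category.assoc, prod.lift_snd, Category.comp_id, Category.assoc, hg₂,
        hab s]
  refine ⟨w, ⟨⟨?_⟩, ⟨PullbackCone.IsLimit.mk _
    (fun s => (yon S).preimage (sq.lift ((yon S).map s.snd ≫ a) ((yon S).map s.snd) (hlift s)))
    ?_ ?_ ?_⟩⟩⟩
  · apply Limits.prod.hom_ext
    · rw [Category.assoc, prod.lift_fst, hw₁, Category.assoc, prod.lift_fst,
        Category.comp_id]
    · rw [Category.assoc, prod.lift_snd, hw₂, Category.assoc, prod.lift_snd,
        Category.comp_id]
  · intro s
    obtain ⟨h1, h2⟩ := hcone s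
    apply (yon S).map_injective
    apply sqW.hom_ext
    · rw [Functor.map_comp, Functor.map_preimage, Category.assoc, ← Functor.map_comp, hw₁,
        sq.lift_snd, ← Functor.map_comp, h1]
    · rw [Functor.map_comp, Functor.map_preimage, Category.assoc, ← Functor.map_comp, hw₂,
        sq.lift_snd, ← Functor.map_comp, h2]
  · intro s
    apply (yon S).map_injective
    rw [Functor.map_comp, Functor.map_preimage, sq.lift_snd]
  · intro s m _ hm2
    apply (yon S).map_injective
    rw [Functor.map_preimage]
    apply sq.hom_ext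
    · rw [sq.lift_fst, hf₁, ← Category.assoc, ← Functor.map_comp, hm2]
    · rw [sq.lift_snd, ← Functor.map_comp, hm2]

end Groth.Agent.H5.AlgSp
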