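import Groth.Agent.Lib.Helper5.AlgSp.LQFFibre
import Groth.Agent.Lib.Helper5.AlgSp.EtaleMor
import Mathlib

/-!
# Finite type points of algebraic spaces
-/

set_option autoImplicit false
universe u
open CategoryTheory CategoryTheory.Limits AlgebraicGeometry MorphismProperty Topology

namespace Groth.Agent.H5.AlgSp

/-- A domain over which some field is an algebra of finite type (injectively) has a nonzero element
`f` such that the zero ideal is the only prime not containing `f`. -/
theorem exists_ne_zero_forall_prime_eq_bot {D L : Type*} [CommRing D] [IsDomain D] [Field L]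
    [Algebra D L] [Algebra.FiniteType D L] (hinj : Function.Injective (algebraMap D L)) :
    ∃ f : D, f ≠ 0 ∧ ∀ q : Ideal D, q.IsPrime → f ∉ q → q = ⊥ := by
  classical
  let K := FractionRing D
  let _ : Algebra K L := (IsFractionRing.lift (K := K) hinj).toAlgebra
  have : IsScalarTower D K L := IsScalarTower.of_algebraMap_eq fun x =>
    (IsFractionRing.lift_algebraMap hinj x).symm
  have : Algebra.FiniteType K L := Algebra.FiniteType.of_restrictScalars_finiteType D K L
  have : Module.Finite K L := finite_of_finite_type_of_isJacobsonRing K L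
  have hint : Algebra.IsIntegral K L := inferInstance
  obtain ⟨s, hs⟩ := (‹Algebra.FiniteType D L›).out
  have hm : ∀ x : L, ∃ m : nonZeroDivisors D, IsIntegral D (m • x) := fun x =>
    IsIntegral.exists_multiple_integral_of_isLocalization (nonZeroDivisors D) x
      (hint.isIntegral x)
  choose m hmx using hm
  let f : D := ∏ x ∈ s, (m x : D)
  have hf0 : f ≠ 0 := by
    rw [Finset.prod_ne_zero_iff]
    intro x _
    exact nonZeroDivisors.ne_zero (m x).2
  refine ⟨f, hf0, ?_⟩
  -- the localization
  let A := Localization.Away f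
  have hfu : IsUnit (algebraMap D L f) := by
    rw [isUnit_iff_ne_zero]
    intro h
    exact hf0 (hinj (by rw [h, map_zero]))
  let φ : A →+* L := IsLocalization.Away.lift f hfu
  let _ : Algebra A L := φ.toAlgebra
  have : IsScalarTower D A L := IsScalarTower.of_algebraMap_eq fun x =>
    (IsLocalization.Away.lift_eq f hfu x).symm
  have hsint : ∀ x ∈ s, IsIntegral A x := by
    intro x hx
    have h1 : IsIntegral A ((m x : D) • x) := (hmx x).tower_top
    have hdiv : (m x : D) ∣ f := Finset.dvd_prod_of_mem (fun y => (m y : D)) hx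
    obtain ⟨c, hc⟩ := hdiv
    have hu : IsUnit (algebraMap D A (m x : D)) := by
      have : IsUnit (algebraMap D A (m x : D) * algebraMap D A c) := by
        rw [← map_mul, ← hc]
        exact IsLocalization.Away.algebraMap_isUnit f
      exact isUnit_of_mul_isUnit_left this
    obtain ⟨v, hv⟩ := hu
    have h2 : x = algebraMap A L (↑v⁻¹ : A) * ((m x : D) • x) := by
      rw [Algebra.smul_def, IsScalarTower.algebraMap_apply D A L, ← hv, ← mul_assoc, ← map_mul,
        Units.inv_mul, map_one, one_mul]
    rw [h2]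
    exact IsIntegral.mul isIntegral_algebraMap h1
  have hAint : Algebra.IsIntegral A L := by
    constructor
    intro y
    have hy : y ∈ Algebra.adjoin D (s : Set L) := by rw [hs]; trivial
    have hle : Algebra.adjoin D (s : Set L) ≤ (integralClosure A L).restrictScalars D :=
      Algebra.adjoin_le hsint
    exact hle hy
  have hAinj : Function.Injective (algebraMap A L) := by
    change Function.Injective φ
    refine (IsLocalization.lift_injective_iff (M := Submonoid.powers f) _).2 fun x y => ?_
    constructor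
    · intro h
      rw [IsScalarTower.algebraMap_apply D A L, h, ← IsScalarTower.algebraMap_apply D A L]
    · intro h
      rw [hinj h]
  have hAf : IsField A := isField_of_isIntegral_of_isField hAinj (Field.toIsField L)
  intro q hq hfq
  have hdisj : Disjoint (Submonoid.powers f : Set D) (q : Set D) := by
    rw [Set.disjoint_left]
    rintro _ ⟨n, rfl⟩ hn
    exact hfq (hq.mem_of_pow_mem n hn)
  have hcm := IsLocalization.under_map_of_isPrime_disjoint (Submonoid.powers f) A hq hdisj
  let _ := hAf.toField
  rcases Ideal.eq_bot_or_top (q.map (algebraMap D A)) with h | h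
  · rw [h] at hcm
    rw [← hcm]
    ext x
    simp only [Ideal.mem_comap, Ideal.mem_bot]
    constructor
    · intro hx
      have : algebraMap D L x = 0 := by
        rw [IsScalarTower.algebraMap_apply D A L, hx, map_zero]
      exact hinj (by rw [this, map_zero])
    · intro hx
      rw [hx, map_zero]
  · rw [h] at hcm
    have : Ideal.under D (⊤ : Ideal A) = ⊤ := Ideal.comap_top
    rw [this] at hcm
    exact absurd hcm.symm hq.ne_top

/-- For a ring map of finite type `R → L` to a field with kernel `p`, there is `f ∉ p` such that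
`p` is the only prime containing `p` and not containing `f`. -/
theorem exists_notMem_forall_prime_eq_ker {R L : Type*} [CommRing R] [Field L] [Algebra R L]
    [Algebra.FiniteType R L] :
    ∃ f : R, f ∉ RingHom.ker (algebraMap R L) ∧ ∀ q : Ideal R, q.IsPrime →
      RingHom.ker (algebraMap R L) ≤ q → f ∉ q → q = RingHom.ker (algebraMap R L) := by
  set p := RingHom.ker (algebraMap R L) with hp
  have hpp : p.IsPrime := RingHom.ker_isPrime _
  let D := R ⧸ p
  let ψ : D →+* L := RingHom.kerLift (algebraMap R L)
  let _ : Algebra D L := ψ.toAlgebra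
  have : IsScalarTower R D L := IsScalarTower.of_algebraMap_eq fun x => rfl
  have : Algebra.FiniteType D L := Algebra.FiniteType.of_restrictScalars_finiteType R D L
  have hinj : Function.Injective (algebraMap D L) := RingHom.kerLift_injective _
  obtain ⟨fbar, hf0, hfq⟩ := exists_ne_zero_forall_prime_eq_bot (D := D) (L := L) hinj
  obtain ⟨f, rfl⟩ := Ideal.Quotient.mk_surjective fbar
  refine ⟨f, fun hf => hf0 (Ideal.Quotient.eq_zero_iff_mem.2 hf), fun q hq hpq hfq' => ?_⟩
  have hqbar : (q.map (Ideal.Quotient.mk p)).IsPrime :=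
    Ideal.map_isPrime_of_surjective Ideal.Quotient.mk_surjective (by rwa [Ideal.mk_ker])
  have hfn : Ideal.Quotient.mk p f ∉ q.map (Ideal.Quotient.mk p) := by
    rw [Ideal.mem_quotient_iff_mem hpq]
    exact hfq'
  have hbot := hfq _ hqbar hfn
  have := Ideal.comap_map_of_surjective (Ideal.Quotient.mk p) Ideal.Quotient.mk_surjective q
  rw [hbot] at this
  have h2 : Ideal.comap (Ideal.Quotient.mk p) ⊥ = p := by
    rw [← RingHom.ker_eq_comap_bot, Ideal.mk_ker]
  rw [h2] at this
  rw [← sup_eq_left.2 hpq, ← this]

/-- Every point of a scheme lies in the image of an open immersion from an affine scheme. -/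
theorem exists_affine_openImmersion (U : Scheme.{u}) (x : ↥U) :
    ∃ (R : CommRingCat.{u}) (i : Spec R ⟶ U) (_ : IsOpenImmersion i) (p : ↥(Spec R)), i p = x := by
  obtain ⟨j, p₀, hp₀⟩ := U.affineCover.exists_eq x
  refine ⟨Γ(U.affineCover.X j, ⊤), (U.affineCover.X j).isoSpec.inv ≫ U.affineCover.f j,
    inferInstance, (U.affineCover.X j).isoSpec.hom p₀, ?_⟩
  rw [← Scheme.Hom.comp_apply, ← Category.assoc, Iso.hom_inv_id, Category.id_comp]
  exact hp₀

/-- The image of a morphism locally of finite type from the spectrum of a field is a locally closed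
point: it is closed in some open neighbourhood. -/
theorem exists_open_forall_specializes_eq {U : Scheme.{u}} {L : Type u} [Field L]
    (g : Spec (CommRingCat.of L) ⟶ U) [LocallyOfFiniteType g] :
    ∃ O : U.Opens, g (IsLocalRing.closedPoint L) ∈ O ∧
      ∀ y ∈ O, g (IsLocalRing.closedPoint L) ⤳ y → y = g (IsLocalRing.closedPoint L) := by
  obtain ⟨R, i, hi, p, hp⟩ := exists_affine_openImmersion U (g (IsLocalRing.closedPoint L))
  have hsub : Set.range g ⊆ Set.range i := by
    rintro _ ⟨z, rfl⟩
    have : z = IsLocalRing.closedPoint L := Subsingleton.elim (α := PrimeSpectrum L) _ _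
    rw [this, ← hp]
    exact ⟨p, rfl⟩
  let g₁ : Spec (CommRingCat.of L) ⟶ Spec R := IsOpenImmersion.lift i g hsub
  have hg₁ : g₁ ≫ i = g := IsOpenImmersion.lift_fac _ _ _
  have : LocallyOfFiniteType (g₁ ≫ i) := by rw [hg₁]; infer_instance
  have hl : LocallyOfFiniteType g₁ := locallyOfFiniteType_of_comp g₁ i
  obtain ⟨φ, hφ⟩ := Spec.map_surjective g₁
  have hft : φ.hom.FiniteType := by
    rw [← hφ] at hl
    exact (HasRingHomProperty.Spec_iff (P := @LocallyOfFiniteType)).1 hl
  algebraize [φ.hom]
  obtain ⟨f, hfp, hfq⟩ := exists_notMem_forall_prime_eq_ker (R := R) (L := L)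
  have hpker : p.asIdeal = RingHom.ker (algebraMap R L) := by
    have h1 : g₁ (IsLocalRing.closedPoint L) = p := by
      apply i.isOpenEmbedding.injective
      rw [← Scheme.Hom.comp_apply, hg₁, hp]
    rw [← h1, ← hφ]
    ext x
    change x ∈ Ideal.comap φ.hom (IsLocalRing.closedPoint L).asIdeal ↔ _
    rw [Ideal.mem_comap, RingHom.mem_ker]
    change φ.hom x ∈ IsLocalRing.maximalIdeal L ↔ _
    rw [IsLocalRing.maximalIdeal_eq_bot, Ideal.mem_bot]
    rfl
  refine ⟨i ''ᵁ (PrimeSpectrum.basicOpen f), ?_, ?_⟩
  · rw [← hp]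
    refine ⟨p, ?_, rfl⟩
    change f ∉ p.asIdeal
    rw [hpker]
    exact hfp
  · rintro _ ⟨q, hq, rfl⟩ hspec
    rw [← hp] at hspec ⊢
    have hpq : p ⤳ q := i.isOpenEmbedding.isInducing.specializes_iff.1 hspec
    have hpq' : p.asIdeal ≤ q.asIdeal :=
      (PrimeSpectrum.le_iff_specializes (R := R) p q).2 hpq
    have : q.asIdeal = RingHom.ker (algebraMap R L) :=
      hfq q.asIdeal q.isPrime (by rw [← hpker]; exact hpq') hq
    congr 1
    apply PrimeSpectrum.ext
    rw [this, hpker]


/-- A nonempty locally closed subset of a scheme contains a point which is closed in some open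
neighbourhood. -/
theorem exists_mem_isClosed_singleton_of_isLocallyClosed {U : Scheme.{u}} {T : Set ↥U}
    (hT : IsLocallyClosed T) (hne : T.Nonempty) :
    ∃ (O : U.Opens) (x : ↥O), (x : ↥U) ∈ T ∧ IsClosed ({x} : Set ↥O) := by
  obtain ⟨O₁, C, hO₁, hC, rfl⟩ := hT
  obtain ⟨t, htO, htC⟩ := hne
  obtain ⟨W, hW, htW, hWO⟩ := exists_isAffineOpen_mem_and_subset (U := ⟨O₁, hO₁⟩) htO
  have : CompactSpace ↥W := isCompact_iff_compactSpace.1 hW.isCompact
  have hcl : IsClosed ((↑) ⁻¹' C : Set ↥W) := hC.preimage continuous_subtype_val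
  obtain ⟨x, hxC, hx⟩ := hcl.exists_closed_singleton ⟨⟨t, htW⟩, htC⟩
  exact ⟨W, x, ⟨hWO x.2, hxC⟩, hx⟩

open _root_.AlgSp Groth.Agent.H5.EtSrc

variable {S : Scheme.{u}} {F G H : Sp S}

/-- Finite type points of a sheaf. -/
def IsFTPoint (F : Sp S) (x : Points F) : Prop :=
  ∃ (k : Type u) (_ : Field k) (str : Spec (CommRingCat.of k) ⟶ S)
    (ξ : (yon S).obj (Over.mk str) ⟶ F),
    LocP @LocallyOfFiniteType ξ ∧ Points.ofPt ξ (IsLocalRing.closedPoint k) = x

/-- The image of a closed point of an étale chart is a finite type point. -/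
theorem isFTPoint_of_closed_chart (hF : IsAlgSpace F) {U : Over S} (φ : (yon S).obj U ⟶ F)
    (hφ : RepWith @Etale φ) (u : ↥U.left) (hu : IsClosed ({u} : Set ↥U.left)) :
    IsFTPoint F (Points.ofPt φ u) := by
  let ι : Over.mk (U.left.fromSpecResidueField u ≫ U.hom) ⟶ U :=
    Over.homMk (U.left.fromSpecResidueField u) rfl
  have hci : IsClosedImmersion (U.left.fromSpecResidueField u) :=
    isClosed_singleton_iff_isClosedImmersion.mp hu
  have hι : LocallyOfFiniteType ι.left := by
    change LocallyOfFiniteType (U.left.fromSpecResidueField u)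
    infer_instance
  have hle : (@Etale : MorphismProperty Scheme.{u}) ≤ @LocallyOfFiniteType :=
    fun _ _ g (hg : Etale g) => (inferInstance : LocallyOfFiniteType g)
  refine ⟨↥(U.left.residueField u), inferInstance, U.left.fromSpecResidueField u ≫ U.hom,
    (yon S).map ι ≫ φ, ?_, ?_⟩
  · exact locP_comp hle (IsAlgSpace.yon_obj _) (IsAlgSpace.yon_obj _) hF
      ((locP_yon_map_iff hle ι).2 hι) (locP_of_repWith hle (repWith_mono hle hφ))
  · rw [ofPt_yon_map_comp]
    congr 1
    exact Scheme.fromSpecResidueField_apply _ _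

/-- A scheme étale over a field is discrete. -/
theorem discreteTopology_of_lqf_field {k : Type u} [Field k] {W : Scheme.{u}}
    (g : W ⟶ Spec (CommRingCat.of k)) [LocallyQuasiFinite g] : DiscreteTopology ↥W := by
  have h1 : _root_.IsDiscrete (Set.univ : Set ↥W) := by
    have h0 := g.isDiscrete_preimage_singleton (IsLocalRing.closedPoint k)
    convert h0 using 1
    symm
    rw [Set.eq_univ_iff_forall]
    intro x
    exact Subsingleton.elim (α := PrimeSpectrum k) _ _
  have := h1.to_subtype
  exact (Homeomorph.Set.univ ↥W).discreteTopology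

/-- A finite type point is the image of a closed point of some étale chart. -/
theorem exists_closed_chart_of_isFTPoint (hF : IsAlgSpace F) {x : Points F}
    (hx : IsFTPoint F x) :
    ∃ (U : Over S) (φ : (yon S).obj U ⟶ F) (u : ↥U.left), RepWith @Etale φ ∧
      IsClosed ({u} : Set ↥U.left) ∧ Points.ofPt φ u = x := by
  obtain ⟨k, _, str, ξ, hξ, rfl⟩ := hx
  obtain ⟨U, a, hae, has⟩ := hF.atlas
  obtain ⟨W, c, h, hce, hcs, comm⟩ :=
    exists_chart_diagram_surj (IsAlgSpace.yon_obj (Over.mk str)) ξ hae has
  have hl : LocallyOfFiniteType h.left := hξ c a h hce hae comm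
  obtain ⟨c', rfl⟩ := (yon S).map_surjective c
  have hc'e : Etale c'.left := (repWith_yon_map_iff @Etale c').1 hce
  obtain ⟨w, -⟩ := ofPt_surjective_of_repWith hcs
    (Points.schemeHomeo (Over.mk str) (IsLocalRing.closedPoint k))
  have hlqf : LocallyQuasiFinite c'.left := locallyQuasiFinite_of_etale c'.left
  have : DiscreteTopology ↥W.left := discreteTopology_of_lqf_field (k := k) c'.left
  have hwcl : IsClosed ({w} : Set ↥W.left) := isClosed_discrete _
  have hci : IsClosedImmersion (W.left.fromSpecResidueField w) :=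
    isClosed_singleton_iff_isClosedImmersion.mp hwcl
  have : LocallyOfFiniteType (W.left.fromSpecResidueField w ≫ h.left) := inferInstance
  obtain ⟨O, huO, hO⟩ := exists_open_forall_specializes_eq
    (L := ↥(W.left.residueField w)) (W.left.fromSpecResidueField w ≫ h.left)
  have hpt : (W.left.fromSpecResidueField w ≫ h.left)
      (IsLocalRing.closedPoint ↥(W.left.residueField w)) = h.left w := by
    rw [Scheme.Hom.comp_apply]
    congr 1
    exact Scheme.fromSpecResidueField_apply _ _
  rw [hpt] at huO hO
  refine ⟨overOpen U O, (yon S).map (overOpenι U O) ≫ a, ⟨h.left w, huO⟩,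
    repWith_etale_restrict hae O, ?_, ?_⟩
  · have : ({⟨h.left w, huO⟩} : Set ↥O) = (↑) ⁻¹' (closure ({h.left w} : Set ↥U.left)) := by
      ext y
      simp only [Set.mem_singleton_iff, Set.mem_preimage]
      constructor
      · intro hy
        rw [hy]
        exact subset_closure rfl
      · intro hy
        exact Subtype.ext (hO y.1 y.2 (specializes_iff_mem_closure.2 hy))
    change IsClosed ({⟨h.left w, huO⟩} : Set ↥O)
    rw [this]
    exact isClosed_closure.preimage continuous_subtype_val
  · rw [ofPt_restrict]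
    change Points.ofPt a (h.left w) = _
    rw [← ofPt_yon_map_comp, ← comm, ofPt_yon_map_comp]
    congr 1
    exact Subsingleton.elim (α := PrimeSpectrum k) _ _

/-- Every nonempty locally closed subset of the space of points contains a finite type point. -/
theorem exists_isFTPoint_mem (hF : IsAlgSpace F) {T : Set (Points F)} (hT : IsLocallyClosed T)
    (hne : T.Nonempty) : ∃ x ∈ T, IsFTPoint F x := by
  obtain ⟨U, a, hae, has⟩ := hF.atlas
  have hT' : IsLocallyClosed (Points.ofPt a ⁻¹' T) := hT.preimage (Points.continuous_ofPt a)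
  have hne' : (Points.ofPt a ⁻¹' T).Nonempty := by
    obtain ⟨x, hx⟩ := hne
    obtain ⟨u, rfl⟩ := ofPt_surjective_of_repWith has x
    exact ⟨u, hx⟩
  obtain ⟨O, x, hxT, hx⟩ := exists_mem_isClosed_singleton_of_isLocallyClosed hT' hne'
  refine ⟨Points.ofPt a x.1, hxT, ?_⟩
  have := isFTPoint_of_closed_chart hF ((yon S).map (overOpenι U O) ≫ a)
    (repWith_etale_restrict hae O) x hx
  rwa [ofPt_restrict] at this

/-- Finite type points are dense in every closed subset. -/
theorem subset_closure_isFTPoint (hF : IsAlgSpace F) {T : Set (Points F)} (hT : IsClosed T) :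
    T ⊆ closure {x | x ∈ T ∧ IsFTPoint F x} := by
  intro x hx
  rw [mem_closure_iff]
  intro O hO hxO
  obtain ⟨y, ⟨hyO, hyT⟩, hy⟩ := exists_isFTPoint_mem hF
    (hO.isLocallyClosed.inter hT.isLocallyClosed) ⟨x, hxO, hx⟩
  exact ⟨y, hyO, hyT, hy⟩

/-- Under a surjective morphism locally of finite type, finite type points lift. -/
theorem exists_isFTPoint_map_eq {f : F ⟶ G} (hF : IsAlgSpace F) (hG : IsAlgSpace G)
    (hs : IsSurjectiveMor f) {y : Points G}
    (hy : IsFTPoint G y) : ∃ x : Points F, Points.map f x = y ∧ IsFTPoint F x := by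
  obtain ⟨k, _, str, ξ, hξ, rfl⟩ := hy
  have hle : (@Etale : MorphismProperty Scheme.{u}) ≤ @LocallyOfFiniteType :=
    fun _ _ g (hg : Etale g) => (inferInstance : LocallyOfFiniteType g)
  have sq := IsPullback.of_hasPullback f ξ
  have hP : IsAlgSpace (pullback f ξ) :=
    isAlgSpace_pullback hG.diag hF (IsAlgSpace.yon_obj _) sq
  have hfst : LocP @LocallyOfFiniteType (pullback.fst f ξ) :=
    locP_of_isPullback hle sq.flip (IsAlgSpace.yon_obj _) hG hF hξ
  have hsnd : IsSurjectiveMor (pullback.snd f ξ) := isSurjectiveMor_of_isPullback sq hs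
  obtain ⟨z₀, -⟩ := hsnd (Points.schemeHomeo (Over.mk str) (IsLocalRing.closedPoint k))
  obtain ⟨z, -, k', _, str', ζ, hζ, rfl⟩ := exists_isFTPoint_mem hP
    (isOpen_univ.isLocallyClosed) ⟨z₀, trivial⟩
  refine ⟨Points.map (pullback.fst f ξ) (Points.ofPt ζ (IsLocalRing.closedPoint k')), ?_,
    k', inferInstance, str', ζ ≫ pullback.fst f ξ, ?_, ?_⟩
  · rw [← Points.map_comp, pullback.condition, Points.map_comp, Points.map_ofPt]
    obtain ⟨m, hm⟩ := (yon S).map_surjective (ζ ≫ pullback.snd f ξ)
    rw [← hm, Points.map_ofPt, ofPt_yon_map_comp]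
    congr 1
    exact Subsingleton.elim (α := PrimeSpectrum k) _ _
  · exact locP_comp hle (IsAlgSpace.yon_obj _) hP hF hζ hfst
  · exact (Points.map_ofPt ζ _ _).symm

end Groth.Agent.H5.AlgSp
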