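import Groth.Agent.Lib.Helper5.AlgSp.Cover

/-!
# Presentations of algebraic spaces: `h_U ×_F h_U = h_R` gives an etale equivalence relation
and `F` is the coequalizer
-/

set_option autoImplicit false

universe u

open CategoryTheory CategoryTheory.Limits AlgebraicGeometry Opposite

namespace Groth.Agent.H5.AlgSp

open _root_.AlgSp

variable {S : Scheme.{u}}

/-- A locally surjective map of sheaves is the coequalizer of any kernel pair. -/
lemma nonempty_isColimit_cofork_of_isLocallySurjective {F G K : Sp S} (p : G ⟶ F)
    [Sheaf.IsLocallySurjective p] {a b : K ⟶ G} (sq : IsPullback a b p p) :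
    Nonempty (IsColimit (Cofork.ofπ p sq.w)) := by
  have : Epi p := inferInstance
  have : IsRegularEpi p := IsRegularEpiCategory.regularEpiOfEpi p
  have : EffectiveEpi p := (isRegularEpi_iff_effectiveEpi p).1 this
  exact ⟨isColimitCoforkOfEffectiveEpi p sq.cone sq.isLimit⟩

lemma isEqvRel_of_isPullback {F : Sp S} {R U : Over S} (p : (yon S).obj U ⟶ F) (s t : R ⟶ U)
    (sq : IsPullback ((yon S).map t) ((yon S).map s) p p) : IsEqvRel s t := by
  have key : ∀ (T : Over S) (a b : T ⟶ U),
      (∃ r : T ⟶ R, r ≫ t = a ∧ r ≫ s = b) ↔ (yon S).map a ≫ p = (yon S).map b ≫ p := by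
    intro T a b
    constructor
    · rintro ⟨r, rfl, rfl⟩
      rw [Functor.map_comp, Functor.map_comp, Category.assoc, Category.assoc, sq.w]
    · intro h
      obtain ⟨r, hr⟩ := (yon S).map_surjective (sq.lift _ _ h)
      refine ⟨r, ?_, ?_⟩
      · apply (yon S).map_injective
        rw [Functor.map_comp, hr, sq.lift_fst]
      · apply (yon S).map_injective
        rw [Functor.map_comp, hr, sq.lift_snd]
  refine ⟨?_, ?_⟩
  · intro T r r' h1 h2
    apply (yon S).map_injective
    apply sq.hom_ext
    · rw [← Functor.map_comp, ← Functor.map_comp, h1]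
    · rw [← Functor.map_comp, ← Functor.map_comp, h2]
  · intro T
    refine ⟨fun a => (key T a a).2 rfl, fun {a b} h => (key T b a).2 ((key T a b).1 h).symm,
      fun {a b c} h1 h2 => (key T a c).2 (((key T a b).1 h1).trans ((key T b c).1 h2))⟩

theorem isEtaleEqvRel_of_isPullback {F : Sp S} {R U : Over S} (p : (yon S).obj U ⟶ F)
    (he : RepWith @Etale p) (s t : R ⟶ U)
    (sq : IsPullback ((yon S).map t) ((yon S).map s) p p) : IsEtaleEqvRel s t where
  toIsEqvRel := isEqvRel_of_isPullback p s t sq
  etale_left := he.property p _ s sq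
  etale_right := he.property p _ t sq.flip

end Groth.Agent.H5.AlgSp
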