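import Groth.Prelude.Def_AlgSpDec
import Groth.Agent.Lib.Helper5.AlgSp.DecentGen
import Mathlib

/-!
# Decent spaces are Kolmogorov
-/

set_option autoImplicit false

universe u

open CategoryTheory CategoryTheory.Limits AlgebraicGeometry Opposite IsLocalRing

namespace Groth.Agent.H5.AlgSp

open _root_.AlgSp

variable {S : Scheme.{u}} {F : Sp S}

/-- In a fibre of a locally quasi-finite morphism there are no nontrivial specializations. -/
lemma eq_of_specializes_of_locallyQuasiFinite {X Y : Scheme.{u}} (f : X ⟶ Y)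
    [LocallyQuasiFinite f] {r r' : X} (h : r' ⤳ r) (hf : f r' = f r) : r' = r := by
  have hd := f.isDiscrete_preimage_singleton (f r)
  have : DiscreteTopology ↥(f ⁻¹' {f r}) := hd.to_subtype
  have h' : (⟨r', hf⟩ : ↥(f ⁻¹' {f r})) ⤳ ⟨r, rfl⟩ := (subtype_specializes_iff _ _).2 h
  exact congrArg Subtype.val (specializes_iff_eq.1 h')

/-- **If the fibres over `x` of all étale charts by affine schemes are finite, two points of an
étale chart over `x`, one specializing to the other, are equal.** -/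
theorem eq_of_specializes_of_finite_fibres (x : Points F)
    (hx : ∀ (V : Over S) (b : (yon S).obj V ⟶ F), IsAffine V.left → RepWith @Etale b →
      (Points.ofPt b ⁻¹' {x}).Finite)
    {U : Over S} (a : (yon S).obj U ⟶ F) (ha : RepWith @Etale a) (u u' : ↥U.left)
    (hu : Points.ofPt a u = x) (hu' : Points.ofPt a u' = x) (hs : u' ⤳ u) : u = u' := by
  by_contra hne
  obtain ⟨_, ⟨B, hB, rfl⟩, huB, -⟩ :=
    U.left.isBasis_affineOpens.exists_subset_of_mem_open (Set.mem_univ u) isOpen_univ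
  have hu'B : u' ∈ B := hs.mem_open B.2 huB
  have hBaff : IsAffine (overOpen U B).left := hB
  have hae : RepWith @Etale ((yon S).map (overOpenι U B) ≫ a) :=
    repWith_comp_yon_map @Etale _ (inferInstanceAs (Etale (Scheme.Opens.ι (X := U.left) B))) ha
  obtain ⟨a₀, ha₀⟩ : ∃ a₀, a₀ = (yon S).map (overOpenι U B) ≫ a := ⟨_, rfl⟩
  rw [← ha₀] at hae
  have hfin := hx _ a₀ hBaff hae
  have ha₀u : ∀ w : ↥B, Points.ofPt a₀ w = Points.ofPt a w.1 := by
    intro w
    rw [ha₀, ofPt_yon_map_comp]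
    rfl
  -- the étale equivalence relation
  have sqR := hae.rep.isPullback a₀
  obtain ⟨s, hs'⟩ := (yon S).map_surjective (hae.rep.fst a₀)
  have hte : Etale (hae.rep.snd a₀).left := hae.property_snd a₀
  have hse : Etale s.left := by
    have := (RepWith @Etale).of_isPullback sqR.flip hae
    rw [← hs'] at this
    exact (repWith_yon_map_iff @Etale s).1 this
  have hlqf : LocallyQuasiFinite (hae.rep.snd a₀).left := locallyQuasiFinite_of_etale _
  have hst : ∀ r, Points.ofPt a₀ (s.left r) = Points.ofPt a₀ ((hae.rep.snd a₀).left r) := by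
    intro r
    rw [← ofPt_yon_map_comp, ← ofPt_yon_map_comp, hs', sqR.w]
  -- every point of the fibre has a strict generization in the fibre
  have key : ∀ v ∈ Points.ofPt a₀ ⁻¹' {x}, ∃ v' ∈ Points.ofPt a₀ ⁻¹' {x}, v' ⤳ v ∧ v' ≠ v := by
    intro v hv
    have hxu : Points.map a₀ (Points.ofScheme (overOpen U B) (⟨u, huB⟩ : ↥B)) =
        Points.ofPt a₀ v := by
      rw [← Points.ofPt_eq_map_ofScheme, ha₀u, hu]
      exact hv.symm
    obtain ⟨r, hr1, hr2⟩ := exists_point_of_isPullback sqR _ v hxu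
    have hsr : s.left r = (⟨u, huB⟩ : ↥B) := by
      apply (Points.schemeHomeo (overOpen U B)).injective
      change Points.ofScheme _ (s.left r) = Points.ofScheme _ _
      rw [← hr2, ← hs', ← Category.comp_id ((yon S).map s), ofPt_yon_map_comp]
    have hgen : (⟨u', hu'B⟩ : ↥B) ⤳ s.left r := by
      rw [hsr]
      exact (subtype_specializes_iff _ _).2 hs
    obtain ⟨r', hr', hr's⟩ := (Flat.generalizingMap s.left) hgen
    refine ⟨(hae.rep.snd a₀).left r', ?_, ?_, ?_⟩
    · change Points.ofPt a₀ _ = x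
      rw [← hst, hr's, ha₀u, hu']
    · rw [← hr1]
      exact hr'.map (hae.rep.snd a₀).left.continuous
    · intro heq
      have : r' = r := eq_of_specializes_of_locallyQuasiFinite _ hr' (heq.trans hr1.symm)
      apply hne
      have h1 : s.left r' = s.left r := by rw [this]
      rw [hr's, hsr] at h1
      exact (congrArg Subtype.val h1).symm
  -- a minimal element of the finite fibre gives a contradiction
  have hne' : (Points.ofPt a₀ ⁻¹' {x}).Nonempty :=
    ⟨⟨u, huB⟩, by change Points.ofPt a₀ _ = x; rw [ha₀u, hu]⟩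
  have : Finite ↥(Points.ofPt a₀ ⁻¹' {x}) := hfin
  have hwf : WellFounded (fun v w : ↥(Points.ofPt a₀ ⁻¹' {x}) => v.1 ⤳ w.1 ∧ v.1 ≠ w.1) := by
    have : IsTrans ↥(Points.ofPt a₀ ⁻¹' {x}) (fun v w => v.1 ⤳ w.1 ∧ v.1 ≠ w.1) :=
      ⟨fun v w z h1 h2 => ⟨h1.1.trans h2.1, fun h => h1.2 (by
        have h3 : w.1 ⤳ v.1 := by rw [h]; exact h2.1
        exact (h1.1.antisymm h3).eq)⟩⟩
    have : Std.Irrefl (fun v w : ↥(Points.ofPt a₀ ⁻¹' {x}) => v.1 ⤳ w.1 ∧ v.1 ≠ w.1) :=
      ⟨fun v h => h.2 rfl⟩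
    exact Finite.wellFounded_of_trans_of_irrefl _
  obtain ⟨m, -, hm⟩ := hwf.has_min Set.univ ⟨⟨_, hne'.some_mem⟩, Set.mem_univ _⟩
  obtain ⟨v', hv', hv'm, hv'ne⟩ := key m.1 m.2
  exact hm ⟨v', hv'⟩ (Set.mem_univ _) ⟨hv'm, hv'ne⟩

/-- On a decent space the fibres of étale charts by affine schemes are finite. -/
theorem finite_fibre_of_isDecent (hF : IsDecent F) (x : Points F) (V : Over S)
    (b : (yon S).obj V ⟶ F) (hV : IsAffine V.left) (hb : RepWith @Etale b) :
    (Points.ofPt b ⁻¹' {x}).Finite := by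
  obtain ⟨p, rfl, -, hq⟩ := hF x
  have hp : Points.mk p = Points.mk (fpOfHom p.str p.toHom) := by
    rw [toHom_eq_fpHom, fpOfHom_fpHom]
  rw [hp]
  exact finite_fibre_of_quasiCompact_point hb p.str p.toHom hq

/-- **On a decent space, two points of an étale chart with the same image, one specializing to
the other, are equal.** -/
theorem eq_of_specializes_of_isDecent (hF : IsDecent F) {U : Over S} (a : (yon S).obj U ⟶ F)
    (ha : RepWith @Etale a) (u u' : ↥U.left) (he : Points.ofPt a u = Points.ofPt a u')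
    (hs : u' ⤳ u) : u = u' :=
  eq_of_specializes_of_finite_fibres (Points.ofPt a u)
    (fun V b hV hb => finite_fibre_of_isDecent hF _ V b hV hb) a ha u u' rfl he.symm hs

/-- **The space of points of a decent algebraic space is Kolmogorov.** -/
theorem t0Space_points_of_isDecent (hX : IsAlgSpace F) (hF : IsDecent F) :
    T0Space (Points F) := by
  refine ⟨fun x y hxy => ?_⟩
  obtain ⟨h1, h2⟩ := inseparable_iff_specializes_and.1 hxy
  obtain ⟨U, a, hae, has⟩ := hX.atlas
  obtain ⟨u, hu⟩ := ofPt_surjective_of_repWith has y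
  obtain ⟨u₁, hu₁, hu₁x⟩ := exists_specializes_ofPt_of_fieldPt h1 (hF x) a hae u hu
  obtain ⟨u₂, hu₂, hu₂y⟩ := exists_specializes_ofPt_of_fieldPt h2 (hF y) a hae u₁ hu₁x
  have e1 : u = u₂ := eq_of_specializes_of_isDecent hF a hae u u₂ (hu.trans hu₂y.symm)
    (hu₂.trans hu₁)
  have e2 : u₁ = u := (hu₁.antisymm (by rw [e1]; exact hu₂)).eq
  rw [← hu₁x, ← hu, e2]

end Groth.Agent.H5.AlgSp
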