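import Groth.Agent.Lib.Helper5.AlgSp.OpenSub
import Groth.Agent.Lib.Helper5.AlgSp.OpenSubspace
import Groth.Agent.Lib.Helper5.AlgSp.ImmersionTop
import Groth.Agent.Lib.Helper5.Descent.ImmersionDescent
import Groth.Agent.Lib.Helper5.AlgSp.AffineChart
import Groth.Agent.Lib.Helper5.AlgSp.PointsTop
import Mathlib
set_option autoImplicit false
universe u
open CategoryTheory CategoryTheory.Limits AlgebraicGeometry

namespace Groth.Agent.H5.AlgSp
open _root_.AlgSp Groth.Agent.H5.Descent

variable {S : Scheme.{u}} {F G : Sp S}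

/-- **Immersions can be checked on an étale chart of the target covering the source.** -/
theorem repWith_isImmersion_of_chart_covering_source {f : F ⟶ G} {H : Over S}
    {b : (yon S).obj H ⟶ G} (hb : RepWith @Etale b) {P : Sp S} {fst : P ⟶ F}
    {snd : P ⟶ (yon S).obj H} (sq : IsPullback fst snd f b)
    (hfst : Function.Surjective (Points.map fst)) (hsnd : RepWith @IsImmersion snd) :
    RepWith @IsImmersion f := by
  -- the open image of the chart
  set W : Set (Points G) := Set.range (Points.ofPt b) with hW
  have hWo : IsOpen W := (isOpenMap_ofPt_of_etale hb).isOpen_range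
  have hι : RepWith @IsOpenImmersion (openSubι G W) := repWith_openSubι hWo
  -- the chart factors through the open subspace
  obtain ⟨b', hb'⟩ := (factors_openSubι_iff G W b).2 (fun t => ⟨t, rfl⟩)
  have hb'e : RepWith @Etale b' := repWith_of_comp_mono (openSubι G W) (by rw [hb']; exact hb)
  have hb's : RepWith @Surjective b' := by
    apply repWith_surjective_of_points hb'e.rep
    intro z
    have hz : Points.map (openSubι G W) z ∈ W := by
      have : Points.map (openSubι G W) z ∈ Set.range (Points.map (openSubι G W)) := ⟨z, rfl⟩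
      rwa [range_points_map_openSubι] at this
    obtain ⟨t, ht⟩ := hz
    refine ⟨Points.schemeHomeo H t, ?_⟩
    apply points_map_injective_of_mono (openSubι G W)
    rw [← Points.map_comp, hb', ← ht]
    exact (Points.ofPt_eq_map_ofScheme b t).symm
  -- `f` factors through the open subspace
  have hrange : Set.range (Points.map f) ⊆ Set.range (Points.map (openSubι G W)) := by
    rw [range_points_map_openSubι]
    rintro _ ⟨x, rfl⟩
    obtain ⟨z, rfl⟩ := hfst x
    rw [← Points.map_comp, sq.w, Points.map_comp]
    obtain ⟨t, ht⟩ := (Points.schemeHomeo H).surjective (Points.map snd z)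
    rw [← ht]
    exact ⟨t, Points.ofPt_eq_map_ofScheme b t⟩
  obtain ⟨f', hf'⟩ := (factors_through_open_iff (openSubι G W) hι f).2 hrange
  have sq' : IsPullback fst snd f' b' := by
    apply isPullback_of_comp_mono (openSubι G W)
    rw [hf', hb']
    exact sq
  have h1 : RepWith @IsImmersion f' :=
    repWith_isImmersion_of_baseChange (repWith_mono etale_le_flat hb'e)
      (repWith_mono etale_le_lfp hb'e) hb's sq' hsnd
  rw [← hf']
  exact (RepWith @IsImmersion).comp_mem _ _ h1
    (repWith_mono (fun _ _ g hg => by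
      have : IsOpenImmersion g := hg
      exact (inferInstance : IsImmersion g)) hι)


/-- An affine étale chart covering a given compact set of points. -/
theorem exists_affine_chart_covering (hG : IsAlgSpace G) {K : Set (Points G)} (hK : IsCompact K) :
    ∃ (U₀ : Over S) (p₀ : (yon S).obj U₀ ⟶ G), IsAffine U₀.left ∧ RepWith @Etale p₀ ∧
      K ⊆ Set.range (Points.ofPt p₀) := by
  classical
  obtain ⟨U, p, hpe, hps⟩ := hG.atlas
  have hopen := isOpenMap_ofPt_of_etale hpe
  have hsurj := ofPt_surjective_of_repWith hps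
  -- affine open neighbourhoods
  have hb := U.left.isBasis_affineOpens
  rw [TopologicalSpace.Opens.isBasis_iff_nbhd] at hb
  choose A hA hxA _ using fun u : U.left => hb (U := ⊤) (x := u) trivial
  obtain ⟨t, ht⟩ := hK.elim_finite_subcover (fun u : U.left => Points.ofPt p '' (A u : Set U.left))
    (fun u => hopen _ (A u).2) (fun x _ => by
      obtain ⟨u, rfl⟩ := hsurj x
      exact Set.mem_iUnion.mpr ⟨u, u, hxA u, rfl⟩)
  let V : U.left.Opens := ⨆ u ∈ t, A u
  have hVc : IsCompact (V : Set U.left) := by
    simp only [V, TopologicalSpace.Opens.coe_iSup]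
    exact t.isCompact_biUnion fun u _ => (hA u).isCompact
  have : CompactSpace ↥(overOpen U V).left := isCompact_iff_compactSpace.mp hVc
  obtain ⟨U₀, q, hU₀, hqe, hqs⟩ := exists_affine_chart_of_compact (overOpen U V)
  refine ⟨U₀, (yon S).map q ≫ (yon S).map (overOpenι U V) ≫ p, hU₀,
    repWith_comp_yon_map @Etale q hqe (repWith_etale_restrict hpe V), ?_⟩
  intro x hx
  obtain ⟨u, hu, hxu⟩ := Set.mem_iUnion₂.mp (ht hx)
  obtain ⟨a, ha, rfl⟩ := hxu
  have haV : a ∈ V := by
    simp only [V]
    exact TopologicalSpace.Opens.mem_iSup.mpr ⟨u, TopologicalSpace.Opens.mem_iSup.mpr ⟨hu, ha⟩⟩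
  obtain ⟨a'', ha''⟩ := hqs.surj (⟨a, haV⟩ : ↥V)
  refine ⟨a'', ?_⟩
  rw [ofPt_yon_map_comp, ha'', ofPt_restrict]

end Groth.Agent.H5.AlgSp
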