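import Groth.Agent.Lib.Helper5.AlgSp.FTPoints
set_option autoImplicit false
universe u
open CategoryTheory CategoryTheory.Limits AlgebraicGeometry MorphismProperty Topology
namespace Groth.Agent.H5.AlgSp
open _root_.AlgSp Groth.Agent.H5.EtSrc

/-- For an étale morphism `p : W₂ ⟶ W` with Jacobson source, a locally closed point of `W` has no
proper specialization in the image of `p`. -/
theorem eq_of_specializes_of_etale_jacobson {W₂ W : Scheme.{u}} (p : W₂ ⟶ W) [Etale p]
    [JacobsonSpace ↥W₂] {w : ↥W} (hw : IsLocallyClosed ({w} : Set ↥W)) {w' : ↥W}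
    (hw' : w' ∈ Set.range p) (hs : w ⤳ w') : w' = w := by
  obtain ⟨a', rfl⟩ := hw'
  obtain ⟨a, haa', hpa⟩ := (Flat.generalizingMap p) hs
  have hlqf : LocallyQuasiFinite p := locallyQuasiFinite_of_etale p
  have hd : _root_.IsDiscrete (p ⁻¹' {w}) := p.isDiscrete_preimage_singleton w
  have hlc : IsLocallyClosed (p ⁻¹' {w}) := hw.preimage p.continuous
  have hamem : a ∈ p ⁻¹' {w} := hpa
  have halc : IsLocallyClosed ({a} : Set ↥W₂) := by
    have := hd.to_subtype
    have hopen : IsOpen ({⟨a, hamem⟩} : Set (p ⁻¹' {w})) := isOpen_discrete _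
    obtain ⟨O, hO, hOeq⟩ := isOpen_induced_iff.1 hopen
    have : ({a} : Set ↥W₂) = O ∩ p ⁻¹' {w} := by
      ext r
      constructor
      · rintro rfl
        refine ⟨?_, hamem⟩
        have : (⟨r, hamem⟩ : p ⁻¹' {w}) ∈ Subtype.val ⁻¹' O := by rw [hOeq]; rfl
        exact this
      · rintro ⟨hrO, hrt⟩
        have : (⟨r, hrt⟩ : p ⁻¹' {w}) ∈ Subtype.val ⁻¹' O := hrO
        rw [hOeq] at this
        exact congrArg Subtype.val this
    rw [this]
    exact hO.isLocallyClosed.inter hlc
  have hacl : IsClosed ({a} : Set ↥W₂) := isClosed_singleton_of_isLocallyClosed_singleton halc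
  have : a' = a := by
    have := haa'.mem_closed hacl rfl
    exact this
  rw [this, hpa]

/-- Being Jacobson descends along étale surjective morphisms. -/
theorem jacobsonSpace_of_etale_surjective {W₂ W : Scheme.{u}} (p : W₂ ⟶ W) [Etale p]
    [Surjective p] [JacobsonSpace ↥W₂] : JacobsonSpace ↥W := by
  rw [jacobsonSpace_iff_locallyClosed]
  intro Z hne hZ
  obtain ⟨O, x, hxZ, hx⟩ := exists_mem_isClosed_singleton_of_isLocallyClosed hZ hne
  refine ⟨x.1, hxZ, ?_⟩
  have hlc : IsLocallyClosed ({x.1} : Set ↥W) := by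
    have hoe : IsOpenEmbedding (Subtype.val : ↥O → ↥W) := O.2.isOpenEmbedding_subtypeVal
    have : ({x.1} : Set ↥W) = Subtype.val '' ({x} : Set ↥O) := by
      rw [Set.image_singleton]
    rw [this]
    exact (hx.isLocallyClosed).image hoe.isInducing hoe.isOpen_range.isLocallyClosed
  change IsClosed ({x.1} : Set ↥W)
  rw [← closure_eq_iff_isClosed]
  apply Set.Subset.antisymm _ subset_closure
  intro w' hw'
  exact eq_of_specializes_of_etale_jacobson p hlc (p.surjective w')
    (specializes_iff_mem_closure.2 hw')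

variable {S : Scheme.{u}} {F G H : Sp S}

/-- A scheme locally of finite type over a Jacobson sheaf is Jacobson. -/
theorem jacobsonSpace_of_locP_lft {W : Over S} (g : (yon S).obj W ⟶ F)
    (hg : LocP @LocallyOfFiniteType g) (hF : EtaleLocally (fun U => JacobsonSpace ↥U) F) :
    JacobsonSpace ↥W.left := by
  obtain ⟨V, b, hbe, hbs, hV⟩ := hF
  have : JacobsonSpace ↥V.left := hV
  have sq := hbe.rep.isPullback' g
  have he : Etale (hbe.rep.snd g).left := hbe.property_snd g
  have hs : Surjective (hbe.rep.snd g).left := hbs.property_snd g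
  have hl : LocallyOfFiniteType (hbe.rep.fst' g).left :=
    hg ((yon S).map (hbe.rep.snd g)) b (hbe.rep.fst' g)
      ((repWith_yon_map_iff @Etale _).2 he) hbe sq.w.symm
  have : JacobsonSpace ↥(hbe.rep.pullback g).left :=
    LocallyOfFiniteType.jacobsonSpace (hbe.rep.fst' g).left
  exact jacobsonSpace_of_etale_surjective (hbe.rep.snd g).left

/-- Over a Jacobson algebraic space, a finite type point in the image of a scheme locally of finite
type is the image of a closed point. -/
theorem exists_isClosed_singleton_ofPt_eq (hF : EtaleLocally (fun U => JacobsonSpace ↥U) F)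
    {x : Points F} (hx : HasAt (fun U u => IsClosed ({u} : Set ↥U)) F x) {W : Over S}
    (g : (yon S).obj W ⟶ F) (hg : LocP @LocallyOfFiniteType g)
    (hxW : x ∈ Set.range (Points.ofPt g)) :
    ∃ w : ↥W.left, IsClosed ({w} : Set ↥W.left) ∧ Points.ofPt g w = x := by
  obtain ⟨U, a, u, hae, rfl, hu⟩ := hx
  obtain ⟨w₀, hw₀⟩ := hxW
  have hW : JacobsonSpace ↥W.left := jacobsonSpace_of_locP_lft g hg hF
  have sq := hae.rep.isPullback' g
  have he : Etale (hae.rep.snd g).left := hae.property_snd g
  have : LocallyOfFiniteType (hae.rep.snd g).left := inferInstance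
  have hW' : JacobsonSpace ↥(hae.rep.pullback g).left :=
    LocallyOfFiniteType.jacobsonSpace (hae.rep.snd g).left
  have h12 : Points.map a (Points.schemeHomeo U u) = Points.ofPt g w₀ := by
    rw [hw₀, Points.ofPt_eq_map_ofScheme]
    rfl
  obtain ⟨r, hr1, hr2⟩ := exists_point_of_isPullback sq (Points.schemeHomeo U u) w₀ h12
  have hr' : (hae.rep.fst' g).left r = u := by
    apply (Points.schemeHomeo U).injective
    rw [← hr2]
    have := ofPt_yon_map_comp (hae.rep.fst' g) (𝟙 ((yon S).obj U)) r
    rw [Category.comp_id] at this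
    rw [this]
    rfl
  have hT : IsClosed ((hae.rep.fst' g).left ⁻¹' {u}) := hu.preimage (hae.rep.fst' g).left.continuous
  obtain ⟨r₁, hr₁T, hr₁c⟩ := nonempty_inter_closedPoints (Z := (hae.rep.fst' g).left ⁻¹' {u})
    ⟨r, hr'⟩ hT.isLocallyClosed
  refine ⟨(hae.rep.snd g).left r₁,
    (hae.rep.snd g).left.closePoints_subset_preimage_closedPoints hr₁c, ?_⟩
  rw [← ofPt_yon_map_comp, ← sq.w, ofPt_yon_map_comp]
  congr 1

end Groth.Agent.H5.AlgSp
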