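import Groth.Prelude.Def_AlgSp4
import Groth.Agent.Lib.Helper5.AlgSp.QCompact
import Groth.Agent.Lib.Helper5.AlgSp.PointsTop
import Mathlib

/-!
# Generalizations lift along étale charts of quasi-separated algebraic spaces
-/

set_option autoImplicit false

universe u

open CategoryTheory CategoryTheory.Limits AlgebraicGeometry Opposite

namespace Groth.Agent.H5.AlgSp

open _root_.AlgSp

variable {S : Scheme.{u}}

theorem isQuasiCompactSp_of_iso {F F' : Sp S} (e : F ≅ F') (h : IsQuasiCompactSp F) :
    IsQuasiCompactSp F' := by
  obtain ⟨U, a, hae, has, hU⟩ := h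
  exact ⟨U, a ≫ e.hom, MorphismProperty.RespectsIso.postcomp _ _ _ hae,
    MorphismProperty.RespectsIso.postcomp _ _ _ has, hU⟩

/-- A fibre product of affine schemes over an affine scheme is a quasi-compact sheaf. -/
lemma isQuasiCompactSp_pullback_yon_map {U U' Z : Over S} [IsAffine U.left] [IsAffine U'.left]
    [IsAffine Z.left] (g : U ⟶ Z) (g' : U' ⟶ Z) :
    IsQuasiCompactSp (pullback ((yon S).map g) ((yon S).map g')) := by
  have sqO := IsPullback.of_hasPullback g g'
  have sqY := sqO.map (yon S)
  have sqS : IsPullback (pullback.fst g g').left (pullback.snd g g').left g.left g'.left :=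
    sqO.map (Over.forget S)
  refine isQuasiCompactSp_of_iso sqY.isoPullback ((isQuasiCompactSp_yon_iff _).2 ?_)
  have h1 : IsAffine (pullback g.left g'.left) := inferInstance
  have : IsAffine (pullback g g').left := IsAffine.of_isIso sqS.isoPullback.hom
  infer_instance

/-- For an étale chart by an affine scheme of a sheaf quasi-separated over an affine scheme,
the fibre product of the chart with itself is a quasi-compact scheme. -/
theorem compactSpace_pullback_of_isQuasiSeparatedMor {P : Sp S} {U Z : Over S}
    [IsAffine U.left] [IsAffine Z.left] (a : (yon S).obj U ⟶ P) (ha : Representable a)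
    (q : P ⟶ (yon S).obj Z) (hq : IsQuasiSeparatedMor q) :
    CompactSpace (ha.pullback a).left := by
  obtain ⟨g, hg⟩ := (yon S).map_surjective (a ≫ q)
  have key : ∀ b : (yon S).obj U ⟶ (yon S).obj Z, (yon S).map g = b →
      IsQuasiCompactSp (pullback b b) := by
    rintro _ rfl
    exact isQuasiCompactSp_pullback_yon_map g g
  have h1 : IsQuasiCompactSp (pullback (a ≫ q) (a ≫ q)) := key _ hg
  have h2 : IsQuasiCompactSp (pullback a a) :=
    isQuasiCompactSp_of_isPullback_repWith hq h1 (pullback_map_diagonal_isPullback a a q)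
  have h3 := isQuasiCompactSp_of_iso (ha.isPullback a).isoPullback.symm h2
  exact (isQuasiCompactSp_yon_iff _).1 h3

/-- **Generalizations lift along étale charts by affine schemes of sheaves which are
quasi-separated over an affine scheme.** -/
theorem exists_specializes_ofPt_eq {P : Sp S} {U Z : Over S} [IsAffine U.left]
    [IsAffine Z.left] (a : (yon S).obj U ⟶ P) (ha : RepWith @Etale a)
    (q : P ⟶ (yon S).obj Z) (hq : IsQuasiSeparatedMor q) (x : Points P) (u₀ : ↥U.left)
    (h : x ⤳ Points.ofPt a u₀) : ∃ u : ↥U.left, u ⤳ u₀ ∧ Points.ofPt a u = x := by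
  have hR : CompactSpace (ha.rep.pullback a).left :=
    compactSpace_pullback_of_isQuasiSeparatedMor a ha.rep q hq
  have sqR := ha.rep.isPullback a
  obtain ⟨s, hs⟩ := (yon S).map_surjective (ha.rep.fst a)
  have het : Etale (ha.rep.snd a).left := ha.property_snd a
  have hlqf : LocallyQuasiFinite (ha.rep.snd a).left := locallyQuasiFinite_of_etale _
  have hqc : QuasiCompact (ha.rep.snd a).left := inferInstance
  -- the fibre of the chart over `x` is finite
  have hfin : (Points.ofPt a ⁻¹' {x}).Finite := by
    by_cases hne : (Points.ofPt a ⁻¹' {x}).Nonempty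
    · obtain ⟨u₁, hu₁⟩ := hne
      refine (((ha.rep.snd a).left.finite_preimage_singleton u₁).image s.left).subset ?_
      intro u hu
      have hxu : Points.map a (Points.ofScheme U u) = Points.ofPt a u₁ := by
        rw [← Points.ofPt_eq_map_ofScheme]
        exact hu.trans hu₁.symm
      obtain ⟨v, hv1, hv2⟩ := exists_point_of_isPullback sqR (Points.ofScheme U u) u₁ hxu
      refine ⟨v, hv1, ?_⟩
      apply (Points.schemeHomeo U).injective
      change Points.ofScheme U (s.left v) = Points.ofScheme U u
      rw [← hv2, ← hs, ← Category.comp_id ((yon S).map s), ofPt_yon_map_comp]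
    · rw [Set.not_nonempty_iff_eq_empty] at hne
      rw [hne]
      exact Set.finite_empty
  have hmem : u₀ ∈ closure (Points.ofPt a ⁻¹' {x}) := by
    rw [← (isOpenMap_ofPt_of_etale ha).preimage_closure_eq_closure_preimage
      (Points.continuous_ofPt a)]
    exact specializes_iff_mem_closure.1 h
  rw [← Set.biUnion_of_singleton (Points.ofPt a ⁻¹' {x}), hfin.closure_biUnion] at hmem
  obtain ⟨u, hu, hu₀⟩ := Set.mem_iUnion₂.1 hmem
  exact ⟨u, specializes_iff_mem_closure.2 hu₀, hu⟩

end Groth.Agent.H5.AlgSp
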