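import Groth.Prelude.Def_AlgSp4
import Groth.Prelude.Def_Flat
import Groth.Agent.Lib.Helper5.AlgSp.UnivTop
import Groth.Agent.Lib.Helper5.AlgSp.UnivInj
import Groth.Agent.Lib.Helper1.UnivHomeo
import Mathlib

/-!
# Universal homeomorphisms of algebraic spaces in the representable sense
-/

set_option autoImplicit false

universe u

open CategoryTheory CategoryTheory.Limits AlgebraicGeometry Opposite

namespace Groth.Agent.H5.AlgSp

open _root_.AlgSp

variable {S : Scheme.{u}} {F G : Sp S}

lemma surjective_points_map_yon_map_iff {T T' : Over S} (φ : T ⟶ T') :
    Function.Surjective (Points.map ((yon S).map φ)) ↔ Function.Surjective φ.left := by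
  rw [Points.map_yon_map_eq]
  constructor
  · intro h t'
    obtain ⟨x, hx⟩ := h (Points.schemeHomeo T' t')
    refine ⟨(Points.schemeHomeo T).symm x, ?_⟩
    apply (Points.schemeHomeo T').injective
    simpa using hx
  · intro h
    exact ((Points.schemeHomeo T').surjective.comp h).comp (Points.schemeHomeo T).symm.surjective

lemma isHomeomorph_points_map_yon_map_iff {T T' : Over S} (φ : T ⟶ T') :
    IsHomeomorph (Points.map ((yon S).map φ)) ↔ IsHomeomorph φ.left :=
  ⟨fun h => ⟨φ.left.continuous, (isOpenMap_points_map_yon_map_iff φ).1 h.isOpenMap,
      (injective_points_map_yon_map_iff φ).1 h.injective,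
      (surjective_points_map_yon_map_iff φ).1 h.surjective⟩,
    fun h => ⟨Points.continuous_map _, (isOpenMap_points_map_yon_map_iff φ).2 h.isOpenMap,
      (injective_points_map_yon_map_iff φ).2 h.injective,
      (surjective_points_map_yon_map_iff φ).2 h.surjective⟩⟩

/-- **For a representable morphism, being a universal homeomorphism in the representable sense
is the same as inducing homeomorphisms on points after every base change.** -/
theorem repWith_isUnivHomeo_iff {f : F ⟶ G} (hf : Representable f) :
    RepWith FlatMor.IsUnivHomeo f ↔ IsUnivHomeoMor f := by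
  constructor
  · intro h
    refine univSp_of_repWith (P := FlatMor.IsUnivHomeo)
      (Q := fun _ _ f => IsHomeomorph (Points.map f)) (fun f hf => ?_) h
    rw [Groth.Agent.H1.isUnivHomeo_eq] at hf
    refine ⟨Points.continuous_map _, ?_, ?_, ?_⟩
    · exact isOpenMap_points_map_of_repWith (P := @UniversallyOpen)
        (fun φ hφ => by
          have : UniversallyOpen φ := hφ
          exact φ.isOpenMap) (repWith_mono (fun _ _ g hg => hg.1.2) hf)
    · exact injective_points_map_of_repWith (P := @UniversallyInjective)
        (fun φ hφ => by
          have : UniversallyInjective φ := hφ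
          exact φ.injective) (repWith_mono (fun _ _ g hg => hg.1.1) hf)
    · exact points_map_surjective_of_repWith (repWith_mono (fun _ _ g hg => hg.2) hf)
  · intro h
    exact repWith_universally_of_univSp (P₀ := topologically (fun f => IsHomeomorph f))
      (Q := fun _ _ f => IsHomeomorph (Points.map f))
      (fun φ hφ => (isHomeomorph_points_map_yon_map_iff φ).1 hφ) hf h

end Groth.Agent.H5.AlgSp
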