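import Groth.Prelude.Def_AlgSpGpd
import Groth.Agent.Lib.Helper5.Descent.SepLQFLocal
import Groth.Agent.Lib.Helper5.AlgSp.Presentation
import Groth.Agent.Lib.Helper5.AlgSp.LocalBase
import Groth.Agent.Lib.Helper8.AlgSp.Quot
import Mathlib

/-!
# Quotients by étale equivalence relations are algebraic spaces
-/

set_option autoImplicit false

universe u

open CategoryTheory CategoryTheory.Limits AlgebraicGeometry Opposite

namespace Groth.Agent.H5.AlgSp

open _root_.AlgSp Groth.Agent.H5.Descent

variable {S : Scheme.{u}}

section Chart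

variable {F : Sp S} {R U : Over S} (p : (yon S).obj U ⟶ F) (s t : R ⟶ U)

lemma mono_prodLift_of_isEqvRel (hE : IsEqvRel s t) : Mono (prod.lift t s) := by
  refine ⟨fun {Z} φ ψ h => hE.injective Z φ ψ ?_ ?_⟩
  · have := congrArg (· ≫ prod.fst) h
    simpa only [Category.assoc, prod.lift_fst] using this
  · have := congrArg (· ≫ prod.snd) h
    simpa only [Category.assoc, prod.lift_snd] using this

/-- A sheaf with a locally surjective chart `h_U ⟶ F` whose self fibre product is a scheme `R`
locally of finite type over `U` has representable diagonal. -/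
theorem representable_diag_of_chart [Sheaf.IsLocallySurjective p]
    (sq : IsPullback ((yon S).map t) ((yon S).map s) p p) (ht : LocallyOfFiniteType t.left) :
    Representable (Limits.diag F) := by
  have hE := isEqvRel_of_isPullback p s t sq
  have hmono : Mono (prod.lift t s) := mono_prodLift_of_isEqvRel s t hE
  have hmonoL : Mono (prod.lift t s).left := inferInstance
  have hfst : (prod.lift t s).left ≫ (prod.fst : U ⨯ U ⟶ U).left = t.left := by
    rw [← Over.comp_left, prod.lift_fst]
  have hLFT : LocallyOfFiniteType (prod.lift t s).left := by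
    have : LocallyOfFiniteType ((prod.lift t s).left ≫ (prod.fst : U ⨯ U ⟶ U).left) := by
      rw [hfst]; exact ht
    exact locallyOfFiniteType_of_comp _ (prod.fst : U ⨯ U ⟶ U).left
  have hSep : IsSeparated (prod.lift t s).left := inferInstance
  have hLQF : LocallyQuasiFinite (prod.lift t s).left := inferInstance
  have sqd := isPullback_diag_prodChart sq
  exact representable_of_locallySurjective_baseChange_sepLQF sqd
    ((repWith_yon_map_iff @IsSeparated _).2 hSep)
    ((repWith_yon_map_iff @LocallyQuasiFinite _).2 hLQF)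
    ((repWith_yon_map_iff @LocallyOfFiniteType _).2 hLFT)

/-- **Étale charts give presentations.** -/
theorem isPresentation_of_isPullback [Sheaf.IsLocallySurjective p]
    (sq : IsPullback ((yon S).map t) ((yon S).map s) p p) (hs : Etale s.left)
    (ht : Etale t.left) : IsPresentation s t p := by
  have hdiag := representable_diag_of_chart p s t sq inferInstance
  have hrep : Representable p := Functor.relativelyRepresentable.of_diag hdiag p
  have hE := isEqvRel_of_isPullback p s t sq
  refine ⟨⟨hE, hs, ht⟩, ?_, ?_, sq⟩
  · exact repWith_of_locallySurjective_baseChange p hrep p _ _ sq @Etale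
      ((repWith_yon_map_iff @Etale _).2 hs)
  · refine repWith_of_locallySurjective_baseChange p hrep p _ _ sq @Surjective
      ((repWith_yon_map_iff @Surjective _).2 ?_)
    obtain ⟨r, -, hr⟩ := (hE.equivalence U).refl (𝟙 U)
    have : r.left ≫ s.left = 𝟙 _ := by rw [← Over.comp_left, hr]; rfl
    refine ⟨fun x => ⟨r.left x, ?_⟩⟩
    rw [← Scheme.Hom.comp_apply, this]
    rfl

theorem isAlgSpace_of_isPullback [Sheaf.IsLocallySurjective p]
    (sq : IsPullback ((yon S).map t) ((yon S).map s) p p) (hs : Etale s.left)
    (ht : Etale t.left) : IsAlgSpace F := by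
  have hP := isPresentation_of_isPullback p s t sq hs ht
  exact ⟨representable_diag_of_chart p s t sq inferInstance, U, p, hP.etale, hP.surjective⟩

end Chart

section Quot

variable {R U : Over S} (s t : R ⟶ U)

lemma isPreEqvRelSp_of_isEqvRel (h : IsEqvRel s t) :
    IsPreEqvRelSp ((yon S).map s) ((yon S).map t) := by
  intro T
  have key : ∀ a b : T ⟶ U, (∃ r : (yon S).obj T ⟶ (yon S).obj R,
      r ≫ (yon S).map t = (yon S).map a ∧ r ≫ (yon S).map s = (yon S).map b) ↔
      ∃ r : T ⟶ R, r ≫ t = a ∧ r ≫ s = b := by
    intro a b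
    constructor
    · rintro ⟨r, h1, h2⟩
      obtain ⟨r, rfl⟩ := (yon S).map_surjective r
      rw [← Functor.map_comp] at h1 h2
      exact ⟨r, (yon S).map_injective h1, (yon S).map_injective h2⟩
    · rintro ⟨r, rfl, rfl⟩
      exact ⟨(yon S).map r, by rw [Functor.map_comp], by rw [Functor.map_comp]⟩
  have hE := h.equivalence T
  refine ⟨fun a => ?_, fun {a b} hab => ?_, fun {a b c} hab hbc => ?_⟩
  · obtain ⟨a, rfl⟩ := (yon S).map_surjective a
    exact (key a a).2 (hE.refl a)
  · obtain ⟨a, rfl⟩ := (yon S).map_surjective a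
    obtain ⟨b, rfl⟩ := (yon S).map_surjective b
    exact (key b a).2 (hE.symm ((key a b).1 hab))
  · obtain ⟨a, rfl⟩ := (yon S).map_surjective a
    obtain ⟨b, rfl⟩ := (yon S).map_surjective b
    obtain ⟨c, rfl⟩ := (yon S).map_surjective c
    exact (key a c).2 (hE.trans ((key a b).1 hab) ((key b c).1 hbc))

/-- Effectivity: for an equivalence relation `R ⇉ U` of schemes, `h_R = h_U ×_{U/R} h_U`. -/
theorem isPullback_quotSpπ (h : IsEqvRel s t) :
    IsPullback ((yon S).map t) ((yon S).map s) (quotSpπ ((yon S).map s) ((yon S).map t))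
      (quotSpπ ((yon S).map s) ((yon S).map t)) := by
  set π := quotSpπ ((yon S).map s) ((yon S).map t) with hπ
  have w : (yon S).map t ≫ π = (yon S).map s ≫ π := (quotSp_condition _ _).symm
  have hepi := Groth.Agent.H8.AlgSp.epi_lift_of_isPreEqvRelSp _ _
    (isPreEqvRelSp_of_isEqvRel s t h)
  have hmono : Mono (pullback.lift ((yon S).map t) ((yon S).map s) w) := by
    apply mono_of_yon
    intro T x y hxy
    obtain ⟨x, rfl⟩ := (yon S).map_surjective x
    obtain ⟨y, rfl⟩ := (yon S).map_surjective y
    have h1 := congrArg (· ≫ pullback.fst π π) hxy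
    have h2 := congrArg (· ≫ pullback.snd π π) hxy
    simp only [Category.assoc, pullback.lift_fst, pullback.lift_snd, ← Functor.map_comp] at h1 h2
    rw [h.injective T x y ((yon S).map_injective h1) ((yon S).map_injective h2)]
  have hiso : IsIso (pullback.lift ((yon S).map t) ((yon S).map s) w) :=
    isIso_of_mono_of_epi _
  exact IsPullback.of_iso_pullback ⟨w⟩ (asIso (pullback.lift ((yon S).map t) ((yon S).map s) w))
    (pullback.lift_fst _ _ _) (pullback.lift_snd _ _ _)

instance : Sheaf.IsLocallySurjective (quotSpπ ((yon S).map s) ((yon S).map t)) :=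
  Groth.Agent.H8.AlgSp.isLocallySurjective_of_epi _

/-- **The quotient of an étale equivalence relation is an algebraic space**, sheaf form. -/
theorem isPresentation_quotSpπ (h : IsEtaleEqvRel s t) :
    IsPresentation s t (quotSpπ ((yon S).map s) ((yon S).map t)) :=
  isPresentation_of_isPullback _ s t (isPullback_quotSpπ s t h.toIsEqvRel) h.etale_left
    h.etale_right

theorem isAlgSpace_quotSp (h : IsEtaleEqvRel s t) :
    IsAlgSpace (quotSp ((yon S).map s) ((yon S).map t)) :=
  isAlgSpace_of_isPullback _ s t (isPullback_quotSpπ s t h.toIsEqvRel) h.etale_left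
    h.etale_right

end Quot

end Groth.Agent.H5.AlgSp
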