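import Groth.Agent.Lib.Helper5.AlgSp.RepBySp
import Groth.Agent.Lib.Helper5.AlgSp.Points
import Groth.Agent.Lib.Helper5.AlgSp.Cover
import Groth.Prelude.Def_AlgSp4
import Mathlib

/-!
# Flat surjective finitely presented maps representable by algebraic spaces are covers
-/

set_option autoImplicit false

universe u

open CategoryTheory CategoryTheory.Limits AlgebraicGeometry Opposite

namespace Groth.Agent.H5.AlgSp

open _root_.AlgSp

variable {S : Scheme.{u}}

/-- A map of sheaves along which every scheme-valued point lifts fppf locally is locally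
surjective. -/
theorem isLocallySurjective_of_exists_fppf_lift {F G : Sp S} (a : F ⟶ G)
    (h : ∀ (T : Over S) (ξ : (yon S).obj T ⟶ G), ∃ (V : Over S) (c : V ⟶ T)
      (l : (yon S).obj V ⟶ F), Flat c.left ∧ LocallyOfFinitePresentation c.left ∧
        Surjective c.left ∧ l ≫ a = (yon S).map c ≫ ξ) :
    Sheaf.IsLocallySurjective a := by
  refine ⟨fun {T} s => ?_⟩
  let ξ : (yon S).obj T ⟶ G := (yEquiv G T).symm s
  obtain ⟨V, c, l, h1, h2, h3, hl⟩ := h T ξ
  apply mem_J_of_fppf c h1 h2 h3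
  refine ⟨yEquiv F _ l, ?_⟩
  have := congrArg (yEquiv G _) hl
  rw [yEquiv_comp] at this
  rw [this]
  change (J S).uliftYonedaEquiv ((yon S).map c ≫ ξ) = _
  rw [← (J S).uliftYonedaEquiv_naturality]
  simp [ξ]

/-- The fppf cover of a scheme `U` underlying an algebraic space flat, surjective and locally of
finite presentation over `U`. -/
theorem exists_fppf_chart {F' : Sp S} {U : Over S} (hF' : IsAlgSpace F')
    (snd : F' ⟶ (yon S).obj U) (h1 : IsSurjectiveMor snd) (h2 : LocP @Flat snd)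
    (h3 : LocP @LocallyOfFinitePresentation snd) :
    ∃ (V : Over S) (c : V ⟶ U) (q : (yon S).obj V ⟶ F'), Flat c.left ∧
      LocallyOfFinitePresentation c.left ∧ Surjective c.left ∧ q ≫ snd = (yon S).map c ∧
      RepWith @Etale q ∧ RepWith @Surjective q := by
  obtain ⟨V, q, hqe, hqs⟩ := hF'.atlas
  obtain ⟨c, hc⟩ := (yon S).map_surjective (q ≫ snd)
  have hid : RepWith @Etale (𝟙 ((yon S).obj U)) := repWith_id @Etale U
  have hcomm : q ≫ snd = (yon S).map c ≫ 𝟙 _ := by rw [Category.comp_id, hc]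
  refine ⟨V, c, q, h2 q (𝟙 _) c hqe hid hcomm, h3 q (𝟙 _) c hqe hid hcomm, ?_, hc.symm, hqe, hqs⟩
  have hsurj : Function.Surjective (Points.map ((yon S).map c)) := by
    rw [hc]
    intro y
    obtain ⟨x, hx⟩ := h1 y
    obtain ⟨z, hz⟩ := points_map_surjective_of_repWith hqs x
    exact ⟨z, by rw [Points.map_comp, hz, hx]⟩
  exact (repWith_yon_map_iff @Surjective c).1
    (repWith_surjective_of_points (representable_of_yon _) hsurj)

/-- S10096 -/
theorem epi_of_repBySpWith_fppf {F G : Sp S} (a : F ⟶ G)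
    (ha : RepBySpWith (IsSurjectiveMor ⊓ LocP @Flat ⊓ LocP @LocallyOfFinitePresentation) a.hom) :
    Sheaf.IsLocallySurjective a := by
  rw [repBySpWith_hom_iff] at ha
  apply isLocallySurjective_of_exists_fppf_lift
  intro T ξ
  obtain ⟨hF', ⟨h1, h2⟩, h3⟩ := ha ξ _ _ (IsPullback.of_hasPullback a ξ)
  obtain ⟨V, c, q, hc1, hc2, hc3, hq, -, -⟩ := exists_fppf_chart hF' _ h1 h2 h3
  refine ⟨V, c, q ≫ pullback.fst a ξ, hc1, hc2, hc3, ?_⟩
  rw [Category.assoc, pullback.condition, ← Category.assoc, hq]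

end Groth.Agent.H5.AlgSp
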