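import Groth.Prelude.Def_AlgSpSub
import Groth.Agent.Lib.Helper5.AlgSp.SchDenseQC
import Groth.Agent.Lib.Helper5.AlgSp.RepBySpCover
import Groth.Agent.Lib.Helper5.AlgSp.LocPCalc
import Groth.Agent.Lib.Helper5.AlgSp.FibreProduct
import Mathlib

/-!
# Morphisms determined on scheme theoretically dense opens
-/

set_option autoImplicit false

universe u

open CategoryTheory CategoryTheory.Limits AlgebraicGeometry Opposite

namespace Groth.Agent.H5.AlgSp

open _root_.AlgSp Groth.Agent.H5.Descent

variable {S : Scheme.{u}}

/-- Two morphisms to a sheaf separated over `B` which agree on an open whose scheme theoretic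
closure is everything are equal. -/
theorem eq_of_eq_on_isSchImage_id {U P Y B : Sp S} (hP : IsAlgSpace P) {q : Y ⟶ B}
    (hq : IsSeparatedMor q) (f g : P ⟶ Y) (hfg : f ≫ q = g ≫ q) (j : U ⟶ P)
    (hcl : IsSchImage j (𝟙 P)) (heq : j ≫ f = j ≫ g) : f = g := by
  let fg : P ⟶ pullback q q := pullback.lift f g hfg
  let e : pullback (pullback.diagonal q) fg ⟶ P := pullback.snd _ _
  have he : RepWith @IsClosedImmersion e :=
    (RepWith @IsClosedImmersion).of_isPullback (IsPullback.of_hasPullback _ _) hq
  have hE : IsAlgSpace (pullback (pullback.diagonal q) fg) :=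
    isAlgSpace_of_representable hP e he.rep
  have hjfac : ∃ f'' : U ⟶ pullback (pullback.diagonal q) fg, f'' ≫ e = j := by
    refine ⟨pullback.lift (j ≫ f) j ?_, pullback.lift_snd _ _ _⟩
    apply pullback.hom_ext
    · rw [Category.assoc, pullback.diagonal_fst, Category.comp_id, Category.assoc, pullback.lift_fst]
    · rw [Category.assoc, pullback.diagonal_snd, Category.comp_id, Category.assoc, pullback.lift_snd,
        heq]
  obtain ⟨k, hk⟩ := hcl.2.2 e hE he hjfac
  have h1 : f = k ≫ pullback.fst (pullback.diagonal q) fg := by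
    calc f = (k ≫ e) ≫ fg ≫ pullback.fst _ _ := by
          rw [hk, Category.id_comp, pullback.lift_fst]
      _ = k ≫ pullback.fst (pullback.diagonal q) fg := by
          rw [Category.assoc, ← Category.assoc e, ← pullback.condition, Category.assoc,
            pullback.diagonal_fst, Category.comp_id]
  have h2 : g = k ≫ pullback.fst (pullback.diagonal q) fg := by
    calc g = (k ≫ e) ≫ fg ≫ pullback.snd _ _ := by
          rw [hk, Category.id_comp, pullback.lift_snd]
      _ = k ≫ pullback.fst (pullback.diagonal q) fg := by
          rw [Category.assoc, ← Category.assoc e, ← pullback.condition, Category.assoc,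
            pullback.diagonal_snd, Category.comp_id]
  exact h1.trans h2.symm

/-- A surjective, flat, locally finitely presented morphism of algebraic spaces is an epimorphism
of fppf sheaves. -/
theorem isLocallySurjective_of_surjective_flat_lfp {X Z : Sp S} (hX : IsAlgSpace X)
    (hZ : IsAlgSpace Z) (g : X ⟶ Z) (hgs : IsSurjectiveMor g) (hgf : LocP @Flat g)
    (hgp : LocP @LocallyOfFinitePresentation g) : Sheaf.IsLocallySurjective g := by
  apply isLocallySurjective_of_exists_fppf_lift
  intro T ξ
  have sq := IsPullback.of_hasPullback g ξ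
  have hF' : IsAlgSpace (pullback g ξ) := isAlgSpace_pullback hZ.diag hX (IsAlgSpace.yon_obj T) sq
  obtain ⟨V, c, q, hc1, hc2, hc3, hq, -, -⟩ := exists_fppf_chart hF' (pullback.snd g ξ)
    (isSurjectiveMor_of_isPullback sq hgs)
    (locP_of_isPullback etale_le_flat sq hX hZ (IsAlgSpace.yon_obj T) hgf)
    (locP_of_isPullback etale_le_lfp sq hX hZ (IsAlgSpace.yon_obj T) hgp)
  refine ⟨V, c, q ≫ pullback.fst g ξ, hc1, hc2, hc3, ?_⟩
  rw [Category.assoc, pullback.condition, ← Category.assoc, hq]

/-- **A morphism which factors over a quasi-compact scheme theoretically dense open of the target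
of an fppf cover factors through the cover.** -/
theorem exists_factor_of_factor_over_schDense_open {B X Y Z V : Sp S} (hX : IsAlgSpace X)
    (hZ : IsAlgSpace Z) (pX : X ⟶ B) (pY : Y ⟶ B) (pZ : Z ⟶ B) (f : X ⟶ Y) (g : X ⟶ Z)
    (hf : f ≫ pY = pX) (hg : g ≫ pZ = pX) (hY : IsSeparatedMor pY) (hgs : IsSurjectiveMor g)
    (hgf : LocP @Flat g) (hgp : LocP @LocallyOfFinitePresentation g) (v : V ⟶ Z)
    (hv : IsSchDense v) (hvq : IsQuasiCompactMor v)
    (hfac : ∃ φ : V ⟶ Y, pullback.fst g v ≫ f = pullback.snd g v ≫ φ) :
    ∃ h : Z ⟶ Y, g ≫ h = f := by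
  obtain ⟨φ, hφ⟩ := hfac
  have hge : Sheaf.IsLocallySurjective g :=
    isLocallySurjective_of_surjective_flat_lfp hX hZ g hgs hgf hgp
  have hepi : Epi g := inferInstance
  have hP : IsAlgSpace (pullback g g) :=
    isAlgSpace_pullback hZ.diag hX hX (IsPullback.of_hasPullback g g)
  -- the two composites agree
  have key : pullback.fst g g ≫ f = pullback.snd g g ≫ f := by
    have hflat : LocP @Flat (pullback.fst g g ≫ g) :=
      locP_comp etale_le_flat hP hX hZ
        (locP_of_isPullback etale_le_flat (IsPullback.of_hasPullback g g).flip hX hZ hX hgf) hgf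
    have sqV := IsPullback.of_hasPullback v (pullback.fst g g ≫ g)
    have hd : IsSchDense (pullback.snd v (pullback.fst g g ≫ g)) :=
      isSchDense_of_isPullback_of_flat hP hflat hv hvq sqV
    refine eq_of_eq_on_isSchImage_id hP hY _ _ ?_ _ (isSchImage_id_of_isSchDense hd) ?_
    · rw [Category.assoc, Category.assoc, hf, ← hg, ← Category.assoc, ← Category.assoc,
        pullback.condition]
    · -- on the open, both factor through `φ`
      have h1 : pullback.snd v (pullback.fst g g ≫ g) ≫ pullback.fst g g ≫ f =
          pullback.fst v (pullback.fst g g ≫ g) ≫ φ := by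
        have : pullback.snd v (pullback.fst g g ≫ g) ≫ pullback.fst g g =
            pullback.lift (pullback.snd v (pullback.fst g g ≫ g) ≫ pullback.fst g g)
              (pullback.fst v (pullback.fst g g ≫ g)) (by
                rw [Category.assoc, ← pullback.condition]) ≫ pullback.fst g v :=
          (pullback.lift_fst _ _ _).symm
        rw [← Category.assoc, this, Category.assoc, hφ, ← Category.assoc, pullback.lift_snd]
      have h2 : pullback.snd v (pullback.fst g g ≫ g) ≫ pullback.snd g g ≫ f =
          pullback.fst v (pullback.fst g g ≫ g) ≫ φ := by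
        have : pullback.snd v (pullback.fst g g ≫ g) ≫ pullback.snd g g =
            pullback.lift (pullback.snd v (pullback.fst g g ≫ g) ≫ pullback.snd g g)
              (pullback.fst v (pullback.fst g g ≫ g)) (by
                rw [Category.assoc, ← pullback.condition (f := g) (g := g),
                  ← pullback.condition]) ≫ pullback.fst g v :=
          (pullback.lift_fst _ _ _).symm
        rw [← Category.assoc, this, Category.assoc, hφ, ← Category.assoc, pullback.lift_snd]
      rw [h1, h2]
  -- descend along the effective epimorphism `g`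
  have heff : EffectiveEpi g :=
    (isRegularEpi_iff_effectiveEpi g).1 (IsRegularEpiCategory.regularEpiOfEpi g)
  have hco : ∀ {W : Sp S} (g₁ g₂ : W ⟶ X), g₁ ≫ g = g₂ ≫ g → g₁ ≫ f = g₂ ≫ f := by
    intro W g₁ g₂ h12
    have e1 : g₁ = pullback.lift g₁ g₂ h12 ≫ pullback.fst g g := (pullback.lift_fst _ _ _).symm
    have e2 : g₂ = pullback.lift g₁ g₂ h12 ≫ pullback.snd g g := (pullback.lift_snd _ _ _).symm
    rw [e1, Category.assoc, key, ← Category.assoc, ← e2]
  exact ⟨EffectiveEpi.desc g f hco, EffectiveEpi.fac g f hco⟩

end Groth.Agent.H5.AlgSp
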