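import Groth.Agent.Lib.Helper5.AlgSp.LocPCalc
import Groth.Agent.Lib.Helper5.AlgSp.PointsTop
set_option autoImplicit false
universe u
open CategoryTheory CategoryTheory.Limits AlgebraicGeometry MorphismProperty Topology
namespace Groth.Agent.H5.AlgSp
open _root_.AlgSp

/-- A locally Noetherian scheme all of whose points are closed is discrete. -/
theorem discreteTopology_of_t1Space (X : Scheme.{u}) [IsLocallyNoetherian X] [T1Space ↥X] :
    DiscreteTopology ↥X := by
  have : IsLocallyArtinian X := by
    refine ⟨fun U => ?_⟩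
    have _ : IsNoetherianRing Γ(X, U) := IsLocallyNoetherian.component_noetherian U
    rw [isArtinianRing_iff_krullDimLE_zero, Ring.krullDimLE_zero_iff]
    intro I hI
    have h1 : T1Space ↥(U.1 : Scheme) := U.1.ι.isEmbedding.t1Space
    have : T1Space (Spec Γ(X, U)) := U.2.isoSpec.hom.homeomorph.t1Space
    exact (PrimeSpectrum.isClosed_singleton_iff_isMaximal ⟨I, hI⟩).1
      (T1Space.t1 (X := Spec Γ(X, U)) ⟨I, hI⟩)
  infer_instance

/-- For an étale "relation" `s, t : R ⇉ W` on a scheme locally of finite type over a field, an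
open set on which the relation is transitive consists of closed points. -/
theorem isClosed_singleton_of_etale_relation {k : Type u} [Field k] {W R : Scheme.{u}}
    (g : W ⟶ Spec (.of k)) [LocallyOfFiniteType g] (s t : R ⟶ W) [Etale s] [Etale t]
    (E : Set ↥W) (hE : IsOpen E) (hne : E.Nonempty)
    (htr : ∀ u₁ ∈ E, ∀ u₂ ∈ E, ∃ z : ↥R, t z = u₁ ∧ s z = u₂) :
    ∀ u ∈ E, IsClosed ({u} : Set ↥W) := by
  have : JacobsonSpace ↥W := LocallyOfFiniteType.jacobsonSpace g
  have : LocallyOfFiniteType (t ≫ g) := inferInstance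
  have : JacobsonSpace ↥R := LocallyOfFiniteType.jacobsonSpace (t ≫ g)
  obtain ⟨u₁, hu₁E, hu₁⟩ := nonempty_inter_closedPoints hne hE.isLocallyClosed
  intro u hu
  obtain ⟨z, hz1, hz2⟩ := htr u₁ hu₁E u hu
  have hlqf : LocallyQuasiFinite t := locallyQuasiFinite_of_etale t
  have hd : _root_.IsDiscrete (t ⁻¹' {u₁}) := t.isDiscrete_preimage_singleton u₁
  have hcl : IsClosed (t ⁻¹' {u₁}) := IsClosed.preimage t.continuous hu₁
  have hzmem : z ∈ t ⁻¹' {u₁} := hz1
  have hlc : IsLocallyClosed ({z} : Set ↥R) := by
    have := hd.to_subtype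
    have hopen : IsOpen ({⟨z, hzmem⟩} : Set (t ⁻¹' {u₁})) := isOpen_discrete _
    obtain ⟨O, hO, hOeq⟩ := isOpen_induced_iff.1 hopen
    refine ⟨O, t ⁻¹' {u₁}, hO, hcl, ?_⟩
    ext r
    constructor
    · rintro rfl
      refine ⟨?_, hzmem⟩
      have : (⟨r, hzmem⟩ : t ⁻¹' {u₁}) ∈ Subtype.val ⁻¹' O := by rw [hOeq]; rfl
      exact this
    · rintro ⟨hrO, hrt⟩
      have : (⟨r, hrt⟩ : t ⁻¹' {u₁}) ∈ Subtype.val ⁻¹' O := hrO
      rw [hOeq] at this
      exact congrArg Subtype.val this
  have hzc : z ∈ closedPoints ↥R := isClosed_singleton_of_isLocallyClosed_singleton hlc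
  have := s.closePoints_subset_preimage_closedPoints hzc
  rw [Set.mem_preimage, hz2] at this
  exact this

variable {S : Scheme.{u}} {F G H : Sp S}

/-- If a sheaf locally of finite type over a field has a discrete space of points, then every étale
chart of it is a discrete scheme. -/
theorem discreteTopology_chart_of_discrete_points {P : Sp S} {k : Type u} [Field k]
    (str : Spec (CommRingCat.of k) ⟶ S) (snd : P ⟶ (yon S).obj (Over.mk str))
    (hlft : LocP @LocallyOfFiniteType snd) [DiscreteTopology (Points P)] {W : Over S}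
    (c : (yon S).obj W ⟶ P) (hce : RepWith @Etale c) : DiscreteTopology ↥W.left := by
  obtain ⟨g, hg⟩ := (yon S).map_surjective (c ≫ snd)
  have hl : LocallyOfFiniteType g.left :=
    hlft c (𝟙 _) g hce (repWith_id _ _) (by rw [hg, Category.comp_id])
  have sq := hce.rep.isPullback' c
  have hs : Etale (hce.rep.fst' c).left := hce.property c _ _ sq.flip
  have ht : Etale (hce.rep.snd c).left := hce.property_snd c
  rw [discreteTopology_iff_isOpen_singleton]
  intro w
  let E : Set ↥W.left := Points.ofPt c ⁻¹' {Points.ofPt c w}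
  have hE : IsOpen E := (isOpen_discrete _).preimage (Points.continuous_ofPt c)
  have hwE : w ∈ E := rfl
  have htr : ∀ u₁ ∈ E, ∀ u₂ ∈ E, ∃ z : ↥(hce.rep.pullback c).left,
      (hce.rep.snd c).left z = u₁ ∧ (hce.rep.fst' c).left z = u₂ := by
    intro u₁ hu₁ u₂ hu₂
    have h12 : Points.map c (Points.schemeHomeo W u₂) = Points.ofPt c u₁ := by
      have h1 : Points.ofPt c u₁ = Points.ofPt c w := hu₁
      have h2 : Points.ofPt c u₂ = Points.ofPt c w := hu₂
      rw [h1, ← h2, Points.ofPt_eq_map_ofScheme]
      rfl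
    obtain ⟨v, hv1, hv2⟩ := exists_point_of_isPullback sq (Points.schemeHomeo W u₂) u₁ h12
    refine ⟨v, hv1, ?_⟩
    apply (Points.schemeHomeo W).injective
    rw [← hv2]
    have := ofPt_yon_map_comp (hce.rep.fst' c) (𝟙 ((yon S).obj W)) v
    rw [Category.comp_id] at this
    rw [this]
    rfl
  have hcl : ∀ u ∈ E, IsClosed ({u} : Set ↥W.left) :=
    isClosed_singleton_of_etale_relation (k := k) g.left (hce.rep.fst' c).left
      (hce.rep.snd c).left E hE ⟨w, hwE⟩ htr
  -- the open subscheme `E`
  let E' : W.left.Opens := ⟨E, hE⟩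
  have : IsLocallyNoetherian (Over.mk str).left :=
    (inferInstance : IsLocallyNoetherian (Spec (CommRingCat.of k)))
  have : IsLocallyNoetherian W.left := LocallyOfFiniteType.isLocallyNoetherian g.left
  have : T1Space ↥(E' : Scheme) := by
    refine ⟨fun x => ?_⟩
    have := hcl x.1 x.2
    have h2 : ({x} : Set ↥(E' : Scheme)) = E'.ι ⁻¹' {x.1} := by
      ext y
      simp only [Set.mem_singleton_iff, Set.mem_preimage]
      exact ⟨fun h => by rw [h]; rfl, fun h => Subtype.ext h⟩
    rw [h2]
    exact this.preimage E'.ι.continuous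
  have hd : DiscreteTopology ↥(E' : Scheme) := discreteTopology_of_t1Space _
  have h3 : ({w} : Set ↥W.left) = E'.ι '' {⟨w, hwE⟩} := by
    rw [Set.image_singleton]
    rfl
  rw [h3]
  exact E'.ι.isOpenEmbedding.isOpenMap _ (isOpen_discrete _)

/-- Fibrewise criterion for local quasi-finiteness, formulated with pullback squares of
representable sheaves. -/
theorem locallyQuasiFinite_of_forall_fibre_discrete {U V : Over S} (h : U ⟶ V)
    (hl : LocallyOfFiniteType h.left)
    (hfib : ∀ (v : ↥V.left) (W : Over S) (fst : W ⟶ U)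
      (snd : W ⟶ Over.mk (V.left.fromSpecResidueField v ≫ V.hom)),
      IsPullback ((yon S).map fst) ((yon S).map snd) ((yon S).map h)
        ((yon S).map (Over.homMk (V.left.fromSpecResidueField v) rfl :
          Over.mk (V.left.fromSpecResidueField v ≫ V.hom) ⟶ V)) →
      DiscreteTopology ↥W.left) : LocallyQuasiFinite h.left := by
  refine LocallyQuasiFinite.of_fiberToSpecResidueField h.left fun v => ?_
  let W : Over S := Over.mk (h.left.fiberι v ≫ U.hom)
  let fst : W ⟶ U := Over.homMk (h.left.fiberι v) rfl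
  let snd : W ⟶ Over.mk (V.left.fromSpecResidueField v ≫ V.hom) :=
    Over.homMk (h.left.fiberToSpecResidueField v) (by
      change h.left.fiberToSpecResidueField v ≫ V.left.fromSpecResidueField v ≫ V.hom =
        h.left.fiberι v ≫ U.hom
      rw [← Category.assoc, ← h.left.fiber_fac v, Category.assoc, Over.w h])
  let ι : Over.mk (V.left.fromSpecResidueField v ≫ V.hom) ⟶ V :=
    Over.homMk (V.left.fromSpecResidueField v) rfl
  have hw : fst ≫ h = snd ≫ ι := Over.OverMorphism.ext (h.left.fiber_fac v)
  have sqS : IsPullback (h.left.fiberι v) (h.left.fiberToSpecResidueField v) h.left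
      (V.left.fromSpecResidueField v) := IsPullback.of_hasPullback _ _
  have sqO : IsPullback fst snd h ι := IsPullback.of_map (Over.forget S) hw sqS
  have hd : DiscreteTopology ↥(h.left.fiber v) := hfib v W fst snd (sqO.map (yon S))
  have : LocallyOfFiniteType (h.left.fiberToSpecResidueField v) :=
    MorphismProperty.of_isPullback (P := @LocallyOfFiniteType) sqS hl
  rw [locallyQuasiFinite_iff_isDiscrete_preimage_singleton]
  intro x
  exact ⟨inferInstance⟩


/-- Locally quasi-finite morphisms have discrete fibres over field-valued points. -/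
theorem discreteTopology_points_of_locP_lqf {P : Sp S} (hP : IsAlgSpace P) {k : Type u} [Field k]
    (str : Spec (CommRingCat.of k) ⟶ S) (snd : P ⟶ (yon S).obj (Over.mk str))
    (h : LocP ((@LocallyQuasiFinite : MorphismProperty Scheme.{u}) ⊓ @LocallyOfFiniteType) snd) :
    DiscreteTopology (Points P) := by
  obtain ⟨W, c, hce, hcs⟩ := hP.atlas
  obtain ⟨g, hg⟩ := (yon S).map_surjective (c ≫ snd)
  have hq : LocallyQuasiFinite g.left :=
    (h c (𝟙 _) g hce (repWith_id _ _) (by rw [hg, Category.comp_id])).1
  have hd : DiscreteTopology ↥W.left := by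
    have h1 : _root_.IsDiscrete (Set.univ : Set ↥W.left) := by
      have h0 := g.left.isDiscrete_preimage_singleton (IsLocalRing.closedPoint k)
      convert h0 using 1
      symm
      rw [Set.eq_univ_iff_forall]
      intro x
      exact Subsingleton.elim (α := PrimeSpectrum k) _ _
    have := h1.to_subtype
    exact (Homeomorph.Set.univ ↥W.left).discreteTopology
  rw [discreteTopology_iff_isOpen_singleton]
  intro x
  obtain ⟨w, rfl⟩ := ofPt_surjective_of_repWith hcs x
  rw [← Set.image_singleton]
  exact isOpenMap_ofPt_of_etale hce _ (isOpen_discrete _)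

/-- A morphism locally of finite type with discrete fibres over all field-valued points is locally
quasi-finite. -/
theorem locP_lqf_of_discrete_fibres {f : F ⟶ G} (hF : IsAlgSpace F) (hG : IsAlgSpace G)
    (hf : LocP @LocallyOfFiniteType f)
    (hfib : ∀ (k : Type u) [Field k] (str : Spec (CommRingCat.of k) ⟶ S)
      (y : (yon S).obj (Over.mk str) ⟶ G) (P : Sp S) (fst : P ⟶ F)
      (snd : P ⟶ (yon S).obj (Over.mk str)),
      IsPullback fst snd f y → DiscreteTopology (Points P)) :
    LocP ((@LocallyQuasiFinite : MorphismProperty Scheme.{u}) ⊓ @LocallyOfFiniteType) f := by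
  intro U V a b h ha hb comm
  have hl : LocallyOfFiniteType h.left := hf a b h ha hb comm
  refine ⟨locallyQuasiFinite_of_forall_fibre_discrete h hl ?_, hl⟩
  intro v W fstW sndW sqW
  set ι : Over.mk (V.left.fromSpecResidueField v ≫ V.hom) ⟶ V :=
    Over.homMk (V.left.fromSpecResidueField v) rfl with hι
  let y : (yon S).obj (Over.mk (V.left.fromSpecResidueField v ≫ V.hom)) ⟶ G :=
    (yon S).map ι ≫ b
  have sq₀ := IsPullback.of_hasPullback f b
  have sqv := IsPullback.of_hasPullback f y
  -- the canonical chart `c : h_U ⟶ F ×_G h_V`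
  have hfst₀ : RepWith @Etale (pullback.fst f b) :=
    MorphismProperty.of_isPullback (P := RepWith @Etale) sq₀.flip hb
  have hc : RepWith @Etale (sq₀.lift a ((yon S).map h) comm) :=
    repWith_etale_of_comp (by rw [sq₀.lift_fst]; exact ha) hfst₀
  -- the map `m : P_v ⟶ Q₀`
  have hwm : pullback.fst f y ≫ f = (pullback.snd f y ≫ (yon S).map ι) ≫ b := by
    rw [Category.assoc]
    exact pullback.condition
  have tsq : IsPullback (sq₀.lift _ _ hwm) (pullback.snd f y) (pullback.snd f b)
      ((yon S).map ι) := by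
    apply IsPullback.of_right (h₁₂ := pullback.fst f b) (h₂₂ := b) _ (sq₀.lift_snd _ _ _) sq₀
    rw [sq₀.lift_fst]
    exact sqv
  -- the chart `c_v : h_W ⟶ P_v`
  have hwc : ((yon S).map fstW ≫ a) ≫ f = (yon S).map sndW ≫ y := by
    rw [Category.assoc, comm, ← Category.assoc, sqW.w, Category.assoc]
  have csq : IsPullback (sqv.lift _ _ hwc) ((yon S).map fstW) (sq₀.lift _ _ hwm)
      (sq₀.lift a ((yon S).map h) comm) := by
    apply IsPullback.of_right (h₁₂ := pullback.snd f y) (h₂₂ := pullback.snd f b) _ ?_ tsq.flip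
    · rw [sqv.lift_snd, sq₀.lift_snd]
      exact sqW.flip
    · apply sq₀.hom_ext
      · rw [Category.assoc, sq₀.lift_fst, sqv.lift_fst, Category.assoc, sq₀.lift_fst]
      · rw [Category.assoc, sq₀.lift_snd, ← Category.assoc, sqv.lift_snd, Category.assoc,
          sq₀.lift_snd]
        exact sqW.w.symm
  have hcv : RepWith @Etale (sqv.lift _ _ hwc) :=
    MorphismProperty.of_isPullback (P := RepWith @Etale) csq.flip hc
  have hlv : LocP @LocallyOfFiniteType (pullback.snd f y) :=
    locP_of_isPullback (P := @LocallyOfFiniteType)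
      (fun _ _ g (hg : Etale g) => (inferInstance : LocallyOfFiniteType g)) sqv hF hG
      (IsAlgSpace.yon_obj _) hf
  have hdv : DiscreteTopology (Points (pullback f y)) :=
    hfib ↥(V.left.residueField v) (V.left.fromSpecResidueField v ≫ V.hom) y _ _ _ sqv
  exact discreteTopology_chart_of_discrete_points (k := ↥(V.left.residueField v))
    (V.left.fromSpecResidueField v ≫ V.hom) (pullback.snd f y) hlv (sqv.lift _ _ hwc) hcv

end Groth.Agent.H5.AlgSp
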