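import Groth.Agent.Lib.Helper5.AlgSp.LocPCalc
import Groth.Agent.Lib.Helper5.AlgSp.QCompact
import Groth.Agent.Lib.Helper5.AlgSp.FibreProduct
import Mathlib
set_option autoImplicit false
universe u
open CategoryTheory CategoryTheory.Limits AlgebraicGeometry Topology TopologicalSpace

namespace Groth.Agent.H5.AlgSp

/-- The preimage of a locally constructible set under a morphism of schemes is locally
constructible. -/
theorem isLocallyConstructible_preimage {X Y : Scheme.{u}} (f : X ⟶ Y) {s : Set ↥Y}
    (hs : IsLocallyConstructible s) : IsLocallyConstructible (f ⁻¹' s) := by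
  intro x
  obtain ⟨U, hxU, hU, hc⟩ := hs (f x)
  let U' : Y.Opens := ⟨U, hU⟩
  refine ⟨f ⁻¹' U, f.continuous.continuousAt.preimage_mem_nhds hxU, hU.preimage f.continuous, ?_⟩
  have h1 : IsConstructible ((f ∣_ U') ⁻¹' (Subtype.val ⁻¹' s : Set ↥U')) :=
    (f ∣_ U').isConstructible_preimage hc
  have e : (Subtype.val ⁻¹' (f ⁻¹' s) : Set ↥(f ⁻¹ᵁ U')) =
      (f ∣_ U') ⁻¹' (Subtype.val ⁻¹' s : Set ↥U') := by
    ext y
    change f y.1 ∈ s ↔ ((f ∣_ U') y).1 ∈ s
    rw [morphismRestrict_base_coe]
  exact e ▸ h1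

/-- Local constructibility descends along étale surjective morphisms: pointwise version. -/
theorem exists_nhds_isConstructible_of_etale {U' U : Scheme.{u}} (p : U' ⟶ U) [Etale p]
    {T : Set ↥U} (hT : IsLocallyConstructible (p ⁻¹' T)) (u' : ↥U') :
    ∃ N : U.Opens, p u' ∈ N ∧ IsConstructible (Subtype.val ⁻¹' T : Set ↥N) := by
  obtain ⟨A, hA, huA, -⟩ := exists_isAffineOpen_mem_and_subset (x := p u') (U := ⊤) trivial
  obtain ⟨A', hA', hu'A', hA'A⟩ :=
    exists_isAffineOpen_mem_and_subset (x := u') (U := p ⁻¹ᵁ A) huA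
  let N : U.Opens := ⟨p '' A', p.isOpenMap _ A'.2⟩
  have hNA : (N : Set ↥U) ⊆ A := by
    rintro _ ⟨y, hy, rfl⟩
    exact hA'A hy
  have hsub : Set.range (A'.ι ≫ p) ⊆ Set.range N.ι := by
    rw [Scheme.Opens.range_ι]
    rintro _ ⟨y, rfl⟩
    exact ⟨y.1, y.2, rfl⟩
  let q : (A' : Scheme) ⟶ (N : Scheme) := IsOpenImmersion.lift N.ι (A'.ι ≫ p) hsub
  have hq : q ≫ N.ι = A'.ι ≫ p := IsOpenImmersion.lift_fac _ _ _
  have : Etale (q ≫ N.ι) := by rw [hq]; infer_instance
  have hqe : Etale q := Etale.of_comp q N.ι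
  have : IsAffine (A' : Scheme) := hA'
  have hcN : CompactSpace ↥(N : Scheme) :=
    isCompact_iff_compactSpace.1 (hA'.isCompact.image p.continuous)
  have : QuasiSeparatedSpace ↥A :=
    (isQuasiSeparated_iff_quasiSeparatedSpace (A : Set ↥U) A.2).1 hA.isQuasiSeparated
  have hqsN : QuasiSeparatedSpace ↥(N : Scheme) :=
    (Topology.IsOpenEmbedding.inclusion hNA
      (N.2.preimage continuous_subtype_val)).quasiSeparatedSpace
  have hqc : QuasiCompact q := inferInstance
  have hs' : IsLocallyConstructible ((A'.ι ≫ p) ⁻¹' T) :=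
    isLocallyConstructible_preimage A'.ι hT
  have him := q.isLocallyConstructible_image hs'
  have e : (q '' ((A'.ι ≫ p) ⁻¹' T) : Set ↥N) = Subtype.val ⁻¹' T := by
    ext n
    constructor
    · rintro ⟨y, hy, rfl⟩
      change (N.ι (q y)) ∈ T
      rw [← Scheme.Hom.comp_apply, hq]
      exact hy
    · intro hn
      obtain ⟨y, hy, hyn⟩ := n.2
      refine ⟨⟨y, hy⟩, ?_, ?_⟩
      · change (A'.ι ≫ p) ⟨y, hy⟩ ∈ T
        rw [Scheme.Hom.comp_apply]
        change p y ∈ T
        rw [hyn]
        exact hn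
      · apply N.ι.isOpenEmbedding.injective
        rw [← Scheme.Hom.comp_apply, hq, Scheme.Hom.comp_apply]
        exact hyn
  have him' : IsLocallyConstructible (Subtype.val ⁻¹' T : Set ↥N) :=
    (congrArg (fun s : Set ↥N => IsLocallyConstructible s) e).mp him
  have : CompactSpace ↥N := hcN
  have : QuasiSeparatedSpace ↥N := hqsN
  have : PrespectralSpace ↥N := (inferInstance : PrespectralSpace ↥(N : Scheme))
  exact ⟨N, ⟨u', hu'A', rfl⟩, him'.isConstructible⟩

/-- Local constructibility descends along étale surjective morphisms. -/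
theorem isLocallyConstructible_of_preimage_etale_surjective {U' U : Scheme.{u}} (p : U' ⟶ U)
    [Etale p] [Surjective p] {T : Set ↥U} (hT : IsLocallyConstructible (p ⁻¹' T)) :
    IsLocallyConstructible T := by
  intro u
  obtain ⟨u', rfl⟩ := p.surjective u
  obtain ⟨N, hN, hc⟩ := exists_nhds_isConstructible_of_etale p hT u'
  exact ⟨N, N.2.mem_nhds hN, N.2, hc⟩

open _root_.AlgSp

variable {S : Scheme.{u}} {F G H : Sp S}

/-- Étale locally constructible subsets of the space of points. -/
def IsEtLocConstructible (F : Sp S) (E : Set (Points F)) : Prop :=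
  ∀ (U : Over S) (φ : (yon S).obj U ⟶ F), RepWith @Etale φ →
    IsLocallyConstructible (Points.ofPt φ ⁻¹' E)

/-- Inverse images of étale locally constructible sets are étale locally constructible. -/
theorem isEtLocConstructible_preimage (hG : IsAlgSpace G) (f : F ⟶ G) {E : Set (Points G)}
    (hE : IsEtLocConstructible G E) : IsEtLocConstructible F (Points.map f ⁻¹' E) := by
  intro U φ hφ
  obtain ⟨V, b, hbe, hbs⟩ := hG.atlas
  obtain ⟨U', a', h, ha'e, ha's, comm⟩ :=
    exists_chart_diagram_surj (IsAlgSpace.yon_obj U) (φ ≫ f) hbe hbs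
  obtain ⟨p, rfl⟩ := (yon S).map_surjective a'
  have hpe : Etale p.left := (repWith_yon_map_iff @Etale p).1 ha'e
  have hps : Surjective p.left := (repWith_yon_map_iff @Surjective p).1 ha's
  apply isLocallyConstructible_of_preimage_etale_surjective p.left
  have h1 : IsLocallyConstructible (h.left ⁻¹' (Points.ofPt b ⁻¹' E)) :=
    isLocallyConstructible_preimage h.left (hE V b hbe)
  convert h1 using 1
  ext u'
  simp only [Set.mem_preimage]
  rw [Points.map_ofPt, ← ofPt_yon_map_comp, comm, ofPt_yon_map_comp]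

/-- Chevalley's theorem for algebraic spaces, affine chart case. -/
theorem isLocallyConstructible_image_of_affine (hF : IsAlgSpace F) (hG : IsAlgSpace G) (f : F ⟶ G)
    (hq : IsQuasiCompactMor f) (hfp : LocP @LocallyOfFinitePresentation f) {E : Set (Points F)}
    (hE : IsEtLocConstructible F E) {V : Over S} [IsAffine V.left] (φ : (yon S).obj V ⟶ G)
    (hφ : RepWith @Etale φ) :
    IsLocallyConstructible (Points.ofPt φ ⁻¹' (Points.map f '' E)) := by
  have sq := IsPullback.of_hasPullback f φ
  have hP : IsAlgSpace (pullback f φ) :=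
    isAlgSpace_pullback hG.diag hF (IsAlgSpace.yon_obj V) sq
  have hPqc : IsQuasiCompactSp (pullback f φ) :=
    hq (IsAlgSpace.yon_obj V) ((isQuasiCompactSp_yon_iff V).2 inferInstance) φ _ _ sq
  obtain ⟨U, c, hce, hcs, hU⟩ := hPqc
  have : CompactSpace ↥U.left := hU
  have hfst : RepWith @Etale (pullback.fst f φ) :=
    MorphismProperty.of_isPullback (P := RepWith @Etale) sq.flip hφ
  have hψ : RepWith @Etale (c ≫ pullback.fst f φ) := (RepWith @Etale).comp_mem _ _ hce hfst
  obtain ⟨h, hh⟩ := (yon S).map_surjective (c ≫ pullback.snd f φ)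
  have comm : (c ≫ pullback.fst f φ) ≫ f = (yon S).map h ≫ φ := by
    rw [Category.assoc, pullback.condition, ← Category.assoc, hh]
  have hl : LocallyOfFinitePresentation h.left := hfp _ φ h hψ hφ comm
  have hqc : QuasiCompact h.left := inferInstance
  have key : Points.ofPt φ ⁻¹' (Points.map f '' E) =
      h.left '' (Points.ofPt (c ≫ pullback.fst f φ) ⁻¹' E) := by
    ext v
    constructor
    · rintro ⟨e, heE, hev⟩
      have h1 : Points.map f e = Points.map φ (Points.schemeHomeo V v) := by
        rw [hev, Points.ofPt_eq_map_ofScheme]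
        rfl
      obtain ⟨z, hz1, hz2⟩ := points_pullback_surjective sq e (Points.schemeHomeo V v) h1
      obtain ⟨u, rfl⟩ := ofPt_surjective_of_repWith hcs z
      refine ⟨u, ?_, ?_⟩
      · change Points.ofPt (c ≫ pullback.fst f φ) u ∈ E
        rw [← Points.map_ofPt, hz1]
        exact heE
      · apply (Points.schemeHomeo V).injective
        rw [← hz2, Points.map_ofPt, ← hh, Points.ofPt_eq_map_ofScheme]
        exact (Points.map_yon_map_apply h u).symm
    · rintro ⟨u, hu, rfl⟩
      refine ⟨Points.ofPt (c ≫ pullback.fst f φ) u, hu, ?_⟩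
      rw [Points.map_ofPt, comm, ofPt_yon_map_comp]
  rw [key]
  exact h.left.isLocallyConstructible_image (hE U _ hψ)

/-- Chevalley's theorem for algebraic spaces: a quasi-compact morphism locally of finite
presentation maps étale locally constructible sets to étale locally constructible sets. -/
theorem isEtLocConstructible_image (hF : IsAlgSpace F) (hG : IsAlgSpace G) (f : F ⟶ G)
    (hq : IsQuasiCompactMor f) (hfp : LocP @LocallyOfFinitePresentation f) {E : Set (Points F)}
    (hE : IsEtLocConstructible F E) : IsEtLocConstructible G (Points.map f '' E) := by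
  intro V φ hφ
  refine IsLocallyConstructible.of_isOpenCover (U := fun A : V.left.affineOpens => A.1)
    (IsOpenCover.mk (iSup_affineOpens_eq_top V.left)) fun A => ?_
  have : IsAffine (overOpen V A.1).left := A.2
  have h1 := isLocallyConstructible_image_of_affine hF hG f hq hfp hE
    ((yon S).map (overOpenι V A.1) ≫ φ) (repWith_etale_restrict hφ A.1)
  have e : ∀ a : ↥A.1, (a ∈ (Subtype.val ⁻¹' (Points.ofPt φ ⁻¹' (Points.map f '' E)) : Set ↥A.1)) ↔
      Points.ofPt ((yon S).map (overOpenι V A.1) ≫ φ) a ∈ Points.map f '' E := by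
    intro a
    rw [ofPt_restrict φ A.1 a]
    rfl
  have e' : (Subtype.val ⁻¹' (Points.ofPt φ ⁻¹' (Points.map f '' E)) : Set ↥A.1) =
      (Points.ofPt ((yon S).map (overOpenι V A.1) ≫ φ) ⁻¹' (Points.map f '' E) :
        Set ↥(overOpen V A.1).left) := Set.ext e
  exact (congrArg (fun s : Set ↥A.1 => IsLocallyConstructible s) e').mpr h1

end Groth.Agent.H5.AlgSp
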