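import Groth.Prelude.Def_AlgSpMor5
import Groth.Agent.Lib.Helper5.AlgSp.AffineBase
import Mathlib
set_option autoImplicit false
universe u
open CategoryTheory CategoryTheory.Limits AlgebraicGeometry

namespace Groth.Agent.H5.AlgSp
open _root_.AlgSp

/-- The presieve of all étale maps is an étale covering. -/
lemma allEtale_mem_etalePrecoverage (Y : Scheme.{u}) :
    (fun Z (h : Z ⟶ Y) => Etale h : Presieve Y) ∈ Scheme.etalePrecoverage Y := by
  refine ⟨?_, fun Z h hh => hh⟩
  rw [Presieve.mem_comap_jointlySurjectivePrecoverage_iff]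
  intro x
  exact ⟨Y, 𝟙 Y, (inferInstance : Etale (𝟙 Y)), ⟨x, rfl⟩⟩

lemma pullbackSnd_of_etale (P : MorphismProperty Scheme.{u})
    [P.IsLocalAtTarget Scheme.etalePrecoverage] {X Y U : Scheme.{u}} (f : X ⟶ Y) (g : U ⟶ Y)
    [Etale g] (hf : P f) : P (pullback.snd f g) :=
  MorphismProperty.IsLocalAtTarget.pullbackSnd (K := Scheme.etalePrecoverage)
    (allEtale_mem_etalePrecoverage Y) (show Etale g from inferInstance) hf

lemma of_pullbackSnd_etale_surjective (P : MorphismProperty Scheme.{u})
    [P.IsLocalAtTarget Scheme.etalePrecoverage] {X Y U : Scheme.{u}} (f : X ⟶ Y) (g : U ⟶ Y)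
    [Etale g] [Surjective g] (h : P (pullback.snd f g)) : P f := by
  refine MorphismProperty.IsLocalAtTarget.of_forall_pullbackSnd (K := Scheme.etalePrecoverage)
    (R := Presieve.singleton g) ?_ ?_
  · rw [Scheme.etalePrecoverage, Scheme.singleton_mem_precoverage_iff]
    exact ⟨g.surjective, inferInstance⟩
  · rintro _ _ _ ⟨⟩
    exact h

lemma of_isPullback_etale (P : MorphismProperty Scheme.{u})
    [P.IsLocalAtTarget Scheme.etalePrecoverage] {X Y U W : Scheme.{u}} {f : X ⟶ Y} {g : U ⟶ Y}
    {fst : W ⟶ X} {snd : W ⟶ U} (sq : IsPullback fst snd f g)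
    [Etale g] (hf : P f) : P snd := by
  have : P.RespectsIso := inferInstance
  rw [← P.cancel_left_of_respectsIso sq.isoPullback.inv, sq.isoPullback_inv_snd]
  exact pullbackSnd_of_etale P f g hf

lemma of_isPullback_etale_surjective (P : MorphismProperty Scheme.{u})
    [P.IsLocalAtTarget Scheme.etalePrecoverage] {X Y U W : Scheme.{u}} {f : X ⟶ Y} {g : U ⟶ Y}
    {fst : W ⟶ X} {snd : W ⟶ U} (sq : IsPullback fst snd f g)
    [Etale g] [Surjective g] (h : P snd) : P f := by
  have : P.RespectsIso := inferInstance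
  apply of_pullbackSnd_etale_surjective P f g
  rw [← P.cancel_left_of_respectsIso sq.isoPullback.hom, sq.isoPullback_hom_snd]
  exact h

variable {S : Scheme.{u}}

/-- One étale surjective chart suffices for `RepLocT`. -/
theorem repLocT_of_surjective_etale_chart (P : MorphismProperty Scheme.{u})
    [P.IsLocalAtTarget Scheme.etalePrecoverage]
    {X Y : Sp S} (f : X ⟶ Y) (hf : Representable f)
    {V W : Over S} (b : (yon S).obj V ⟶ Y) (hb1 : RepWith @Etale b)
    (hb2 : RepWith @Surjective b)
    (fst : (yon S).obj W ⟶ X) (snd : W ⟶ V)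
    (sq : IsPullback fst ((yon S).map snd) f b) (hP : P snd.left) :
    RepLocT P f := by
  refine ⟨hf, fun V' W' b' fst' snd' hb' sq' => ?_⟩
  have : P.RespectsIso := inferInstance
  -- the fibre product of the two charts
  let V'' : Over S := hb1.1.pullback b'
  let q₁ : V'' ⟶ V' := hb1.1.snd b'
  let q₂ : V'' ⟶ V := hb1.1.fst' b'
  have hq : IsPullback ((yon S).map q₂) ((yon S).map q₁) b b' := by
    have := hb1.1.isPullback b'
    rwa [← hb1.1.map_fst'] at this
  have hq₁e : Etale q₁.left := hb1.2 _ _ _ hq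
  have hq₁s : Surjective q₁.left := hb2.2 _ _ _ hq
  have hq₂e : Etale q₂.left := hb'.2 _ _ _ hq.flip
  have sqA := isPullback_baseChange_yon sq q₂
  have sqA' := isPullback_baseChange_yon sq' q₁
  rw [← hq.w] at sqA'
  let e := sqA.isoIsPullback _ _ sqA'
  have he : e.hom ≫ (yon S).map (pullback.snd snd' q₁) = (yon S).map (pullback.snd snd q₂) :=
    sqA.isoIsPullback_hom_snd _ _ sqA'
  let ε := (yon S).preimageIso e
  have hε : ε.hom ≫ pullback.snd snd' q₁ = pullback.snd snd q₂ := by
    apply (yon S).map_injective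
    rw [Functor.map_comp]
    simpa [ε] using he
  have h1 : P (pullback.snd snd q₂).left := by
    rw [left_pullback_snd_iff P]
    exact pullbackSnd_of_etale P _ _ hP
  have h2 : P (pullback.snd snd' q₁).left := by
    rw [← hε, Over.comp_left] at h1
    exact (P.cancel_left_of_respectsIso _ _).1 h1
  rw [left_pullback_snd_iff P] at h2
  exact of_pullbackSnd_etale_surjective P _ _ h2

end Groth.Agent.H5.AlgSp
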