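import Groth.Prelude.Def_AlgSp4
import Groth.Agent.Lib.Helper5.AlgSp.UnivTop
import Groth.Agent.Lib.Helper5.AlgSp.ImmersionTop
import Mathlib

/-!
# Closedness on points: base change along immersions, and locality on the target
-/

set_option autoImplicit false

universe u

open CategoryTheory CategoryTheory.Limits AlgebraicGeometry Opposite Topology

namespace Groth.Agent.H5.AlgSp

open _root_.AlgSp

variable {S : Scheme.{u}}

/-- Closedness on points passes to a base change whose projection is inducing on points. -/
theorem isClosedMap_points_of_isPullback_of_isInducing {P P' T T' : Sp S} {q : P ⟶ T}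
    {q' : P' ⟶ T'} {j' : P' ⟶ P} {j : T' ⟶ T} (sq : IsPullback j' q' q j)
    (hj' : IsInducing (Points.map j')) (hq : IsClosedMap (Points.map q)) :
    IsClosedMap (Points.map q') := by
  intro C hC
  have hcl : IsClosed (Points.map j ⁻¹' (Points.map q '' closure (Points.map j' '' C))) :=
    (hq _ isClosed_closure).preimage (Points.continuous_map j)
  convert hcl using 1
  ext y'
  constructor
  · rintro ⟨z, hz, rfl⟩
    refine ⟨Points.map j' z, subset_closure ⟨z, hz, rfl⟩, ?_⟩
    rw [← Points.map_comp, ← Points.map_comp, sq.w]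
  · rintro ⟨x, hx, hxy⟩
    obtain ⟨x', hx'1, hx'2⟩ := points_pullback_surjective sq x y' hxy
    refine ⟨x', ?_, hx'2⟩
    have : x' ∈ closure C := by
      rw [hj'.closure_eq_preimage_closure_image, Set.mem_preimage, hx'1]
      exact hx
    rwa [hC.closure_eq] at this

/-- Closedness on points passes to a base change along an immersion of schemes. -/
theorem isClosedMap_points_of_isPullback_of_isImmersion {P P' : Sp S} (hP : IsAlgSpace P)
    {T T' : Over S} {q : P ⟶ (yon S).obj T} {q' : P' ⟶ (yon S).obj T'} {j' : P' ⟶ P}
    (j : T' ⟶ T) [IsImmersion j.left] (sq : IsPullback j' q' q ((yon S).map j))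
    (hq : IsClosedMap (Points.map q)) : IsClosedMap (Points.map q') := by
  have hj : RepWith @IsImmersion ((yon S).map j) :=
    (repWith_yon_map_iff @IsImmersion j).2 inferInstance
  have hj' : RepWith @IsImmersion j' :=
    MorphismProperty.of_isPullback (P := RepWith @IsImmersion) sq.flip hj
  obtain ⟨U, p, hpe, hps⟩ := hP.atlas
  exact isClosedMap_points_of_isPullback_of_isInducing sq
    (isEmbedding_points_map_of_isImmersion j' hj' hpe hps).1.isInducing hq

/-- Closedness on points is local on the target for open covers. -/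
theorem isClosedMap_points_of_openCover {P : Sp S} {Z : Over S} (q : P ⟶ (yon S).obj Z)
    {ι : Type*} (W : ι → Z.left.Opens) (hW : ∀ z : Z.left, ∃ i, z ∈ W i)
    (h : ∀ i, IsClosedMap (Points.map (pullback.snd q ((yon S).map (overOpenι Z (W i)))))) :
    IsClosedMap (Points.map q) := by
  intro C hC
  rw [← (Points.schemeHomeo Z).isClosed_preimage]
  have hsup : TopologicalSpace.IsOpenCover W := by
    change iSup W = ⊤
    rw [eq_top_iff]
    intro z _
    obtain ⟨i, hi⟩ := hW z
    exact TopologicalSpace.Opens.mem_iSup.2 ⟨i, hi⟩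
  rw [hsup.isClosed_iff_coe_preimage]
  intro i
  have h1 := h i _ (hC.preimage (Points.continuous_map
    (pullback.fst q ((yon S).map (overOpenι Z (W i))))))
  rw [← preimage_image_eq_of_isPullback (IsPullback.of_hasPullback q _),
    ← (Points.schemeHomeo (overOpen Z (W i))).isClosed_preimage] at h1
  have h2 : ((↑) ⁻¹' (⇑(Points.schemeHomeo Z) ⁻¹' (Points.map q '' C)) : Set ↥(W i)) =
      ⇑(Points.schemeHomeo (overOpen Z (W i))) ⁻¹'
        (Points.map ((yon S).map (overOpenι Z (W i))) ⁻¹' (Points.map q '' C)) := by
    ext z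
    have h3 : Points.map ((yon S).map (overOpenι Z (W i)))
        (Points.schemeHomeo (overOpen Z (W i)) z) = Points.schemeHomeo Z z.1 :=
      Points.map_yon_map_apply (overOpenι Z (W i)) z
    change Points.schemeHomeo Z z.1 ∈ Points.map q '' C ↔
      Points.map ((yon S).map (overOpenι Z (W i)))
        (Points.schemeHomeo (overOpen Z (W i)) z) ∈ Points.map q '' C
    rw [h3]
  rw [h2]
  exact h1

end Groth.Agent.H5.AlgSp
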