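import Groth.Agent.Lib.Helper5.AlgSp.RefinedDVRMain
import Groth.Agent.Lib.Helper5.AlgSp.AffineSpaceFlat
import Groth.Agent.Lib.Helper5.AlgSp.LocPMore
import Groth.Agent.Lib.Helper5.AlgSp.UCLocal
import Mathlib

/-!
# The refined valuative criterion for discrete valuation rings
-/

set_option autoImplicit false

universe u

open CategoryTheory CategoryTheory.Limits AlgebraicGeometry Opposite IsLocalRing

namespace Groth.Agent.H5.AlgSp

open _root_.AlgSp

variable {S : Scheme.{u}}

/-- Over an affine Noetherian base, a separated morphism of finite type satisfying the refined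
existence criterion for discrete valuation rings is closed on points. -/
theorem isClosedMap_points_of_refDvrLift {T : Over S} [IsAffine T.left] [IsNoetherian T.left]
    {P U : Sp S} (q : P ⟶ (yon S).obj T) (h : U ⟶ P)
    (hsep : IsSeparatedMor q) (hft : IsFiniteTypeMor q) (hh : IsFiniteTypeMor h)
    (hd : DenseRange (Points.map h)) (hv : RefDvrLift h q) : IsClosedMap (Points.map q) := by
  have hPq : IsQuasiCompactSp P :=
    hft.2 (IsAlgSpace.yon_obj _) ((isQuasiCompactSp_yon_iff _).2 inferInstance) (𝟙 _) (𝟙 P) q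
      (IsPullback.id_horiz q)
  obtain ⟨W₁, a₁, ha₁e, ha₁s, hW₁⟩ := hPq
  have : CompactSpace W₁.left := hW₁
  obtain ⟨W, c, hWaff, hce, hcs⟩ := exists_affine_chart_of_compact W₁
  have hae : RepWith @Etale ((yon S).map c ≫ a₁) := repWith_comp_yon_map @Etale c hce ha₁e
  have has : RepWith @Surjective ((yon S).map c ≫ a₁) :=
    repWith_comp_yon_map @Surjective c hcs ha₁s
  obtain ⟨g, hg⟩ := (yon S).map_surjective (((yon S).map c ≫ a₁) ≫ q)
  have hglft : LocallyOfFiniteType g.left :=
    hft.1 ((yon S).map c ≫ a₁) (𝟙 _) g hae (repWith_id _ _) (by rw [hg, Category.comp_id])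
  have hWln : IsLocallyNoetherian W.left := LocallyOfFiniteType.isLocallyNoetherian g.left
  have hWn : IsNoetherian W.left := { }
  have hsurj := ofPt_surjective_of_repWith has
  intro C hC
  have hst := stableUnderSpecialization_image_of_refDvrLift q h hsep hh.2 hh.1 hd hv
    ((yon S).map c ≫ a₁) hae has g hg.symm hC
  have hcl : IsClosed (g.left '' (Points.ofPt ((yon S).map c ≫ a₁) ⁻¹' C)) :=
    isClosed_image_of_stableUnderSpecialization g.left
      (hC.preimage (Points.continuous_ofPt _)) hst
  have himg : Points.map q '' C =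
      Points.schemeHomeo T '' (g.left '' (Points.ofPt ((yon S).map c ≫ a₁) ⁻¹' C)) := by
    ext z
    constructor
    · rintro ⟨x, hx, rfl⟩
      obtain ⟨u, rfl⟩ := hsurj x
      refine ⟨g.left u, ⟨u, hx, rfl⟩, ?_⟩
      change Points.ofScheme _ (g.left u) = _
      rw [Points.map_ofPt, ← hg, ← Category.comp_id ((yon S).map g), ofPt_yon_map_comp]
    · rintro ⟨_, ⟨u, hu, rfl⟩, rfl⟩
      refine ⟨Points.ofPt ((yon S).map c ≫ a₁) u, hu, ?_⟩
      change _ = Points.ofScheme _ (g.left u)
      rw [Points.map_ofPt, ← hg, ← Category.comp_id ((yon S).map g), ofPt_yon_map_comp]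
  rw [himg]
  exact (Points.schemeHomeo T).isClosedMap _ hcl

lemma etale_le_flat' : (@Etale : MorphismProperty Scheme.{u}) ≤ @Flat := fun _ _ f hf => by
  have : Etale f := hf
  exact (inferInstance : Flat f)

lemma etale_le_lfp' : (@Etale : MorphismProperty Scheme.{u}) ≤ @LocallyOfFinitePresentation :=
  fun _ _ f hf => by
    have : Etale f := hf
    exact (inferInstance : LocallyOfFinitePresentation f)

/-- **The refined valuative criterion for discrete valuation rings: universal closedness.** -/
theorem isUnivClosedMor_of_refDvrLift {U X Y : Sp S} (hU : IsAlgSpace U) (hX : IsAlgSpace X)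
    (hY : IsAlgSpace Y) {f : X ⟶ Y} {h : U ⟶ X} (hsep : IsSeparatedMor f)
    (hft : IsFiniteTypeMor f) (hYn : IsLocNoethSp Y) (hh : IsFiniteTypeMor h)
    (hd : DenseRange (Points.map h)) (hv : RefDvrLift h f) : IsUnivClosedMor f := by
  obtain ⟨V, p, hpe, hps, hV⟩ := hYn
  have : IsLocallyNoetherian V.left := hV
  refine UC.isUnivClosedMor_of_affineSpace hX hY hft.2 p hpe hps ?_
  intro n
  let T : Over S := Over.mk ((𝔸(ULift.{u} (Fin n); V.left) ↘ V.left) ≫ V.hom)
  let c : T ⟶ V := Over.homMk (𝔸(ULift.{u} (Fin n); V.left) ↘ V.left)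
  have hTln : IsLocallyNoetherian T.left :=
    LocallyOfFiniteType.isLocallyNoetherian (𝔸(ULift.{u} (Fin n); V.left) ↘ V.left)
  have hcflat : Flat c.left := flat_affineSpace_over _ _
  have hclfp : LocallyOfFinitePresentation c.left :=
    (inferInstance : LocallyOfFinitePresentation (𝔸(ULift.{u} (Fin n); V.left) ↘ V.left))
  have sq1 := IsPullback.of_hasPullback f ((yon S).map c ≫ p)
  change IsClosedMap (Points.map (pullback.snd f ((yon S).map c ≫ p)))
  refine isClosedMap_points_of_openCover _ (fun W : T.left.affineOpens => W.1) ?_ ?_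
  · intro z
    obtain ⟨_, ⟨W, hW, rfl⟩, hzW, -⟩ :=
      T.left.isBasis_affineOpens.exists_subset_of_mem_open (Set.mem_univ z) isOpen_univ
    exact ⟨⟨W, hW⟩, hzW⟩
  rintro ⟨W, hW⟩
  have hWaff : IsAffine (overOpen T W).left := hW
  have hWln : IsLocallyNoetherian (overOpen T W).left :=
    isLocallyNoetherian_of_isOpenImmersion W.ι
  have hWn : IsNoetherian (overOpen T W).left := { }
  have sq2 := IsPullback.of_hasPullback (pullback.snd f ((yon S).map c ≫ p))
    ((yon S).map (overOpenι T W))
  have big := sq2.paste_horiz sq1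
  set p₀ : (yon S).obj (overOpen T W) ⟶ Y := (yon S).map (overOpenι T W) ≫ (yon S).map c ≫ p
    with hp₀
  set fst₀ := pullback.fst (pullback.snd f ((yon S).map c ≫ p)) ((yon S).map (overOpenι T W)) ≫
    pullback.fst f ((yon S).map c ≫ p) with hfst₀
  set q' := pullback.snd (pullback.snd f ((yon S).map c ≫ p)) ((yon S).map (overOpenι T W))
    with hq'
  have hP : IsAlgSpace (pullback (pullback.snd f ((yon S).map c ≫ p))
      ((yon S).map (overOpenι T W))) :=
    isAlgSpace_pullback hY.diag hX (IsAlgSpace.yon_obj _) big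
  have sqU := IsPullback.of_hasPullback h fst₀
  have hU' : IsAlgSpace (pullback h fst₀) := isAlgSpace_pullback hX.diag hU hP sqU
  -- openness of the projection
  have hp₀flat : LocP @Flat p₀ := by
    have h1 : LocP @Flat ((yon S).map (overOpenι T W ≫ c)) := by
      rw [locP_yon_map_iff etale_le_flat']
      change Flat (W.ι ≫ c.left)
      infer_instance
    rw [hp₀, ← Category.assoc, ← Functor.map_comp]
    exact locP_comp etale_le_flat' (IsAlgSpace.yon_obj _) (IsAlgSpace.yon_obj _) hY h1
      (locP_of_repWith etale_le_flat' (repWith_mono etale_le_flat' hpe))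
  have hp₀lfp : LocP @LocallyOfFinitePresentation p₀ := by
    have h1 : LocP @LocallyOfFinitePresentation ((yon S).map (overOpenι T W ≫ c)) := by
      rw [locP_yon_map_iff etale_le_lfp']
      change LocallyOfFinitePresentation (W.ι ≫ c.left)
      infer_instance
    rw [hp₀, ← Category.assoc, ← Functor.map_comp]
    exact locP_comp etale_le_lfp' (IsAlgSpace.yon_obj _) (IsAlgSpace.yon_obj _) hY h1
      (locP_of_repWith etale_le_lfp' (repWith_mono etale_le_lfp' hpe))
  have hp₀open : IsUnivOpenMor p₀ :=
    isUnivOpenMor_of_locP_flat_lfp (IsAlgSpace.yon_obj _) hY hp₀flat hp₀lfp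
  have hfst₀open : IsOpenMap (Points.map fst₀) := hp₀open hX f q' fst₀ big.flip
  have hd' : DenseRange (Points.map (pullback.snd h fst₀)) := by
    change Dense (Set.range (Points.map (pullback.snd h fst₀)))
    rw [range_points_map_fst sqU.flip]
    exact Dense.preimage hd hfst₀open
  exact isClosedMap_points_of_refDvrLift q' (pullback.snd h fst₀)
    (repWith_diag_of_isPullback big hsep)
    (isFiniteTypeMor_of_isPullback big hX hY (IsAlgSpace.yon_obj _) hft)
    (isFiniteTypeMor_of_isPullback sqU hU hX hP hh) hd'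
    (refDvrLift_of_isPullback big hv)

/-- Isomorphisms are representable with any multiplicative property stable under base change. -/
lemma repWith_of_isIso {P : MorphismProperty Scheme.{u}} [P.IsStableUnderBaseChange]
    [P.IsMultiplicative] {F G : Sp S} (φ : F ⟶ G) [IsIso φ] : RepWith P φ := by
  have h := (RepWith (S := S) P).id_mem G
  have := (MorphismProperty.cancel_left_of_respectsIso (RepWith (S := S) P) φ (𝟙 G)).2 h
  rwa [Category.comp_id] at this

/-- Monomorphisms are separated. -/
theorem isSeparatedMor_of_mono {F G : Sp S} (f : F ⟶ G) [Mono f] : IsSeparatedMor f :=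
  repWith_of_isIso (pullback.diagonal f)

/-- The refined uniqueness hypothesis for discrete valuation rings. -/
def RefDvrUniq {U X Y : Sp S} (h : U ⟶ X) (f : X ⟶ Y) : Prop :=
  ∀ sq : ValSq (h ≫ f), IsDiscreteValuationRing sq.A →
    ∀ l l' : (yon S).obj sq.ptA ⟶ X, (yon S).map sq.j ≫ l = sq.top ≫ h ∧ l ≫ f = sq.bot →
      (yon S).map sq.j ≫ l' = sq.top ≫ h ∧ l' ≫ f = sq.bot → l = l'

/-- Refined uniqueness for `f` gives refined existence for the diagonal of `f`. -/
theorem refDvrLift_diagonal_of_refDvrUniq {U X Y : Sp S} {h : U ⟶ X} {f : X ⟶ Y}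
    (hu : RefDvrUniq h f) : RefDvrLift h (pullback.diagonal f) := by
  intro sq hA
  have ha : (yon S).map sq.j ≫ sq.bot ≫ pullback.fst f f = sq.top ≫ h := by
    have := congrArg (· ≫ pullback.fst f f) sq.comm
    simpa using this.symm
  have hb : (yon S).map sq.j ≫ sq.bot ≫ pullback.snd f f = sq.top ≫ h := by
    have := congrArg (· ≫ pullback.snd f f) sq.comm
    simpa using this.symm
  let sqf : ValSq (h ≫ f) :=
    { A := sq.A, K := sq.K, str := sq.str, top := sq.top,
      bot := (sq.bot ≫ pullback.fst f f) ≫ f,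
      comm := by
        rw [← Category.assoc, ← ha]
        simp only [Category.assoc] }
  have hab : sq.bot ≫ pullback.fst f f = sq.bot ≫ pullback.snd f f :=
    hu sqf hA _ _ ⟨ha, rfl⟩ ⟨hb, by
      change (sq.bot ≫ pullback.snd f f) ≫ f = (sq.bot ≫ pullback.fst f f) ≫ f
      rw [Category.assoc, Category.assoc, pullback.condition]⟩
  refine ⟨sq.bot ≫ pullback.fst f f, ha, ?_⟩
  apply pullback.hom_ext
  · rw [Category.assoc, pullback.diagonal_fst, Category.comp_id]
  · rw [Category.assoc, pullback.diagonal_snd, Category.comp_id, hab]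

/-- **The refined valuative criterion for discrete valuation rings: separatedness.** -/
theorem isSeparatedMor_of_refDvrUniq {U X Y : Sp S} (hU : IsAlgSpace U) (hX : IsAlgSpace X)
    (hY : IsAlgSpace Y) {f : X ⟶ Y} {h : U ⟶ X} (hlft : LocP @LocallyOfFiniteType f)
    (hqs : IsQuasiSeparatedMor f) (hYn : IsLocNoethSp Y) (hh : IsFiniteTypeMor h)
    (hd : DenseRange (Points.map h)) (hu : RefDvrUniq h f) : IsSeparatedMor f := by
  rw [isSeparatedMor_iff_isUnivClosedMor_diagonal hX]
  have sq := IsPullback.of_hasPullback f f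
  have hXX : IsAlgSpace (pullback f f) := isAlgSpace_pullback hY.diag hX hX sq
  have hfst : LocP @LocallyOfFiniteType (pullback.fst f f) :=
    locP_of_isPullback etale_le_lft sq.flip hX hY hX hlft
  have hXXn : IsLocNoethSp (pullback f f) :=
    isLocNoethSp_of_locP_lft hXX (locP_comp etale_le_lft hXX hX hY hfst hlft) hYn
  exact isUnivClosedMor_of_refDvrLift hU hX hXX (isSeparatedMor_of_mono _)
    (isFiniteTypeMor_diagonal hX hqs) hXXn hh hd (refDvrLift_diagonal_of_refDvrUniq hu)

end Groth.Agent.H5.AlgSp
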