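import Groth.Prelude.Def_AlgSpMor5
import Groth.Agent.Lib.Helper5.AlgSp.IntegralMor
import Groth.Agent.Lib.Helper5.AlgSp.LocPCalc
import Groth.Agent.Lib.Helper5.AlgSp.LocPMore
import Groth.Agent.Lib.Helper5.AlgSp.UnivClosed2
import Groth.Agent.Lib.Helper5.AlgSp.RefinedDVR
import Groth.Agent.Lib.Helper5.EtSrc.FinitePresentation
import Groth.Agent.Lib.Helper5.EtSrc.Easy
import Groth.Agent.Lib.Helper5.Descent.AffineMorDescent
import Groth.Agent.Lib.Helper5.Descent.AffineHomDescent
import Groth.Agent.Lib.Helper5.AlgSp.FppfLocal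
import Mathlib

/-!
# Finite locally free morphisms of algebraic spaces
-/

set_option autoImplicit false

universe u

open CategoryTheory CategoryTheory.Limits AlgebraicGeometry Opposite

namespace Groth.Agent.H5.AlgSp

open _root_.AlgSp Groth.Agent.H5.EtSrc

variable {S : Scheme.{u}} {F G : Sp S}

theorem isFinLocFreeMor_iff_repWith {f : F ⟶ G} :
    IsFinLocFreeMor f ↔
      RepWith @IsFinite f ∧ RepWith @Flat f ∧ RepWith @LocallyOfFinitePresentation f := by
  constructor
  · intro h
    exact ⟨repWith_mono (fun _ _ g hg => hg.1) h, repWith_mono (fun _ _ g hg => hg.2.1) h,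
      repWith_mono (fun _ _ g hg => hg.2.2) h⟩
  · rintro ⟨h1, h2, h3⟩
    exact repWith_mono (fun _ _ g hg => ⟨hg.1, hg.2.1, hg.2.2⟩) (repWith_inf h1 (repWith_inf h2 h3))

/-- **Finite locally free is finite, flat and locally of finite presentation.** -/
theorem isFinLocFreeMor_iff_finite_flat_lfp (hG : IsAlgSpace G) {f : F ⟶ G} :
    IsFinLocFreeMor f ↔
      (IsFiniteMor f ∧ LocP @Flat f ∧ LocP @LocallyOfFinitePresentation f) := by
  rw [isFinLocFreeMor_iff_repWith, isFiniteMor_iff_repWith]
  constructor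
  · rintro ⟨h1, h2, h3⟩
    exact ⟨h1, locP_of_repWith etale_le_flat' h2, locP_of_repWith etale_le_lfp' h3⟩
  · rintro ⟨h1, h2, h3⟩
    exact ⟨h1, repWith_of_locP hG h1.rep h2, repWith_of_locP hG h1.rep h3⟩

/-- A finite morphism to a locally Noetherian algebraic space is locally of finite
presentation. -/
theorem locP_lfp_of_isFiniteMor_of_isLocNoethSp {f : F ⟶ G} (hf : IsFiniteMor f)
    (hG : IsLocNoethSp G) : LocP @LocallyOfFinitePresentation f := by
  have h1 := isFiniteMor_iff_repWith.1 hf
  obtain ⟨V, b, hbe, hbs, hV⟩ := hG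
  have : IsLocallyNoetherian V.left := hV
  have sq := h1.rep.isPullback b
  have hfin : IsFinite (h1.rep.snd b).left := h1.property_snd b
  have hlfp : LocallyOfFinitePresentation (h1.rep.snd b).left :=
    LocallyOfFinitePresentation.iff_locallyOfFiniteType.2 inferInstance
  exact locP_of_one_chart etale_le_lfp' (h1.rep.fst b) b (h1.rep.snd b)
    (MorphismProperty.of_isPullback (P := RepWith @Etale) sq.flip hbe)
    (MorphismProperty.of_isPullback (P := RepWith @Surjective) sq.flip hbs) hbe sq.w hlfp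

theorem isFinLocFreeMor_iff_finite_flat_of_isLocNoethSp (hG : IsAlgSpace G) {f : F ⟶ G}
    (hGn : IsLocNoethSp G) : IsFinLocFreeMor f ↔ (IsFiniteMor f ∧ LocP @Flat f) := by
  rw [isFinLocFreeMor_iff_finite_flat_lfp hG]
  exact ⟨fun h => ⟨h.1, h.2.1⟩, fun h => ⟨h.1, h.2, locP_lfp_of_isFiniteMor_of_isLocNoethSp h.1 hGn⟩⟩

/-- **Finite local freeness descends along a surjective étale base change.** -/
theorem isFinLocFreeMor_of_baseChange_etale {H : Sp S} {f : F ⟶ G} {b : H ⟶ G}
    (hbe : RepWith @Etale b) (hbs : RepWith @Surjective b) {P : Sp S} {fst : P ⟶ F}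
    {snd : P ⟶ H} (sq : IsPullback fst snd f b) (h : IsFinLocFreeMor snd) :
    IsFinLocFreeMor f := by
  obtain ⟨h1, h2, h3⟩ := isFinLocFreeMor_iff_repWith.1 h
  have hb1 := repWith_mono etale_le_flat hbe
  have hb2 := repWith_mono etale_le_lfp hbe
  have h1' : RepWith @IsFinite f :=
    Groth.Agent.H5.Descent.repWith_of_baseChange_of_le_isAffineHom
      (fun _ _ g (_ : IsFinite g) => (inferInstance : IsAffineHom g)) hb1 hb2 hbs sq h1
  have : Sheaf.IsLocallySurjective b := isLocallySurjective_of_repWith b hb1 hb2 hbs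
  exact isFinLocFreeMor_iff_repWith.2 ⟨h1',
    repWith_of_locallySurjective_baseChange f h1'.rep b fst snd sq @Flat h2,
    repWith_of_locallySurjective_baseChange f h1'.rep b fst snd sq
      @LocallyOfFinitePresentation h3⟩

end Groth.Agent.H5.AlgSp
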