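import Groth.Prelude.Def_AlgSp4
import Groth.Prelude.Def_SGA1
import Groth.Agent.Lib.Helper5.AlgSp.UnivTop
import Mathlib

/-!
# Universally submersive morphisms: representable sense vs. points
-/

set_option autoImplicit false

universe u

open CategoryTheory CategoryTheory.Limits AlgebraicGeometry Opposite Topology

namespace Groth.Agent.H5.AlgSp

open _root_.AlgSp

variable {S : Scheme.{u}} {F G H : Sp S}

lemma isQuotientMap_points_map_yon_map_iff {T T' : Over S} (φ : T ⟶ T') :
    IsQuotientMap (Points.map ((yon S).map φ)) ↔ IsQuotientMap φ.left := by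
  rw [Points.map_yon_map_eq]
  constructor
  · intro h
    have := ((Points.schemeHomeo T').symm.isQuotientMap.comp h).comp
      (Points.schemeHomeo T).isQuotientMap
    convert this using 1
    funext t
    simp
  · intro h
    exact ((Points.schemeHomeo T').isQuotientMap.comp h).comp
      (Points.schemeHomeo T).symm.isQuotientMap

/-- A morphism representable by quotient maps is a quotient map on points. -/
theorem isQuotientMap_points_map_of_repWith {P : MorphismProperty Scheme.{u}}
    (hP : ∀ {X Y : Scheme.{u}} (f : X ⟶ Y), P f → IsQuotientMap f) {f : F ⟶ G}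
    (hf : RepWith P f) : IsQuotientMap (Points.map f) := by
  have hsurj : Function.Surjective (Points.map f) := by
    apply points_map_surjective_of_repWith (f := f)
    exact repWith_mono (fun _ _ g hg => ⟨(hP g hg).surjective⟩) hf
  rw [isQuotientMap_iff, isCoinducing_iff]
  refine ⟨fun W => ⟨fun hW => ?_, fun hW => hW.preimage (Points.continuous_map f)⟩, hsurj⟩
  rw [Points.isOpen_iff]
  intro T g
  have hq : IsQuotientMap (hf.rep.snd g).left := hP _ (hf.property_snd g)
  rw [← hq.isOpen_preimage]
  have : (hf.rep.snd g).left ⁻¹' (Points.ofPt g ⁻¹' W) =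
      Points.ofPt (hf.rep.fst g) ⁻¹' (Points.map f ⁻¹' W) := by
    ext v
    simp only [Set.mem_preimage]
    rw [Points.map_ofPt, hf.rep.w, ofPt_yon_map_comp]
  rw [this]
  exact hW.preimage (Points.continuous_ofPt _)

theorem repWith_univSubmersive_iff {f : F ⟶ G} (hf : Representable f) :
    RepWith SGA1.UnivSubmersive f ↔ IsUnivSubmersiveMor f := by
  constructor
  · intro h
    exact univSp_of_repWith (P := SGA1.UnivSubmersive) (Q := IsSubmersiveMor)
      (fun f hf => isQuotientMap_points_map_of_repWith (P := SGA1.UnivSubmersive)
        (fun φ hφ => hφ _ _ _ IsPullback.of_id_snd) hf) h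
  · intro h
    exact repWith_universally_of_univSp (Q := IsSubmersiveMor)
      (fun φ hφ => (isQuotientMap_points_map_yon_map_iff φ).1 hφ) hf h

end Groth.Agent.H5.AlgSp
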