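import Groth.Agent.Lib.Helper5.AlgSp.LocPCalc
import Groth.Agent.Lib.Helper5.AlgSp.UnivSubm
import Groth.Agent.Lib.Helper5.AlgSp.QCompact
set_option autoImplicit false
universe u
open CategoryTheory CategoryTheory.Limits AlgebraicGeometry MorphismProperty Topology
namespace Groth.Agent.H5.AlgSp
open _root_.AlgSp

variable {S : Scheme.{u}} {F G H : Sp S}

/-- Being a quotient map on points can be tested after base change to affine schemes. -/
theorem isQuotientMap_points_map_of_forall_affine {f : F ⟶ G}
    (h : ∀ (T : Over S), IsAffine T.left → ∀ (g : (yon S).obj T ⟶ G),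
      IsQuotientMap (Points.map (pullback.snd f g))) : IsQuotientMap (Points.map f) := by
  have hsurj : Function.Surjective (Points.map f) := by
    intro y
    obtain ⟨K, _, str, η, rfl⟩ := exists_fpOfHom y
    have hT : IsAffine (Over.mk str).left := by
      change IsAffine (Spec (.of K)); infer_instance
    obtain ⟨z, hz⟩ := (h (Over.mk str) hT η).surjective
      (Points.schemeHomeo (Over.mk str) (IsLocalRing.closedPoint K))
    refine ⟨Points.map (pullback.fst f η) z, ?_⟩
    rw [← Points.map_comp, pullback.condition, Points.map_comp, hz, ← ofPt_closedPoint]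
    exact (Points.ofPt_eq_map_ofScheme η _).symm
  rw [isQuotientMap_iff, isCoinducing_iff]
  refine ⟨fun W => ⟨fun hW => ?_, fun hW => hW.preimage (Points.continuous_map f)⟩, hsurj⟩
  rw [isOpen_iff_forall_affine]
  intro T hT g
  have h1 : IsOpen (Points.map (pullback.snd f g) ⁻¹' (Points.map g ⁻¹' W)) := by
    have : Points.map (pullback.snd f g) ⁻¹' (Points.map g ⁻¹' W) =
        Points.map (pullback.fst f g) ⁻¹' (Points.map f ⁻¹' W) := by
      ext z
      simp only [Set.mem_preimage, ← Points.map_comp, pullback.condition]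
    rw [this]
    exact hW.preimage (Points.continuous_map _)
  have h2 : IsOpen (Points.map g ⁻¹' W) := (h T hT g).isOpen_preimage.1 h1
  have h3 : Points.ofPt g ⁻¹' W = Points.schemeHomeo T ⁻¹' (Points.map g ⁻¹' W) := by
    ext t
    simp only [Set.mem_preimage]
    rw [Points.ofPt_eq_map_ofScheme]
    rfl
  rw [h3]
  exact h2.preimage (Points.schemeHomeo T).continuous

/-- A flat surjective morphism from a quasi-compact sheaf onto an affine scheme is a quotient map on
points. -/
theorem isQuotientMap_of_flat_qc_surj_affine {P : Sp S} {Z : Over S} (hZ : IsAffine Z.left)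
    (snd : P ⟶ (yon S).obj Z) (hfl : LocP @Flat snd) (hqc : IsQuasiCompactSp P)
    (hs : IsSurjectiveMor snd) : IsQuotientMap (Points.map snd) := by
  obtain ⟨U, c, hce, hcs, hU⟩ := hqc
  have : CompactSpace ↥U.left := hU
  obtain ⟨h, hh⟩ := (yon S).map_surjective (c ≫ snd)
  have hflat : Flat h.left :=
    hfl c (𝟙 _) h hce (repWith_id _ Z) (by rw [hh, Category.comp_id])
  have hsurj : Surjective h.left := by
    refine ⟨fun z => ?_⟩
    obtain ⟨x, hx⟩ := hs (Points.schemeHomeo Z z)
    obtain ⟨u, rfl⟩ := ofPt_surjective_of_repWith hcs x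
    refine ⟨u, ?_⟩
    apply (Points.schemeHomeo Z).injective
    rw [← hx, Points.map_ofPt, ← hh, Points.ofPt_eq_map_ofScheme]
    exact (Points.map_yon_map_apply h u).symm
  have hqc' : QuasiCompact h.left := inferInstance
  have hq : IsQuotientMap h.left := Flat.isQuotientMap_of_surjective h.left
  have hq' : IsQuotientMap (Points.map (c ≫ snd)) := by
    rw [← hh]
    exact (isQuotientMap_points_map_yon_map_iff h).2 hq
  have : Points.map (c ≫ snd) = Points.map snd ∘ Points.map c := by
    funext x
    exact Points.map_comp c snd x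
  rw [this] at hq'
  exact IsQuotientMap.of_comp (Points.continuous_map c) (Points.continuous_map snd) hq'

/-- A flat, quasi-compact, surjective morphism of algebraic spaces is universally submersive. -/
theorem isUnivSubmersiveMor_of_flat_qc_surj {f : F ⟶ G} (hF : IsAlgSpace F) (hG : IsAlgSpace G)
    (hfl : LocP @Flat f) (hqc : IsQuasiCompactMor f) (hs : IsSurjectiveMor f) :
    IsUnivSubmersiveMor f := by
  refine univSp_of_forall_affine (Q := IsSubmersiveMor)
    (fun f h => isQuotientMap_points_map_of_forall_affine h) ?_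
  intro Z hZ g P fst snd sq
  have h1 : LocP @Flat snd := locP_of_isPullback (P := @Flat)
    (fun _ _ g (hg : Etale g) => (inferInstance : Flat g)) sq hF hG (IsAlgSpace.yon_obj Z) hfl
  have h2 : IsQuasiCompactSp P :=
    hqc (IsAlgSpace.yon_obj Z) ((isQuasiCompactSp_yon_iff Z).2 inferInstance) g fst snd sq
  exact isQuotientMap_of_flat_qc_surj_affine hZ snd h1 h2 (isSurjectiveMor_of_isPullback sq hs)

end Groth.Agent.H5.AlgSp
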