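import Groth.Agent.Lib.Helper5.AlgSp.SchImageQC
import Mathlib

/-!
# Quasi-compact immersions are open immersions into their scheme theoretic image
-/

set_option autoImplicit false

universe u

open CategoryTheory CategoryTheory.Limits AlgebraicGeometry Opposite

namespace Groth.Agent.H5.AlgSp

open _root_.AlgSp Groth.Agent.H5.Descent

variable {S : Scheme.{u}}

/-- The factorisation of a quasi-compact immersion through the closed subscheme of its kernel is
an open immersion. -/
lemma isOpenImmersion_of_fac_of_ker_eq {Z' W : Scheme.{u}} (g : Z' ⟶ W) [IsImmersion g]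
    [QuasiCompact g] (I : W.IdealSheafData) (hI : I = g.ker) (m : Z' ⟶ I.subscheme)
    (hm : m ≫ I.subschemeι = g) : IsOpenImmersion m := by
  subst hI
  have : m = g.toImage := by
    rw [← cancel_mono g.imageι]
    exact hm.trans g.toImage_imageι.symm
  rw [this]
  infer_instance

section

variable {X Y : Sp S}

/-- The kernel ideal on a chart of a representable morphism is the kernel of the base change. -/
lemma imgIdeal_eq_ker_of_isPullback {f : X ⟶ Y} (hc : HasQCCovers f) (k : AffEtChart Y)
    {Z' : Over S} {fst : (yon S).obj Z' ⟶ X} {g : Z' ⟶ k.W}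
    (sq : IsPullback fst ((yon S).map g) f k.q) : imgIdeal hc k = g.left.ker := by
  have : Sheaf.IsLocallySurjective sq.isoPullback.hom := inferInstance
  exact ((hc k).isKer).unique (isKer_of_cover _ sq.isoPullback.hom g sq.isoPullback_hom_snd)

/-- The charts of the scheme theoretic image induced by the affine étale charts of the target
are jointly locally surjective. -/
lemma jointLiftSieve_schImg_mem (hY : IsAlgSpace Y) {f : X ⟶ Y} (hc : HasQCCovers f)
    (l : ∀ k : AffEtChart Y, (yon S).obj (imgOver hc k) ⟶ schImg hc)
    (sql : ∀ k, IsPullback (l k) ((yon S).map (imgOverι hc k)) (schImgι hc) k.q) (T : Over S)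
    (ξ : (yon S).obj T ⟶ schImg hc) : jointLiftSieve l ξ ∈ J S T := by
  refine (J S).superset_covering ?_ (jointLiftSieve_affEtChart_mem hY T (ξ ≫ schImgι hc))
  rintro T' a ⟨k, τ, hτ⟩
  exact ⟨k, (sql k).lift ((yon S).map a ≫ ξ) τ (by rw [Category.assoc, hτ]), (sql k).lift_fst _ _ _⟩

/-- **A quasi-compact immersion is an open immersion into its scheme theoretic image.** -/
theorem repWith_isOpenImmersion_of_fac_schImg (hY : IsAlgSpace Y) {f : X ⟶ Y}
    (hf : RepWith @IsImmersion f) (hqc : RepWith @QuasiCompact f) (hc : HasQCCovers f)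
    (j : X ⟶ schImg hc) (hj : j ≫ schImgι hc = f) : RepWith @IsOpenImmersion j := by
  have sqj : IsPullback (𝟙 X) j f (schImgι hc) := isPullback_of_mono_comp f (schImgι hc) j hj
  have hrep : Representable j := ((RepWith @IsImmersion).of_isPullback sqj hf).rep
  choose l sql using exists_isPullback_schImg hc hY
  have key : ∀ k : AffEtChart Y, ∃ m : hf.rep.pullback k.q ⟶ imgOver hc k,
      IsOpenImmersion m.left ∧ IsPullback (hf.rep.fst k.q) ((yon S).map m) j (l k) := by
    intro k
    have sqg := hf.rep.isPullback k.q
    have hg1 : IsImmersion (hf.rep.snd k.q).left := hf.property_snd k.q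
    have hg2 : QuasiCompact (hf.rep.snd k.q).left := hqc.property _ _ _ sqg
    have hI := imgIdeal_eq_ker_of_isPullback hc k sqg
    obtain ⟨m, hm⟩ := (exists_lift_subscheme_iff (imgIdeal hc k) (hf.rep.snd k.q)).2 hI.le
    refine ⟨m, ?_, ?_⟩
    · exact isOpenImmersion_of_fac_of_ker_eq (hf.rep.snd k.q).left (imgIdeal hc k) hI m.left
        (congrArg (fun t => t.left) hm)
    · apply IsPullback.of_bot (v₂₁ := (yon S).map (imgOverι hc k)) (v₂₂ := schImgι hc)
        (h₃₁ := k.q) _ _ (sql k)
      · rw [← Functor.map_comp, hm, hj]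
        exact sqg
      · rw [← cancel_mono (schImgι hc), Category.assoc, hj, Category.assoc, (sql k).w,
          ← Category.assoc, ← Functor.map_comp, hm]
        exact sqg.w
  choose m hm1 hm2 using key
  exact repWith_of_jointly_locallySurjective_baseChange j hrep l
    (jointLiftSieve_schImg_mem hY hc l sql) (fun k => hf.rep.fst k.q)
    (fun k => (yon S).map (m k)) hm2 @IsOpenImmersion
    (fun k => (repWith_yon_map_iff @IsOpenImmersion (m k)).2 (hm1 k))

end

end Groth.Agent.H5.AlgSp
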