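import Groth.Prelude.Def_AlgSpSub
import Groth.Agent.Lib.Helper5.AlgSp.SchDenseQC
import Groth.Agent.Lib.Helper5.AlgSp.ImmersionImage
import Groth.Agent.Lib.Helper5.AlgSp.RedInduced
import Mathlib

/-!
# Immersions into their scheme theoretic image
-/

set_option autoImplicit false

universe u

open CategoryTheory CategoryTheory.Limits AlgebraicGeometry Opposite

namespace Groth.Agent.H5.AlgSp

open _root_.AlgSp Groth.Agent.H5.Descent

section Scheme

/-- If composing with a closed immersion does not change the kernel, the morphism is scheme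
theoretically dominant. -/
lemma ker_eq_bot_of_ker_comp_eq {W' A V : Scheme.{u}} (m : W' ⟶ A) (c₀ : A ⟶ V)
    [IsClosedImmersion c₀] (h : (m ≫ c₀).ker = c₀.ker) : m.ker = ⊥ := by
  set K := m.ker with hK
  have h1 : (K.subschemeι ≫ c₀).ker ≤ c₀.ker := by
    have : m ≫ c₀ = m.toImage ≫ (K.subschemeι ≫ c₀) := by
      rw [← Category.assoc]
      change m ≫ c₀ = (m.toImage ≫ m.imageι) ≫ c₀
      rw [Scheme.Hom.toImage_imageι]
    rw [← h, this]
    exact Scheme.Hom.le_ker_comp _ _
  let l := IsClosedImmersion.lift (K.subschemeι ≫ c₀) c₀ h1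
  have hl : l ≫ K.subschemeι ≫ c₀ = c₀ := IsClosedImmersion.lift_fac _ _ _
  have hl' : l ≫ K.subschemeι = 𝟙 _ := by
    rw [← cancel_mono c₀, Category.assoc, hl, Category.id_comp]
  have : IsSplitEpi K.subschemeι := ⟨⟨l, hl'⟩⟩
  have : IsIso K.subschemeι := isIso_of_mono_of_isSplitEpi _
  exact (Scheme.isIso_subschemeι_iff_eq_bot K).1 this

/-- A dense open of a reduced scheme is scheme theoretically dense. -/
theorem isSchematicallyDense_of_dense_of_isReduced {X : Scheme.{u}} [AlgebraicGeometry.IsReduced X]
    (W : X.Opens) (hW : Dense (W : Set X)) : CInt.IsSchematicallyDense W := by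
  intro V
  rw [injective_iff_map_eq_zero]
  intro r hr
  apply AlgebraicGeometry.eq_zero_of_basicOpen_eq_bot
  have h1 : (V ⊓ W) ⊓ X.basicOpen r = ⊥ := by
    rw [← Scheme.basicOpen_res X r (homOfLE (inf_le_left : V ⊓ W ≤ V)).op, hr,
      Scheme.basicOpen_zero]
  have h2 : X.basicOpen r ≤ V := X.basicOpen_le r
  by_contra hne
  obtain ⟨x, hx⟩ : ((X.basicOpen r : Set X)).Nonempty := by
    rw [Set.nonempty_iff_ne_empty]
    intro h
    exact hne (TopologicalSpace.Opens.ext h)
  obtain ⟨y, hy1, hy2⟩ := hW.inter_open_nonempty _ (X.basicOpen r).2 ⟨x, hx⟩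
  have : y ∈ ((V ⊓ W) ⊓ X.basicOpen r : X.Opens) := ⟨⟨h2 hy1, hy2⟩, hy1⟩
  rw [h1] at this
  exact this

/-- An immersion with dense image into a reduced scheme is an open immersion. -/
theorem isOpenImmersion_of_isImmersion_of_denseRange {Z A : Scheme.{u}} (m : Z ⟶ A) [IsImmersion m]
    [AlgebraicGeometry.IsReduced A] (hd : DenseRange m) : IsOpenImmersion m := by
  have hred : AlgebraicGeometry.IsReduced m.coborderRange.toScheme :=
    isReduced_of_isOpenImmersion m.coborderRange.ι
  have hs : Surjective m.liftCoborder := by
    refine ⟨fun u => ?_⟩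
    have hcl : IsClosed (Set.range m.liftCoborder) := m.liftCoborder.isClosedEmbedding.isClosed_range
    have hdense : Dense (Set.range m.liftCoborder) := by
      intro u
      rw [mem_closure_iff]
      intro O hO huO
      have hO' : IsOpen (m.coborderRange.ι '' O) := m.coborderRange.ι.isOpenEmbedding.isOpenMap O hO
      obtain ⟨_, ⟨o, ho, rfl⟩, z, hz⟩ := hd.inter_open_nonempty _ hO' ⟨_, u, huO, rfl⟩
      refine ⟨o, ho, z, ?_⟩
      apply m.coborderRange.ι.isOpenEmbedding.injective
      rw [← Scheme.Hom.comp_apply, Scheme.Hom.liftCoborder_ι]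
      exact hz
    have := hdense.closure_eq
    rw [hcl.closure_eq] at this
    have hu : u ∈ Set.range m.liftCoborder := by rw [this]; trivial
    exact hu
  have : IsIso m.liftCoborder := isIso_of_isClosedImmersion_of_surjective _
  rw [← m.liftCoborder_ι]
  infer_instance

/-- A factorisation of a quasi-compact immersion through a closed immersion with the same kernel
is an open immersion. -/
theorem isOpenImmersion_of_comp_of_ker_eq {Z' A V : Scheme.{u}} (m : Z' ⟶ A) (c₀ : A ⟶ V)
    [IsClosedImmersion c₀] [IsImmersion (m ≫ c₀)] [QuasiCompact (m ≫ c₀)]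
    (h : (m ≫ c₀).ker = c₀.ker) : IsOpenImmersion m := by
  set g := m ≫ c₀ with hg
  have hk : g.imageι.ker = c₀.ker := by
    rw [← h]
    exact Scheme.IdealSheafData.ker_subschemeι _
  let θ := IsClosedImmersion.lift g.imageι c₀ hk.le
  have hθ : θ ≫ g.imageι = c₀ := IsClosedImmersion.lift_fac _ _ _
  have : IsIso θ := IsClosedImmersion.isIso_lift g.imageι c₀ hk
  have h1 : m ≫ θ = g.toImage := by
    rw [← cancel_mono g.imageι, Category.assoc, hθ, Scheme.Hom.toImage_imageι]
  have h2 : m = g.toImage ≫ inv θ := by rw [← h1, Category.assoc, IsIso.hom_inv_id, Category.comp_id]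
  rw [h2]
  infer_instance

end Scheme

section Space

variable {S : Scheme.{u}} {Z X Zbar : Sp S}

/-- Chart level criterion: `h'` is a scheme theoretically dense open immersion as soon as its base
change to one étale surjective chart of the target is a scheme theoretically dense open
immersion. -/
theorem isSchDense_of_chart {h' : Z ⟶ Zbar} (hrep : Representable h') {A Z' : Over S}
    {l : (yon S).obj A ⟶ Zbar} (hle : RepWith @Etale l) (hls : RepWith @Surjective l)
    {k : (yon S).obj Z' ⟶ Z} {m : Z' ⟶ A} (sqm : IsPullback k ((yon S).map m) h' l)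
    (hm : IsOpenImmersion m.left)
    (hd : ∀ (W : A.left.Opens), (∃ e : Z' ≅ overOpen A W, e.hom ≫ overOpenι A W = m) →
      CInt.IsSchematicallyDense W) :
    RepWith @IsOpenImmersion h' ∧ IsSchDense h' := by
  have : Sheaf.IsLocallySurjective l := isLocallySurjective_of_etale_surjective l hle hls
  have ho : RepWith @IsOpenImmersion h' :=
    repWith_of_locallySurjective_baseChange h' hrep l k ((yon S).map m) sqm @IsOpenImmersion
      ((repWith_yon_map_iff @IsOpenImmersion m).2 hm)
  obtain ⟨W, fst, sq, e, he⟩ := exists_isPullback_overOpen sqm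
  exact ⟨ho, ho, A, l, W, fst, hle, hls, sq, hd W ⟨e, he⟩⟩

/-- The image of `h'` is dense in the scheme theoretic image. -/
theorem dense_range_of_range_subset_closure (hX : IsAlgSpace X) {h : Z ⟶ X} {c : Zbar ⟶ X}
    (hc : RepWith @IsClosedImmersion c) {h' : Z ⟶ Zbar} (fac : h' ≫ c = h)
    (hsub : Set.range (Points.map c) ⊆ closure (Set.range (Points.map h))) :
    Dense (Set.range (Points.map h')) := by
  obtain ⟨V, φ, hφe, hφs⟩ := hX.atlas
  have hemb := (isEmbedding_points_map_of_isImmersion c (repWith_mono (fun _ _ g hg => by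
    have : IsClosedImmersion g := hg
    exact (inferInstance : IsImmersion g)) hc) hφe hφs).1
  intro z
  rw [hemb.closure_eq_preimage_closure_image]
  have h1 : Points.map c '' Set.range (Points.map h') = Set.range (Points.map h) := by
    rw [← Set.range_comp, ← fac]
    congr 1
    funext x
    exact (Points.map_comp h' c x).symm
  change Points.map c z ∈ closure (Points.map c '' Set.range (Points.map h'))
  rw [h1]
  exact hsub ⟨z, rfl⟩

/-- Reducedness descends along flat surjective morphisms of schemes. -/
lemma isReduced_of_flat_surjective {A B : Scheme.{u}} (f : A ⟶ B) [Flat f]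
    (hs : Function.Surjective f) [AlgebraicGeometry.IsReduced A] :
    AlgebraicGeometry.IsReduced B := by
  have : ∀ x : B, _root_.IsReduced (B.presheaf.stalk x) := by
    intro x
    obtain ⟨a, rfl⟩ := hs x
    have hfl : (f.stalkMap a).hom.Flat := Flat.stalkMap f a
    algebraize [(f.stalkMap a).hom]
    have hloc : IsLocalHom (algebraMap (B.presheaf.stalk (f a)) (A.presheaf.stalk a)) :=
      inferInstanceAs (IsLocalHom (f.stalkMap a).hom)
    have : Module.FaithfullyFlat (B.presheaf.stalk (f a)) (A.presheaf.stalk a) :=
      Module.FaithfullyFlat.of_flat_of_isLocalHom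
    exact isReduced_of_injective (algebraMap (B.presheaf.stalk (f a)) (A.presheaf.stalk a))
      (FaithfulSMul.algebraMap_injective _ _)
  exact isReduced_of_isReduced_stalk B

/-- If some étale atlas of `F` is reduced, every scheme étale over `F` is reduced. -/
theorem isReduced_of_etale_of_isReducedSp {F : Sp S} (hF : IsReducedSp F) {U : Over S}
    (a : (yon S).obj U ⟶ F) (hae : RepWith @Etale a) : AlgebraicGeometry.IsReduced U.left := by
  obtain ⟨U₀, p, hpe, hps, hUr⟩ := hF
  have sq := hpe.rep.isPullback a
  obtain ⟨q, hq⟩ := (yon S).map_surjective (hpe.rep.fst a)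
  have hqe : Etale q.left := by
    have : RepWith @Etale ((yon S).map q) := by
      rw [hq]
      exact MorphismProperty.of_isPullback (P := RepWith @Etale) sq.flip hae
    exact (repWith_yon_map_iff @Etale q).1 this
  have hπe : Etale (hpe.rep.snd a).left := hpe.property_snd a
  have hπs : Surjective (hpe.rep.snd a).left := hps.property_snd a
  have : AlgebraicGeometry.IsReduced U₀.left := hUr
  have h1 : AlgebraicGeometry.IsReduced (hpe.rep.pullback a).left :=
    Groth.Agent.H4.SmRed.isReduced_of_smooth_scheme q.left
  exact isReduced_of_flat_surjective (hpe.rep.snd a).left hπs.surj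

/-- **An immersion which is quasi-compact or has reduced source is a scheme theoretically dense,
topologically dense open immersion into its scheme theoretic image.** -/
theorem immersion_into_schImage (hX : IsAlgSpace X) (hZbar : IsAlgSpace Zbar) {h : Z ⟶ X}
    (hh : RepWith @IsImmersion h) (hq : IsQuasiCompactMor h ∨ IsReducedSp Z) {c : Zbar ⟶ X}
    (hc : IsSchImage h c) {h' : Z ⟶ Zbar} (fac : h' ≫ c = h) :
    RepWith @IsOpenImmersion h' ∧ IsSchDense h' ∧ Dense (Set.range (Points.map h')) := by
  have hcl := hc.1
  have hmc : Mono c := mono_of_repWith_isClosedImmersion hcl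
  have sqh' : IsPullback (𝟙 Z) h' h c := isPullback_of_mono_comp h c h' fac
  have hh' : RepWith @IsImmersion h' := (RepWith @IsImmersion).of_isPullback sqh' hh
  obtain ⟨V, φ, hφe, hφs⟩ := hX.atlas
  have sqc := hcl.rep.isPullback φ
  have hcVc : IsClosedImmersion (hcl.rep.snd φ).left := hcl.property_snd φ
  set cV := hcl.rep.snd φ with hcV
  set l := hcl.rep.fst φ with hl
  have hle : RepWith @Etale l := (RepWith @Etale).of_isPullback sqc.flip hφe
  have hls : RepWith @Surjective l := (RepWith @Surjective).of_isPullback sqc.flip hφs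
  have sqm := hh'.rep.isPullback l
  have hmi : IsImmersion (hh'.rep.snd l).left := hh'.property_snd l
  set m := hh'.rep.snd l with hm
  set k := hh'.rep.fst l with hk
  have big : IsPullback k ((yon S).map (m ≫ cV)) h φ := by
    rw [Functor.map_comp, ← fac]
    exact sqm.paste_vert sqc
  rcases hq with hq | hZr
  · -- quasi-compact case
    have hdense : Dense (Set.range (Points.map h')) :=
      dense_range_of_range_subset_closure hX hcl fac (range_subset_closure_of_isSchImage hX hq hc)
    have hqc : RepWith @QuasiCompact h := repWith_quasiCompact_of_isQuasiCompactMor hh.rep hq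
    have hg1 : IsImmersion (m.left ≫ cV.left) := hh.property _ _ _ big
    have hg2 : QuasiCompact (m.left ≫ cV.left) := hqc.property _ _ _ big
    have : Sheaf.IsLocallySurjective big.isoPullback.hom := inferInstance
    have hker : (m.left ≫ cV.left).ker = cV.left.ker :=
      (isKer_of_cover _ big.isoPullback.hom (m ≫ cV) big.isoPullback_hom_snd).unique
        (isKer_of_isPullback_of_isSchImage hX hq hZbar hc φ hφe cV l sqc)
    have hmo : IsOpenImmersion m.left := isOpenImmersion_of_comp_of_ker_eq m.left cV.left hker
    have hmker : m.left.ker = ⊥ := ker_eq_bot_of_ker_comp_eq m.left cV.left hker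
    have hmqc : QuasiCompact m.left := QuasiCompact.of_comp m.left cV.left
    obtain ⟨h1, h2⟩ := isSchDense_of_chart hh'.rep hle hls sqm hmo (fun W ⟨e, he⟩ => by
      have he' : e.hom.left ≫ W.ι = m.left := congrArg (fun t => t.left) he
      have hiso : IsIso e.hom.left := inferInstanceAs (IsIso ((Over.forget S).map e.hom))
      have hWι : W.ι = inv e.hom.left ≫ m.left := by rw [← he', IsIso.inv_hom_id_assoc]
      have hWqc : QuasiCompact W.ι := by rw [hWι]; infer_instance
      apply isSchematicallyDense_of_ker_eq_bot
      rw [hWι, Scheme.Hom.ker_comp_of_isIso, hmker])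
    exact ⟨h1, h2, hdense⟩
  · -- reduced case
    obtain ⟨-, hrange, hred⟩ := isRedInduced_of_isSchImage hX h c hZr hc
    have hdense : Dense (Set.range (Points.map h')) :=
      dense_range_of_range_subset_closure hX hcl fac hrange.le
    have hAr : AlgebraicGeometry.IsReduced (hcl.rep.pullback φ).left :=
      isReduced_of_etale_of_isReducedSp hred l hle
    have hmd : DenseRange m.left := by
      change Dense (Set.range m.left)
      rw [← preimage_range_points_map h' sqm]
      exact hdense.preimage (isOpenMap_ofPt_of_etale hle)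
    have hmo : IsOpenImmersion m.left := isOpenImmersion_of_isImmersion_of_denseRange m.left hmd
    obtain ⟨h1, h2⟩ := isSchDense_of_chart hh'.rep hle hls sqm hmo (fun W ⟨e, he⟩ => by
      have he' : e.hom.left ≫ W.ι = m.left := congrArg (fun t => t.left) he
      have hiso : IsIso e.hom.left := inferInstanceAs (IsIso ((Over.forget S).map e.hom))
      apply isSchematicallyDense_of_dense_of_isReduced
      have : (W : Set (hcl.rep.pullback φ).left) = Set.range m.left := by
        rw [← he', Scheme.Hom.comp_base, TopCat.coe_comp, Set.range_comp,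
          Set.range_eq_univ.2 e.hom.left.surjective, Set.image_univ, Scheme.Opens.range_ι]
      rw [this]
      exact hmd)
    exact ⟨h1, h2, hdense⟩

end Space

end Groth.Agent.H5.AlgSp
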