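import Groth.Prelude.Def_QuotSh
import Groth.Agent.Lib.Helper5.AlgSp.EtaleQuot
import Mathlib

set_option autoImplicit false

universe u

open CategoryTheory CategoryTheory.Limits AlgebraicGeometry Opposite

namespace Groth.Agent.H5.AlgSp

open _root_.AlgSp

variable {S : Scheme.{u}}

/-- Naturality of the identification `rep ≅ h`. -/
lemma repIso_inv_naturality {V W : Over S} (g : V ⟶ W) :
    (yon S).map g ≫ (QuotSh.repIsoUliftYoneda Scheme.fppfPrecoverage W).inv =
      (QuotSh.repIsoUliftYoneda Scheme.fppfPrecoverage V).inv ≫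
        QuotSh.repMap Scheme.fppfPrecoverage g := by
  have := (sheafificationNatIso (J S) (Type (u + 1))).hom.naturality ((yon S).map g)
  exact this

end Groth.Agent.H5.AlgSp

namespace Groth.Agent.H5.AlgSp

open _root_.AlgSp

variable {S : Scheme.{u}} {R U : Over S} (s t : R ⟶ U)

/-- The chart `h_U ⟶ U/R` of the frozen quotient sheaf. -/
noncomputable def quotChart : (yon S).obj U ⟶ QuotSh.quot Scheme.fppfPrecoverage s t :=
  (QuotSh.repIsoUliftYoneda Scheme.fppfPrecoverage U).inv ≫
    QuotSh.quotπ Scheme.fppfPrecoverage s t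

lemma quotChart_condition :
    (yon S).map s ≫ quotChart s t = (yon S).map t ≫ quotChart s t := by
  unfold quotChart
  rw [← Category.assoc, repIso_inv_naturality, Category.assoc, QuotSh.quot_condition,
    ← Category.assoc, ← repIso_inv_naturality, Category.assoc]

lemma repIso_hom_naturality {V W : Over S} (g : V ⟶ W) :
    QuotSh.repMap Scheme.fppfPrecoverage g ≫
      (QuotSh.repIsoUliftYoneda Scheme.fppfPrecoverage W).hom =
      (QuotSh.repIsoUliftYoneda Scheme.fppfPrecoverage V).hom ≫ (yon S).map g := by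
  rw [← Iso.inv_comp_eq, ← Category.assoc, ← repIso_inv_naturality, Category.assoc,
    Iso.inv_hom_id, Category.comp_id]

/-- The inverse comparison map. -/
noncomputable def quotInv :
    QuotSh.quot Scheme.fppfPrecoverage s t ⟶ quotSp ((yon S).map s) ((yon S).map t) :=
  coequalizer.desc (f := QuotSh.repMap Scheme.fppfPrecoverage s)
    (g := QuotSh.repMap Scheme.fppfPrecoverage t)
    ((QuotSh.repIsoUliftYoneda Scheme.fppfPrecoverage U).hom ≫
      quotSpπ ((yon S).map s) ((yon S).map t)) (by
    rw [← Category.assoc, repIso_hom_naturality, Category.assoc, quotSp_condition,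
      ← Category.assoc, ← repIso_hom_naturality, Category.assoc])

lemma quotπ_quotInv : QuotSh.quotπ Scheme.fppfPrecoverage s t ≫ quotInv s t =
    (QuotSh.repIsoUliftYoneda Scheme.fppfPrecoverage U).hom ≫
      quotSpπ ((yon S).map s) ((yon S).map t) :=
  coequalizer.π_desc _ _

lemma quotChart_quotInv : quotChart s t ≫ quotInv s t =
    quotSpπ ((yon S).map s) ((yon S).map t) := by
  unfold quotChart
  rw [Category.assoc, quotπ_quotInv, Iso.inv_hom_id_assoc]

lemma quotSh_hom_ext {Z : Sp S} (a b : QuotSh.quot Scheme.fppfPrecoverage s t ⟶ Z)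
    (h : QuotSh.quotπ Scheme.fppfPrecoverage s t ≫ a =
      QuotSh.quotπ Scheme.fppfPrecoverage s t ≫ b) : a = b :=
  coequalizer.hom_ext h

lemma quotSp_hom_ext {A B Z : Sp S} {f g : A ⟶ B} (a b : quotSp f g ⟶ Z)
    (h : quotSpπ f g ≫ a = quotSpπ f g ≫ b) : a = b :=
  coequalizer.hom_ext h

/-- The frozen quotient sheaf is the coequalizer of `h_s, h_t`. -/
noncomputable def quotIso :
    quotSp ((yon S).map s) ((yon S).map t) ≅ QuotSh.quot Scheme.fppfPrecoverage s t where
  hom := quotSpDesc (quotChart s t) (quotChart_condition s t)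
  inv := quotInv s t
  hom_inv_id := by
    apply quotSp_hom_ext
    rw [quotSpπ_desc_assoc, Category.comp_id, quotChart_quotInv]
  inv_hom_id := by
    apply quotSh_hom_ext
    rw [← Category.assoc, quotπ_quotInv, Category.assoc, quotSpπ_desc, Category.comp_id]
    unfold quotChart
    rw [Iso.hom_inv_id_assoc]

lemma quotSpπ_quotIso_hom :
    quotSpπ ((yon S).map s) ((yon S).map t) ≫ (quotIso s t).hom = quotChart s t :=
  quotSpπ_desc _ _ _ _

/-- S9868 -/
theorem isAlgSpace_quot (h : IsEtaleEqvRel s t) :
    IsAlgSpace (QuotSh.quot Scheme.fppfPrecoverage s t) :=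
  (isAlgSpace_quotSp s t h).of_iso (quotIso s t)

/-- S9869 -/
theorem isPresentation_quotChart (h : IsEtaleEqvRel s t) : IsPresentation s t (quotChart s t) := by
  have hP := isPresentation_quotSpπ s t h
  rw [← quotSpπ_quotIso_hom]
  exact ⟨h, MorphismProperty.RespectsIso.postcomp _ _ _ hP.etale,
    MorphismProperty.RespectsIso.postcomp _ _ _ hP.surjective,
    IsPullback.of_iso hP.isPullback (Iso.refl _) (Iso.refl _) (Iso.refl _) (quotIso s t)
      (by simp) (by simp) (by simp) (by simp)⟩

end Groth.Agent.H5.AlgSp
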