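import Groth.Agent.Lib.Helper5.AlgSp.Basic

/-!
# Restriction of an (etale) equivalence relation along a morphism
-/

set_option autoImplicit false

universe u

open CategoryTheory CategoryTheory.Limits AlgebraicGeometry Opposite

namespace Groth.Agent.H5.AlgSp

open _root_.AlgSp

section general

set_option linter.unusedSectionVars false

variable {C : Type*} [Category C] [HasBinaryProducts C] [HasPullbacks C]
  {R U R' U' : C} {s t : R ⟶ U} {g : U' ⟶ U} {s' t' : R' ⟶ U'} {r : R' ⟶ R}

lemma restrict_w_fst (hsq : IsPullback (prod.lift t' s') r (prod.map g g) (prod.lift t s)) :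
    t' ≫ g = r ≫ t := by
  have := congrArg (· ≫ prod.fst) hsq.w
  rwa [Category.assoc, prod.map_fst, ← Category.assoc, prod.lift_fst, Category.assoc,
    prod.lift_fst] at this

lemma restrict_w_snd (hsq : IsPullback (prod.lift t' s') r (prod.map g g) (prod.lift t s)) :
    s' ≫ g = r ≫ s := by
  have := congrArg (· ≫ prod.snd) hsq.w
  rwa [Category.assoc, prod.map_snd, ← Category.assoc, prod.lift_snd, Category.assoc,
    prod.lift_snd] at this

/-- Lift into the restricted relation. -/
lemma restrict_exists_lift (hsq : IsPullback (prod.lift t' s') r (prod.map g g) (prod.lift t s))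
    {T : C} (a b : T ⟶ U') (ρ : T ⟶ R) (h1 : ρ ≫ t = a ≫ g) (h2 : ρ ≫ s = b ≫ g) :
    ∃ ρ' : T ⟶ R', ρ' ≫ t' = a ∧ ρ' ≫ s' = b ∧ ρ' ≫ r = ρ := by
  have hc : prod.lift a b ≫ prod.map g g = ρ ≫ prod.lift t s := by
    apply Limits.prod.hom_ext
    · rw [Category.assoc, prod.map_fst, ← Category.assoc, prod.lift_fst, Category.assoc,
        prod.lift_fst, h1]
    · rw [Category.assoc, prod.map_snd, ← Category.assoc, prod.lift_snd, Category.assoc,
        prod.lift_snd, h2]
  refine ⟨hsq.lift _ _ hc, ?_, ?_, hsq.lift_snd _ _ _⟩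
  · have := congrArg (· ≫ prod.fst) (hsq.lift_fst _ _ hc)
    rwa [Category.assoc, prod.lift_fst, prod.lift_fst] at this
  · have := congrArg (· ≫ prod.snd) (hsq.lift_fst _ _ hc)
    rwa [Category.assoc, prod.lift_snd, prod.lift_snd] at this

lemma restrict_hom_ext (hsq : IsPullback (prod.lift t' s') r (prod.map g g) (prod.lift t s))
    {T : C} (ρ₁ ρ₂ : T ⟶ R') (h1 : ρ₁ ≫ t' = ρ₂ ≫ t') (h2 : ρ₁ ≫ s' = ρ₂ ≫ s')
    (h3 : ρ₁ ≫ r = ρ₂ ≫ r) : ρ₁ = ρ₂ := by
  apply hsq.hom_ext
  · apply Limits.prod.hom_ext
    · rw [Category.assoc, prod.lift_fst, Category.assoc, prod.lift_fst, h1]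
    · rw [Category.assoc, prod.lift_snd, Category.assoc, prod.lift_snd, h2]
  · exact h3

/-- `R' ⟶ R ×_{s,U} U'` is a base change of `g` (along `R ×_U U' ⟶ R ⟶ U`, the latter `t`). -/
lemma restrict_isPullback_left
    (hsq : IsPullback (prod.lift t' s') r (prod.map g g) (prod.lift t s)) :
    IsPullback (pullback.lift r s' (restrict_w_snd hsq).symm) t' (pullback.fst s g ≫ t) g := by
  have hm1 : pullback.lift r s' (restrict_w_snd hsq).symm ≫ pullback.fst s g = r :=
    pullback.lift_fst _ _ _
  have hm2 : pullback.lift r s' (restrict_w_snd hsq).symm ≫ pullback.snd s g = s' :=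
    pullback.lift_snd _ _ _
  refine ⟨⟨by rw [← Category.assoc, hm1, restrict_w_fst hsq]⟩,
    ⟨PullbackCone.IsLimit.mk _ (fun c => (restrict_exists_lift hsq c.snd
      (c.fst ≫ pullback.snd s g) (c.fst ≫ pullback.fst s g) (by
        rw [Category.assoc, c.condition]) (by
        rw [Category.assoc, Category.assoc, pullback.condition])).choose) ?_ ?_ ?_⟩⟩
  · intro c
    obtain ⟨h1, h2, h3⟩ := (restrict_exists_lift hsq c.snd
      (c.fst ≫ pullback.snd s g) (c.fst ≫ pullback.fst s g) (by
        rw [Category.assoc, c.condition]) (by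
        rw [Category.assoc, Category.assoc, pullback.condition])).choose_spec
    apply pullback.hom_ext
    · rw [Category.assoc, hm1, h3]
    · rw [Category.assoc, hm2, h2]
  · intro c
    exact (restrict_exists_lift hsq c.snd
      (c.fst ≫ pullback.snd s g) (c.fst ≫ pullback.fst s g) (by
        rw [Category.assoc, c.condition]) (by
        rw [Category.assoc, Category.assoc, pullback.condition])).choose_spec.1
  · intro c m hm1' hm2'
    obtain ⟨h1, h2, h3⟩ := (restrict_exists_lift hsq c.snd
      (c.fst ≫ pullback.snd s g) (c.fst ≫ pullback.fst s g) (by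
        rw [Category.assoc, c.condition]) (by
        rw [Category.assoc, Category.assoc, pullback.condition])).choose_spec
    apply restrict_hom_ext hsq
    · rw [hm2', h1]
    · rw [h2, ← hm1', Category.assoc, hm2]
    · rw [h3, ← hm1', Category.assoc, hm1]

/-- The restricted square with the roles of `s` and `t` exchanged. -/
lemma restrict_swap (hsq : IsPullback (prod.lift t' s') r (prod.map g g) (prod.lift t s)) :
    IsPullback (prod.lift s' t') r (prod.map g g) (prod.lift s t) := by
  have hc : ∀ c : PullbackCone (prod.map g g) (prod.lift s t),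
      c.snd ≫ t = (c.fst ≫ prod.snd) ≫ g ∧ c.snd ≫ s = (c.fst ≫ prod.fst) ≫ g := by
    intro c
    constructor
    · have := congrArg (· ≫ prod.snd) c.condition
      rw [Category.assoc, prod.map_snd, Category.assoc, prod.lift_snd] at this
      rw [← this, Category.assoc]
    · have := congrArg (· ≫ prod.fst) c.condition
      rw [Category.assoc, prod.map_fst, Category.assoc, prod.lift_fst] at this
      rw [← this, Category.assoc]
  refine ⟨⟨?_⟩, ⟨PullbackCone.IsLimit.mk _ (fun c => (restrict_exists_lift hsq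
    (c.fst ≫ prod.snd) (c.fst ≫ prod.fst) c.snd (hc c).1 (hc c).2).choose) ?_ ?_ ?_⟩⟩
  · apply Limits.prod.hom_ext
    · rw [Category.assoc, prod.map_fst, ← Category.assoc, prod.lift_fst, Category.assoc,
        prod.lift_fst, restrict_w_snd hsq]
    · rw [Category.assoc, prod.map_snd, ← Category.assoc, prod.lift_snd, Category.assoc,
        prod.lift_snd, restrict_w_fst hsq]
  · intro c
    obtain ⟨h1, h2, h3⟩ := (restrict_exists_lift hsq
      (c.fst ≫ prod.snd) (c.fst ≫ prod.fst) c.snd (hc c).1 (hc c).2).choose_spec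
    apply Limits.prod.hom_ext
    · rw [Category.assoc, prod.lift_fst, h2]
    · rw [Category.assoc, prod.lift_snd, h1]
  · intro c
    exact (restrict_exists_lift hsq
      (c.fst ≫ prod.snd) (c.fst ≫ prod.fst) c.snd (hc c).1 (hc c).2).choose_spec.2.2
  · intro c m hm1 hm2
    obtain ⟨h1, h2, h3⟩ := (restrict_exists_lift hsq
      (c.fst ≫ prod.snd) (c.fst ≫ prod.fst) c.snd (hc c).1 (hc c).2).choose_spec
    apply restrict_hom_ext hsq
    · rw [h1, ← hm1, Category.assoc, prod.lift_snd]
    · rw [h2, ← hm1, Category.assoc, prod.lift_fst]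
    · rw [h3, hm2]

/-- `s'` is a composite of a base change of `g` and a base change of `s`. -/
lemma restrict_prop_left (P : MorphismProperty C) [P.IsStableUnderBaseChange]
    [P.IsStableUnderComposition]
    (hsq : IsPullback (prod.lift t' s') r (prod.map g g) (prod.lift t s)) (hg : P g) (hs : P s) :
    P s' := by
  have h1 : P (pullback.lift r s' (restrict_w_snd hsq).symm) :=
    P.of_isPullback (restrict_isPullback_left hsq).flip hg
  have h2 : P (pullback.snd s g) := P.pullback_snd _ _ hs
  have := P.comp_mem _ _ h1 h2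
  rwa [pullback.lift_snd] at this

end general

variable {S : Scheme.{u}}

lemma restrict_isEqvRel {R U R' U' : Over S} {s t : R ⟶ U} {g : U' ⟶ U} {s' t' : R' ⟶ U'}
    {r : R' ⟶ R} (hsq : IsPullback (prod.lift t' s') r (prod.map g g) (prod.lift t s))
    (h : IsEqvRel s t) : IsEqvRel s' t' := by
  have key : ∀ (T : Over S) (a b : T ⟶ U'),
      (∃ ρ' : T ⟶ R', ρ' ≫ t' = a ∧ ρ' ≫ s' = b) ↔
        ∃ ρ : T ⟶ R, ρ ≫ t = a ≫ g ∧ ρ ≫ s = b ≫ g := by
    intro T a b
    constructor
    · rintro ⟨ρ', rfl, rfl⟩
      exact ⟨ρ' ≫ r, by rw [Category.assoc, ← restrict_w_fst hsq, Category.assoc],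
        by rw [Category.assoc, ← restrict_w_snd hsq, Category.assoc]⟩
    · rintro ⟨ρ, h1, h2⟩
      obtain ⟨ρ', h1', h2', -⟩ := restrict_exists_lift hsq a b ρ h1 h2
      exact ⟨ρ', h1', h2'⟩
  refine ⟨?_, ?_⟩
  · intro T ρ₁ ρ₂ h1 h2
    apply restrict_hom_ext hsq _ _ h1 h2
    apply h.injective
    · rw [Category.assoc, Category.assoc, ← restrict_w_fst hsq, ← Category.assoc,
        ← Category.assoc, h1]
    · rw [Category.assoc, Category.assoc, ← restrict_w_snd hsq, ← Category.assoc,
        ← Category.assoc, h2]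
  · intro T
    have hE := h.equivalence T
    refine ⟨fun a => (key T a a).2 (hE.refl _), fun {a b} hab => (key T b a).2
      (hE.symm ((key T a b).1 hab)), fun {a b c} h1 h2 => (key T a c).2
      (hE.trans ((key T a b).1 h1) ((key T b c).1 h2))⟩

theorem restrict_isEtaleEqvRel {R U R' U' : Over S} {s t : R ⟶ U} {g : U' ⟶ U}
    {s' t' : R' ⟶ U'} {r : R' ⟶ R}
    (hsq : IsPullback (prod.lift t' s') r (prod.map g g) (prod.lift t s))
    (h : IsEtaleEqvRel s t) (hg : Etale g.left) : IsEtaleEqvRel s' t' where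
  toIsEqvRel := restrict_isEqvRel hsq h.toIsEqvRel
  etale_left := restrict_prop_left (MorphismProperty.inverseImage (@Etale : MorphismProperty Scheme.{u}) (Over.forget S)) hsq hg h.etale_left
  etale_right := restrict_prop_left (MorphismProperty.inverseImage (@Etale : MorphismProperty Scheme.{u}) (Over.forget S)) (restrict_swap hsq) hg
    h.etale_right

end Groth.Agent.H5.AlgSp
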