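import Groth.Agent.Lib.Helper5.AlgSp.OpenImmCrit
import Groth.Agent.Lib.Helper5.AlgSp.QuotCmp
import Groth.Agent.Lib.Helper5.AlgSp.Restrict
import Groth.Agent.Lib.Helper5.AlgSp.ChartFamily
import Mathlib

/-!
# Restriction of equivalence relations and open immersions of quotient sheaves
-/

set_option autoImplicit false

universe u

open CategoryTheory CategoryTheory.Limits AlgebraicGeometry Opposite

namespace Groth.Agent.H5.AlgSp

open _root_.AlgSp

variable {S : Scheme.{u}}

section Points

variable {R U : Over S} (s t : R ⟶ U)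

/-- Two points of `U` have the same image in `U/R` iff they are related by a point of `R`. -/
theorem ofPt_quotSpπ_eq_iff (hR : IsEqvRel s t) (u₁ u₂ : U.left) :
    Points.ofPt (quotSpπ ((yon S).map s) ((yon S).map t)) u₁ =
      Points.ofPt (quotSpπ ((yon S).map s) ((yon S).map t)) u₂ ↔
      ∃ ρ : R.left, t.left ρ = u₁ ∧ s.left ρ = u₂ := by
  set π := quotSpπ ((yon S).map s) ((yon S).map t) with hπ
  constructor
  · intro h
    have sq := isPullback_quotSpπ s t hR
    have h' : Points.map π (Points.ofScheme U u₁) = Points.ofPt π u₂ := by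
      rw [← Points.ofPt_eq_map_ofScheme, h]
    obtain ⟨ρ, h1, h2⟩ := exists_point_of_isPullback sq (Points.ofScheme U u₁) u₂ h'
    refine ⟨ρ, ?_, h1⟩
    have := congrArg (Points.toScheme U) h2
    rwa [Points.toScheme_ofPt, Points.toScheme_ofScheme] at this
  · rintro ⟨ρ, rfl, rfl⟩
    rw [← ofPt_yon_map_comp, ← ofPt_yon_map_comp, quotSp_condition]

end Points

section Restrict

variable {R U R' U' : Over S} {s t : R ⟶ U} {g : U' ⟶ U} {s' t' : R' ⟶ U'} {r : R' ⟶ R}
  (hsq : IsPullback (prod.lift t' s') r (prod.map g g) (prod.lift t s)) (hR : IsEqvRel s t)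
  (φ : quotSp ((yon S).map s') ((yon S).map t') ⟶ quotSp ((yon S).map s) ((yon S).map t))
  (hφ : quotSpπ ((yon S).map s') ((yon S).map t') ≫ φ =
    (yon S).map g ≫ quotSpπ ((yon S).map s) ((yon S).map t))

include hsq hR hφ in
/-- The map of quotient sheaves induced by a restriction is a monomorphism. -/
theorem mono_quot_restrict : Mono φ := by
  set π := quotSpπ ((yon S).map s) ((yon S).map t) with hπ
  set π' := quotSpπ ((yon S).map s') ((yon S).map t') with hπ'
  have sq := isPullback_quotSpπ s t hR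
  apply mono_of_yon
  intro T x y hxy
  have hcov := (J S).intersection_covering (liftSieve_mem π' x) (liftSieve_mem π' y)
  apply yon_hom_ext_of_mem_J hcov
  rintro T₁ k ⟨⟨a, ha⟩, ⟨b, hb⟩⟩
  obtain ⟨a₀, rfl⟩ := (yon S).map_surjective a
  obtain ⟨b₀, rfl⟩ := (yon S).map_surjective b
  rw [← ha, ← hb]
  have h1 : (yon S).map (a₀ ≫ g) ≫ π = (yon S).map (b₀ ≫ g) ≫ π := by
    rw [Functor.map_comp, Functor.map_comp, Category.assoc, Category.assoc, ← hφ,
      ← Category.assoc, ← Category.assoc, ha, hb, Category.assoc, Category.assoc, hxy]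
  obtain ⟨ρ₀, hρ₀⟩ := (yon S).map_surjective (sq.lift _ _ h1)
  have e1 : ρ₀ ≫ t = a₀ ≫ g := by
    apply (yon S).map_injective
    rw [Functor.map_comp, hρ₀, sq.lift_fst]
  have e2 : ρ₀ ≫ s = b₀ ≫ g := by
    apply (yon S).map_injective
    rw [Functor.map_comp, hρ₀, sq.lift_snd]
  obtain ⟨ρ', h1', h2', -⟩ := restrict_exists_lift hsq a₀ b₀ ρ₀ e1 e2
  rw [← h1', ← h2', Functor.map_comp, Functor.map_comp, Category.assoc, Category.assoc,
    quotSp_condition]

end Restrict

section Saturation

variable {R U R' U' : Over S} {s t : R ⟶ U} {g : U' ⟶ U} {s' t' : R' ⟶ U'} {r : R' ⟶ R}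
  (hsq : IsPullback (prod.lift t' s') r (prod.map g g) (prod.lift t s)) (hR : IsEqvRel s t)
  (φ : quotSp ((yon S).map s') ((yon S).map t') ⟶ quotSp ((yon S).map s) ((yon S).map t))
  (hφ : quotSpπ ((yon S).map s') ((yon S).map t') ≫ φ =
    (yon S).map g ≫ quotSpπ ((yon S).map s) ((yon S).map t))

/-- The saturation map `R ×_{t,U,g} U' ⟶ U`, `(ρ, u') ↦ s ρ`. -/
noncomputable abbrev satMap (s t : R ⟶ U) (g : U' ⟶ U) : pullback t g ⟶ U := pullback.fst t g ≫ s

lemma satMap_left_prop (P : MorphismProperty Scheme.{u}) [P.IsStableUnderBaseChange]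
    [P.IsStableUnderComposition] (hs : P s.left) (hg : P g.left) : P (satMap s t g).left := by
  have sqS := (IsPullback.of_hasPullback t g).map (Over.forget S)
  have h1 : P (pullback.fst t g).left := P.of_isPullback sqS.flip hg
  exact P.comp_mem _ _ h1 hs

include hR hφ in
/-- The points of `U` whose image in `U/R` comes from `U'/R'`. -/
theorem ofPt_mem_range_quot_restrict_iff (u : U.left) :
    Points.ofPt (quotSpπ ((yon S).map s) ((yon S).map t)) u ∈ Set.range (Points.map φ) ↔
      u ∈ Set.range (satMap s t g).left := by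
  set π := quotSpπ ((yon S).map s) ((yon S).map t) with hπ
  set π' := quotSpπ ((yon S).map s') ((yon S).map t') with hπ'
  have sqS : IsPullback (pullback.fst t g).left (pullback.snd t g).left t.left g.left :=
    (IsPullback.of_hasPullback t g).map (Over.forget S)
  constructor
  · rintro ⟨z, hz⟩
    obtain ⟨z₀, rfl⟩ := points_map_surjective_of_isLocallySurjective π' z
    obtain ⟨u', rfl⟩ := (Points.schemeHomeo U').surjective z₀
    have h1 : Points.ofPt π (g.left u') = Points.ofPt π u := by
      rw [← hz, ← ofPt_yon_map_comp, ← hφ, ← Points.map_ofPt]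
      congr 1
    obtain ⟨ρ, h2, h3⟩ := (ofPt_quotSpπ_eq_iff s t hR _ _).1 h1
    obtain ⟨m, hm1, -⟩ := Scheme.exists_preimage_of_isPullback sqS ρ u' h2
    refine ⟨m, ?_⟩
    rw [Over.comp_left, Scheme.Hom.comp_apply]
    change s.left ((pullback.fst t g).left m) = u
    rw [hm1, h3]
  · rintro ⟨m, rfl⟩
    refine ⟨Points.ofPt π' ((pullback.snd t g).left m), ?_⟩
    rw [Points.map_ofPt, hφ, ofPt_yon_map_comp]
    apply (ofPt_quotSpπ_eq_iff s t hR _ _).2
    refine ⟨(pullback.fst t g).left m, ?_, ?_⟩
    · rw [← Scheme.Hom.comp_apply, ← Scheme.Hom.comp_apply, sqS.w]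
    · rw [Over.comp_left, Scheme.Hom.comp_apply]

end Saturation

section OpenImm

variable {R U R' U' : Over S} {s t : R ⟶ U} {g : U' ⟶ U} {s' t' : R' ⟶ U'} {r : R' ⟶ R}
  (hsq : IsPullback (prod.lift t' s') r (prod.map g g) (prod.lift t s)) (hR : IsEqvRel s t)
  (φ : quotSp ((yon S).map s') ((yon S).map t') ⟶ quotSp ((yon S).map s) ((yon S).map t))
  (hφ : quotSpπ ((yon S).map s') ((yon S).map t') ≫ φ =
    (yon S).map g ≫ quotSpπ ((yon S).map s) ((yon S).map t))

include hR hφ in
theorem isOpen_range_quot_restrict [Flat s.left] [LocallyOfFinitePresentation s.left]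
    [Flat g.left] [LocallyOfFinitePresentation g.left] :
    IsOpen (Set.range (Points.map φ)) := by
  set π := quotSpπ ((yon S).map s) ((yon S).map t) with hπ
  have hm1 : Flat (satMap s t g).left := satMap_left_prop @Flat inferInstance inferInstance
  have hm2 : LocallyOfFinitePresentation (satMap s t g).left :=
    satMap_left_prop @LocallyOfFinitePresentation inferInstance inferInstance
  have hmo : IsOpen (Set.range (satMap s t g).left) := (satMap s t g).left.isOpenMap.isOpen_range
  rw [Points.isOpen_iff]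
  intro T ξ
  rw [isOpen_iff_forall_mem_open]
  intro t₀ ht₀
  obtain ⟨V₀, ht₀V, -, Y, c, hc1, hc2, hc3, a, ha⟩ :=
    Groth.Agent.H5.Descent.exists_local_fppf_of_mem_J (liftSieve_mem π ξ) t₀
  obtain ⟨a₀, rfl⟩ := (yon S).map_surjective a
  have key : ∀ y : Y.left, Points.ofPt ξ ((c ≫ overOpenι T V₀).left y) ∈ Set.range (Points.map φ) ↔
      a₀.left y ∈ Set.range (satMap s t g).left := by
    intro y
    rw [← ofPt_yon_map_comp, ← ha, ofPt_yon_map_comp]
    exact ofPt_mem_range_quot_restrict_iff hR φ hφ _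
  refine ⟨(c ≫ overOpenι T V₀).left '' (a₀.left ⁻¹' Set.range (satMap s t g).left), ?_, ?_, ?_⟩
  · rintro _ ⟨y, hy, rfl⟩
    exact (key y).2 hy
  · have : IsOpenMap (c ≫ overOpenι T V₀).left := by
      rw [Over.comp_left]
      have h1 : IsOpenMap c.left := c.left.isOpenMap
      have h2 : IsOpenMap (overOpenι T V₀).left := V₀.ι.isOpenEmbedding.isOpenMap
      exact h2.comp h1
    exact this _ (hmo.preimage a₀.left.continuous)
  · obtain ⟨y₀, hy₀⟩ := c.left.surjective ⟨t₀, ht₀V⟩
    refine ⟨y₀, (key y₀).1 ?_, ?_⟩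
    · have : (c ≫ overOpenι T V₀).left y₀ = t₀ := by
        rw [Over.comp_left, Scheme.Hom.comp_apply, hy₀]; rfl
      rw [this]; exact ht₀
    · rw [Over.comp_left, Scheme.Hom.comp_apply, hy₀]; rfl

include hR hφ in
theorem liftSieve_quot_restrict_mem [Flat s.left] [LocallyOfFinitePresentation s.left]
    [Flat g.left] [LocallyOfFinitePresentation g.left] {T : Over S}
    (ξ : (yon S).obj T ⟶ quotSp ((yon S).map s) ((yon S).map t))
    (hξ : ∀ t₀, Points.ofPt ξ t₀ ∈ Set.range (Points.map φ)) : liftSieve φ ξ ∈ J S T := by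
  set π := quotSpπ ((yon S).map s) ((yon S).map t) with hπ
  set π' := quotSpπ ((yon S).map s') ((yon S).map t') with hπ'
  have hm1 : Flat (satMap s t g).left := satMap_left_prop @Flat inferInstance inferInstance
  have hm2 : LocallyOfFinitePresentation (satMap s t g).left :=
    satMap_left_prop @LocallyOfFinitePresentation inferInstance inferInstance
  refine (J S).transitive (liftSieve_mem π ξ) _ ?_
  rintro T₁ k ⟨a, ha⟩
  obtain ⟨a₀, rfl⟩ := (yon S).map_surjective a
  have hmem : ∀ y : T₁.left, a₀.left y ∈ Set.range (satMap s t g).left := by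
    intro y
    rw [← ofPt_mem_range_quot_restrict_iff hR φ hφ, ← ofPt_yon_map_comp, ha, ofPt_yon_map_comp]
    exact hξ _
  have sqO := IsPullback.of_hasPullback a₀ (satMap s t g)
  have sqS : IsPullback (pullback.fst a₀ (satMap s t g)).left (pullback.snd a₀ (satMap s t g)).left
      a₀.left (satMap s t g).left := sqO.map (Over.forget S)
  have h1 : Flat (pullback.fst a₀ (satMap s t g)).left :=
    MorphismProperty.of_isPullback (P := @Flat) sqS.flip hm1
  have h2 : LocallyOfFinitePresentation (pullback.fst a₀ (satMap s t g)).left :=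
    MorphismProperty.of_isPullback (P := @LocallyOfFinitePresentation) sqS.flip hm2
  have h3 : Surjective (pullback.fst a₀ (satMap s t g)).left := by
    refine ⟨fun y => ?_⟩
    obtain ⟨m, hm⟩ := hmem y
    obtain ⟨z, hz, -⟩ := Scheme.exists_preimage_of_isPullback sqS y m hm.symm
    exact ⟨z, hz⟩
  apply mem_J_of_fppf (pullback.fst a₀ (satMap s t g)) h1 h2 h3
  change (liftSieve φ ξ).arrows (pullback.fst a₀ (satMap s t g) ≫ k)
  refine ⟨(yon S).map (pullback.snd a₀ (satMap s t g) ≫ pullback.snd t g) ≫ π', ?_⟩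
  have e1 : (pullback.snd a₀ (satMap s t g) ≫ pullback.snd t g) ≫ g =
      (pullback.snd a₀ (satMap s t g) ≫ pullback.fst t g) ≫ t := by
    rw [Category.assoc, Category.assoc, pullback.condition]
  have e2 : (pullback.snd a₀ (satMap s t g) ≫ pullback.fst t g) ≫ s =
      pullback.fst a₀ (satMap s t g) ≫ a₀ := by
    rw [Category.assoc]; exact sqO.w.symm
  rw [Category.assoc, hφ, ← Category.assoc, ← Functor.map_comp, e1, Functor.map_comp,
    Category.assoc, ← quotSp_condition, ← Category.assoc, ← Functor.map_comp, e2,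
    Functor.map_comp, Category.assoc, ha, Functor.map_comp, Category.assoc]

include hsq hR hφ in
/-- **`U'/R' ⟶ U/R` is an open immersion** for the restriction of a flat, locally finitely
presented equivalence relation along a flat, locally finitely presented morphism. -/
theorem repWith_isOpenImmersion_quot_restrict [Flat s.left] [LocallyOfFinitePresentation s.left]
    [Flat g.left] [LocallyOfFinitePresentation g.left] : RepWith @IsOpenImmersion φ := by
  have := mono_quot_restrict hsq hR φ hφ
  exact repWith_isOpenImmersion_of_mono_of_isOpen_range φ (isOpen_range_quot_restrict hR φ hφ)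
    (fun T ξ hξ => liftSieve_quot_restrict_mem hR φ hφ ξ hξ)

end OpenImm

end Groth.Agent.H5.AlgSp
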