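import Groth.Agent.Lib.Helper5.AlgSp.RefinedDVRPre
import Mathlib

/-!
# The refined valuative criterion for discrete valuation rings: points of a chart which do not
extend over a valuation ring
-/

set_option autoImplicit false

universe u

open CategoryTheory CategoryTheory.Limits AlgebraicGeometry Opposite IsLocalRing

namespace Groth.Agent.H5.AlgSp

open _root_.AlgSp

variable {S : Scheme.{u}}

section ClaimE

variable {T : Over S} [IsAffine T.left] {P : Sp S} (q : P ⟶ (yon S).obj T)

/-- Let `q : P ⟶ h_T` be separated with `T` affine, `a' : h_{W'} ⟶ P` a chart by an affine scheme,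
`B` a valuation ring of a field `L` and `lB : Spec B ⟶ P` a morphism whose closed point is not in
the image of the chart.  Then no lift `σ₀ : Spec L ⟶ W'` of the generic point extends to
`Spec B`: some function on `W'` has value outside `B`. -/
theorem exists_not_mem_of_closedPoint_not_mem_range (hsep : IsSeparatedMor q)
    {W' : Over S} [IsAffine W'.left] (a' : (yon S).obj W' ⟶ P)
    {L : Type u} [Field L] (B : ValuationSubring L) (sB : Spec (CommRingCat.of B) ⟶ S)
    (lB : (yon S).obj (Over.mk sB) ⟶ P)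
    (hcl : Points.ofPt lB (closedPoint B) ∉ Set.range (Points.ofPt a'))
    (σ₀ : Spec (CommRingCat.of L) ⟶ W'.left)
    (hw : σ₀ ≫ W'.hom = Spec.map (CommRingCat.ofHom (algebraMap B L)) ≫ sB)
    (hσ : (yon S).map (Over.homMk σ₀ hw :
        Over.mk (Spec.map (CommRingCat.ofHom (algebraMap B L)) ≫ sB) ⟶ W') ≫ a' =
      (yon S).map (Over.homMk (Spec.map (CommRingCat.ofHom (algebraMap B L))) rfl :
        Over.mk (Spec.map (CommRingCat.ofHom (algebraMap B L)) ≫ sB) ⟶ Over.mk sB) ≫ lB) :
    ∃ c : Γ(W'.left, ⊤), (sharpR σ₀).hom c ∉ B := by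
  by_contra hall
  push Not at hall
  obtain ⟨g', hg'⟩ := (yon S).map_surjective (a' ≫ q)
  obtain ⟨gB, hgB⟩ := (yon S).map_surjective (lB ≫ q)
  let jB : Over.mk (Spec.map (CommRingCat.ofHom (algebraMap B L)) ≫ sB) ⟶ Over.mk sB :=
    Over.homMk (Spec.map (CommRingCat.ofHom (algebraMap B L))) rfl
  let σ : Over.mk (Spec.map (CommRingCat.ofHom (algebraMap B L)) ≫ sB) ⟶ W' := Over.homMk σ₀ hw
  have hσ' : (yon S).map σ ≫ a' = (yon S).map jB ≫ lB := hσ
  let ρ : Γ(W'.left, ⊤) ⟶ CommRingCat.of B :=
    CommRingCat.ofHom ((sharpR σ₀).hom.codRestrict B.toSubring hall)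
  have hρ : ρ ≫ CommRingCat.ofHom (algebraMap B L) = sharpR σ₀ := by
    ext x
    rfl
  let m' : Spec (CommRingCat.of B) ⟶ W'.left := ofSharpR ρ
  have hm'σ : Spec.map (CommRingCat.ofHom (algebraMap B L)) ≫ m' = σ₀ := by
    apply sharpR_injective
    rw [sharpR_comp, sharpR_ofSharpR, hρ]
  have hmono : Mono (CommRingCat.ofHom (algebraMap B L)) := by
    apply ConcreteCategory.mono_of_injective
    exact B.subtype_injective
  have hT1 : σ ≫ g' = jB ≫ gB := by
    apply (yon S).map_injective
    rw [Functor.map_comp, Functor.map_comp, hg', hgB, ← Category.assoc, hσ', Category.assoc]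
  have hT2 : σ₀ ≫ g'.left = Spec.map (CommRingCat.ofHom (algebraMap B L)) ≫ gB.left :=
    congrArg (·.left) hT1
  have hm'T : m' ≫ g'.left = gB.left := by
    apply sharpR_injective
    have h1 : sharpR (m' ≫ g'.left) ≫ CommRingCat.ofHom (algebraMap B L) =
        sharpR gB.left ≫ CommRingCat.ofHom (algebraMap B L) := by
      rw [← sharpR_comp, ← sharpR_comp, ← Category.assoc, hm'σ, hT2]
    exact (cancel_mono _).1 h1
  have hm'w : m' ≫ W'.hom = sB := by
    have h1 : g'.left ≫ T.hom = W'.hom := Over.w g'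
    have h2 : gB.left ≫ T.hom = sB := Over.w gB
    rw [← h1, ← Category.assoc, hm'T, h2]
  let m'O : Over.mk sB ⟶ W' := Over.homMk m' hm'w
  have hjm : jB ≫ m'O = σ := by
    apply Over.OverMorphism.ext
    exact hm'σ
  have hmg : m'O ≫ g' = gB := by
    apply Over.OverMorphism.ext
    exact hm'T
  let sq : ValSq q :=
    { A := B, K := L, str := sB, top := (yon S).map jB ≫ lB, bot := lB ≫ q,
      comm := by rw [Category.assoc] }
  have hu : sq.HasUniq := uniqVC_of_isSeparatedMor hsep sq
  have heq : lB = (yon S).map m'O ≫ a' := by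
    refine hu lB ((yon S).map m'O ≫ a') rfl rfl ?_ ?_
    · change (yon S).map jB ≫ (yon S).map m'O ≫ a' = (yon S).map jB ≫ lB
      rw [← Category.assoc, ← Functor.map_comp, hjm, hσ']
    · change ((yon S).map m'O ≫ a') ≫ q = lB ≫ q
      rw [Category.assoc, ← hg', ← Functor.map_comp, hmg, hgB]
  apply hcl
  refine ⟨m' (closedPoint B), ?_⟩
  rw [heq, ofPt_yon_map_comp]
  rfl

end ClaimE

end Groth.Agent.H5.AlgSp
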