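import Groth.Agent.Lib.Helper5.AlgSp.ValuativeRefined
import Groth.Agent.Lib.Helper8.DVRSch2
import Mathlib

/-!
# Residue fields of points of schemes locally of finite type over an affine scheme are finitely
generated over the image of the ring of functions
-/

set_option autoImplicit false

universe u

open CategoryTheory CategoryTheory.Limits AlgebraicGeometry Opposite IsLocalRing

namespace Groth.Agent.H5.AlgSp

theorem exists_finset_closure_sharpR {U₀ T₀ : Scheme.{u}} [IsAffine T₀] (g : U₀ ⟶ T₀)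
    [LocallyOfFiniteType g] (u₀ : U₀) {L : Type u} [Field L] (ι : U₀.residueField u₀ →+* L)
    (sL : Finset L) (hsL : Subfield.closure (Set.range ι ∪ sL) = ⊤) :
    ∃ s : Finset L, Subfield.closure (Set.range (sharpR
      (Spec.map (CommRingCat.ofHom ι) ≫ U₀.fromSpecResidueField u₀ ≫ g)).hom ∪ s) = ⊤ := by
  classical
  obtain ⟨U₁, hU₁, huU₁, -⟩ :=
    exists_isAffineOpen_mem_and_subset (x := u₀) (U := ⊤) (TopologicalSpace.Opens.mem_top u₀)
  have hle : U₁ ≤ g ⁻¹ᵁ ⊤ := fun _ _ => trivial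
  let φ' := g.appLE ⊤ U₁ hle
  have hφ' : RingHom.FiniteType φ'.hom := g.finiteType_appLE (isAffineOpen_top T₀) hU₁ hle
  let ev := U₀.evaluation U₁ u₀ huU₁
  let ψ : Γ(T₀, ⊤) ⟶ CommRingCat.of (U₀.residueField u₀) := φ' ≫ ev
  have hfac : Spec.map ψ ≫ (isAffineOpen_top T₀).fromSpec = U₀.fromSpecResidueField u₀ ≫ g := by
    change Spec.map (φ' ≫ ev) ≫ (isAffineOpen_top T₀).fromSpec = _
    rw [Spec.map_comp, Category.assoc,
      IsAffineOpen.SpecMap_appLE_fromSpec g (isAffineOpen_top T₀) hU₁ hle, ← Category.assoc,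
      Groth.Agent.H8.DVRSch.specMap_evaluation_fromSpec hU₁ huU₁]
  have hsharp : sharpR (Spec.map (CommRingCat.ofHom ι) ≫ U₀.fromSpecResidueField u₀ ≫ g) =
      ψ ≫ CommRingCat.ofHom ι := by
    rw [← hfac, IsAffineOpen.fromSpec_top, sharpR_comp]
    change sharpR (ofSharpR ψ) ≫ _ = _
    rw [sharpR_ofSharpR]
  let _ : Algebra Γ(T₀, ⊤) Γ(U₀, U₁) := φ'.hom.toAlgebra
  have hft : Algebra.FiniteType Γ(T₀, ⊤) Γ(U₀, U₁) := hφ'
  obtain ⟨s₀, hs₀⟩ := hft.out
  refine ⟨(s₀.image (fun x => ι (ev.hom x))) ∪ sL, ?_⟩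
  rw [hsharp]
  set F := Subfield.closure (Set.range (ψ ≫ CommRingCat.ofHom ι).hom ∪
    ((s₀.image (fun x => ι (ev.hom x)) ∪ sL : Finset L) : Set L)) with hF
  have hev : ∀ a : Γ(U₀, U₁), ι (ev.hom a) ∈ F := by
    intro a
    have ha : a ∈ Algebra.adjoin Γ(T₀, ⊤) (s₀ : Set Γ(U₀, U₁)) := hs₀ ▸ Algebra.mem_top
    induction ha using Algebra.adjoin_induction with
    | mem x hx =>
      refine Subfield.subset_closure (Or.inr ?_)
      rw [Finset.coe_union, Finset.coe_image]
      exact Or.inl ⟨x, hx, rfl⟩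
    | algebraMap r => exact Subfield.subset_closure (Or.inl ⟨r, rfl⟩)
    | add x y _ _ hx hy =>
      rw [map_add, map_add]; exact Subfield.add_mem _ hx hy
    | mul x y _ _ hx hy =>
      rw [map_mul, map_mul]; exact Subfield.mul_mem _ hx hy
  have hι : ∀ x : U₀.residueField u₀, ι x ∈ F := by
    intro x
    have hx : x ∈ Subfield.closure (Set.range (U₀.evaluation U₁ u₀ huU₁).hom) := by
      rw [Groth.Agent.H8.DVRSch.closure_range_evaluation hU₁ huU₁]
      exact Subfield.mem_top x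
    induction hx using Subfield.closure_induction with
    | mem y hy =>
      obtain ⟨a, rfl⟩ := hy
      exact hev a
    | one => rw [map_one]; exact Subfield.one_mem _
    | add x y _ _ hx hy => rw [map_add]; exact Subfield.add_mem _ hx hy
    | neg x _ hx => rw [map_neg]; exact Subfield.neg_mem _ hx
    | inv x _ hx => rw [map_inv₀]; exact Subfield.inv_mem _ hx
    | mul x y _ _ hx hy => rw [map_mul]; exact Subfield.mul_mem _ hx hy
  rw [eq_top_iff, ← hsL, Subfield.closure_le]
  rintro y (⟨x, rfl⟩ | hy)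
  · exact hι x
  · refine Subfield.subset_closure (Or.inr ?_)
    rw [Finset.coe_union]
    exact Or.inr hy

end Groth.Agent.H5.AlgSp
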