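import Groth.Agent.Lib.Helper5.AlgSp.RefinedDVRPre
import Mathlib

/-!
# The refined valuative criterion for discrete valuation rings: étale localization
-/

set_option autoImplicit false

universe u

open CategoryTheory CategoryTheory.Limits AlgebraicGeometry Opposite IsLocalRing

namespace Groth.Agent.H5.AlgSp

open _root_.AlgSp

variable {S : Scheme.{u}}

/-- **Étale localization of a morphism from the spectrum of a valuation ring** (with domination).  Let
`a' : h_{W'} ⟶ P` be an étale chart by an affine scheme and `lB : Spec B ⟶ P` a morphism from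
the spectrum of a valuation ring of a field `L` whose closed point lies in the image of the
chart.  Then there are an extension `L'` of `L`, a valuation ring `B'` of `L'` with
`B' ∩ L = B` and a lift `Spec L' ⟶ W'` of the generic point all of whose values on functions
lie in `B'`. -/
theorem exists_valuationSubring_ext_lift_dom {P : Sp S} {W' : Over S} [IsAffine W'.left]
    (a' : (yon S).obj W' ⟶ P) (ha' : RepWith @Etale a')
    {L : Type u} [Field L] (B : ValuationSubring L) (sB : Spec (CommRingCat.of B) ⟶ S)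
    (lB : (yon S).obj (Over.mk sB) ⟶ P)
    (hcl : Points.ofPt lB (closedPoint B) ∈ Set.range (Points.ofPt a')) :
    ∃ (L' : Type u) (_ : Field L') (ι' : L →+* L') (B' : ValuationSubring L')
      (σ₀' : Spec (CommRingCat.of L') ⟶ W'.left)
      (hw' : σ₀' ≫ W'.hom = Spec.map (CommRingCat.ofHom (ι'.comp (algebraMap B L))) ≫ sB),
      (∀ z : L, ι' z ∈ B' → z ∈ B) ∧
      (∀ z : L, z ∈ B → ι' z ∈ B') ∧
      (∀ z : L, z ∈ B.nonunits → ι' z ∈ B'.nonunits) ∧
      (∀ c : Γ(W'.left, ⊤), (sharpR σ₀').hom c ∈ B') ∧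
      (yon S).map (Over.homMk σ₀' hw' :
          Over.mk (Spec.map (CommRingCat.ofHom (ι'.comp (algebraMap B L))) ≫ sB) ⟶ W') ≫ a' =
        (yon S).map (Over.homMk (Spec.map (CommRingCat.ofHom (ι'.comp (algebraMap B L)))) rfl :
          Over.mk (Spec.map (CommRingCat.ofHom (ι'.comp (algebraMap B L))) ≫ sB) ⟶
            Over.mk sB) ≫ lB := by
  have hrep := ha'.rep
  let E : Over S := hrep.pullback lB
  let sndE : E ⟶ Over.mk sB := hrep.snd lB
  have sqE : IsPullback (hrep.fst lB) ((yon S).map sndE) a' lB := hrep.isPullback lB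
  obtain ⟨sE, hsE⟩ := (yon S).map_surjective (hrep.fst lB)
  have hEt : Etale sndE.left := ha'.property_snd lB
  let e : E.left ⟶ Spec (CommRingCat.of B) := sndE.left
  have hEte : Etale e := hEt
  have hEw : e ≫ sB = E.hom := Over.w sndE
  have hsEw : sE.left ≫ W'.hom = E.hom := Over.w sE
  obtain ⟨w'', hw''⟩ := hcl
  have hw2 : Points.map a' (Points.ofScheme W' w'') = Points.ofPt lB (closedPoint B) := by
    rw [← Points.ofPt_eq_map_ofScheme]
    exact hw''
  obtain ⟨e₀, he₀, -⟩ := exists_point_of_isPullback sqE (Points.ofScheme W' w'') (closedPoint B) hw2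
  have he₀' : e e₀ = closedPoint B := he₀
  -- the generic point
  let η : Spec (CommRingCat.of B) := ⟨⊥, Ideal.isPrime_bot⟩
  have hη : η ⤳ e e₀ := by
    rw [he₀']
    exact (PrimeSpectrum.le_iff_specializes η (closedPoint B)).1 bot_le
  obtain ⟨e₁, he₁₀, he₁⟩ := (Flat.generalizingMap e) hη
  -- the valuation ring
  let ρ : E.left.presheaf.stalk e₀ ⟶ E.left.residueField e₁ :=
    E.left.presheaf.stalkSpecializes he₁₀ ≫ E.left.residue e₁
  obtain ⟨B', hB', hB'loc⟩ := exists_factor_valuationRing ρ.hom
  let θ : E.left.presheaf.stalk e₀ ⟶ CommRingCat.of B' :=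
    CommRingCat.ofHom (ρ.hom.codRestrict _ hB')
  have hθρ : θ ≫ CommRingCat.ofHom (algebraMap B' (E.left.residueField e₁)) = ρ := rfl
  let m : Spec (CommRingCat.of B') ⟶ E.left := Spec.map θ ≫ E.left.fromSpecStalk e₀
  have hI : Spec.map (CommRingCat.ofHom (algebraMap B' (E.left.residueField e₁))) ≫ m =
      E.left.fromSpecResidueField e₁ := by
    change Spec.map _ ≫ Spec.map θ ≫ _ = _
    rw [← Spec.map_comp_assoc, hθρ]
    change Spec.map (E.left.presheaf.stalkSpecializes he₁₀ ≫ E.left.residue e₁) ≫ _ = _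
    rw [Spec.map_comp, Category.assoc, Scheme.SpecMap_stalkSpecializes_fromSpecStalk]
    rfl
  have hmcp : m (closedPoint B') = e₀ := by
    have : Spec.map θ (closedPoint B') = closedPoint (E.left.presheaf.stalk e₀) :=
      comap_closedPoint (S := B') (ρ.hom.codRestrict B'.toSubring hB')
    rw [Scheme.Hom.comp_apply, this, E.left.fromSpecStalk_closedPoint]
  let β : CommRingCat.of B ⟶ CommRingCat.of B' := Spec.preimage (m ≫ e)
  have hβ : Spec.map β = m ≫ e := Spec.map_preimage _
  have hβloc : IsLocalHom β.hom := by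
    rw [isLocalHom_iff_comap_closedPoint]
    change Spec.map β (closedPoint B') = closedPoint B
    rw [hβ, Scheme.Hom.comp_apply, hmcp, he₀']
  -- the map of fraction fields
  let γ : B →+* E.left.residueField e₁ :=
    (algebraMap B' (E.left.residueField e₁)).comp β.hom
  have hγspec : Spec.map (CommRingCat.ofHom γ) = E.left.fromSpecResidueField e₁ ≫ e := by
    change Spec.map (β ≫ CommRingCat.ofHom (algebraMap B' (E.left.residueField e₁))) = _
    rw [Spec.map_comp, hβ, ← Category.assoc, hI]
  have hγinj : Function.Injective γ := by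
    rw [injective_iff_map_eq_zero]
    intro b hb
    have h1 : Spec.map (CommRingCat.ofHom γ) (closedPoint (E.left.residueField e₁)) = η := by
      rw [hγspec, Scheme.Hom.comp_apply, Scheme.fromSpecResidueField_apply, he₁]
    have h2 : b ∈ (Spec.map (CommRingCat.ofHom γ)
        (closedPoint (E.left.residueField e₁))).asIdeal := by
      change γ b ∈ (closedPoint (E.left.residueField e₁)).asIdeal
      rw [hb]
      exact Ideal.zero_mem _
    rw [h1] at h2
    exact h2
  let ι' : L →+* E.left.residueField e₁ := IsFractionRing.lift hγinj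
  have hι' : ∀ b : B, ι' (algebraMap B L b) = γ b := fun b => IsFractionRing.lift_algebraMap hγinj b
  have hι'comp : ι'.comp (algebraMap B L) = γ := RingHom.ext hι'
  -- the lift
  let σ₀' : Spec (CommRingCat.of (E.left.residueField e₁)) ⟶ W'.left :=
    Spec.map (CommRingCat.ofHom (algebraMap B' (E.left.residueField e₁))) ≫ m ≫ sE.left
  have hμe : (Spec.map (CommRingCat.ofHom (algebraMap B' (E.left.residueField e₁))) ≫ m) ≫ e =
      Spec.map (CommRingCat.ofHom (ι'.comp (algebraMap B L))) := by
    rw [hι'comp, hγspec, hI]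
  have hμw : (Spec.map (CommRingCat.ofHom (algebraMap B' (E.left.residueField e₁))) ≫ m) ≫ E.hom =
      Spec.map (CommRingCat.ofHom (ι'.comp (algebraMap B L))) ≫ sB := by
    rw [← hEw, ← Category.assoc, hμe]
  have hw' : σ₀' ≫ W'.hom = Spec.map (CommRingCat.ofHom (ι'.comp (algebraMap B L))) ≫ sB := by
    change (Spec.map _ ≫ m ≫ sE.left) ≫ W'.hom = _
    rw [Category.assoc, Category.assoc, hsEw, ← Category.assoc, hμw]
  refine ⟨E.left.residueField e₁, inferInstance, ι', B', σ₀', hw', ?_, ?_, ?_, ?_, ?_⟩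
  · intro z hz
    by_contra hzB
    have hz0 : z ≠ 0 := fun h => hzB (h ▸ B.zero_mem)
    have hzi : z⁻¹ ∈ B := (B.mem_or_inv_mem z).resolve_left hzB
    have hnu : (⟨z⁻¹, hzi⟩ : B) ∈ maximalIdeal B := by
      rw [mem_maximalIdeal, mem_nonunits_iff]
      intro hu
      obtain ⟨v, hv⟩ := hu.exists_right_inv
      apply hzB
      have h1 : z⁻¹ * (v : L) = 1 := congrArg Subtype.val hv
      have h2 : (v : L) = z := by
        field_simp at h1
        exact h1
      rw [← h2]
      exact v.2
    have hβm : β.hom ⟨z⁻¹, hzi⟩ ∈ maximalIdeal B' := by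
      rw [mem_maximalIdeal, mem_nonunits_iff]
      intro hu
      have hu2 : IsUnit (⟨z⁻¹, hzi⟩ : B) := (isUnit_map_iff β.hom _).1 hu
      exact (mem_nonunits_iff.1 ((mem_maximalIdeal _).1 hnu)) hu2
    have h3 : ((β.hom ⟨z⁻¹, hzi⟩ : B') : E.left.residueField e₁) = (ι' z)⁻¹ := by
      have := hι' ⟨z⁻¹, hzi⟩
      change ι' z⁻¹ = _ at this
      rw [map_inv₀] at this
      exact this.symm
    have h4 : (ι' z)⁻¹ ∈ B'.nonunits := by
      rw [← h3]
      exact (ValuationSubring.coe_mem_nonunits_iff).2 hβm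
    rw [ValuationSubring.inv_mem_nonunits_iff] at h4
    rcases h4 with h4 | h4
    · exact hz0 ((map_eq_zero ι').1 h4)
    · exact h4 hz
  · intro z hz
    have := hι' ⟨z, hz⟩
    change ι' z = _ at this
    rw [this]
    exact (β.hom ⟨z, hz⟩).2
  · intro z hz
    obtain ⟨hzB, hzm⟩ := (ValuationSubring.mem_nonunits_iff_exists_mem_maximalIdeal).1 hz
    have hβm : β.hom ⟨z, hzB⟩ ∈ maximalIdeal B' := by
      rw [mem_maximalIdeal, mem_nonunits_iff]
      intro hu
      have hu2 : IsUnit (⟨z, hzB⟩ : B) := (isUnit_map_iff β.hom _).1 hu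
      exact (mem_nonunits_iff.1 ((mem_maximalIdeal _).1 hzm)) hu2
    have := hι' ⟨z, hzB⟩
    change ι' z = _ at this
    rw [this]
    exact (ValuationSubring.coe_mem_nonunits_iff).2 hβm
  · intro c
    change (sharpR (Spec.map (CommRingCat.ofHom (algebraMap B' (E.left.residueField e₁))) ≫
      m ≫ sE.left)).hom c ∈ B'
    rw [sharpR_comp]
    exact ((sharpR (m ≫ sE.left)).hom c).2
  · let μ : Over.mk (Spec.map (CommRingCat.ofHom (ι'.comp (algebraMap B L))) ≫ sB) ⟶ E :=
      Over.homMk (Spec.map (CommRingCat.ofHom (algebraMap B' (E.left.residueField e₁))) ≫ m) hμw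
    have e1 : (Over.homMk σ₀' hw' :
        Over.mk (Spec.map (CommRingCat.ofHom (ι'.comp (algebraMap B L))) ≫ sB) ⟶ W') = μ ≫ sE := by
      apply Over.OverMorphism.ext
      change σ₀' = (Spec.map _ ≫ m) ≫ sE.left
      rw [Category.assoc]
    have e2 : μ ≫ sndE =
        (Over.homMk (Spec.map (CommRingCat.ofHom (ι'.comp (algebraMap B L)))) rfl :
          Over.mk (Spec.map (CommRingCat.ofHom (ι'.comp (algebraMap B L))) ≫ sB) ⟶
            Over.mk sB) := by
      apply Over.OverMorphism.ext
      exact hμe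
    rw [e1, Functor.map_comp, Category.assoc, hsE, sqE.w, ← Category.assoc, ← Functor.map_comp, e2]

/-- **Étale localization of a morphism from the spectrum of a valuation ring.**  Let
`a' : h_{W'} ⟶ P` be an étale chart by an affine scheme and `lB : Spec B ⟶ P` a morphism from
the spectrum of a valuation ring of a field `L` whose closed point lies in the image of the
chart.  Then there are an extension `L'` of `L`, a valuation ring `B'` of `L'` with
`B' ∩ L = B` and a lift `Spec L' ⟶ W'` of the generic point all of whose values on functions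
lie in `B'`. -/
theorem exists_valuationSubring_ext_lift {P : Sp S} {W' : Over S} [IsAffine W'.left]
    (a' : (yon S).obj W' ⟶ P) (ha' : RepWith @Etale a')
    {L : Type u} [Field L] (B : ValuationSubring L) (sB : Spec (CommRingCat.of B) ⟶ S)
    (lB : (yon S).obj (Over.mk sB) ⟶ P)
    (hcl : Points.ofPt lB (closedPoint B) ∈ Set.range (Points.ofPt a')) :
    ∃ (L' : Type u) (_ : Field L') (ι' : L →+* L') (B' : ValuationSubring L')
      (σ₀' : Spec (CommRingCat.of L') ⟶ W'.left)
      (hw' : σ₀' ≫ W'.hom = Spec.map (CommRingCat.ofHom (ι'.comp (algebraMap B L))) ≫ sB),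
      (∀ z : L, ι' z ∈ B' → z ∈ B) ∧
      (∀ c : Γ(W'.left, ⊤), (sharpR σ₀').hom c ∈ B') ∧
      (yon S).map (Over.homMk σ₀' hw' :
          Over.mk (Spec.map (CommRingCat.ofHom (ι'.comp (algebraMap B L))) ≫ sB) ⟶ W') ≫ a' =
        (yon S).map (Over.homMk (Spec.map (CommRingCat.ofHom (ι'.comp (algebraMap B L)))) rfl :
          Over.mk (Spec.map (CommRingCat.ofHom (ι'.comp (algebraMap B L))) ≫ sB) ⟶
            Over.mk sB) ≫ lB := by
  obtain ⟨L', i, ι', B', σ₀', hw', h1, -, -, h2, h3⟩ :=
    exists_valuationSubring_ext_lift_dom a' ha' B sB lB hcl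
  exact ⟨L', i, ι', B', σ₀', hw', h1, h2, h3⟩

end Groth.Agent.H5.AlgSp
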