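import Groth.Agent.Lib.Helper5.AlgSp.RefinedDVRPre
import Groth.Agent.Lib.Helper5.Alg.FiniteExtPoints
import Mathlib

/-!
# The refined valuative criterion for discrete valuation rings: points of a chart over a field
-/

set_option autoImplicit false

universe u

open CategoryTheory CategoryTheory.Limits AlgebraicGeometry Opposite IsLocalRing

namespace Groth.Agent.H5.AlgSp

open _root_.AlgSp Groth.Agent.H5.Val

variable {S : Scheme.{u}}

/-- A morphism from the spectrum of a ring to an affine scheme over `Spec K` is a morphism over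
`Spec K` iff the corresponding ring map is a map of `K`-algebras. -/
lemma comp_eq_specMap_iff {E : Scheme.{u}} [IsAffine E] {K L : CommRingCat.{u}}
    (e : E ⟶ Spec K) (ε : Spec L ⟶ E) (ι : K ⟶ L) :
    ε ≫ e = Spec.map ι ↔ ((Scheme.ΓSpecIso K).inv ≫ e.appTop) ≫ sharpR ε = ι := by
  have h1 : sharpR (ε ≫ e) = e.appTop ≫ sharpR ε := by
    unfold sharpR
    rw [Scheme.Hom.comp_appTop, Category.assoc]
  have h2 : sharpR (Spec.map ι) = (Scheme.ΓSpecIso K).hom ≫ ι := by
    unfold sharpR
    rw [Scheme.ΓSpecIso_naturality]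
  constructor
  · intro h
    rw [Category.assoc, ← h1, h, h2, Iso.inv_hom_id_assoc]
  · intro h
    apply sharpR_injective
    rw [h1, h2, ← h, Category.assoc, Iso.hom_inv_id_assoc]

/-- A finite-dimensional field extension is finitely generated as a field. -/
lemma exists_finset_closure_eq_top_of_finiteDimensional {K L : Type u} [Field K] [Field L]
    [Algebra K L] [FiniteDimensional K L] :
    ∃ s : Finset L, Subfield.closure (Set.range (algebraMap K L) ∪ s) = ⊤ := by
  obtain ⟨s, hs⟩ := (Module.Finite.fg_top : (⊤ : Submodule K L).FG)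
  refine ⟨s, ?_⟩
  rw [eq_top_iff]
  intro x hx0
  clear hx0
  have hx : x ∈ Submodule.span K (s : Set L) := hs ▸ Submodule.mem_top
  induction hx using Submodule.span_induction with
  | mem b hb => exact Subfield.subset_closure (Or.inr hb)
  | zero => exact Subfield.zero_mem _
  | add a b _ _ ha hb => exact Subfield.add_mem _ ha hb
  | smul r a _ ha =>
    rw [Algebra.smul_def]
    exact Subfield.mul_mem _ (Subfield.subset_closure (Or.inl ⟨r, rfl⟩)) ha

section Pts

variable {T : Over S} [IsAffine T.left] {P : Sp S} (q : P ⟶ (yon S).obj T)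

/-- **Points of an étale chart over a field-valued point.**  Let `q : P ⟶ h_T` be quasi-separated
with `T` affine, `a' : h_{W'} ⟶ P` an étale chart by an affine scheme and `xK : Spec K₁ ⟶ P` a
point.  There are a finite extension `L` of `K₁` and finitely many lifts `Spec L ⟶ W'` of the
point such that every lift `Spec L' ⟶ W'` over an extension `L'` of `L` factors through one of
them. -/
theorem exists_finite_points_chart (hqs : IsQuasiSeparatedMor q)
    {W' : Over S} [IsAffine W'.left] (a' : (yon S).obj W' ⟶ P) (ha' : RepWith @Etale a')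
    {K₁ : Type u} [Field K₁] (sK : Spec (CommRingCat.of K₁) ⟶ S)
    (xK : (yon S).obj (Over.mk sK) ⟶ P) :
    ∃ (L : Type u) (_ : Field L) (ι : K₁ →+* L) (sL : Finset L)
      (Sg : Set (Spec (CommRingCat.of L) ⟶ W'.left)),
      Subfield.closure (Set.range ι ∪ sL) = ⊤ ∧ Sg.Finite ∧
      (∀ σ₀ ∈ Sg, ∃ hw : σ₀ ≫ W'.hom = Spec.map (CommRingCat.ofHom ι) ≫ sK,
        (yon S).map (Over.homMk σ₀ hw : Over.mk (Spec.map (CommRingCat.ofHom ι) ≫ sK) ⟶ W') ≫ a' =
          (yon S).map (Over.homMk (Spec.map (CommRingCat.ofHom ι)) rfl :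
            Over.mk (Spec.map (CommRingCat.ofHom ι) ≫ sK) ⟶ Over.mk sK) ≫ xK) ∧
      ∀ (L' : Type u) [Field L'] (ι' : L →+* L') (σ₀' : Spec (CommRingCat.of L') ⟶ W'.left)
        (hw' : σ₀' ≫ W'.hom = Spec.map (CommRingCat.ofHom (ι'.comp ι)) ≫ sK),
        (yon S).map (Over.homMk σ₀' hw' :
            Over.mk (Spec.map (CommRingCat.ofHom (ι'.comp ι)) ≫ sK) ⟶ W') ≫ a' =
          (yon S).map (Over.homMk (Spec.map (CommRingCat.ofHom (ι'.comp ι))) rfl :
            Over.mk (Spec.map (CommRingCat.ofHom (ι'.comp ι)) ≫ sK) ⟶ Over.mk sK) ≫ xK →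
        ∃ σ₀ ∈ Sg, σ₀' = Spec.map (CommRingCat.ofHom ι') ≫ σ₀ := by
  have hrep := ha'.rep
  let E : Over S := hrep.pullback xK
  let sndE : E ⟶ Over.mk sK := hrep.snd xK
  have sqE : IsPullback (hrep.fst xK) ((yon S).map sndE) a' xK := hrep.isPullback xK
  obtain ⟨sE, hsE⟩ := (yon S).map_surjective (hrep.fst xK)
  have hEt : Etale sndE.left := ha'.property_snd xK
  have hKaff : IsAffine (Over.mk sK).left := (inferInstance : IsAffine (Spec _))
  have hEc : CompactSpace E.left :=
    compactSpace_pullback_of_isQuasiSeparatedMor' xK a' hrep q hqs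
  have hqc : QuasiCompact sndE.left := by
    rw [HasAffineProperty.iff_of_isAffine (P := @QuasiCompact)]
    exact hEc
  have hlqf : LocallyQuasiFinite sndE.left := locallyQuasiFinite_of_etale _
  have hart : IsLocallyArtinian (Over.mk sK).left :=
    Scheme.isLocallyArtinianScheme_Spec.mpr inferInstance
  have hfin : IsFinite sndE.left := IsFinite.of_locallyQuasiFinite _
  have hEaff : IsAffine E.left := isAffine_of_isAffineHom sndE.left
  let e : E.left ⟶ Spec (CommRingCat.of K₁) := sndE.left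
  let κ : CommRingCat.of K₁ ⟶ Γ(E.left, ⊤) :=
    (Scheme.ΓSpecIso (CommRingCat.of K₁)).inv ≫ e.appTop
  let _ : Algebra K₁ Γ(E.left, ⊤) := κ.hom.toAlgebra
  have hMfin : Module.Finite K₁ Γ(E.left, ⊤) := by
    have h1 : e.appTop.hom.Finite := Scheme.Hom.finite_appTop e
    have h2 : (Scheme.ΓSpecIso (CommRingCat.of K₁)).inv.hom.Finite :=
      RingHom.Finite.of_surjective _
        ((ConcreteCategory.bijective_of_isIso (Scheme.ΓSpecIso (CommRingCat.of K₁)).inv).2)
    exact RingHom.Finite.comp h1 h2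
  obtain ⟨L, hLf, hLa, hfd, hL⟩ := exists_finite_ext_algHom K₁ Γ(E.left, ⊤)
  obtain ⟨sL, hsL⟩ := exists_finset_closure_eq_top_of_finiteDimensional (K := K₁) (L := L)
  have hEw : sndE.left ≫ sK = E.hom := Over.w sndE
  have hsEw : sE.left ≫ W'.hom = E.hom := Over.w sE
  -- the key relation between points of `E` and algebra maps
  have key : ∀ {L' : Type u} [Field L'] (ι' : K₁ →+* L') (τ : Γ(E.left, ⊤) →+* L'),
      ofSharpR (CommRingCat.ofHom τ) ≫ e = Spec.map (CommRingCat.ofHom ι') ↔
        τ.comp (algebraMap K₁ Γ(E.left, ⊤)) = ι' := by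
    intro L' _ ι' τ
    rw [comp_eq_specMap_iff, sharpR_ofSharpR]
    constructor
    · intro h
      have := congrArg CommRingCat.Hom.hom h
      exact this
    · intro h
      ext x
      exact RingHom.congr_fun h x
  refine ⟨L, hLf, algebraMap K₁ L, sL,
    Set.range (fun τ : Γ(E.left, ⊤) →ₐ[K₁] L =>
      ofSharpR (CommRingCat.ofHom τ.toRingHom) ≫ sE.left), hsL, Set.finite_range _, ?_, ?_⟩
  · rintro _ ⟨τ, rfl⟩
    have h1 : ofSharpR (CommRingCat.ofHom τ.toRingHom) ≫ e =
        Spec.map (CommRingCat.ofHom (algebraMap K₁ L)) :=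
      (key _ _).2 τ.comp_algebraMap
    have hεw : ofSharpR (CommRingCat.ofHom τ.toRingHom) ≫ E.hom =
        Spec.map (CommRingCat.ofHom (algebraMap K₁ L)) ≫ sK := by
      rw [← hEw, ← Category.assoc]
      exact congrArg (· ≫ sK) h1
    have hw : (ofSharpR (CommRingCat.ofHom τ.toRingHom) ≫ sE.left) ≫ W'.hom =
        Spec.map (CommRingCat.ofHom (algebraMap K₁ L)) ≫ sK := by
      rw [Category.assoc, hsEw, hεw]
    refine ⟨hw, ?_⟩
    let εO : Over.mk (Spec.map (CommRingCat.ofHom (algebraMap K₁ L)) ≫ sK) ⟶ E :=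
      Over.homMk (ofSharpR (CommRingCat.ofHom τ.toRingHom)) hεw
    have e1 : (Over.homMk (ofSharpR (CommRingCat.ofHom τ.toRingHom) ≫ sE.left) hw :
        Over.mk (Spec.map (CommRingCat.ofHom (algebraMap K₁ L)) ≫ sK) ⟶ W') = εO ≫ sE := by
      apply Over.OverMorphism.ext
      rfl
    have e2 : εO ≫ sndE = (Over.homMk (Spec.map (CommRingCat.ofHom (algebraMap K₁ L))) rfl :
        Over.mk (Spec.map (CommRingCat.ofHom (algebraMap K₁ L)) ≫ sK) ⟶ Over.mk sK) := by
      apply Over.OverMorphism.ext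
      exact h1
    rw [e1, Functor.map_comp, Category.assoc, hsE, sqE.w, ← Category.assoc, ← Functor.map_comp, e2]
  · intro L' _ ι' σ₀' hw' hσ'
    let Z' : Over S := Over.mk (Spec.map (CommRingCat.ofHom (ι'.comp (algebraMap K₁ L))) ≫ sK)
    let jK' : Z' ⟶ Over.mk sK :=
      Over.homMk (Spec.map (CommRingCat.ofHom (ι'.comp (algebraMap K₁ L)))) rfl
    let σ' : Z' ⟶ W' := Over.homMk σ₀' hw'
    have hσ'' : (yon S).map σ' ≫ a' = (yon S).map jK' ≫ xK := hσ'
    obtain ⟨ε', hε'⟩ := (yon S).map_surjective (sqE.lift _ _ hσ'')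
    have hε1 : ε' ≫ sE = σ' := by
      apply (yon S).map_injective
      rw [Functor.map_comp, hε', hsE, sqE.lift_fst]
    have hε2 : ε' ≫ sndE = jK' := by
      apply (yon S).map_injective
      rw [Functor.map_comp, hε', sqE.lift_snd]
    have hε2' : ε'.left ≫ e = Spec.map (CommRingCat.ofHom (ι'.comp (algebraMap K₁ L))) :=
      congrArg (·.left) hε2
    have hofs : ofSharpR (sharpR ε'.left) = ε'.left := by
      apply sharpR_injective
      rw [sharpR_ofSharpR]
    have hτ' : (sharpR ε'.left).hom.comp (algebraMap K₁ Γ(E.left, ⊤)) =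
        ι'.comp (algebraMap K₁ L) := by
      rw [← key]
      change ofSharpR (sharpR ε'.left) ≫ e = _
      rw [hofs, hε2']
    obtain ⟨τ, hτ⟩ := hL L' ι' (sharpR ε'.left).hom hτ'
    refine ⟨_, ⟨τ, rfl⟩, ?_⟩
    have h3 : ε'.left = Spec.map (CommRingCat.ofHom ι') ≫
        ofSharpR (CommRingCat.ofHom τ.toRingHom) := by
      apply sharpR_injective
      rw [sharpR_comp, sharpR_ofSharpR]
      ext x
      exact RingHom.congr_fun hτ x
    have h4 : σ₀' = ε'.left ≫ sE.left := (congrArg (·.left) hε1).symm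
    rw [h4, h3, Category.assoc]

end Pts

end Groth.Agent.H5.AlgSp
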