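import Groth.Agent.Lib.Helper5.AlgSp.ValuativeRefined
import Groth.Agent.Lib.Helper5.Alg.DvrApprox
import Mathlib

/-!
# The refined valuative criterion for discrete valuation rings: two lemmas on schemes
-/

set_option autoImplicit false

universe u

open CategoryTheory CategoryTheory.Limits AlgebraicGeometry Opposite IsLocalRing

namespace Groth.Agent.H5.AlgSp

open Groth.Agent.H5.Val

lemma ofSharpR_sharpR {T₀ : Scheme.{u}} [IsAffine T₀] {R : CommRingCat.{u}} (γ : Spec R ⟶ T₀) :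
    ofSharpR (sharpR γ) = γ := sharpR_injective (sharpR_ofSharpR _)

lemma isoSpec_hom_apply {T₀ : Scheme.{u}} [IsAffine T₀] {R : CommRingCat.{u}} (γ : Spec R ⟶ T₀)
    (x : Spec R) : T₀.isoSpec.hom (γ x) = Spec.map (sharpR γ) x := by
  conv_lhs => rw [← ofSharpR_sharpR γ]
  unfold ofSharpR
  rw [Scheme.Hom.comp_apply, ← Scheme.Hom.comp_apply, Iso.inv_hom_id]
  rfl

lemma mem_asIdeal_isoSpec_hom_apply {T₀ : Scheme.{u}} [IsAffine T₀] {R : CommRingCat.{u}}
    (γ : Spec R ⟶ T₀) (x : Spec R) (r : Γ(T₀, ⊤)) :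
    r ∈ (T₀.isoSpec.hom (γ x)).asIdeal ↔ (sharpR γ).hom r ∈ x.asIdeal := by
  rw [isoSpec_hom_apply]
  rfl

/-- A valuation ring of an extension of the residue field of `u₀` centred at a specialization
of the image of `u₀`. -/
theorem exists_valuationSubring_of_specializes {U₀ W₀ : Scheme.{u}} (g₀ : U₀ ⟶ W₀) (u₀ : U₀)
    (w₀ : W₀) (hspec : g₀ u₀ ⤳ w₀) {L : Type u} [Field L] (ι : U₀.residueField u₀ →+* L) :
    ∃ (V₁ : ValuationSubring L) (mB : Spec (CommRingCat.of V₁) ⟶ W₀),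
      Spec.map (CommRingCat.ofHom (algebraMap V₁ L)) ≫ mB =
        Spec.map (CommRingCat.ofHom ι) ≫ U₀.fromSpecResidueField u₀ ≫ g₀ ∧
      mB (closedPoint V₁) = w₀ := by
  let ρ : W₀.presheaf.stalk w₀ ⟶ U₀.residueField u₀ :=
    W₀.presheaf.stalkSpecializes hspec ≫ g₀.stalkMap u₀ ≫ U₀.residue u₀
  have hρspec : Spec.map ρ ≫ W₀.fromSpecStalk w₀ = U₀.fromSpecResidueField u₀ ≫ g₀ := by
    rw [Scheme.fromSpecResidueField, Category.assoc, ← Scheme.SpecMap_stalkMap_fromSpecStalk,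
      ← Scheme.SpecMap_stalkSpecializes_fromSpecStalk hspec]
    simp_rw [← Spec.map_comp_assoc]
    rfl
  obtain ⟨V₁, hV₁, hV₁loc⟩ :=
    exists_factor_valuationRing (ι.comp ρ.hom)
  let θ₁ : W₀.presheaf.stalk w₀ ⟶ CommRingCat.of V₁ :=
    CommRingCat.ofHom ((ι.comp ρ.hom).codRestrict _ hV₁)
  have hθ₁ : θ₁ ≫ CommRingCat.ofHom (algebraMap V₁ L) = ρ ≫ CommRingCat.ofHom ι := rfl
  refine ⟨V₁, Spec.map θ₁ ≫ W₀.fromSpecStalk w₀, ?_, ?_⟩
  · rw [← Spec.map_comp_assoc, hθ₁, Spec.map_comp, Category.assoc, hρspec]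
    rfl
  · have : Spec.map θ₁ (closedPoint V₁) = closedPoint (W₀.presheaf.stalk w₀) :=
      comap_closedPoint (S := V₁)
        ((ι.comp ρ.hom).codRestrict V₁.toSubring hV₁)
    rw [Scheme.Hom.comp_apply, this, W₀.fromSpecStalk_closedPoint]

/-- **Approximation by a discrete valuation ring, for schemes.**  Let `T₀` be a Noetherian affine
scheme, `gL : Spec L ⟶ T₀` with `L` finitely generated over the image of the functions on `T₀`,
`V₁` a valuation ring of `L` over which `gL` extends, and `y` a specialization of the image of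
the closed point of `V₁`, different from the image of `gL`.  Given finitely many elements of the
maximal ideal of `V₁` there is a discrete valuation ring of `L` over which `gL` extends with
centre `y` and whose maximal ideal contains the given elements. -/
theorem exists_dvr_approx_scheme {T₀ : Scheme.{u}} [IsAffine T₀] [IsNoetherian T₀] {L : Type u}
    [Field L] (gL : Spec (CommRingCat.of L) ⟶ T₀) (V₁ : ValuationSubring L)
    (gB₁ : Spec (CommRingCat.of V₁) ⟶ T₀)
    (hgen : Spec.map (CommRingCat.ofHom (algebraMap V₁ L)) ≫ gB₁ = gL) (y : T₀)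
    (hy : gB₁ (closedPoint V₁) ⤳ y) (hne : gL (closedPoint L) ≠ y)
    (G : Finset L) (hG : ∀ x ∈ G, x ∈ V₁.nonunits) (s : Finset L)
    (hs : Subfield.closure (Set.range (sharpR gL).hom ∪ s) = ⊤) :
    ∃ (Vh : ValuationSubring L) (_ : IsDiscreteValuationRing Vh)
      (gBh : Spec (CommRingCat.of Vh) ⟶ T₀),
      Spec.map (CommRingCat.ofHom (algebraMap Vh L)) ≫ gBh = gL ∧
      gBh (closedPoint Vh) = y ∧ ∀ x ∈ G, x ∈ Vh.nonunits := by
  have hφ₁ : sharpR gL = sharpR gB₁ ≫ CommRingCat.ofHom (algebraMap V₁ L) := by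
    rw [← hgen, sharpR_comp]
  have hφV₁ : ∀ r, (sharpR gL).hom r ∈ V₁ := by
    intro r
    rw [hφ₁]
    exact ((sharpR gB₁).hom r).2
  have hpy : (T₀.isoSpec.hom y).asIdeal.IsPrime := (T₀.isoSpec.hom y).isPrime
  have hle : ∀ r, (sharpR gL).hom r ∈ V₁.nonunits → r ∈ (T₀.isoSpec.hom y).asIdeal := by
    intro r hr
    have h1 : (T₀.isoSpec.hom (gB₁ (closedPoint V₁))).asIdeal ≤ (T₀.isoSpec.hom y).asIdeal :=
      (PrimeSpectrum.le_iff_specializes _ _).2 (hy.map T₀.isoSpec.hom.continuous)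
    apply h1
    rw [mem_asIdeal_isoSpec_hom_apply]
    change (sharpR gB₁).hom r ∈ maximalIdeal V₁
    rw [← ValuationSubring.coe_mem_nonunits_iff]
    rw [hφ₁] at hr
    exact hr
  have hne' : ∃ r ∈ (T₀.isoSpec.hom y).asIdeal, (sharpR gL).hom r ≠ 0 := by
    have hy' : gL (closedPoint L) ⤳ y := by
      have h0 : gL (closedPoint L) ⤳ gB₁ (closedPoint V₁) := by
        rw [← hgen, Scheme.Hom.comp_apply]
        exact (specializes_closedPoint _).map gB₁.continuous
      exact h0.trans hy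
    have h1 : (T₀.isoSpec.hom (gL (closedPoint L))).asIdeal < (T₀.isoSpec.hom y).asIdeal := by
      refine lt_of_le_of_ne ((PrimeSpectrum.le_iff_specializes _ _).2
        (hy'.map T₀.isoSpec.hom.continuous)) ?_
      intro heq
      apply hne
      have h4 : T₀.isoSpec.hom (gL (closedPoint L)) = T₀.isoSpec.hom y := PrimeSpectrum.ext heq
      have h5 := congrArg T₀.isoSpec.inv h4
      simpa using h5
    obtain ⟨r, hr1, hr2⟩ := SetLike.exists_of_lt h1
    refine ⟨r, hr1, fun h0 => hr2 ?_⟩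
    rw [mem_asIdeal_isoSpec_hom_apply, h0]
    exact Ideal.zero_mem _
  have hTn : IsNoetherianRing Γ(T₀, ⊤) :=
    IsLocallyNoetherian.component_noetherian ⟨⊤, isAffineOpen_top T₀⟩
  obtain ⟨Vh, hdvr, hφVh, hcenter, hGVh⟩ :=
    exists_dvr_approx (sharpR gL).hom V₁ hφV₁ (T₀.isoSpec.hom y).asIdeal hle hne' G hG s hs
  let ρh : Γ(T₀, ⊤) ⟶ CommRingCat.of Vh :=
    CommRingCat.ofHom ((sharpR gL).hom.codRestrict Vh.toSubring hφVh)
  have hρh : ρh ≫ CommRingCat.ofHom (algebraMap Vh L) = sharpR gL := by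
    ext x
    rfl
  refine ⟨Vh, hdvr, ofSharpR ρh, ?_, ?_, hGVh⟩
  · apply sharpR_injective
    rw [sharpR_comp, sharpR_ofSharpR, hρh]
  · apply T₀.isoSpec.hom.homeomorph.injective
    change T₀.isoSpec.hom (ofSharpR ρh (closedPoint Vh)) = T₀.isoSpec.hom y
    apply PrimeSpectrum.ext
    ext r
    rw [mem_asIdeal_isoSpec_hom_apply, sharpR_ofSharpR, ← hcenter]
    change ρh.hom r ∈ maximalIdeal Vh ↔ _
    rw [← ValuationSubring.coe_mem_nonunits_iff]
    rfl

lemma comp_fromSpecResidueField_closedPoint {U₀ T₀ : Scheme.{u}} (g : U₀ ⟶ T₀) (u₀ : U₀)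
    {L : Type u} [Field L] (ι : U₀.residueField u₀ →+* L) :
    (Spec.map (CommRingCat.ofHom ι) ≫ U₀.fromSpecResidueField u₀ ≫ g) (closedPoint L) = g u₀ := by
  rw [Scheme.Hom.comp_apply, Scheme.Hom.comp_apply]
  congr 1
  have : Spec.map (CommRingCat.ofHom ι) (closedPoint L) =
      closedPoint (U₀.residueField u₀) := Subsingleton.elim _ _
  rw [this, Scheme.fromSpecResidueField_apply]

end Groth.Agent.H5.AlgSp
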