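import Groth.Agent.Lib.Helper5.AlgSp.RefinedDVRPre
import Groth.Agent.Lib.Helper5.AlgSp.RefinedDVRClaimE
import Groth.Agent.Lib.Helper5.AlgSp.RefinedDVRPts
import Groth.Agent.Lib.Helper5.AlgSp.RefinedDVRLoc
import Groth.Agent.Lib.Helper5.AlgSp.RefinedDVRFG
import Groth.Agent.Lib.Helper5.AlgSp.RefinedDVRSch
import Mathlib

/-!
# The refined valuative criterion for discrete valuation rings: the main argument
-/

set_option autoImplicit false

universe u

open CategoryTheory CategoryTheory.Limits AlgebraicGeometry Opposite IsLocalRing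

namespace Groth.Agent.H5.AlgSp

open _root_.AlgSp Groth.Agent.H5.Val

variable {S : Scheme.{u}}

lemma specMap_ofHom_comp {A B C : Type u} [CommRing A] [CommRing B] [CommRing C] (f : A →+* B)
    (g : B →+* C) : Spec.map (CommRingCat.ofHom (g.comp f)) =
      Spec.map (CommRingCat.ofHom g) ≫ Spec.map (CommRingCat.ofHom f) := by
  rw [CommRingCat.ofHom_comp, Spec.map_comp]

section Main

variable {T : Over S} [IsAffine T.left] [IsNoetherian T.left] {P U : Sp S}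
  (q : P ⟶ (yon S).obj T) (h : U ⟶ P)

/-- The main step: stability under specialization of the image of a closed set. -/
theorem stableUnderSpecialization_image_of_refDvrLift (hsep : IsSeparatedMor q)
    (hh : IsQuasiCompactMor h) (hhl : LocP @LocallyOfFiniteType h)
    (hd : DenseRange (Points.map h)) (hv : RefDvrLift h q)
    {W : Over S} [IsNoetherian W.left] (a : (yon S).obj W ⟶ P) (hae : RepWith @Etale a)
    (has : RepWith @Surjective a) (g : W ⟶ T) (hg : a ≫ q = (yon S).map g)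
    [LocallyOfFiniteType g.left] {C : Set (Points P)} (hC : IsClosed C) :
    StableUnderSpecialization (g.left '' (Points.ofPt a ⁻¹' C)) := by
  rintro _ y hspec ⟨w, hw, rfl⟩
  by_contra H
  have H' : ∀ w' : W.left, g.left w' = y → Points.ofPt a w' ∉ C := fun w' h1 h2 => H ⟨w', h2, h1⟩
  have hqs : IsQuasiSeparatedMor q := repWith_mono isClosedImmersion_le_quasiCompact hsep
  -- Step 2: the chart of `U`
  obtain ⟨W₀, hW₀, hwW₀, U₀, hU₀, b, g₀, u₀, hbe, hbs, hg₀, hspec₀⟩ :=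
    exists_chart_specializes hh a hae w (by rw [hd.closure_range]; trivial)
  let a₀ : (yon S).obj (overOpen W W₀) ⟶ P := (yon S).map (overOpenι W W₀) ≫ a
  have ha₀e : RepWith @Etale a₀ := repWith_etale_restrict hae W₀
  have hg₀' : b ≫ pullback.snd h a₀ = (yon S).map g₀ := hg₀
  have hcomm₀ : (b ≫ pullback.fst h a₀) ≫ h = (yon S).map g₀ ≫ a₀ := by
    rw [Category.assoc, pullback.condition, ← Category.assoc, hg₀']
  have hfste : RepWith @Etale (pullback.fst h a₀) :=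
    MorphismProperty.of_isPullback (P := RepWith @Etale) (IsPullback.of_hasPullback h a₀).flip ha₀e
  have hg₀lft : LocallyOfFiniteType g₀.left :=
    hhl _ _ g₀ ((RepWith @Etale).comp_mem _ _ hbe hfste) ha₀e hcomm₀
  let gT₀ : U₀ ⟶ T := g₀ ≫ overOpenι W W₀ ≫ g
  have hgT₀left : gT₀.left = g₀.left ≫ W₀.ι ≫ g.left := rfl
  have hgT₀lft : LocallyOfFiniteType gT₀.left := by
    rw [hgT₀left]
    infer_instance
  let w₀ : (overOpen W W₀).left := ⟨w, hwW₀⟩
  have hspec₀' : g₀.left u₀ ⤳ w₀ := hspec₀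
  have ht₀w : gT₀.left u₀ ⤳ g.left w := by
    have h1 : (W₀.ι ≫ g.left) (g₀.left u₀) ⤳ (W₀.ι ≫ g.left) w₀ :=
      hspec₀'.map (W₀.ι ≫ g.left).continuous
    exact h1
  have ht₀y : gT₀.left u₀ ⤳ y := ht₀w.trans hspec
  have ht₀ne : gT₀.left u₀ ≠ y := by
    intro heq
    have h2 : y ⤳ g.left w := heq ▸ ht₀w
    have h1 : g.left w = y := (hspec.antisymm h2).eq
    exact H' w h1 hw
  -- Step 3: the chart of the complement of `C`
  obtain ⟨W', hW', c, ha'e, hmiss, hcover⟩ := exists_affine_chart_compl a hae has hC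
  let a' : (yon S).obj W' ⟶ P := (yon S).map c ≫ a
  -- Step 4: the residue field and the finitely many points of the chart
  let sK : Spec (CommRingCat.of (U₀.left.residueField u₀)) ⟶ S :=
    U₀.left.fromSpecResidueField u₀ ≫ U₀.hom
  let κ₀ : Over.mk sK ⟶ U₀ := Over.homMk (U₀.left.fromSpecResidueField u₀) rfl
  let tK : (yon S).obj (Over.mk sK) ⟶ U := (yon S).map κ₀ ≫ b ≫ pullback.fst h a₀
  let xK : (yon S).obj (Over.mk sK) ⟶ P := tK ≫ h
  have hxK : xK = (yon S).map (κ₀ ≫ g₀) ≫ a₀ := by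
    change ((yon S).map κ₀ ≫ b ≫ pullback.fst h a₀) ≫ h = _
    rw [Category.assoc, hcomm₀, Functor.map_comp, Category.assoc]
  obtain ⟨L, hLf, ι, sL, Sg, hsL, hSgfin, hSg, hdom⟩ :=
    exists_finite_points_chart q hqs a' ha'e sK xK
  -- Step 5: the valuation ring of `L` centred at `w`
  obtain ⟨V₁, mB, hmBgen, hmBcl⟩ :=
    exists_valuationSubring_of_specializes g₀.left u₀ w₀ hspec₀' ι
  let sB₁ : Spec (CommRingCat.of V₁) ⟶ S := mB ≫ (overOpen W W₀).hom
  let mB' : Over.mk sB₁ ⟶ overOpen W W₀ := Over.homMk mB rfl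
  let lB₁ : (yon S).obj (Over.mk sB₁) ⟶ P := (yon S).map mB' ≫ a₀
  have hlB₁cl : Points.ofPt lB₁ (closedPoint V₁) ∉ Set.range (Points.ofPt a') := by
    rintro ⟨w', hw'⟩
    apply hmiss w'
    change Points.ofPt a' w' ∈ C
    rw [hw', ofPt_yon_map_comp]
    change Points.ofPt a₀ (mB (closedPoint V₁)) ∈ C
    rw [hmBcl, ofPt_restrict]
    exact hw
  have hg₀w : g₀.left ≫ (overOpen W W₀).hom = U₀.hom := Over.w g₀
  have hsL₁ : Spec.map (CommRingCat.ofHom (algebraMap V₁ L)) ≫ sB₁ =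
      Spec.map (CommRingCat.ofHom ι) ≫ sK := by
    change Spec.map _ ≫ mB ≫ (overOpen W W₀).hom = Spec.map _ ≫ _ ≫ U₀.hom
    rw [← Category.assoc, hmBgen, Category.assoc, Category.assoc, hg₀w]
  let jB₁ : Over.mk (Spec.map (CommRingCat.ofHom (algebraMap V₁ L)) ≫ sB₁) ⟶ Over.mk sB₁ :=
    Over.homMk (Spec.map (CommRingCat.ofHom (algebraMap V₁ L))) rfl
  let ιO₁ : Over.mk (Spec.map (CommRingCat.ofHom (algebraMap V₁ L)) ≫ sB₁) ⟶ Over.mk sK :=
    Over.homMk (Spec.map (CommRingCat.ofHom ι)) hsL₁.symm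
  have hG1 : (yon S).map jB₁ ≫ lB₁ = (yon S).map ιO₁ ≫ xK := by
    have e0 : jB₁ ≫ mB' = ιO₁ ≫ κ₀ ≫ g₀ := by
      apply Over.OverMorphism.ext
      exact hmBgen
    calc (yon S).map jB₁ ≫ lB₁ = (yon S).map (jB₁ ≫ mB') ≫ a₀ := by
          rw [Functor.map_comp, Category.assoc]
      _ = (yon S).map (ιO₁ ≫ κ₀ ≫ g₀) ≫ a₀ := by rw [e0]
      _ = (yon S).map ιO₁ ≫ (yon S).map (κ₀ ≫ g₀) ≫ a₀ := by
          rw [Functor.map_comp, Category.assoc]
      _ = (yon S).map ιO₁ ≫ xK := by rw [hxK]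
  have hE : ∀ σ₀ ∈ Sg, ∃ c' : Γ(W'.left, ⊤), (sharpR σ₀).hom c' ∉ V₁ := by
    intro σ₀ hσ₀
    obtain ⟨hw1, heq1⟩ := hSg σ₀ hσ₀
    have heq2 : (yon S).map (Over.homMk σ₀ (hw1.trans hsL₁.symm) :
        Over.mk (Spec.map (CommRingCat.ofHom (algebraMap V₁ L)) ≫ sB₁) ⟶ W') ≫ a' =
        (yon S).map ιO₁ ≫ xK :=
      yon_homMk_comp_eq_of_eq (s := Spec.map (CommRingCat.ofHom ι) ≫ sK)
        (s' := Spec.map (CommRingCat.ofHom (algebraMap V₁ L)) ≫ sB₁) (X := W') (Y := Over.mk sK)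
        hsL₁.symm σ₀ hw1 a' (Spec.map (CommRingCat.ofHom ι)) rfl xK heq1
    have heq3 : (yon S).map (Over.homMk σ₀ (hw1.trans hsL₁.symm) :
        Over.mk (Spec.map (CommRingCat.ofHom (algebraMap V₁ L)) ≫ sB₁) ⟶ W') ≫ a' =
        (yon S).map jB₁ ≫ lB₁ := heq2.trans hG1.symm
    exact exists_not_mem_of_closedPoint_not_mem_range q hsep a' V₁ sB₁ lB₁ hlB₁cl σ₀
      (hw1.trans hsL₁.symm) heq3
  choose! cf hcf using hE
  classical
  -- Step 6: the approximating discrete valuation ring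
  let G : Finset L := hSgfin.toFinset.image (fun σ₀ => ((sharpR σ₀).hom (cf σ₀))⁻¹)
  have hG : ∀ x ∈ G, x ∈ V₁.nonunits := by
    intro x hx
    obtain ⟨σ₀, hσ₀, rfl⟩ := Finset.mem_image.1 hx
    rw [ValuationSubring.inv_mem_nonunits_iff]
    exact Or.inr (hcf σ₀ (hSgfin.mem_toFinset.1 hσ₀))
  obtain ⟨gL, hgL⟩ : ∃ gL : Spec (CommRingCat.of L) ⟶ T.left, gL =
      Spec.map (CommRingCat.ofHom ι) ≫ U₀.left.fromSpecResidueField u₀ ≫ gT₀.left := ⟨_, rfl⟩
  obtain ⟨gB₁, hgB₁⟩ : ∃ gB₁ : Spec (CommRingCat.of V₁) ⟶ T.left, gB₁ = mB ≫ W₀.ι ≫ g.left :=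
    ⟨_, rfl⟩
  have hgB₁gen : Spec.map (CommRingCat.ofHom (algebraMap V₁ L)) ≫ gB₁ = gL := by
    rw [hgB₁, hgL, hgT₀left, ← Category.assoc, hmBgen]
    simp only [Category.assoc]
  have hgB₁cl : gB₁ (closedPoint V₁) = g.left w := by
    rw [hgB₁, Scheme.Hom.comp_apply, hmBcl]
    rfl
  have hgLcl : gL (closedPoint L) = gT₀.left u₀ := by
    rw [hgL]
    exact comp_fromSpecResidueField_closedPoint gT₀.left u₀ ι
  obtain ⟨s, hs⟩ := exists_finset_closure_sharpR gT₀.left u₀ ι sL hsL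
  rw [← hgL] at hs
  obtain ⟨Vh, hdvr, gBh, hgBhgen, hgBhcl, hGVh⟩ :=
    exists_dvr_approx_scheme gL V₁ gB₁ hgB₁gen y (hgB₁cl ▸ hspec) (hgLcl ▸ ht₀ne) G hG s hs
  -- the valuative square and its lift
  let sBh : Spec (CommRingCat.of Vh) ⟶ S := gBh ≫ T.hom
  let gBh' : Over.mk sBh ⟶ T := Over.homMk gBh rfl
  have hgT₀w : gT₀.left ≫ T.hom = U₀.hom := Over.w gT₀
  have hsLh : Spec.map (CommRingCat.ofHom (algebraMap Vh L)) ≫ sBh =
      Spec.map (CommRingCat.ofHom ι) ≫ sK := by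
    change Spec.map _ ≫ gBh ≫ T.hom = Spec.map _ ≫ _ ≫ U₀.hom
    rw [← Category.assoc, hgBhgen, hgL, Category.assoc, Category.assoc, hgT₀w]
  let jh : Over.mk (Spec.map (CommRingCat.ofHom (algebraMap Vh L)) ≫ sBh) ⟶ Over.mk sBh :=
    Over.homMk (Spec.map (CommRingCat.ofHom (algebraMap Vh L))) rfl
  let ιOh : Over.mk (Spec.map (CommRingCat.ofHom (algebraMap Vh L)) ≫ sBh) ⟶ Over.mk sK :=
    Over.homMk (Spec.map (CommRingCat.ofHom ι)) hsLh.symm
  have ha₀q : a₀ ≫ q = (yon S).map (overOpenι W W₀ ≫ g) := by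
    change ((yon S).map (overOpenι W W₀) ≫ a) ≫ q = _
    rw [Category.assoc, hg, Functor.map_comp]
  have hxKq : xK ≫ q = (yon S).map (κ₀ ≫ gT₀) := by
    rw [hxK, Category.assoc, ha₀q, ← Functor.map_comp, Category.assoc]
  have hsqcomm : ((yon S).map ιOh ≫ tK) ≫ h ≫ q = (yon S).map jh ≫ (yon S).map gBh' := by
    have e0 : ιOh ≫ κ₀ ≫ gT₀ = jh ≫ gBh' := by
      apply Over.OverMorphism.ext
      change Spec.map _ ≫ U₀.left.fromSpecResidueField u₀ ≫ gT₀.left = Spec.map _ ≫ gBh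
      rw [hgBhgen, hgL]
    calc ((yon S).map ιOh ≫ tK) ≫ h ≫ q = (yon S).map ιOh ≫ xK ≫ q := by
          simp only [xK, Category.assoc]
      _ = (yon S).map (ιOh ≫ κ₀ ≫ gT₀) := by rw [hxKq, ← Functor.map_comp]
      _ = (yon S).map jh ≫ (yon S).map gBh' := by rw [e0, Functor.map_comp]
  let sq : ValSq (h ≫ q) :=
    { A := Vh, K := L, str := sBh, top := (yon S).map ιOh ≫ tK, bot := (yon S).map gBh',
      comm := hsqcomm }
  obtain ⟨lh, hlh1, hlh2⟩ := hv sq hdvr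
  have hlh1' : (yon S).map jh ≫ lh = ((yon S).map ιOh ≫ tK) ≫ h := hlh1
  have hlh2' : lh ≫ q = (yon S).map gBh' := hlh2
  -- Step 7: the closed point lies in the chart `W'`
  have hcl : Points.ofPt lh (closedPoint Vh) ∈ Set.range (Points.ofPt a') := by
    obtain ⟨wh, hwh⟩ := ofPt_surjective_of_repWith has (Points.ofPt lh (closedPoint Vh))
    have h1 : Points.map q (Points.ofPt a wh) = Points.ofScheme T (g.left wh) := by
      rw [Points.map_ofPt, hg, ← Category.comp_id ((yon S).map g), ofPt_yon_map_comp]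
    have h2 : Points.map q (Points.ofPt lh (closedPoint Vh)) = Points.ofScheme T y := by
      rw [Points.map_ofPt, hlh2', ← Category.comp_id ((yon S).map gBh'), ofPt_yon_map_comp]
      change Points.ofScheme T (gBh (closedPoint Vh)) = _
      rw [hgBhcl]
    have h3 : g.left wh = y := by
      apply (Points.schemeHomeo T).injective
      change Points.ofScheme T (g.left wh) = Points.ofScheme T y
      rw [← h1, ← h2, hwh]
    have h4 : Points.ofPt a wh ∉ C := H' wh h3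
    obtain ⟨w', hw'⟩ := hcover _ h4
    exact ⟨w', hw'.trans hwh⟩
  -- Step 8: étale localization and the contradiction
  obtain ⟨L', hL'f, ι', B', σ₀', hw', hdomB, hvals, hσ'eq⟩ :=
    exists_valuationSubring_ext_lift a' ha'e Vh sBh lh hcl
  have hs' : Spec.map (CommRingCat.ofHom (ι'.comp (algebraMap Vh L))) ≫ sBh =
      Spec.map (CommRingCat.ofHom (ι'.comp ι)) ≫ sK := by
    rw [specMap_ofHom_comp (algebraMap Vh L) ι', Category.assoc, hsLh, ← Category.assoc,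
      ← specMap_ofHom_comp ι ι']
  have hι'w : Spec.map (CommRingCat.ofHom ι') ≫
      (Spec.map (CommRingCat.ofHom (algebraMap Vh L)) ≫ sBh) =
      Spec.map (CommRingCat.ofHom (ι'.comp (algebraMap Vh L))) ≫ sBh := by
    rw [specMap_ofHom_comp (algebraMap Vh L) ι', Category.assoc]
  let ι'O : Over.mk (Spec.map (CommRingCat.ofHom (ι'.comp (algebraMap Vh L))) ≫ sBh) ⟶
      Over.mk (Spec.map (CommRingCat.ofHom (algebraMap Vh L)) ≫ sBh) :=
    Over.homMk (Spec.map (CommRingCat.ofHom ι')) hι'w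
  have e1 : (Over.homMk (Spec.map (CommRingCat.ofHom (ι'.comp (algebraMap Vh L)))) rfl :
      Over.mk (Spec.map (CommRingCat.ofHom (ι'.comp (algebraMap Vh L))) ≫ sBh) ⟶ Over.mk sBh) =
      ι'O ≫ jh := by
    apply Over.OverMorphism.ext
    exact specMap_ofHom_comp (algebraMap Vh L) ι'
  have e2 : ι'O ≫ ιOh = (Over.homMk (Spec.map (CommRingCat.ofHom (ι'.comp ι))) hs'.symm :
      Over.mk (Spec.map (CommRingCat.ofHom (ι'.comp (algebraMap Vh L))) ≫ sBh) ⟶ Over.mk sK) := by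
    apply Over.OverMorphism.ext
    exact (specMap_ofHom_comp ι ι').symm
  have heq4 : (yon S).map (Over.homMk σ₀' hw' :
      Over.mk (Spec.map (CommRingCat.ofHom (ι'.comp (algebraMap Vh L))) ≫ sBh) ⟶ W') ≫ a' =
      (yon S).map (Over.homMk (Spec.map (CommRingCat.ofHom (ι'.comp ι))) hs'.symm :
        Over.mk (Spec.map (CommRingCat.ofHom (ι'.comp (algebraMap Vh L))) ≫ sBh) ⟶
          Over.mk sK) ≫ xK := by
    calc _ = (yon S).map (Over.homMk (Spec.map (CommRingCat.ofHom (ι'.comp (algebraMap Vh L))))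
          rfl : Over.mk (Spec.map (CommRingCat.ofHom (ι'.comp (algebraMap Vh L))) ≫ sBh) ⟶
            Over.mk sBh) ≫ lh := hσ'eq
      _ = (yon S).map ι'O ≫ (yon S).map jh ≫ lh := by
          rw [e1, Functor.map_comp, Category.assoc]
      _ = (yon S).map ι'O ≫ (yon S).map ιOh ≫ xK := by
          rw [hlh1']
          simp only [xK, Category.assoc]
      _ = (yon S).map (ι'O ≫ ιOh) ≫ xK := by rw [Functor.map_comp, Category.assoc]
      _ = _ := by rw [e2]
  have heq5 : (yon S).map (Over.homMk σ₀' (hw'.trans hs') :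
      Over.mk (Spec.map (CommRingCat.ofHom (ι'.comp ι)) ≫ sK) ⟶ W') ≫ a' =
      (yon S).map (Over.homMk (Spec.map (CommRingCat.ofHom (ι'.comp ι))) rfl :
        Over.mk (Spec.map (CommRingCat.ofHom (ι'.comp ι)) ≫ sK) ⟶ Over.mk sK) ≫ xK :=
    yon_homMk_comp_eq_of_eq
      (s := Spec.map (CommRingCat.ofHom (ι'.comp (algebraMap Vh L))) ≫ sBh)
      (s' := Spec.map (CommRingCat.ofHom (ι'.comp ι)) ≫ sK) (X := W') (Y := Over.mk sK)
      hs' σ₀' hw' a' (Spec.map (CommRingCat.ofHom (ι'.comp ι))) hs'.symm xK heq4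
  obtain ⟨σ₀, hσ₀, hσ₀'⟩ := hdom L' ι' σ₀' (hw'.trans hs') heq5
  have hx1 : (sharpR σ₀').hom (cf σ₀) = ι' ((sharpR σ₀).hom (cf σ₀)) := by
    rw [hσ₀', sharpR_comp]
    rfl
  have hx2 : (sharpR σ₀).hom (cf σ₀) ∈ Vh := by
    apply hdomB
    rw [← hx1]
    exact hvals (cf σ₀)
  have hx3 : ((sharpR σ₀).hom (cf σ₀))⁻¹ ∈ Vh.nonunits :=
    hGVh _ (Finset.mem_image.2 ⟨σ₀, hSgfin.mem_toFinset.2 hσ₀, rfl⟩)
  rw [ValuationSubring.inv_mem_nonunits_iff] at hx3
  rcases hx3 with hx3 | hx3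
  · exact hcf σ₀ hσ₀ (hx3 ▸ V₁.zero_mem)
  · exact hx3 hx2

end Main

end Groth.Agent.H5.AlgSp
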