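import Groth.Prelude.Def_AlgSpMor5
import Groth.Agent.Lib.Helper5.AlgSp.Valuative
import Groth.Agent.Lib.Helper5.AlgSp.Proper
import Mathlib

/-!
# Valuative criteria: comparison with schemes, and the criterion for separatedness
-/

set_option autoImplicit false

universe u

open CategoryTheory CategoryTheory.Limits AlgebraicGeometry Opposite

namespace Groth.Agent.H5.AlgSp

open _root_.AlgSp

variable {S : Scheme.{u}} {F G H : Sp S}

section BaseChange

variable {F' : Sp S} {f : F ⟶ G} {g : H ⟶ G} {fst : F' ⟶ F} {f' : F' ⟶ H}
  (sqp : IsPullback fst f' f g)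

include sqp in
theorem existVCStrict_of_isPullback (hf : ExistVCStrict f) : ExistVCStrict f' := by
  intro sq
  obtain ⟨l, hl1, hl2⟩ := hf (valSqOfIsPullback sqp sq)
  have hw : l ≫ f = sq.bot ≫ g := hl2
  refine ⟨sqp.lift l sq.bot hw, ?_, sqp.lift_snd _ _ _⟩
  apply sqp.hom_ext
  · rw [Category.assoc, sqp.lift_fst]
    exact hl1
  · rw [Category.assoc, sqp.lift_snd, sq.comm]

end BaseChange

/-- For a morphism of schemes over `S`, the existence part without extensions implies Mathlib's
existence part of the valuative criterion. -/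
theorem existence_of_existVCStrict_yon_map {U T : Over S} (φ : U ⟶ T)
    (hf : ExistVCStrict ((yon S).map φ)) : ValuativeCriterion.Existence φ.left := by
  rintro ⟨R, K, i₁, i₂, ⟨w⟩⟩
  have hi₁ : i₁ ≫ U.hom = Spec.map (CommRingCat.ofHom (algebraMap R K)) ≫ i₂ ≫ T.hom := by
    rw [← Over.w φ, ← Category.assoc, w, Category.assoc]
  let sq : ValSq ((yon S).map φ) :=
    { A := R, K := K, str := i₂ ≫ T.hom,
      top := (yon S).map (Over.homMk i₁ hi₁ :
        Over.mk (Spec.map (CommRingCat.ofHom (algebraMap R K)) ≫ i₂ ≫ T.hom) ⟶ U)
      bot := (yon S).map (Over.homMk i₂ rfl : Over.mk (i₂ ≫ T.hom) ⟶ T)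
      comm := by
        rw [← Functor.map_comp, ← Functor.map_comp]
        congr 1
        apply Over.OverMorphism.ext
        exact w }
  obtain ⟨l, h1, h2⟩ := hf sq
  obtain ⟨l₀, rfl⟩ := (yon S).map_surjective l
  refine ⟨⟨⟨l₀.left, ?_, ?_⟩⟩⟩
  · have := (yon S).map_injective ((Functor.map_comp _ _ _).trans h1)
    exact congrArg (·.left) this
  · have := (yon S).map_injective ((Functor.map_comp _ _ _).trans h2)
    exact congrArg (·.left) this

/-- A representable quasi-compact morphism satisfying the existence part without extensions is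
universally closed. -/
theorem repWith_universallyClosed_of_existVCStrict {f : F ⟶ G} (hq : RepWith @QuasiCompact f)
    (he : ExistVCStrict f) : RepWith @UniversallyClosed f := by
  refine ⟨hq.rep, fun _ _ g fst snd sq => ?_⟩
  have : QuasiCompact snd.left := hq.property g fst snd sq
  exact UniversallyClosed.of_valuativeCriterion snd.left
    (existence_of_existVCStrict_yon_map snd (existVCStrict_of_isPullback sq he))

/-- The diagonal of a morphism satisfying the uniqueness part satisfies the existence part. -/
theorem existVCStrict_diagonal_of_uniqVC {f : F ⟶ G} (hf : UniqVC f) :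
    ExistVCStrict (pullback.diagonal f) := by
  intro sq
  have ha : sq.top = (yon S).map sq.j ≫ sq.bot ≫ pullback.fst f f := by
    have := congrArg (· ≫ pullback.fst f f) sq.comm
    simpa using this
  have hb : sq.top = (yon S).map sq.j ≫ sq.bot ≫ pullback.snd f f := by
    have := congrArg (· ≫ pullback.snd f f) sq.comm
    simpa using this
  let sqf : ValSq f :=
    { A := sq.A, K := sq.K, str := sq.str, top := sq.top, bot := (sq.bot ≫ pullback.fst f f) ≫ f,
      comm := by rw [ha, Category.assoc, Category.assoc] }
  have hab : sq.bot ≫ pullback.fst f f = sq.bot ≫ pullback.snd f f :=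
    hf sqf _ _ ha.symm rfl hb.symm (by
      change (sq.bot ≫ pullback.snd f f) ≫ f = (sq.bot ≫ pullback.fst f f) ≫ f
      rw [Category.assoc, Category.assoc, pullback.condition])
  refine ⟨sq.bot ≫ pullback.fst f f, ha.symm, ?_⟩
  apply pullback.hom_ext
  · rw [Category.assoc, pullback.diagonal_fst, Category.comp_id]
  · rw [Category.assoc, pullback.diagonal_snd, Category.comp_id, hab]

/-- **A quasi-separated morphism of algebraic spaces satisfying the uniqueness part of the
valuative criterion is separated.** -/
theorem isSeparatedMor_of_uniqVC (hF : IsAlgSpace F) {f : F ⟶ G} (hqs : IsQuasiSeparatedMor f)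
    (hu : UniqVC f) : IsSeparatedMor f :=
  (isSeparatedMor_iff_isUnivClosedMor_diagonal hF).2 (isUnivClosedMor_of_repWith
    (repWith_universallyClosed_of_existVCStrict hqs (existVCStrict_diagonal_of_uniqVC hu)))

end Groth.Agent.H5.AlgSp
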