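import Groth.Prelude.Def_AlgSpMor5
import Groth.Agent.Lib.Helper5.AlgSp.ValuativeClosed
import Groth.Agent.Lib.Helper5.AlgSp.ValuativeSch
import Groth.Agent.Lib.Helper5.AlgSp.UCLocal
import Groth.Agent.Lib.Helper5.AlgSp.UCMainSp
import Groth.Agent.Lib.Helper5.AlgSp.LocPCalc
import Groth.Agent.Lib.Helper5.AlgSp.LocPMore
import Groth.Agent.Lib.Helper5.AlgSp.SpecializeImage
import Groth.Agent.Lib.Helper8.DVRSch2
import Mathlib

/-!
# Valuative criteria with discrete valuation rings over locally Noetherian bases
-/

set_option autoImplicit false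

universe u

open CategoryTheory CategoryTheory.Limits AlgebraicGeometry Opposite IsLocalRing

namespace Groth.Agent.H5.AlgSp

open _root_.AlgSp

variable {S : Scheme.{u}} {F G H : Sp S}

/-- Existence of lifts (without extension) for valuative squares over discrete valuation
rings. -/
def DvrLift (f : F ⟶ G) : Prop :=
  ∀ sq : ValSq f, IsDiscreteValuationRing sq.A → sq.HasLift

/-- Uniqueness of lifts for valuative squares over discrete valuation rings. -/
def DvrUniq (f : F ⟶ G) : Prop :=
  ∀ sq : ValSq f, IsDiscreteValuationRing sq.A → sq.HasUniq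

section BaseChange

variable {F' : Sp S} {f : F ⟶ G} {g : H ⟶ G} {fst : F' ⟶ F} {f' : F' ⟶ H}
  (sqp : IsPullback fst f' f g)

include sqp in
theorem dvrLift_of_isPullback (hf : DvrLift f) : DvrLift f' := by
  intro sq hA
  obtain ⟨l, hl1, hl2⟩ := hf (valSqOfIsPullback sqp sq) hA
  have hw : l ≫ f = sq.bot ≫ g := hl2
  refine ⟨sqp.lift l sq.bot hw, ?_, sqp.lift_snd _ _ _⟩
  apply sqp.hom_ext
  · rw [Category.assoc, sqp.lift_fst]
    exact hl1
  · rw [Category.assoc, sqp.lift_snd, sq.comm]

end BaseChange

/-- The diagonal of a morphism satisfying the uniqueness part for discrete valuation rings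
satisfies the existence part for discrete valuation rings. -/
theorem dvrLift_diagonal_of_dvrUniq {f : F ⟶ G} (hf : DvrUniq f) :
    DvrLift (pullback.diagonal f) := by
  intro sq hA
  have ha : sq.top = (yon S).map sq.j ≫ sq.bot ≫ pullback.fst f f := by
    have := congrArg (· ≫ pullback.fst f f) sq.comm
    simpa using this
  have hb : sq.top = (yon S).map sq.j ≫ sq.bot ≫ pullback.snd f f := by
    have := congrArg (· ≫ pullback.snd f f) sq.comm
    simpa using this
  let sqf : ValSq f :=
    { A := sq.A, K := sq.K, str := sq.str, top := sq.top, bot := (sq.bot ≫ pullback.fst f f) ≫ f,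
      comm := by rw [ha, Category.assoc, Category.assoc] }
  have hab : sq.bot ≫ pullback.fst f f = sq.bot ≫ pullback.snd f f :=
    hf sqf hA _ _ ha.symm rfl hb.symm (by
      change (sq.bot ≫ pullback.snd f f) ≫ f = (sq.bot ≫ pullback.fst f f) ≫ f
      rw [Category.assoc, Category.assoc, pullback.condition])
  refine ⟨sq.bot ≫ pullback.fst f f, ha.symm, ?_⟩
  apply pullback.hom_ext
  · rw [Category.assoc, pullback.diagonal_fst, Category.comp_id]
  · rw [Category.assoc, pullback.diagonal_snd, Category.comp_id, hab]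

/-- Relative domination by a discrete valuation ring, allowing the trivial specialization. -/
theorem exists_dvr_of_specializes' {U W : Scheme.{u}} [IsLocallyNoetherian W] (g : U ⟶ W)
    [LocallyOfFiniteType g] (u : U) {z' : W} (hspec : g u ⤳ z') :
    ∃ (B : Type u) (_ : CommRing B) (_ : IsDomain B) (_ : IsDiscreteValuationRing B)
      (u' : Spec (CommRingCat.of (FractionRing B)) ⟶ U) (h' : Spec (CommRingCat.of B) ⟶ W),
      Spec.map (CommRingCat.ofHom (algebraMap B (FractionRing B))) ≫ h' = u' ≫ g ∧
        h' (closedPoint B) = z' ∧ u' (closedPoint (FractionRing B)) = u := by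
  by_cases hne : g u = z'
  · let k := U.residueField u
    let B := PowerSeries k
    let c : Spec (CommRingCat.of B) ⟶ U :=
      Spec.map (CommRingCat.ofHom (algebraMap k B)) ≫ U.fromSpecResidueField u
    have hc : ∀ x, c x = u := by
      intro x
      change (Spec.map (CommRingCat.ofHom (algebraMap k B)) ≫ U.fromSpecResidueField u) x = u
      rw [Scheme.Hom.comp_apply, Scheme.fromSpecResidueField_apply]
    refine ⟨B, inferInstance, inferInstance, inferInstance,
      Spec.map (CommRingCat.ofHom (algebraMap B (FractionRing B))) ≫ c, c ≫ g, ?_, ?_, ?_⟩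
    · simp only [Category.assoc]
    · rw [Scheme.Hom.comp_apply, hc, hne]
    · rw [Scheme.Hom.comp_apply, hc]
  · exact Groth.Agent.H8.DVRSch.exists_dvr_of_specializes_of_locallyOfFiniteType g u hspec hne

section Chart

variable {P : Sp S} {U Z : Over S} (a : (yon S).obj U ⟶ P) (q : P ⟶ (yon S).obj Z) (g : U ⟶ Z)
  (hg : a ≫ q = (yon S).map g)

include hg in
/-- If `q : P ⟶ h_Z` has lifts for discrete valuation rings, `Z` is locally Noetherian and the
chart `g` is locally of finite type, the image of a closed set of points of `P`, computed on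
the chart, is stable under specialization. -/
theorem stableUnderSpecialization_image_of_dvrLift [IsLocallyNoetherian Z.left]
    [LocallyOfFiniteType g.left] (ha : Function.Surjective (Points.ofPt a))
    (he : DvrLift q) {W : Set (Points P)} (hW : IsClosed W) :
    StableUnderSpecialization (g.left '' (Points.ofPt a ⁻¹' W)) := by
  rintro _ y hspec ⟨u', hu', rfl⟩
  by_cases hne : g.left u' = y
  · exact ⟨u', hu', hne⟩
  obtain ⟨B, _, _, hB, u'', h', hcomm, hcl, hgen⟩ :=
    Groth.Agent.H8.DVRSch.exists_dvr_of_specializes_of_locallyOfFiniteType g.left u' hspec hne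
  let c : ValuativeCommSq g.left :=
    { R := B, K := FractionRing B, i₁ := u'', i₂ := h', commSq := ⟨hcomm.symm⟩ }
  obtain ⟨l, hl1, hl2⟩ := he (valSqOfChart a q g hg c) hB
  have claim2 : Points.map q (Points.ofPt l (closedPoint B)) = Points.ofScheme Z y := by
    rw [Points.map_ofPt, hl2]
    change Points.ofPt ((yon S).map (Over.homMk c.i₂ rfl : Over.mk (c.i₂ ≫ Z.hom) ⟶ Z)) _ = _
    rw [← Category.comp_id ((yon S).map _), ofPt_yon_map_comp]
    exact congrArg _ hcl
  have claim1 : Points.ofPt l (closedPoint B) ∈ W := by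
    refine hW.stableUnderSpecialization ?_ hu'
    have hη : Points.ofPt l ((valSqOfChart a q g hg c).j.left (closedPoint (FractionRing B))) =
        Points.ofPt a u' := by
      rw [← ofPt_yon_map_comp, hl1]
      change Points.ofPt ((yon S).map (Over.homMk c.i₁ (valuativeCommSq_w g c) :
        Over.mk (Spec.map (CommRingCat.ofHom (algebraMap c.R c.K)) ≫ c.i₂ ≫ Z.hom) ⟶ U) ≫ a) _ = _
      rw [ofPt_yon_map_comp]
      congr 1
    rw [← hη]
    exact (specializes_closedPoint _).map (Points.continuous_ofPt l)
  obtain ⟨u, hu⟩ := ha (Points.ofPt l (closedPoint B))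
  refine ⟨u, by rw [Set.mem_preimage, hu]; exact claim1, ?_⟩
  apply (Points.schemeHomeo Z).injective
  change Points.ofScheme Z (g.left u) = Points.ofScheme Z y
  rw [← claim2, ← hu, Points.map_ofPt, hg, ← Category.comp_id ((yon S).map g), ofPt_yon_map_comp]

end Chart

/-- A quasi-compact morphism, locally of finite type, from an algebraic space to a locally
Noetherian scheme which has lifts for discrete valuation rings is closed on points. -/
theorem isClosedMap_points_of_dvrLift {P : Sp S} (hP : IsAlgSpace P) {T : Over S}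
    [IsLocallyNoetherian T.left] (q : P ⟶ (yon S).obj T) (hqc : IsQuasiCompactMor q)
    (hlft : LocP @LocallyOfFiniteType q) (he : DvrLift q) : IsClosedMap (Points.map q) := by
  refine isClosedMap_points_of_openCover q (fun W : T.left.affineOpens => W.1) ?_ ?_
  · intro z
    obtain ⟨_, ⟨W, hW, rfl⟩, hzW, -⟩ :=
      T.left.isBasis_affineOpens.exists_subset_of_mem_open (Set.mem_univ z) isOpen_univ
    exact ⟨⟨W, hW⟩, hzW⟩
  rintro ⟨W, hW⟩
  have sq := IsPullback.of_hasPullback q ((yon S).map (overOpenι T W))
  set q' := pullback.snd q ((yon S).map (overOpenι T W))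
  set fst := pullback.fst q ((yon S).map (overOpenι T W))
  have : IsAffine (overOpen T W).left := hW
  have : IsLocallyNoetherian (overOpen T W).left :=
    isLocallyNoetherian_of_isOpenImmersion W.ι
  have hPq : IsQuasiCompactSp (pullback q ((yon S).map (overOpenι T W))) :=
    hqc (IsAlgSpace.yon_obj _) ((isQuasiCompactSp_yon_iff _).2 inferInstance) _ fst q' sq
  have hlft' : LocP @LocallyOfFiniteType q' :=
    locP_of_isPullback etale_le_lft sq hP (IsAlgSpace.yon_obj _) (IsAlgSpace.yon_obj _) hlft
  have he' : DvrLift q' := dvrLift_of_isPullback sq he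
  obtain ⟨U, a, hae, has, hU⟩ := hPq
  have : CompactSpace U.left := hU
  obtain ⟨g', hg'⟩ := (yon S).map_surjective (a ≫ q')
  have : LocallyOfFiniteType g'.left :=
    hlft' a (𝟙 _) g' hae (repWith_id _ _) (by rw [hg', Category.comp_id])
  have hsurj := ofPt_surjective_of_repWith has
  intro C hC
  have hst := stableUnderSpecialization_image_of_dvrLift a q' g' hg'.symm hsurj he' hC
  have hcl : IsClosed (g'.left '' (Points.ofPt a ⁻¹' C)) :=
    isClosed_image_of_stableUnderSpecialization g'.left
      (hC.preimage (Points.continuous_ofPt a)) hst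
  have himg : Points.map q' '' C =
      Points.schemeHomeo (overOpen T W) '' (g'.left '' (Points.ofPt a ⁻¹' C)) := by
    ext z
    constructor
    · rintro ⟨x, hx, rfl⟩
      obtain ⟨u, rfl⟩ := hsurj x
      refine ⟨g'.left u, ⟨u, hx, rfl⟩, ?_⟩
      change Points.ofScheme _ (g'.left u) = _
      rw [Points.map_ofPt, ← hg', ← Category.comp_id ((yon S).map g'), ofPt_yon_map_comp]
    · rintro ⟨_, ⟨u, hu, rfl⟩, rfl⟩
      refine ⟨Points.ofPt a u, hu, ?_⟩
      change _ = Points.ofScheme _ (g'.left u)
      rw [Points.map_ofPt, ← hg', ← Category.comp_id ((yon S).map g'), ofPt_yon_map_comp]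
  rw [himg]
  exact (Points.schemeHomeo (overOpen T W)).isClosedMap _ hcl

/-- **A morphism of finite type to a locally Noetherian algebraic space which has lifts for
discrete valuation rings is universally closed.** -/
theorem isUnivClosedMor_of_dvrLift {X Y : Sp S} (hX : IsAlgSpace X) (hY : IsAlgSpace Y)
    {f : X ⟶ Y} (hft : IsFiniteTypeMor f) (hYn : IsLocNoethSp Y) (he : DvrLift f) :
    IsUnivClosedMor f := by
  obtain ⟨V, p, hpe, hps, hV⟩ := hYn
  have : IsLocallyNoetherian V.left := hV
  refine UC.isUnivClosedMor_of_affineSpace hX hY hft.2 p hpe hps ?_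
  intro n
  let T : Over S := Over.mk ((𝔸(ULift.{u} (Fin n); V.left) ↘ V.left) ≫ V.hom)
  let c : T ⟶ V := Over.homMk (𝔸(ULift.{u} (Fin n); V.left) ↘ V.left)
  have : IsLocallyNoetherian T.left :=
    LocallyOfFiniteType.isLocallyNoetherian (𝔸(ULift.{u} (Fin n); V.left) ↘ V.left)
  have sq := IsPullback.of_hasPullback f ((yon S).map c ≫ p)
  have hP : IsAlgSpace (pullback f ((yon S).map c ≫ p)) :=
    isAlgSpace_pullback hY.diag hX (IsAlgSpace.yon_obj T) sq
  exact isClosedMap_points_of_dvrLift hP _
    (isQuasiCompactMor_of_isPullback sq hft.2)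
    (locP_of_isPullback etale_le_lft sq hX hY (IsAlgSpace.yon_obj T) hft.1)
    (dvrLift_of_isPullback sq he)

/-- The diagonal of a morphism locally of finite type is locally of finite type. -/
theorem locP_lft_diagonal {X Y : Sp S} (hX : IsAlgSpace X) (f : X ⟶ Y) :
    LocP @LocallyOfFiniteType (pullback.diagonal f) := by
  refine locP_of_comp etale_le_lft (Pc := ⊤) (g := pullback.fst f f)
    (fun u v h _ => @locallyOfFiniteType_of_comp _ _ _ u v h) hX ?_
    (fun _ _ _ _ _ _ _ _ => trivial)
  rw [pullback.diagonal_fst]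
  exact locP_of_repWith etale_le_lft (MorphismProperty.id_mem (RepWith _) X)

/-- The diagonal of a quasi-separated morphism locally of finite type is of finite type. -/
theorem isFiniteTypeMor_diagonal {X Y : Sp S} (hX : IsAlgSpace X) {f : X ⟶ Y}
    (hqs : IsQuasiSeparatedMor f) : IsFiniteTypeMor (pullback.diagonal f) :=
  ⟨locP_lft_diagonal hX f, isQuasiCompactMor_of_repWith hqs⟩

/-- **A quasi-separated morphism, locally of finite type, to a locally Noetherian algebraic
space, satisfying the uniqueness part of the valuative criterion for discrete valuation rings,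
is separated.** -/
theorem isSeparatedMor_of_dvrUniq {X Y : Sp S} (hX : IsAlgSpace X) (hY : IsAlgSpace Y)
    {f : X ⟶ Y} (hqs : IsQuasiSeparatedMor f) (hlft : LocP @LocallyOfFiniteType f)
    (hYn : IsLocNoethSp Y) (hu : DvrUniq f) : IsSeparatedMor f := by
  rw [isSeparatedMor_iff_isUnivClosedMor_diagonal hX]
  have sq := IsPullback.of_hasPullback f f
  have hXX : IsAlgSpace (pullback f f) := isAlgSpace_pullback hY.diag hX hX sq
  have hfst : LocP @LocallyOfFiniteType (pullback.fst f f) :=
    locP_of_isPullback etale_le_lft sq.flip hX hY hX hlft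
  have hXXn : IsLocNoethSp (pullback f f) :=
    isLocNoethSp_of_locP_lft hXX (locP_comp etale_le_lft hXX hX hY hfst hlft) hYn
  exact isUnivClosedMor_of_dvrLift hX hXX (isFiniteTypeMor_diagonal hX hqs) hXXn
    (dvrLift_diagonal_of_dvrUniq hu)

/-- **A point in the closure of the image of a morphism of finite type to a locally Noetherian
algebraic space is reached by a discrete valuation ring whose generic point lifts.** -/
theorem exists_dvr_diagram_of_mem_closure_image {X Y : Sp S} {f : X ⟶ Y}
    (hft : IsFiniteTypeMor f) (hY : IsLocNoethSp Y) (y : Points Y)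
    (hy : y ∈ closure (Set.range (Points.map f))) :
    ∃ (A : Type u) (_ : CommRing A) (_ : IsDomain A) (_ : IsDiscreteValuationRing A)
      (a : Spec (CommRingCat.of A) ⟶ S)
      (α : (yon S).obj (Over.mk a) ⟶ Y)
      (κ : (yon S).obj
        (Over.mk (Spec.map (CommRingCat.ofHom (algebraMap A (FractionRing A))) ≫ a)) ⟶ X),
      κ ≫ f = (yon S).map
        (Over.homMk (Spec.map (CommRingCat.ofHom (algebraMap A (FractionRing A))))) ≫ α ∧
      Points.ofPt α (closedPoint A) = y := by
  obtain ⟨V, p, hpe, hps, hV⟩ := hY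
  have : IsLocallyNoetherian V.left := hV
  obtain ⟨v, rfl⟩ := ofPt_surjective_of_repWith hps y
  obtain ⟨V₀, hV₀, hvV₀, U₀, hU₀, b, g₀, u₀, hbe, hbs, hg₀, hspec⟩ :=
    exists_chart_specializes hft.2 p hpe v hy
  have : IsLocallyNoetherian (overOpen V V₀).left := isLocallyNoetherian_of_isOpenImmersion V₀.ι
  have hp₀e : RepWith @Etale ((yon S).map (overOpenι V V₀) ≫ p) := repWith_etale_restrict hpe V₀
  have sq := IsPullback.of_hasPullback f ((yon S).map (overOpenι V V₀) ≫ p)
  have hfste : RepWith @Etale (pullback.fst f ((yon S).map (overOpenι V V₀) ≫ p)) :=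
    MorphismProperty.of_isPullback (P := RepWith @Etale) sq.flip hp₀e
  have hcomm : (b ≫ pullback.fst f ((yon S).map (overOpenι V V₀) ≫ p)) ≫ f =
      (yon S).map g₀ ≫ (yon S).map (overOpenι V V₀) ≫ p := by
    rw [Category.assoc, sq.w, ← Category.assoc, hg₀]
  have : LocallyOfFiniteType g₀.left :=
    hft.1 _ _ g₀ ((RepWith @Etale).comp_mem _ _ hbe hfste) hp₀e hcomm
  obtain ⟨B, _, _, hB, u', h', hc, hcl, -⟩ := exists_dvr_of_specializes' g₀.left u₀ hspec
  have hu'w : u' ≫ U₀.hom =
      Spec.map (CommRingCat.ofHom (algebraMap B (FractionRing B))) ≫ h' ≫ (overOpen V V₀).hom := by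
    rw [← Over.w g₀, ← Category.assoc, ← hc, Category.assoc]
  refine ⟨B, inferInstance, inferInstance, hB, h' ≫ (overOpen V V₀).hom,
    (yon S).map (Over.homMk h' rfl : Over.mk (h' ≫ (overOpen V V₀).hom) ⟶ overOpen V V₀) ≫
      (yon S).map (overOpenι V V₀) ≫ p,
    (yon S).map (Over.homMk u' hu'w : Over.mk (Spec.map (CommRingCat.ofHom
      (algebraMap B (FractionRing B))) ≫ h' ≫ (overOpen V V₀).hom) ⟶ U₀) ≫ b ≫
      pullback.fst f ((yon S).map (overOpenι V V₀) ≫ p), ?_, ?_⟩
  · have e1 : (yon S).map (Over.homMk u' hu'w : Over.mk (Spec.map (CommRingCat.ofHom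
        (algebraMap B (FractionRing B))) ≫ h' ≫ (overOpen V V₀).hom) ⟶ U₀) ≫ (yon S).map g₀ =
        (yon S).map (Over.homMk (Spec.map (CommRingCat.ofHom (algebraMap B (FractionRing B)))) :
          Over.mk (Spec.map (CommRingCat.ofHom (algebraMap B (FractionRing B))) ≫ h' ≫
            (overOpen V V₀).hom) ⟶ Over.mk (h' ≫ (overOpen V V₀).hom)) ≫
        (yon S).map (Over.homMk h' rfl : Over.mk (h' ≫ (overOpen V V₀).hom) ⟶ overOpen V V₀) := by
      rw [← Functor.map_comp, ← Functor.map_comp]
      congr 1
      apply Over.OverMorphism.ext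
      exact hc.symm
    calc _ = (yon S).map (Over.homMk u' hu'w : Over.mk (Spec.map (CommRingCat.ofHom
          (algebraMap B (FractionRing B))) ≫ h' ≫ (overOpen V V₀).hom) ⟶ U₀) ≫
          ((b ≫ pullback.fst f ((yon S).map (overOpenι V V₀) ≫ p)) ≫ f) := by
          simp only [Category.assoc]
      _ = ((yon S).map (Over.homMk u' hu'w : Over.mk (Spec.map (CommRingCat.ofHom
          (algebraMap B (FractionRing B))) ≫ h' ≫ (overOpen V V₀).hom) ⟶ U₀) ≫ (yon S).map g₀) ≫
          (yon S).map (overOpenι V V₀) ≫ p := by rw [hcomm, Category.assoc]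
      _ = _ := by rw [e1, Category.assoc]
  · rw [ofPt_yon_map_comp, ofPt_restrict]
    congr 1
    exact congrArg Subtype.val hcl

end Groth.Agent.H5.AlgSp
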