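import Groth.Prelude.Def_AlgSpMor5
import Groth.Agent.Lib.Helper5.AlgSp.ValuativeRefined
import Groth.Agent.Lib.Helper5.AlgSp.ValuativeDVR
import Groth.Agent.Lib.Helper5.AlgSp.GeneralizingChart
import Groth.Agent.Lib.Helper5.AlgSp.AffineChart
import Mathlib

/-!
# The refined valuative criterion for discrete valuation rings: preliminaries
-/

set_option autoImplicit false

universe u

open CategoryTheory CategoryTheory.Limits AlgebraicGeometry Opposite IsLocalRing

namespace Groth.Agent.H5.AlgSp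

open _root_.AlgSp

variable {S : Scheme.{u}}

/-- The refined hypothesis for discrete valuation rings: valuative squares for `h ≫ f` over a
discrete valuation ring have a lift to `X`. -/
def RefDvrLift {U X Y : Sp S} (h : U ⟶ X) (f : X ⟶ Y) : Prop :=
  ∀ sq : ValSq (h ≫ f), IsDiscreteValuationRing sq.A →
    ∃ l : (yon S).obj sq.ptA ⟶ X, (yon S).map sq.j ≫ l = sq.top ≫ h ∧ l ≫ f = sq.bot

/-- The refined hypothesis for discrete valuation rings passes to base changes. -/
theorem refDvrLift_of_isPullback {U X Y X₀ Y₀ : Sp S} {h : U ⟶ X} {f : X ⟶ Y} {p₀ : Y₀ ⟶ Y}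
    {fst₀ : X₀ ⟶ X} {f₀ : X₀ ⟶ Y₀} (sqp : IsPullback fst₀ f₀ f p₀) (hv : RefDvrLift h f) :
    RefDvrLift (pullback.snd h fst₀) f₀ := by
  intro sq hA
  have hcomm : (sq.top ≫ pullback.fst h fst₀) ≫ h ≫ f = (yon S).map sq.j ≫ sq.bot ≫ p₀ := by
    have h1 := sq.comm
    calc (sq.top ≫ pullback.fst h fst₀) ≫ h ≫ f
        = sq.top ≫ (pullback.fst h fst₀ ≫ h) ≫ f := by simp only [Category.assoc]
      _ = sq.top ≫ (pullback.snd h fst₀ ≫ fst₀) ≫ f := by rw [pullback.condition]
      _ = (sq.top ≫ pullback.snd h fst₀ ≫ f₀) ≫ p₀ := by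
          simp only [Category.assoc, sqp.w]
      _ = (yon S).map sq.j ≫ sq.bot ≫ p₀ := by rw [h1, Category.assoc]
  let sq' : ValSq (h ≫ f) :=
    { A := sq.A, K := sq.K, str := sq.str, top := sq.top ≫ pullback.fst h fst₀,
      bot := sq.bot ≫ p₀, comm := hcomm }
  obtain ⟨l, hl1, hl2⟩ := hv sq' hA
  have hl2' : l ≫ f = sq.bot ≫ p₀ := hl2
  have hl1' : (yon S).map sq.j ≫ l = (sq.top ≫ pullback.fst h fst₀) ≫ h := hl1
  refine ⟨sqp.lift l sq.bot hl2', ?_, sqp.lift_snd _ _ _⟩
  apply sqp.hom_ext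
  · rw [Category.assoc, sqp.lift_fst, hl1', Category.assoc, Category.assoc, pullback.condition]
  · rw [Category.assoc, sqp.lift_snd, Category.assoc]
    exact sq.comm.symm

/-- Transport of an equation between morphisms out of `h_Z` along an equality of structure
morphisms. -/
lemma yon_homMk_comp_eq_of_eq {Z : Scheme.{u}} {s s' : Z ⟶ S} (hs : s = s') {X Y : Over S}
    {F : Sp S} (m : Z ⟶ X.left) (hm : m ≫ X.hom = s) (a : (yon S).obj X ⟶ F)
    (n : Z ⟶ Y.left) (hn : n ≫ Y.hom = s) (b : (yon S).obj Y ⟶ F)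
    (h : (yon S).map (Over.homMk m hm : Over.mk s ⟶ X) ≫ a =
      (yon S).map (Over.homMk n hn : Over.mk s ⟶ Y) ≫ b) :
    (yon S).map (Over.homMk m (hm.trans hs) : Over.mk s' ⟶ X) ≫ a =
      (yon S).map (Over.homMk n (hn.trans hs) : Over.mk s' ⟶ Y) ≫ b := by
  subst hs
  exact h

/-- **A chart of the complement of a closed set of points.** -/
theorem exists_affine_chart_compl {P : Sp S} {W : Over S} [IsNoetherian W.left]
    (a : (yon S).obj W ⟶ P) (hae : RepWith @Etale a) (has : RepWith @Surjective a)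
    {C : Set (Points P)} (hC : IsClosed C) :
    ∃ (W' : Over S) (_ : IsAffine W'.left) (c : W' ⟶ W),
      RepWith @Etale ((yon S).map c ≫ a) ∧
      (∀ w' : W'.left, Points.ofPt ((yon S).map c ≫ a) w' ∉ C) ∧
      ∀ x : Points P, x ∉ C → ∃ w' : W'.left, Points.ofPt ((yon S).map c ≫ a) w' = x := by
  let O : W.left.Opens := ⟨Points.ofPt a ⁻¹' Cᶜ, hC.isOpen_compl.preimage (Points.continuous_ofPt a)⟩
  have hOc : CompactSpace (overOpen W O).left := by
    change CompactSpace O
    exact isCompact_iff_compactSpace.1 (TopologicalSpace.NoetherianSpace.isCompact (O : Set W.left))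
  obtain ⟨W', c, hW', hce, hcs⟩ := exists_affine_chart_of_compact (overOpen W O)
  refine ⟨W', hW', c ≫ overOpenι W O, ?_, ?_, ?_⟩
  · rw [Functor.map_comp, Category.assoc]
    exact repWith_comp_yon_map @Etale c hce (repWith_etale_restrict hae O)
  · intro w'
    rw [Functor.map_comp, Category.assoc, ofPt_yon_map_comp, ofPt_restrict]
    exact (c.left w').2
  · intro x hx
    obtain ⟨w, rfl⟩ := ofPt_surjective_of_repWith has x
    obtain ⟨w', hw'⟩ := hcs.surj (⟨w, hx⟩ : O)
    refine ⟨w', ?_⟩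
    rw [Functor.map_comp, Category.assoc, ofPt_yon_map_comp, ofPt_restrict, hw']

/-- For étale charts by affine schemes of a sheaf quasi-separated over an affine scheme, the
fibre product of the charts is a quasi-compact scheme. -/
theorem compactSpace_pullback_of_isQuasiSeparatedMor' {P : Sp S} {U U' Z : Over S}
    [IsAffine U.left] [IsAffine U'.left] [IsAffine Z.left] (a : (yon S).obj U ⟶ P)
    (b : (yon S).obj U' ⟶ P) (hb : Representable b)
    (q : P ⟶ (yon S).obj Z) (hq : IsQuasiSeparatedMor q) :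
    CompactSpace (hb.pullback a).left := by
  obtain ⟨g, hg⟩ := (yon S).map_surjective (a ≫ q)
  obtain ⟨g', hg'⟩ := (yon S).map_surjective (b ≫ q)
  have key : ∀ (c : (yon S).obj U ⟶ (yon S).obj Z) (c' : (yon S).obj U' ⟶ (yon S).obj Z),
      (yon S).map g = c → (yon S).map g' = c' → IsQuasiCompactSp (pullback c' c) := by
    rintro _ _ rfl rfl
    exact isQuasiCompactSp_pullback_yon_map g' g
  have h1 : IsQuasiCompactSp (pullback (b ≫ q) (a ≫ q)) := key _ _ hg hg'
  have h2 : IsQuasiCompactSp (pullback b a) :=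
    isQuasiCompactSp_of_isPullback_repWith hq h1 (pullback_map_diagonal_isPullback b a q)
  have h3 := isQuasiCompactSp_of_iso (hb.isPullback a).isoPullback.symm h2
  exact (isQuasiCompactSp_yon_iff _).1 h3

end Groth.Agent.H5.AlgSp
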