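import Groth.Prelude.Def_AlgSpRep

set_option autoImplicit false
universe u w v₁ u₁
open CategoryTheory CategoryTheory.Limits AlgebraicGeometry Opposite
open AlgSp

namespace Groth.Agent.H5.RelLP

section General

variable {C : Type u₁} [Category.{v₁} C] {I : Type u} [SmallCategory I] [IsCofiltered I]

/-- Elementwise criterion for `F.mapCocone c.op` to be a colimit cocone. -/
theorem nonempty_isColimit_mapCocone_iff (F : Cᵒᵖ ⥤ Type w) (D : I ⥤ C) (c : Cone D) :
    Nonempty (IsColimit (F.mapCocone c.op)) ↔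
      (∀ x : F.obj (op c.pt), ∃ (i : I) (xi : F.obj (op (D.obj i))),
        F.map (c.π.app i).op xi = x) ∧
      (∀ (i : I) (x x' : F.obj (op (D.obj i))),
        F.map (c.π.app i).op x = F.map (c.π.app i).op x' →
          ∃ (j : I) (φ : j ⟶ i), F.map (D.map φ).op x = F.map (D.map φ).op x') := by
  constructor
  · rintro ⟨h⟩
    refine ⟨fun x => ?_, fun i x x' hxx' => ?_⟩
    · obtain ⟨j, xj, hxj⟩ := Types.jointly_surjective_of_isColimit h x
      exact ⟨j.unop, xj, hxj⟩
    · obtain ⟨j, f, hf⟩ := (Types.FilteredColimit.isColimit_eq_iff' h (i := op i) x x').1 hxx'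
      exact ⟨j.unop, f.unop, hf⟩
  · rintro ⟨h1, h2⟩
    refine ⟨Types.FilteredColimit.isColimitOf' _ _ (fun x => ?_) (fun i x y hxy => ?_)⟩
    · obtain ⟨i, xi, hxi⟩ := h1 x
      exact ⟨op i, xi, hxi.symm⟩
    · obtain ⟨j, φ, hφ⟩ := h2 i.unop x y hxy
      exact ⟨op j, φ.op, hφ⟩

/-- The elementwise form of "the comparison square is cartesian". -/
def CartAt {F G : Cᵒᵖ ⥤ Type w} (a : F ⟶ G) (D : I ⥤ C) (c : Cone D) : Prop :=
  (∀ (x : F.obj (op c.pt)) (i : I) (y : G.obj (op (D.obj i))),
      a.app _ x = G.map (c.π.app i).op y →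
        ∃ (j : I) (φ : j ⟶ i) (xj : F.obj (op (D.obj j))),
          F.map (c.π.app j).op xj = x ∧ a.app _ xj = G.map (D.map φ).op y) ∧
  (∀ (i : I) (x x' : F.obj (op (D.obj i))),
      F.map (c.π.app i).op x = F.map (c.π.app i).op x' → a.app _ x = a.app _ x' →
        ∃ (j : I) (φ : j ⟶ i), F.map (D.map φ).op x = F.map (D.map φ).op x')

variable [HasColimitsOfShape Iᵒᵖ (Type w)]

theorem isPullback_iff_cartAt {F G : Cᵒᵖ ⥤ Type w} (a : F ⟶ G) (D : I ⥤ C) (c : Cone D) :
    IsPullback (colimMap (Functor.whiskerLeft D.op a))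
      (colimit.desc (D.op ⋙ F) (F.mapCocone c.op))
      (colimit.desc (D.op ⋙ G) (G.mapCocone c.op)) (a.app (op c.pt)) ↔ CartAt a D c := by
  have ht : ∀ (j : Iᵒᵖ) (x : F.obj (op (D.obj j.unop))),
      colimMap (Functor.whiskerLeft D.op a) (colimit.ι (D.op ⋙ F) j x) =
        colimit.ι (D.op ⋙ G) j (a.app (op (D.obj j.unop)) x) := fun j x =>
    colimit.ι_map_apply (Functor.whiskerLeft D.op a) j x
  have hl : ∀ (j : Iᵒᵖ) (x : F.obj (op (D.obj j.unop))),
      colimit.desc (D.op ⋙ F) (F.mapCocone c.op) (colimit.ι (D.op ⋙ F) j x) =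
        F.map (c.π.app j.unop).op x := fun j x =>
    colimit.ι_desc_apply (F.mapCocone c.op) j x
  have hr : ∀ (j : Iᵒᵖ) (x : G.obj (op (D.obj j.unop))),
      colimit.desc (D.op ⋙ G) (G.mapCocone c.op) (colimit.ι (D.op ⋙ G) j x) =
        G.map (c.π.app j.unop).op x := fun j x =>
    colimit.ι_desc_apply (G.mapCocone c.op) j x
  rw [Types.isPullback_iff]
  constructor
  · rintro ⟨-, h1, h2⟩
    refine ⟨fun x i y hxy => ?_, fun i x x' hxx' haxx' => ?_⟩
    · obtain ⟨x₁, hx₁, hx₁'⟩ := h2 (colimit.ι (D.op ⋙ G) (op i) y) x (by rw [hr]; exact hxy.symm)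
      obtain ⟨k, xk, rfl⟩ := Types.jointly_surjective' x₁
      rw [ht] at hx₁
      rw [hl] at hx₁'
      obtain ⟨m, f, g, hfg⟩ := (Types.FilteredColimit.colimit_eq_iff _).1 hx₁
      refine ⟨m.unop, g.unop, F.map (D.map f.unop).op xk, ?_, ?_⟩
      · rw [← hx₁', ← Functor.map_comp_apply, ← op_comp, c.w]
      · rw [NatTrans.naturality_apply]
        exact hfg
    · have := h1 (colimit.ι (D.op ⋙ F) (op i) x) (colimit.ι (D.op ⋙ F) (op i) x')
        ⟨by rw [ht, ht, haxx'], by rw [hl, hl]; exact hxx'⟩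
      obtain ⟨m, f, g, hfg⟩ := (Types.FilteredColimit.colimit_eq_iff _).1 this
      refine ⟨(IsFiltered.coeq f g).unop, (f ≫ IsFiltered.coeqHom f g).unop, ?_⟩
      have h3 := congrArg (F.map (D.map (IsFiltered.coeqHom f g).unop).op) hfg
      simp only [Functor.comp_map, Functor.op_map, ← Functor.map_comp_apply, ← op_comp,
        ← D.map_comp, ← unop_comp] at h3
      conv_rhs at h3 => rw [← IsFiltered.coeq_condition]
      exact h3
  · rintro ⟨h1, h2⟩
    refine ⟨?_, ?_, ?_⟩
    · apply colimit.hom_ext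
      intro j
      rw [ι_colimMap_assoc, colimit.ι_desc, colimit.ι_desc_assoc]
      exact (a.naturality _).symm
    · rintro x₁ y₁ ⟨hxy1, hxy2⟩
      obtain ⟨j, x, y, rfl, rfl⟩ := Types.FilteredColimit.jointly_surjective_of_isColimit₂
        (colimit.isColimit (D.op ⋙ F)) x₁ y₁
      dsimp only [colimit.cocone_ι] at hxy1 hxy2 ⊢
      rw [ht, ht] at hxy1
      rw [hl, hl] at hxy2
      obtain ⟨k, f, hf⟩ := (Types.FilteredColimit.isColimit_eq_iff'
        (colimit.isColimit (D.op ⋙ G)) _ _).1 hxy1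
      obtain ⟨m, φ, hφ⟩ := h2 k.unop (F.map (D.map f.unop).op x) (F.map (D.map f.unop).op y)
        (by rw [← Functor.map_comp_apply, ← Functor.map_comp_apply, ← op_comp, c.w]; exact hxy2)
        (by rw [NatTrans.naturality_apply, NatTrans.naturality_apply]; exact hf)
      rw [← Functor.map_comp_apply, ← Functor.map_comp_apply, ← op_comp, ← D.map_comp] at hφ
      exact (Types.FilteredColimit.colimit_eq_iff (D.op ⋙ F)).2
        ⟨op m, (φ ≫ f.unop).op, (φ ≫ f.unop).op, hφ⟩
    · intro x₂ x₃ hx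
      obtain ⟨j, y, rfl⟩ := Types.jointly_surjective' x₂
      rw [hr] at hx
      obtain ⟨k, φ, xk, hxk, hxk'⟩ := h1 x₃ j.unop y hx.symm
      refine ⟨colimit.ι (D.op ⋙ F) (op k) xk, ?_, ?_⟩
      · rw [ht, hxk']
        exact Types.Colimit.w_apply (F := D.op ⋙ G) φ.op
      · rw [hl]; exact hxk

end General

section Slice

variable {S : Scheme.{u}} {I : Type u} [SmallCategory I] (D : I ⥤ Over S) (c : Cone D) (i : I)

/-- the system `T_j → T_i` over `T_i`. -/
@[simps]
def sliceDiagram : Over i ⥤ Over (D.obj i).left where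
  obj k := Over.mk (D.map k.hom).left
  map {k k'} g := Over.homMk (D.map g.left).left (by
    dsimp
    rw [← Over.comp_left, ← D.map_comp, Over.w g])
  map_id k := by ext; simp
  map_comp f g := by ext; simp

@[simps]
def sliceCone : Cone (sliceDiagram D i) where
  pt := Over.mk (c.π.app i).left
  π :=
    { app := fun k => Over.homMk (c.π.app k.left).left (by
        show (c.π.app k.left).left ≫ (D.map k.hom).left = (c.π.app i).left
        rw [← Over.comp_left, c.w])
      naturality := fun k k' g => by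
        ext
        show 𝟙 _ ≫ (c.π.app k'.left).left = (c.π.app k.left).left ≫ (D.map g.left).left
        rw [Category.id_comp, ← Over.comp_left, c.w] }

def sliceIso (k : Over i) :
    (Over.map (D.obj i).hom).obj ((sliceDiagram D i).obj k) ≅ D.obj k.left :=
  Over.isoMk (Iso.refl _) (by
    show 𝟙 _ ≫ (D.obj k.left).hom = (D.map k.hom).left ≫ (D.obj i).hom
    rw [Category.id_comp, Over.w])

def sliceIsoPt :
    (Over.map (D.obj i).hom).obj (sliceCone D c i).pt ≅ c.pt :=
  Over.isoMk (Iso.refl _) (by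
    show 𝟙 _ ≫ c.pt.hom = (c.π.app i).left ≫ (D.obj i).hom
    rw [Category.id_comp, Over.w]
    rfl)

@[simp] lemma sliceIso_hom_left (k : Over i) : (sliceIso D i k).hom.left = 𝟙 _ := rfl
@[simp] lemma sliceIso_inv_left (k : Over i) : (sliceIso D i k).inv.left = 𝟙 _ := rfl
@[simp] lemma sliceIsoPt_hom_left : (sliceIsoPt D c i).hom.left = 𝟙 _ := rfl
@[simp] lemma sliceIsoPt_inv_left : (sliceIsoPt D c i).inv.left = 𝟙 _ := rfl

lemma overHom_sliceDiagram (k : Over i) :
    overHom (D.obj i) ((sliceDiagram D i).obj k) = (sliceIso D i k).hom ≫ D.map k.hom := by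
  ext
  exact (Category.id_comp _).symm

lemma overHom_sliceCone_pt :
    overHom (D.obj i) (sliceCone D c i).pt = (sliceIsoPt D c i).hom ≫ c.π.app i := by
  ext
  exact (Category.id_comp _).symm

lemma map_sliceCone_π (k : Over i) :
    (Over.map (D.obj i).hom).map ((sliceCone D c i).π.app k) ≫ (sliceIso D i k).hom =
      (sliceIsoPt D c i).hom ≫ c.π.app k.left := by
  ext
  exact (Category.comp_id _).trans (Category.id_comp _).symm

lemma map_sliceDiagram_map {k k' : Over i} (g : k ⟶ k') :
    (Over.map (D.obj i).hom).map ((sliceDiagram D i).map g) ≫ (sliceIso D i k').hom =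
      (sliceIso D i k).hom ≫ D.map g.left := by
  ext
  exact (Category.comp_id _).trans (Category.id_comp _).symm

variable [IsCofiltered I]

noncomputable def isLimitSliceCone (hc : IsLimit ((Over.forget S).mapCone c)) :
    IsLimit ((Over.forget (D.obj i).left).mapCone (sliceCone D c i)) :=
  (Functor.Initial.isLimitWhiskerEquiv (Over.forget i) ((Over.forget S).mapCone c)).symm hc

end Slice

section Main

variable {S : Scheme.{u}}

theorem cartAt_of_isRelLimitPreserving {F G : PSp S} (a : F ⟶ G) (ha : IsRelLimitPreserving a)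
    {I : Type u} [SmallCategory I] [IsCofiltered I] (D : I ⥤ Over S) (c : Cone D)
    (hc : IsLimit ((Over.forget S).mapCone c)) (hD : ∀ i, IsAffine (D.obj i).left)
    (hT : IsAffine c.pt.left) : CartAt a D c := by
  have key : ∀ (i : I) (y : G.obj (op (D.obj i))), _ :=
    fun i y => (nonempty_isColimit_mapCocone_iff (fiberFun a (D.obj i) y) (sliceDiagram D i)
      (sliceCone D c i)).1 (ha (D.obj i) y (sliceDiagram D i) (sliceCone D c i)
        (isLimitSliceCone D c i hc) (fun k => hD k.left) hT)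
  refine ⟨fun x i y hxy => ?_, fun i x x' hxx' haxx' => ?_⟩
  · obtain ⟨k, xk, hxk⟩ := (key i y).1 ⟨F.map (sliceIsoPt D c i).hom.op x, by
      rw [NatTrans.naturality_apply, hxy, ← Functor.map_comp_apply, ← op_comp,
        overHom_sliceCone_pt]⟩
    have hxk1 := congrArg Subtype.val hxk
    rw [fiberFun_map_coe] at hxk1
    dsimp only at hxk1
    refine ⟨k.left, k.hom, F.map (sliceIso D i k).inv.op xk.1, ?_, ?_⟩
    · have h1 : c.π.app k.left ≫ (sliceIso D i k).inv = (sliceIsoPt D c i).inv ≫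
          (Over.map (D.obj i).hom).map ((sliceCone D c i).π.app k) := by
        rw [Iso.eq_inv_comp, ← Category.assoc, Iso.comp_inv_eq, map_sliceCone_π]
      rw [← Functor.map_comp_apply, ← op_comp, h1, op_comp, Functor.map_comp_apply]
      erw [hxk1]
      rw [← Functor.map_comp_apply, ← op_comp, Iso.inv_hom_id, op_id]
      simp
    · rw [NatTrans.naturality_apply, xk.2, ← Functor.map_comp_apply, ← op_comp,
        overHom_sliceDiagram, Iso.inv_hom_id_assoc]
  · have hov : overHom (D.obj i) ((sliceDiagram D i).obj (Over.mk (𝟙 i))) =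
        (sliceIso D i (Over.mk (𝟙 i))).hom := by
      rw [overHom_sliceDiagram]
      show _ ≫ D.map (𝟙 i) = _
      rw [D.map_id, Category.comp_id]
    have hmem : ∀ z : F.obj (op (D.obj i)), a.app _ z = a.app _ x →
        a.app _ (F.map (sliceIso D i (Over.mk (𝟙 i))).hom.op z) =
          G.map (overHom (D.obj i) ((sliceDiagram D i).obj (Over.mk (𝟙 i)))).op (a.app _ x) := by
      intro z hz
      rw [NatTrans.naturality_apply, hov]
      exact congrArg (G.map (sliceIso D i (Over.mk (𝟙 i))).hom.op) hz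
    obtain ⟨k', g, hg⟩ := (key i (a.app _ x)).2 (Over.mk (𝟙 i))
      ⟨F.map (sliceIso D i (Over.mk (𝟙 i))).hom.op x, hmem x rfl⟩
      ⟨F.map (sliceIso D i (Over.mk (𝟙 i))).hom.op x', hmem x' haxx'.symm⟩ (by
        apply Subtype.ext
        rw [fiberFun_map_coe, fiberFun_map_coe]
        dsimp only
        rw [← Functor.map_comp_apply, ← Functor.map_comp_apply, ← op_comp]
        erw [map_sliceCone_π]
        rw [op_comp, Functor.map_comp_apply, Functor.map_comp_apply]
        erw [hxx']
        rfl)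
    have hg1 := congrArg Subtype.val hg
    rw [fiberFun_map_coe, fiberFun_map_coe] at hg1
    dsimp only at hg1
    rw [← Functor.map_comp_apply, ← Functor.map_comp_apply, ← op_comp] at hg1
    erw [map_sliceDiagram_map] at hg1
    rw [op_comp, Functor.map_comp_apply, Functor.map_comp_apply] at hg1
    refine ⟨k'.left, g.left, ?_⟩
    have hinj : Function.Injective (F.map (sliceIso D i k').hom.op) := by
      intro z z' hzz'
      have := congrArg (F.map (sliceIso D i k').inv.op) hzz'
      rw [← Functor.map_comp_apply, ← Functor.map_comp_apply, ← op_comp, Iso.inv_hom_id,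
        op_id] at this
      simpa using this
    exact hinj hg1

theorem isRelLimitPreserving_of_cartAt {F G : PSp S} (a : F ⟶ G)
    (h : ∀ ⦃I : Type u⦄ [SmallCategory I] [IsCofiltered I] (D : I ⥤ Over S) (c : Cone D),
      IsLimit ((Over.forget S).mapCone c) → (∀ i, IsAffine (D.obj i).left) → IsAffine c.pt.left →
        CartAt a D c) : IsRelLimitPreserving a := by
  intro T y I _ _ D c hc hD hT
  rw [nonempty_isColimit_mapCocone_iff]
  obtain ⟨h1, h2⟩ := h (D ⋙ Over.map T.hom) ((Over.map T.hom).mapCone c) hc hD hT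
  refine ⟨fun x => ?_, fun i x x' hxx' => ?_⟩
  · obtain ⟨i₀⟩ := IsCofiltered.nonempty (C := I)
    have hx2 : a.app (op ((Over.map T.hom).mapCone c).pt) x.1 = G.map (overHom T c.pt).op y := x.2
    obtain ⟨j, φ, xj, hxj, hxj'⟩ := h1 x.1 i₀ (G.map (overHom T (D.obj i₀)).op y) (by
      rw [hx2, ← Functor.map_comp_apply, ← op_comp]
      erw [map_comp_overHom])
    refine ⟨j, ⟨xj, ?_⟩, Subtype.ext hxj⟩
    refine hxj'.trans ?_
    rw [← Functor.map_comp_apply, ← op_comp]
    erw [map_comp_overHom]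
  · obtain ⟨j, φ, hφ⟩ := h2 i x.1 x'.1 (congrArg Subtype.val hxx') (x.2.trans x'.2.symm)
    exact ⟨j, φ, Subtype.ext hφ⟩

end Main

end Groth.Agent.H5.RelLP
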