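import Groth.Agent.Lib.Helper5.AlgSp.RelLP

set_option autoImplicit false
universe u w v₁ u₁
open CategoryTheory CategoryTheory.Limits AlgebraicGeometry Opposite
open AlgSp

namespace Groth.Agent.H5.RelLP

section General

variable {C : Type u₁} [Category.{v₁} C] {I : Type u} [SmallCategory I]
  {F G H P : Cᵒᵖ ⥤ Type w} {D : I ⥤ C} {c : Cone D}

theorem CartAt.comp {a : F ⟶ G} {b : G ⟶ H} (ha : CartAt a D c) (hb : CartAt b D c) :
    CartAt (a ≫ b) D c := by
  refine ⟨fun x i y hxy => ?_, fun i x x' hxx' haxx' => ?_⟩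
  · obtain ⟨j, φ, gj, hgj, hgj'⟩ := hb.1 (a.app _ x) i y hxy
    obtain ⟨k, ψ, xk, hxk, hxk'⟩ := ha.1 x j gj hgj.symm
    refine ⟨k, ψ ≫ φ, xk, hxk, ?_⟩
    rw [NatTrans.comp_app, comp_apply, hxk', NatTrans.naturality_apply, hgj', D.map_comp, op_comp,
      Functor.map_comp_apply]
  · obtain ⟨j, φ, hφ⟩ := hb.2 i (a.app _ x) (a.app _ x')
      (by rw [← NatTrans.naturality_apply, ← NatTrans.naturality_apply, hxx']) haxx'
    rw [← NatTrans.naturality_apply, ← NatTrans.naturality_apply] at hφ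
    obtain ⟨k, ψ, hψ⟩ := ha.2 j _ _
      (by rw [← Functor.map_comp_apply, ← Functor.map_comp_apply, ← op_comp, c.w]; exact hxx') hφ
    refine ⟨k, ψ ≫ φ, ?_⟩
    rw [D.map_comp, op_comp, Functor.map_comp_apply, Functor.map_comp_apply]
    exact hψ

theorem CartAt.of_comp {a : F ⟶ G} {b : G ⟶ H} (hab : CartAt (a ≫ b) D c) (hb : CartAt b D c) :
    CartAt a D c := by
  refine ⟨fun x i y hxy => ?_, fun i x x' hxx' haxx' => ?_⟩
  · obtain ⟨j, φ, xj, hxj, hxj'⟩ := hab.1 x i (b.app _ y) (by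
      rw [NatTrans.comp_app, comp_apply, hxy, NatTrans.naturality_apply])
    rw [NatTrans.comp_app, comp_apply, ← NatTrans.naturality_apply] at hxj'
    obtain ⟨k, ψ, hψ⟩ := hb.2 j (a.app _ xj) (G.map (D.map φ).op y) (by
      rw [← NatTrans.naturality_apply, hxj, ← Functor.map_comp_apply, ← op_comp, c.w]
      exact hxy) hxj'
    refine ⟨k, ψ ≫ φ, F.map (D.map ψ).op xj, ?_, ?_⟩
    · rw [← Functor.map_comp_apply, ← op_comp, c.w, hxj]
    · rw [NatTrans.naturality_apply, hψ, D.map_comp, op_comp, Functor.map_comp_apply]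
  · exact hab.2 i x x' hxx' (by rw [NatTrans.comp_app, comp_apply, comp_apply, haxx'])

theorem CartAt.baseChange {a : F ⟶ G} {b : H ⟶ G} {fst : P ⟶ F} {snd : P ⟶ H}
    (hP : IsPullback fst snd a b) (hb : CartAt b D c) : CartAt fst D c := by
  have hPX : ∀ X : Cᵒᵖ, IsPullback (fst.app X) (snd.app X) (a.app X) (b.app X) := fun X =>
    hP.map ((evaluation Cᵒᵖ (Type w)).obj X)
  refine ⟨fun x i y hxy => ?_, fun i p p' hpp' hfpp' => ?_⟩
  · have hw : b.app _ (snd.app _ x) = a.app _ (fst.app _ x) := (ConcreteCategory.congr_hom (hPX _).w x).symm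
    obtain ⟨j, φ, hj, hhj, hhj'⟩ := hb.1 (snd.app _ x) i (a.app _ y) (by
      rw [hw, hxy, NatTrans.naturality_apply])
    rw [← NatTrans.naturality_apply] at hhj'
    obtain ⟨pj, hpj1, hpj2⟩ := Types.exists_of_isPullback (hPX (op (D.obj j)))
      (F.map (D.map φ).op y) hj hhj'.symm
    refine ⟨j, φ, pj, ?_, hpj1⟩
    apply Types.ext_of_isPullback (hPX (op c.pt))
    · rw [NatTrans.naturality_apply, hpj1, hxy, ← Functor.map_comp_apply, ← op_comp, c.w]
    · rw [NatTrans.naturality_apply, hpj2, hhj]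
  · have hw : ∀ q : P.obj (op (D.obj i)), b.app _ (snd.app _ q) = a.app _ (fst.app _ q) :=
      fun q => (ConcreteCategory.congr_hom (hPX _).w q).symm
    obtain ⟨j, φ, hφ⟩ := hb.2 i (snd.app _ p) (snd.app _ p')
      (by rw [← NatTrans.naturality_apply, ← NatTrans.naturality_apply, hpp'])
      (by rw [hw, hw, hfpp'])
    refine ⟨j, φ, ?_⟩
    apply Types.ext_of_isPullback (hPX (op (D.obj j)))
    · rw [NatTrans.naturality_apply, NatTrans.naturality_apply, hfpp']
    · rw [NatTrans.naturality_apply, NatTrans.naturality_apply, hφ]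

end General

end Groth.Agent.H5.RelLP
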