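import Groth.Prelude.Def_AlgSpMor5
import Groth.Agent.Lib.Helper5.AlgSp.IntegralMor
import Groth.Agent.Lib.Helper5.AlgSp.SepMor
import Mathlib

/-!
# Relative normalization: formal properties
-/

set_option autoImplicit false

universe u

open CategoryTheory CategoryTheory.Limits AlgebraicGeometry Opposite

namespace Groth.Agent.H5.AlgSp

open _root_.AlgSp

variable {S : Scheme.{u}} {F G H : Sp S}

theorem isIntegralMor_comp {f : F ⟶ G} {g : G ⟶ H} (hf : IsIntegralMor f) (hg : IsIntegralMor g) :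
    IsIntegralMor (f ≫ g) :=
  isIntegralMor_iff_repWith.2
    ((RepWith @IsIntegralHom).comp_mem _ _ (isIntegralMor_iff_repWith.1 hf)
      (isIntegralMor_iff_repWith.1 hg))

theorem isSeparatedMor_of_isIntegralMor {f : F ⟶ G} (hf : IsIntegralMor f) : IsSeparatedMor f := by
  have h := isIntegralMor_iff_repWith.1 hf
  exact (isSeparatedMor_iff_repWith h.rep).2
    (repWith_mono (fun _ _ g (_ : IsIntegralHom g) => (inferInstance : IsSeparated g)) h)

/-- **The induced morphism from the normalization to an integral space through which the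
morphism factors is again a normalization.** -/
theorem isRelNormalization_desc {Y X X' Z : Sp S} (hZ : IsAlgSpace Z) {f : Y ⟶ X} {ν : X' ⟶ X}
    {f' : Y ⟶ X'} (hn : IsRelNormalization f ν f') {π : Z ⟶ X} (hπ : IsIntegralMor π)
    {g : Y ⟶ Z} (hg : g ≫ π = f) {h : X' ⟶ Z} (h1 : f' ≫ h = g) (h2 : h ≫ π = ν) :
    IsRelNormalization g h f' := by
  obtain ⟨hfac, hν, huniv⟩ := hn
  refine ⟨h1, isIntegralMor_of_comp (isSeparatedMor_of_isIntegralMor hπ) (by rw [h2]; exact hν),
    ?_⟩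
  intro Z' hZ' π' g' hπ' hg'
  obtain ⟨h', ⟨hh'1, hh'2⟩, hh'u⟩ := huniv hZ' (π' ≫ π) g' (isIntegralMor_comp hπ' hπ)
    (by rw [← Category.assoc, hg', hg])
  obtain ⟨h₀, -, hh₀u⟩ := huniv hZ π g hπ hg
  have e1 : h' ≫ π' = h₀ := hh₀u _ ⟨by rw [← Category.assoc, hh'1, hg'], by
    rw [Category.assoc, hh'2]⟩
  have e2 : h = h₀ := hh₀u _ ⟨h1, h2⟩
  refine ⟨h', ⟨hh'1, by rw [e1, e2]⟩, ?_⟩
  rintro h'' ⟨a1, a2⟩
  exact hh'u _ ⟨a1, by rw [← Category.assoc, a2, h2]⟩

end Groth.Agent.H5.AlgSp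

namespace Groth.Agent.H5.AlgSp

open _root_.AlgSp

variable {S : Scheme.{u}}

/-- **The relative normalization of schemes is the normalization in the sense of algebraic
spaces.** -/
theorem isRelNormalization_of_scheme_normalization {V U N : Over S} (g : V ⟶ U)
    [QuasiCompact g.left] [QuasiSeparated g.left] (f' : V ⟶ N) (ν : N ⟶ U)
    (e : N.left ≅ g.left.normalization) (he1 : f'.left ≫ e.hom = g.left.toNormalization)
    (he2 : e.hom ≫ g.left.fromNormalization = ν.left) :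
    IsRelNormalization ((yon S).map g) ((yon S).map ν) ((yon S).map f') := by
  have hfac : f' ≫ ν = g := by
    apply Over.OverMorphism.ext
    change f'.left ≫ ν.left = g.left
    rw [← he2, ← Category.assoc, he1, Scheme.Hom.toNormalization_fromNormalization]
  have hf'e : f'.left = g.left.toNormalization ≫ e.inv := by
    rw [← he1, Category.assoc, Iso.hom_inv_id, Category.comp_id]
  have hνint : IsIntegralHom ν.left := by
    rw [← he2]
    infer_instance
  refine ⟨by rw [← Functor.map_comp, hfac],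
    isIntegralMor_iff_repWith.2 ((repWith_yon_map_iff @IsIntegralHom ν).2 hνint), ?_⟩
  intro Z _ π k hπ hk
  have hπ' := isIntegralMor_iff_repWith.1 hπ
  -- `Z` is a scheme
  have sqT := hπ'.rep.isPullback (𝟙 ((yon S).obj U))
  obtain ⟨T, hT⟩ : ∃ T : Over S, T = hπ'.rep.pullback (𝟙 ((yon S).obj U)) := ⟨_, rfl⟩
  obtain ⟨π₀, hπ₀⟩ : ∃ π₀ : hπ'.rep.pullback (𝟙 ((yon S).obj U)) ⟶ U,
      π₀ = hπ'.rep.snd (𝟙 ((yon S).obj U)) := ⟨_, rfl⟩
  obtain ⟨t, ht⟩ : ∃ t : (yon S).obj (hπ'.rep.pullback (𝟙 ((yon S).obj U))) ⟶ Z,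
      t = hπ'.rep.fst (𝟙 ((yon S).obj U)) := ⟨_, rfl⟩
  rw [← hπ₀, ← ht] at sqT
  have hπ₀int : IsIntegralHom π₀.left := by
    rw [hπ₀]
    exact hπ'.property_snd _
  have htiso : IsIso t := sqT.isIso_fst_of_isIso
  have htπ : t ≫ π = (yon S).map π₀ := by rw [sqT.w, Category.comp_id]
  obtain ⟨k₀, hk₀⟩ := (yon S).map_surjective (k ≫ inv t)
  have hk₀π : k₀ ≫ π₀ = g := by
    apply (yon S).map_injective
    rw [Functor.map_comp, hk₀, ← htπ, Category.assoc, IsIso.inv_hom_id_assoc, hk]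
  have H : g.left = k₀.left ≫ π₀.left := by rw [← Over.comp_left, hk₀π]
  have hdw : (e.hom ≫ g.left.normalizationDesc k₀.left π₀.left H) ≫
      (hπ'.rep.pullback (𝟙 ((yon S).obj U))).hom = N.hom := by
    rw [← Over.w π₀, Category.assoc, Scheme.Hom.normalizationDesc_comp_assoc, ← Category.assoc,
      he2, Over.w ν]
  obtain ⟨h₀, hh₀⟩ : ∃ h₀ : N ⟶ hπ'.rep.pullback (𝟙 ((yon S).obj U)),
      h₀ = Over.homMk (e.hom ≫ g.left.normalizationDesc k₀.left π₀.left H) hdw := ⟨_, rfl⟩
  have hh₀l : h₀.left = e.hom ≫ g.left.normalizationDesc k₀.left π₀.left H := by rw [hh₀]; rfl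
  have h1 : f' ≫ h₀ = k₀ := by
    apply Over.OverMorphism.ext
    change f'.left ≫ h₀.left = k₀.left
    rw [hh₀l, ← Category.assoc, he1, Scheme.Hom.toNormalization_normalizationDesc]
  have h2 : h₀ ≫ π₀ = ν := by
    apply Over.OverMorphism.ext
    change h₀.left ≫ π₀.left = ν.left
    rw [hh₀l, Category.assoc, Scheme.Hom.normalizationDesc_comp, he2]
  refine ⟨(yon S).map h₀ ≫ t, ⟨?_, ?_⟩, ?_⟩
  · rw [← Category.assoc, ← Functor.map_comp, h1, hk₀, Category.assoc, IsIso.inv_hom_id,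
      Category.comp_id]
  · rw [Category.assoc, htπ, ← Functor.map_comp, h2]
  · rintro h' ⟨a1, a2⟩
    obtain ⟨h'₀, hh'₀⟩ := (yon S).map_surjective (h' ≫ inv t)
    have b1 : f' ≫ h'₀ = k₀ := by
      apply (yon S).map_injective
      rw [Functor.map_comp, hh'₀, ← Category.assoc, a1, hk₀]
    have b2 : h'₀ ≫ π₀ = ν := by
      apply (yon S).map_injective
      rw [Functor.map_comp, hh'₀, ← htπ, Category.assoc, IsIso.inv_hom_id_assoc, a2]
    have b1' : f'.left ≫ h'₀.left = k₀.left := by rw [← Over.comp_left, b1]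
    have b2' : h'₀.left ≫ π₀.left = ν.left := by rw [← Over.comp_left, b2]
    have key : e.inv ≫ h'₀.left = g.left.normalizationDesc k₀.left π₀.left H := by
      apply Scheme.Hom.normalization.hom_ext g.left _ _ π₀.left
      · rw [Scheme.Hom.toNormalization_normalizationDesc, ← Category.assoc, ← hf'e, b1']
      · rw [Category.assoc, b2', ← he2, Iso.inv_hom_id_assoc]
      · exact Scheme.Hom.normalizationDesc_comp _ _ _ _
    have hh : h'₀ = h₀ := by
      apply Over.OverMorphism.ext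
      rw [hh₀l, ← key, Iso.hom_inv_id_assoc]
    rw [← hh, hh'₀, Category.assoc, IsIso.inv_hom_id, Category.comp_id]

end Groth.Agent.H5.AlgSp
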