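import Groth.Prelude.Def_AlgSpSub
import Groth.Agent.Lib.Helper5.AlgSp.SchImageQC
import Groth.Agent.Lib.Helper5.AlgSp.LocPMore
import Groth.Agent.Lib.Helper5.Descent.ImmersionDescent
import Mathlib

/-!
# Flat base change of scheme theoretic images of quasi-compact morphisms
-/

set_option autoImplicit false

universe u

open CategoryTheory CategoryTheory.Limits AlgebraicGeometry Opposite

namespace Groth.Agent.H5.AlgSp

open _root_.AlgSp Groth.Agent.H5.Descent

variable {S : Scheme.{u}} {X Y V Z : Sp S}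

/-- The kernel of the base change of a quasi-compact morphism to a scheme flat over an affine
étale chart is the ideal of the base change of its scheme theoretic image. -/
theorem isKer_of_isPullback_of_isSchImage_of_flat (hY : IsAlgSpace Y) {g : V ⟶ Y}
    (hq : IsQuasiCompactMor g) {i : Z ⟶ Y} (hZ : IsAlgSpace Z) (hZi : IsSchImage g i)
    (k₀ : AffEtChart Y) {U A : Over S} (h : U ⟶ k₀.W) [Flat h.left] (c : A ⟶ U)
    [IsClosedImmersion c.left] (a : (yon S).obj A ⟶ Z)
    (sq : IsPullback a ((yon S).map c) i ((yon S).map h ≫ k₀.q)) :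
    IsKer (pullback.snd g ((yon S).map h ≫ k₀.q)) c.left.ker := by
  have hc := hasQCCovers_of_isQuasiCompactMor g hq
  have hi := hZi.1
  have sq₀ := hi.rep.isPullback k₀.q
  have hc₀ : IsClosedImmersion (hi.rep.snd k₀.q).left := hi.property_snd k₀.q
  have h0 : IsKer (pullback.snd g k₀.q) (hi.rep.snd k₀.q).left.ker :=
    isKer_of_isPullback_of_isSchImage hY hq hZ hZi k₀.q k₀.etale (hi.rep.snd k₀.q)
      (hi.rep.fst k₀.q) sq₀
  have h1 : imgIdeal hc k₀ = (hi.rep.snd k₀.q).left.ker := (hc k₀).isKer.unique h0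
  have h2 := isKer_comap_chart hc k₀ h _ rfl
  -- the ideal of `A`
  have hw : a ≫ i = ((yon S).map c ≫ (yon S).map h) ≫ k₀.q := by
    rw [Category.assoc]; exact sq.w
  have sqt : IsPullback (sq₀.lift a ((yon S).map c ≫ (yon S).map h) hw) ((yon S).map c)
      ((yon S).map (hi.rep.snd k₀.q)) ((yon S).map h) := by
    refine (IsPullback.of_bot ?_ ?_ sq₀.flip).flip
    · rw [sq₀.lift_fst]; exact sq.flip
    · rw [sq₀.lift_snd]
  have h3 : IsKer ((yon S).map c) ((hi.rep.snd k₀.q).left.ker.comap h.left) :=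
    isKer_of_isPullback_of_flat sqt (𝟙 _) (hi.rep.snd k₀.q) (Category.id_comp _)
  have h4 : c.left.ker = (hi.rep.snd k₀.q).left.ker.comap h.left :=
    (isKer_yon_map c).unique h3
  rw [h4, ← h1]
  exact h2

/-- Lifting through a closed subspace containing the image, on a flat chart. -/
theorem exists_lift_of_flat_chart (hY : IsAlgSpace Y) {f : X ⟶ Y} {g : V ⟶ Y}
    (hq : IsQuasiCompactMor g) {i : Z ⟶ Y} (hZ : IsAlgSpace Z) (hZi : IsSchImage g i)
    {VX ZX : Sp S} {g₁ : VX ⟶ V} {gX : VX ⟶ X} (sqV : IsPullback g₁ gX g f) {i₁ : ZX ⟶ Z}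
    {iX : ZX ⟶ X} (sqZ : IsPullback i₁ iX i f) {Z'' : Sp S} (i'' : Z'' ⟶ X)
    (hi'' : RepWith @IsClosedImmersion i'') (f'' : VX ⟶ Z'') (hf'' : f'' ≫ i'' = gX)
    (k₀ : AffEtChart Y) {U : Over S} (aU : (yon S).obj U ⟶ X) (h : U ⟶ k₀.W) [Flat h.left]
    (comm : aU ≫ f = (yon S).map h ≫ k₀.q) {E : Sp S} (x : E ⟶ ZX) (r : E ⟶ (yon S).obj U)
    (hxr : x ≫ iX = r ≫ aU) : ∃ l : E ⟶ Z'', l ≫ i'' = x ≫ iX := by
  have hiX : RepWith @IsClosedImmersion iX := (RepWith @IsClosedImmersion).of_isPullback sqZ hZi.1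
  have sqA := hiX.rep.isPullback aU
  have hcA : IsClosedImmersion (hiX.rep.snd aU).left := hiX.property_snd aU
  have sqA' : IsPullback (hiX.rep.fst aU ≫ i₁) ((yon S).map (hiX.rep.snd aU)) i
      ((yon S).map h ≫ k₀.q) := by
    rw [← comm]
    exact sqA.paste_horiz sqZ
  have hker := isKer_of_isPullback_of_isSchImage_of_flat hY hq hZ hZi k₀ h (hiX.rep.snd aU) _ sqA'
  have sq'' := hi''.rep.isPullback aU
  have hc'' : IsClosedImmersion (hi''.rep.snd aU).left := hi''.property_snd aU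
  -- the base change of `g` factors through the base change of `Z''`
  have hp : pullback.fst g ((yon S).map h ≫ k₀.q) ≫ g =
      (pullback.snd g ((yon S).map h ≫ k₀.q) ≫ aU) ≫ f := by
    rw [Category.assoc, comm, pullback.condition]
  have hl : (sqV.lift _ _ hp ≫ f'') ≫ i'' = pullback.snd g ((yon S).map h ≫ k₀.q) ≫ aU := by
    rw [Category.assoc, hf'', sqV.lift_snd]
  have hle : (hi''.rep.snd aU).left.ker ≤ (hiX.rep.snd aU).left.ker :=
    (hker _ (hi''.rep.snd aU) hc'').1 ⟨sq''.lift _ _ hl, sq''.lift_snd _ _ _⟩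
  obtain ⟨m, hm⟩ := (exists_over_lift_iff_ker_le (hiX.rep.snd aU) (hi''.rep.snd aU)).2 hle
  refine ⟨sqA.lift x r hxr ≫ (yon S).map m ≫ hi''.rep.fst aU, ?_⟩
  rw [Category.assoc, Category.assoc, sq''.w, ← Category.assoc ((yon S).map m),
    ← Functor.map_comp, hm, ← Category.assoc, sqA.lift_snd, hxr]

/-- **Scheme theoretic images of quasi-compact morphisms commute with flat base change.** -/
theorem isSchImage_of_isPullback_of_flat (hX : IsAlgSpace X) (hY : IsAlgSpace Y) {f : X ⟶ Y}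
    (hf : LocP @Flat f) {g : V ⟶ Y} (hq : IsQuasiCompactMor g) {i : Z ⟶ Y} (hZ : IsAlgSpace Z)
    (hZi : IsSchImage g i) {VX ZX : Sp S} {g₁ : VX ⟶ V} {gX : VX ⟶ X}
    (sqV : IsPullback g₁ gX g f) {i₁ : ZX ⟶ Z} {iX : ZX ⟶ X} (sqZ : IsPullback i₁ iX i f) :
    IsSchImage gX iX := by
  obtain ⟨g', hg'⟩ := hZi.2.1
  refine ⟨(RepWith @IsClosedImmersion).of_isPullback sqZ hZi.1,
    ⟨sqZ.lift (g₁ ≫ g') gX (by rw [Category.assoc, hg', sqV.w]), sqZ.lift_snd _ _ _⟩, ?_⟩
  rintro Z'' i'' - hi'' ⟨f'', hf''⟩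
  have hm : Mono i'' := mono_of_repWith_isClosedImmersion hi''
  apply exists_lift_of_mono_of_forall_yon
  intro T x
  apply exists_lift_of_mono_of_liftSieve_mem
  refine (J S).superset_covering ?_ (jointLiftSieve_affEtChart_mem hY T (x ≫ iX ≫ f))
  rintro T' a ⟨k₀, τ, hτ⟩
  obtain ⟨U, aU, h, c, hae, comm, hce, hcs, hca, hch⟩ := exists_chart_diagram hX f k₀.etale
  have hfl : Flat h.left := hf aU k₀.q h hae k₀.etale comm
  have hcl : Sheaf.IsLocallySurjective c := isLocallySurjective_of_etale_surjective c hce hcs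
  have hy : ((yon S).map a ≫ x ≫ iX) ≫ f = τ ≫ k₀.q := by
    rw [hτ, Category.assoc, Category.assoc]
  have he : Sheaf.IsLocallySurjective (pullback.fst (pullback.lift _ _ hy) c) :=
    isLocallySurjective_of_isPullback (IsPullback.of_hasPullback (pullback.lift _ _ hy) c).flip
  have hepi : Epi (pullback.fst (pullback.lift _ _ hy) c) := inferInstance
  have hxr : (pullback.fst (pullback.lift _ _ hy) c ≫ (yon S).map a ≫ x) ≫ iX =
      pullback.snd (pullback.lift _ _ hy) c ≫ aU := by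
    rw [← hca, ← Category.assoc (pullback.snd _ c), ← pullback.condition]
    simp only [Category.assoc, pullback.lift_fst]
  obtain ⟨l, hl⟩ := exists_lift_of_flat_chart hY hq hZ hZi sqV sqZ i'' hi'' f'' hf'' k₀ aU h comm
    (pullback.fst (pullback.lift _ _ hy) c ≫ (yon S).map a ≫ x)
    (pullback.snd (pullback.lift _ _ hy) c) hxr
  obtain ⟨π', hπ', -⟩ := exists_factor_of_epi_of_mono (pullback.fst (pullback.lift _ _ hy) c) i''
    ((yon S).map a ≫ x ≫ iX) l (by rw [hl, Category.assoc, Category.assoc])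
  exact ⟨π', hπ'⟩

end Groth.Agent.H5.AlgSp
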