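import Groth.Prelude.Def_AlgSpSub
import Groth.Agent.Lib.Helper5.AlgSp.SchImageQC
import Groth.Agent.Lib.Helper5.AlgSp.Proper
import Groth.Agent.Lib.Helper5.AlgSp.ImmersionTop
import Mathlib

/-!
# The scheme theoretic image of a proper space in a separated space is proper
-/

set_option autoImplicit false

universe u

open CategoryTheory CategoryTheory.Limits AlgebraicGeometry Opposite

namespace Groth.Agent.H5.AlgSp

open _root_.AlgSp

variable {S : Scheme.{u}}

/-- **The scheme theoretic image of a space proper over `B` in a space separated and locally of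
finite type over `B` is proper over `B`, and the source surjects onto it.** -/
theorem isProperMor_schImage_of_isProperMor {X Y Z B : Sp S} (hX : IsAlgSpace X)
    (hY : IsAlgSpace Y) (hZ : IsAlgSpace Z) (hB : IsAlgSpace B) (h : X ⟶ Y) (f : X ⟶ B)
    (g : Y ⟶ B) (comm : h ≫ g = f) (hf : IsProperMor f) (hg : IsSeparatedMor g)
    (hg' : LocP @LocallyOfFiniteType g) (i : Z ⟶ Y) (hZi : IsSchImage h i) (h' : X ⟶ Z)
    (fac : h' ≫ i = h) : IsProperMor (i ≫ g) ∧ IsSurjectiveMor h' := by
  have hhp : IsProperMor h := isProperMor_of_comp_of_isSeparatedMor hX hY hB hg (by rw [comm]; exact hf)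
  have hi := hZi.1
  have him : Mono i := mono_of_repWith_isClosedImmersion hi
  have hip : IsProperMor i := isProperMor_of_isClosedImmersion hi
  -- surjectivity
  have hcl : IsClosedMap (Points.map h) :=
    hhp.2.2 hY (𝟙 Y) (𝟙 X) h (IsPullback.of_horiz_isIso ⟨by simp⟩)
  have hs : IsSurjectiveMor h' := by
    intro z
    have hz := range_subset_closure_of_isSchImage hY hhp.2.1.2 hZi ⟨z, rfl⟩
    rw [hcl.isClosed_range.closure_eq] at hz
    obtain ⟨x, hx⟩ := hz
    refine ⟨x, points_map_injective_of_mono i ?_⟩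
    rw [← Points.map_comp, fac, hx]
  refine ⟨⟨isSeparatedMor_comp hip.1 hg, ⟨locP_comp etale_le_lft hZ hY hB hip.2.1.1 hg', ?_⟩, ?_⟩, hs⟩
  · apply isQuasiCompactMor_of_comp_surjective hZ hB hs
    rw [← Category.assoc, fac, comm]
    exact hf.2.1.2
  · apply isUnivClosedMor_of_comp_surjective hs
    rw [← Category.assoc, fac, comm]
    exact hf.2.2

end Groth.Agent.H5.AlgSp
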