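import Groth.Prelude.Def_AlgSpSub
import Groth.Agent.Lib.Helper5.AlgSp.SchImageQC
import Groth.Agent.Lib.Helper5.AlgSp.SepMor
import Groth.Agent.Lib.Helper5.AlgSp.ProdSp
import Groth.Agent.Lib.Helper5.AlgSp.SchematicLocus
import Mathlib

/-!
# The scheme theoretic image of a section over a quasi-compact open
-/

set_option autoImplicit false

universe u

open CategoryTheory CategoryTheory.Limits AlgebraicGeometry Opposite

namespace Groth.Agent.H5.AlgSp

open _root_.AlgSp

variable {S : Scheme.{u}}

/-- A representable closed immersion is its own scheme theoretic image. -/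
theorem isSchImage_self {X Y : Sp S} {f : X ⟶ Y} (hf : RepWith @IsClosedImmersion f) :
    IsSchImage f f :=
  ⟨hf, ⟨𝟙 X, Category.id_comp f⟩, fun _ _ _ _ h => h⟩

/-- **The scheme theoretic image of a section of a separated morphism over a quasi-compact open
maps isomorphically onto that open.** -/
theorem isIso_snd_of_section_of_isSchImage {X Y V Y' : Sp S} (hX : IsAlgSpace X)
    (hY : IsAlgSpace Y) (hV : IsAlgSpace V) (hY' : IsAlgSpace Y') (f : X ⟶ Y) (j : V ⟶ Y)
    (hj : RepWith @IsOpenImmersion j) (hjq : IsQuasiCompactMor j) (hf : IsSeparatedMor f)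
    (s : V ⟶ X) (hs : s ≫ f = j) (c : Y' ⟶ X) (hc : IsSchImage s c)
    {P : Sp S} (fst : P ⟶ Y') (snd : P ⟶ V) (sq : IsPullback fst snd (c ≫ f) j) :
    IsIso snd := by
  have hfq : IsQuasiSeparatedMor f := repWith_mono isClosedImmersion_le_quasiCompact hf
  have hsq : IsQuasiCompactMor s :=
    isQuasiCompactMor_of_comp_of_isQuasiSeparatedMor hV hX hY (by rw [hs]; exact hjq) hfq
  have sqX := IsPullback.of_hasPullback f j
  have hXV : IsAlgSpace (pullback f j) := isAlgSpace_pullback hY.diag hX hV sqX
  have hP : IsAlgSpace P := isAlgSpace_pullback hY.diag hY' hV sq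
  have hp1 : RepWith @IsOpenImmersion (pullback.fst f j) :=
    MorphismProperty.of_isPullback (P := RepWith @IsOpenImmersion) sqX.flip hj
  have hp1e : IsEtaleMor (pullback.fst f j) := fun U φ hφ =>
    MorphismProperty.comp_mem _ _ _ hφ (repWith_mono isOpenImmersion_le_etale hp1)
  have hmono : Mono j := mono_of_repWith LocalRep.isOpenImmersion_le_mono hj
  -- the section of the base change
  have hsV : s ≫ f = 𝟙 V ≫ j := by rw [hs, Category.id_comp]
  have hsV2 : pullback.lift s (𝟙 V) hsV ≫ pullback.snd f j = 𝟙 V := pullback.lift_snd _ _ _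
  have sqs : IsPullback (𝟙 V) (pullback.lift s (𝟙 V) hsV) s (pullback.fst f j) := by
    refine (IsPullback.of_right ?_ ?_ sqX.flip).flip
    · rw [hsV2, hs]
      exact IsKernelPair.id_of_mono j
    · rw [pullback.lift_fst, Category.id_comp]
  -- the base change of the image
  have hm : (fst ≫ c) ≫ f = snd ≫ j := by rw [Category.assoc]; exact sq.w
  have hm2 : pullback.lift (fst ≫ c) snd hm ≫ pullback.snd f j = snd := pullback.lift_snd _ _ _
  have sqZ : IsPullback fst (pullback.lift (fst ≫ c) snd hm) c (pullback.fst f j) := by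
    refine IsPullback.of_bot ?_ ?_ sqX
    · rw [hm2]; exact sq
    · rw [pullback.lift_fst]
  have h1 : IsSchImage (pullback.lift s (𝟙 V) hsV) (pullback.lift (fst ≫ c) snd hm) :=
    isSchImage_of_isPullback_of_isEtaleMor hX hXV hsq hc hp1e sqs sqZ
  have hcl : RepWith @IsClosedImmersion (pullback.lift s (𝟙 V) hsV) :=
    repWith_section_of_diag hsV2 (repWith_diag_of_isPullback sqX hf)
  obtain ⟨e, he⟩ := exists_iso_of_isSchImage hP hV h1 (isSchImage_self hcl)
  have : snd = e.hom := by
    rw [← hm2, ← he, Category.assoc, hsV2, Category.comp_id]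
  rw [this]
  infer_instance

end Groth.Agent.H5.AlgSp
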