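import Groth.Prelude.Def_AlgSpSub
import Groth.Agent.Lib.Helper5.AlgSp.SchImageQC
import Groth.Agent.Lib.Helper5.AlgSp.SpecializeImage
import Groth.Agent.Lib.Helper5.AlgSp.RefinedDVRSch
import Groth.Agent.Lib.Helper5.AlgSp.PointsTop
import Mathlib

/-!
# Points of the scheme theoretic image of a quasi-compact morphism are reached by valuation rings
-/

set_option autoImplicit false

universe u

open CategoryTheory CategoryTheory.Limits AlgebraicGeometry Opposite IsLocalRing

namespace Groth.Agent.H5.AlgSp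

open _root_.AlgSp

variable {S : Scheme.{u}}

/-- A point of the closed subscheme cut out by the kernel of a quasi-compact morphism lies in
the closure of the image of the lift. -/
lemma mem_closure_range_of_ker_eq {U A W : Scheme.{u}} (g : U ⟶ W) [QuasiCompact g] (c : A ⟶ W)
    [IsClosedImmersion c] (l : U ⟶ A) (hl : l ≫ c = g) (hk : c.ker = g.ker) (a₀ : A) :
    a₀ ∈ closure (Set.range l) := by
  have h1 : c a₀ ∈ closure (Set.range g) := by
    rw [← Scheme.Hom.support_ker g, ← hk, Scheme.Hom.support_ker c]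
    exact subset_closure ⟨a₀, rfl⟩
  have h2 : Set.range g = c '' Set.range l := by
    rw [← hl, Scheme.Hom.comp_base, TopCat.coe_comp, Set.range_comp]
  rw [h2, c.isClosedEmbedding.closure_image_eq] at h1
  obtain ⟨a₁, ha₁, h⟩ := h1
  rw [← c.isClosedEmbedding.injective h]
  exact ha₁

/-- **Every point of the scheme theoretic image of a quasi-compact morphism is reached by a
valuation ring whose generic point lifts to the source.** -/
theorem exists_valuationRing_to_schImage {X Y Z : Sp S} (hY : IsAlgSpace Y) (hZ : IsAlgSpace Z)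
    {f : X ⟶ Y} {i : Z ⟶ Y} (hq : IsQuasiCompactMor f) (hZi : IsSchImage f i) (z : Points Z) :
    ∃ (A : Type u) (_ : CommRing A) (_ : IsDomain A) (_ : ValuationRing A)
      (str : Spec (CommRingCat.of A) ⟶ S)
      (a : (yon S).obj (Over.mk str) ⟶ Z)
      (x : (yon S).obj
        (Over.mk (Spec.map (CommRingCat.ofHom (algebraMap A (FractionRing A))) ≫ str)) ⟶ X),
      Points.ofPt a (closedPoint A) = z ∧
      x ≫ f = (yon S).map
        (Over.homMk (Spec.map (CommRingCat.ofHom (algebraMap A (FractionRing A)))) rfl) ≫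
        a ≫ i := by
  have hi := hZi.1
  -- an affine étale chart through the image point
  obtain ⟨V, p, hpe, hps⟩ := hY.atlas
  obtain ⟨v, hv⟩ := ofPt_surjective_of_repWith hps (Points.map i z)
  obtain ⟨_, ⟨V₀, hV₀, rfl⟩, hvV₀, -⟩ :=
    V.left.isBasis_affineOpens.exists_subset_of_mem_open (Set.mem_univ v) isOpen_univ
  have hWaff : IsAffine (overOpen V V₀).left := hV₀
  have hp₀e : RepWith @Etale ((yon S).map (overOpenι V V₀) ≫ p) := repWith_etale_restrict hpe V₀
  obtain ⟨p₀, hp₀⟩ : ∃ p₀, p₀ = (yon S).map (overOpenι V V₀) ≫ p := ⟨_, rfl⟩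
  rw [← hp₀] at hp₀e
  have hv₀ : Points.map i z = Points.ofPt p₀ (⟨v, hvV₀⟩ : V₀) := by
    rw [hp₀, ofPt_restrict]
    exact hv.symm
  -- the base change of the image
  have sq := hi.rep.isPullback p₀
  have hcl : IsClosedImmersion (hi.rep.snd p₀).left := hi.property_snd p₀
  obtain ⟨a₀, ha₀c, ha₀z⟩ := exists_point_of_isPullback sq z (⟨v, hvV₀⟩ : V₀) hv₀
  -- the quasi-compact cover
  obtain ⟨U, u, g, hu, hg, hgqc⟩ :=
    hasQCCovers_of_isQuasiCompactMor f hq ⟨overOpen V V₀, p₀, hWaff, hp₀e⟩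
  change u ≫ pullback.snd f p₀ = (yon S).map g at hg
  have h0 : IsKer (pullback.snd f p₀) (hi.rep.snd p₀).left.ker :=
    isKer_of_isPullback_of_isSchImage hY hq hZ hZi p₀ hp₀e (hi.rep.snd p₀) (hi.rep.fst p₀) sq
  have h1 : IsKer (pullback.snd f p₀) g.left.ker := isKer_of_cover _ u g hg
  have hker : (hi.rep.snd p₀).left.ker = g.left.ker := h0.unique h1
  obtain ⟨l, hl⟩ := (exists_over_lift_iff_ker_le g (hi.rep.snd p₀)).2 (le_of_eq hker)
  have hl' : l.left ≫ (hi.rep.snd p₀).left = g.left := congrArg (·.left) hl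
  have hmem : a₀ ∈ closure (Set.range l.left) :=
    mem_closure_range_of_ker_eq g.left (hi.rep.snd p₀).left l.left hl' hker a₀
  -- the specialization
  have hAaff : IsAffine (hi.rep.pullback p₀).left :=
    isAffine_of_isAffineHom (hi.rep.snd p₀).left
  have hUc : CompactSpace U.left :=
    (HasAffineProperty.iff_of_isAffine (P := @QuasiCompact) (f := g.left)).1 hgqc
  obtain ⟨u₀, hspec⟩ := exists_specializes_of_mem_closure_range l.left hmem
  obtain ⟨V₁, mB, hmB, hmBcl⟩ := exists_valuationSubring_of_specializes l.left u₀ a₀ hspec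
    (RingHom.id (U.left.residueField u₀))
  -- the fraction field
  let ε : U.left.residueField u₀ →+* FractionRing V₁ :=
    ((FractionRing.algEquiv V₁ (U.left.residueField u₀)).symm : _ →+* _)
  have hε : ε.comp (algebraMap V₁ (U.left.residueField u₀)) =
      algebraMap V₁ (FractionRing V₁) := by
    ext r
    exact (FractionRing.algEquiv V₁ (U.left.residueField u₀)).symm.commutes r
  have hεS : Spec.map (CommRingCat.ofHom (algebraMap V₁ (FractionRing V₁))) =
      Spec.map (CommRingCat.ofHom ε) ≫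
        Spec.map (CommRingCat.ofHom (algebraMap V₁ (U.left.residueField u₀))) := by
    rw [← Spec.map_comp, ← CommRingCat.ofHom_comp, hε]
  have hxl : (Spec.map (CommRingCat.ofHom ε) ≫ U.left.fromSpecResidueField u₀) ≫ l.left =
      Spec.map (CommRingCat.ofHom (algebraMap V₁ (FractionRing V₁))) ≫ mB := by
    rw [hεS, Category.assoc, Category.assoc, hmB]
    congr 1
    rw [show CommRingCat.ofHom (RingHom.id (U.left.residueField u₀)) = 𝟙 _ from rfl, Spec.map_id,
      Category.id_comp]
  have hxw : (Spec.map (CommRingCat.ofHom ε) ≫ U.left.fromSpecResidueField u₀) ≫ U.hom =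
      Spec.map (CommRingCat.ofHom (algebraMap V₁ (FractionRing V₁))) ≫
        mB ≫ (hi.rep.pullback p₀).hom := by
    rw [← Over.w l, ← Category.assoc, hxl, Category.assoc]
  obtain ⟨x₀, hx₀⟩ : ∃ x₀ : Over.mk (Spec.map (CommRingCat.ofHom
      (algebraMap V₁ (FractionRing V₁))) ≫ mB ≫ (hi.rep.pullback p₀).hom) ⟶ U,
      x₀ = Over.homMk (Spec.map (CommRingCat.ofHom ε) ≫ U.left.fromSpecResidueField u₀) hxw :=
    ⟨_, rfl⟩
  obtain ⟨mB', hmB'⟩ : ∃ mB' : Over.mk (mB ≫ (hi.rep.pullback p₀).hom) ⟶ hi.rep.pullback p₀,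
      mB' = Over.homMk mB rfl := ⟨_, rfl⟩
  have e1 : x₀ ≫ l =
      (Over.homMk (Spec.map (CommRingCat.ofHom (algebraMap V₁ (FractionRing V₁)))) rfl :
        Over.mk (Spec.map (CommRingCat.ofHom (algebraMap V₁ (FractionRing V₁))) ≫
          mB ≫ (hi.rep.pullback p₀).hom) ⟶ Over.mk (mB ≫ (hi.rep.pullback p₀).hom)) ≫ mB' := by
    apply Over.OverMorphism.ext
    rw [hx₀, hmB']
    exact hxl
  refine ⟨V₁, inferInstance, inferInstance, inferInstance, mB ≫ (hi.rep.pullback p₀).hom,
    (yon S).map mB' ≫ hi.rep.fst p₀, (yon S).map x₀ ≫ u ≫ pullback.fst f p₀, ?_, ?_⟩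
  · rw [ofPt_yon_map_comp, hmB']
    change Points.ofPt (hi.rep.fst p₀) (mB (closedPoint V₁)) = z
    rw [hmBcl, ha₀z]
  · have e2 : (u ≫ pullback.fst f p₀) ≫ f = (yon S).map l ≫ hi.rep.fst p₀ ≫ i := by
      rw [Category.assoc, pullback.condition, ← Category.assoc, hg, ← hl, Functor.map_comp,
        Category.assoc, ← sq.w]
    have e3 := congrArg (fun t => (yon S).map t) e1
    simp only [Functor.map_comp] at e3
    calc ((yon S).map x₀ ≫ u ≫ pullback.fst f p₀) ≫ f
        = (yon S).map x₀ ≫ ((u ≫ pullback.fst f p₀) ≫ f) := by simp only [Category.assoc]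
      _ = ((yon S).map x₀ ≫ (yon S).map l) ≫ hi.rep.fst p₀ ≫ i := by
          rw [e2, Category.assoc]
      _ = _ := by rw [e3]; simp only [Category.assoc]

end Groth.Agent.H5.AlgSp
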