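import Groth.Agent.Lib.Helper5.AlgSp.LocPCalc
import Groth.Agent.Lib.Helper5.AlgSp.PointsTop
import Groth.Agent.Lib.Helper5.AlgSp.FlatDescentMore
import Mathlib

/-!
# The seven listed classes of morphisms

A uniform induction principle for statements quantified over the classes
"locally of finite type, locally of finite presentation, flat, smooth, étale, locally quasi-finite,
unramified".
-/

set_option autoImplicit false

universe u

open CategoryTheory CategoryTheory.Limits AlgebraicGeometry MorphismProperty

namespace Groth.Agent.H5.AlgSp

open _root_.AlgSp Groth.Agent.H5.EtSrc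

/-- Induction principle over the seven listed classes: to prove `C P` it suffices to prove `C Q`
for every `Q` stable under composition and base change, fppf local on the target, étale local on
the source and containing the étale morphisms. -/
theorem seven_classes (C : MorphismProperty Scheme.{u} → Prop)
    (key : ∀ (Q : MorphismProperty Scheme.{u}) [Q.IsStableUnderComposition]
      [Q.IsStableUnderBaseChange] [Q.IsLocalAtTarget Scheme.fppfPrecoverage]
      [IsEtaleLocalSource Q], (@Etale : MorphismProperty Scheme.{u}) ≤ Q → C Q)
    (P : MorphismProperty Scheme.{u})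
    (hP : P = @LocallyOfFiniteType ∨ P = @LocallyOfFinitePresentation ∨ P = @Flat ∨ P = @Smooth ∨
      P = @Etale ∨
      (∀ ⦃A B : Scheme.{u}⦄ (g : A ⟶ B), P g ↔ (LocallyQuasiFinite g ∧ LocallyOfFiniteType g)) ∨
      (∀ ⦃A B : Scheme.{u}⦄ (g : A ⟶ B), P g ↔ (LocallyOfFiniteType g ∧ FormallyUnramified g))) :
    C P := by
  rcases hP with rfl | rfl | rfl | rfl | rfl | hP | hP
  · exact key _ (fun _ _ g (hg : Etale g) => (inferInstance : LocallyOfFiniteType g))
  · exact key _ (fun _ _ g (hg : Etale g) => (inferInstance : LocallyOfFinitePresentation g))
  · exact key _ (fun _ _ g (hg : Etale g) => (inferInstance : Flat g))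
  · exact key _ (fun _ _ g (hg : Etale g) => (inferInstance : Smooth g))
  · exact key _ le_rfl
  · have : P = (@LocallyQuasiFinite ⊓ @LocallyOfFiniteType : MorphismProperty Scheme.{u}) := by
      ext A B g
      exact hP g
    subst this
    exact key _ (fun _ _ g (hg : Etale g) =>
      ⟨Groth.Agent.H5.AlgSp.locallyQuasiFinite_of_etale g, (inferInstance : LocallyOfFiniteType g)⟩)
  · have : P = (@LocallyOfFiniteType ⊓ @FormallyUnramified : MorphismProperty Scheme.{u}) := by
      ext A B g
      exact hP g
    subst this
    exact key _ (fun _ _ g (hg : Etale g) =>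
      ⟨(inferInstance : LocallyOfFiniteType g), (inferInstance : FormallyUnramified g)⟩)

end Groth.Agent.H5.AlgSp
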