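import Groth.Agent.Lib.Helper5.AlgSp.ZarLocalRep
import Mathlib

/-!
# Representability of a map from a scheme is Zariski local on the source
-/

set_option autoImplicit false

universe u

open CategoryTheory CategoryTheory.Limits AlgebraicGeometry Opposite

namespace Groth.Agent.H5.AlgSp

open _root_.AlgSp

variable {S : Scheme.{u}} {X : Over S} {F : Sp S} (p : (yon S).obj X ⟶ F) {ι : Type u}
  {U : ι → Over S} (j : ∀ i, U i ⟶ X)

/-- **Representability of `h_X ⟶ F` is Zariski local on `X`.** -/
theorem representable_of_source_openCover (hj : ∀ i, IsOpenImmersion (j i).left)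
    (hcov : ∀ x : X.left, ∃ i, x ∈ Set.range (j i).left)
    (h : ∀ i, Representable ((yon S).map (j i) ≫ p)) : Representable p := by
  intro T ξ
  have sqP := IsPullback.of_hasPullback p ξ
  choose f₀ hf₀ using fun i => (yon S).map_surjective ((h i).fst ξ)
  have sqi : ∀ i, IsPullback ((yon S).map (f₀ i)) ((yon S).map ((h i).snd ξ))
      ((yon S).map (j i) ≫ p) ξ := fun i => by
    rw [hf₀]; exact (h i).isPullback ξ
  have hw : ∀ i, ((yon S).map (f₀ i) ≫ (yon S).map (j i)) ≫ p = (yon S).map ((h i).snd ξ) ≫ ξ :=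
    fun i => by rw [Category.assoc]; exact (sqi i).w
  let c : ∀ i, (yon S).obj ((h i).pullback ξ) ⟶ pullback p ξ := fun i =>
    pullback.lift ((yon S).map (f₀ i) ≫ (yon S).map (j i)) ((yon S).map ((h i).snd ξ)) (hw i)
  have hc1 : ∀ i, c i ≫ pullback.fst p ξ = (yon S).map (f₀ i) ≫ (yon S).map (j i) := fun i =>
    pullback.lift_fst _ _ _
  have hc2 : ∀ i, c i ≫ pullback.snd p ξ = (yon S).map ((h i).snd ξ) := fun i =>
    pullback.lift_snd _ _ _
  have hcsq : ∀ i, IsPullback (c i) ((yon S).map (f₀ i)) (pullback.fst p ξ)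
      ((yon S).map (j i)) := fun i => by
    apply IsPullback.of_right (h₁₂ := pullback.snd p ξ) (h₂₂ := p) _ (hc1 i) sqP.flip
    rw [hc2]
    exact (sqi i).flip
  have hc : ∀ i, RepWith @IsOpenImmersion (c i) := fun i =>
    MorphismProperty.of_isPullback (P := RepWith @IsOpenImmersion) (hcsq i).flip
      ((repWith_yon_map_iff @IsOpenImmersion (j i)).2 (hj i))
  have hsurj : ∀ x : Points (pullback p ξ), ∃ (i : ι) (u : ↥((h i).pullback ξ).left),
      Points.ofPt (c i) u = x := by
    intro x
    obtain ⟨t, ht⟩ := (Points.schemeHomeo X).surjective (Points.map (pullback.fst p ξ) x)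
    obtain ⟨i, u, hu⟩ := hcov t
    have hpt : Points.map (pullback.fst p ξ) x = Points.ofPt ((yon S).map (j i)) u := by
      rw [← ht, Points.ofPt_eq_map_ofScheme, ← hu]
      have := Points.map_yon_map_apply (j i) u
      exact this.symm
    obtain ⟨v, -, hv⟩ := exists_point_of_isPullback (hcsq i) x u hpt
    exact ⟨i, v, hv⟩
  obtain ⟨Y, e, -⟩ := LocalRep.exists_iso hc hsurj
  obtain ⟨snd, fst', sq'⟩ := exists_isPullback_of_iso ξ sqP e
  exact ⟨Y, snd, fst', sq'⟩

end Groth.Agent.H5.AlgSp

namespace Groth.Agent.H5.AlgSp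

open _root_.AlgSp

variable {S : Scheme.{u}} {X : Over S} {F : Sp S} (p : (yon S).obj X ⟶ F) {ι : Type u}
  {U : ι → Over S} (j : ∀ i, U i ⟶ X)

/-- **`RepWith P` for a map `h_X ⟶ F` is Zariski local on `X`**, for `P` local at the source. -/
theorem repWith_of_source_openCover (P : MorphismProperty Scheme.{u}) [P.IsStableUnderBaseChange]
    [IsZariskiLocalAtSource P] (hj : ∀ i, IsOpenImmersion (j i).left)
    (hcov : ∀ x : X.left, ∃ i, x ∈ Set.range (j i).left)
    (h : ∀ i, RepWith P ((yon S).map (j i) ≫ p)) : RepWith P p := by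
  have hrep : Representable p :=
    representable_of_source_openCover p j hj hcov (fun i => (h i).rep)
  refine ⟨hrep, ?_⟩
  intro T V ξ fst snd sq
  obtain ⟨fst₀, rfl⟩ := (yon S).map_surjective fst
  change P snd.left
  have sqO := fun i => IsPullback.of_hasPullback fst₀ (j i)
  have hP : ∀ i, P ((pullback.fst fst₀ (j i)).left ≫ snd.left) := fun i => by
    have top := ((sqO i).map (yon S)).flip
    have big := top.paste_vert sq
    rw [← Functor.map_comp] at big
    exact (h i).property ξ _ _ big
  have hopen : ∀ i, IsOpenImmersion (pullback.fst fst₀ (j i)).left := fun i => by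
    have sqS := (sqO i).map (Over.forget S)
    exact MorphismProperty.of_isPullback (P := @IsOpenImmersion) sqS.flip (hj i)
  let 𝒰 : V.left.OpenCover := Scheme.Cover.mkOfCovers ι (fun i => (pullback fst₀ (j i)).left)
    (fun i => (pullback.fst fst₀ (j i)).left) (fun v => by
      obtain ⟨i, u, hu⟩ := hcov (fst₀.left v)
      have sqS := (sqO i).map (Over.forget S)
      obtain ⟨z, hz, -⟩ := Scheme.exists_preimage_of_isPullback sqS v u hu.symm
      exact ⟨i, z, hz⟩) hopen
  exact IsZariskiLocalAtSource.of_openCover 𝒰 hP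

end Groth.Agent.H5.AlgSp
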