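import Mathlib
import Groth.Agent.Lib.Helper8.UCAlg

/-!
# The finite-variable reduction for closedness, abstractly (Stacks 05JX)

An abstract topological form of the key step in "universally closed can be tested on affine
spaces", which applies to algebraic spaces: the spaces `|X ×_R R[x_J]|` are only assumed to be
topological spaces receiving open surjections from `Spec A[x_J]`.
-/

set_option autoImplicit false

universe u v

open MvPolynomial PrimeSpectrum

namespace Groth.Agent.H5.UC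

open Groth.Agent.H8.UC

/-- The finite-variable reduction. -/
theorem isClosedMap_of_finite_variables {R A : Type u} [CommRing R] [CommRing A] (φ : R →+* A)
    (J : Type u) {XJ : Type v} [TopologicalSpace XJ]
    (σJ : PrimeSpectrum (MvPolynomial J A) → XJ) (hσJ : Continuous σJ)
    (qJ : XJ → PrimeSpectrum (MvPolynomial J R))
    (hqσ : ∀ w, qJ (σJ w) = comap (MvPolynomial.map φ) w)
    (H : ∀ (n : ℕ) (ι : ULift.{u} (Fin n) → J), ∃ (Xn : Type v) (_ : TopologicalSpace Xn)
      (σn : PrimeSpectrum (MvPolynomial (ULift.{u} (Fin n)) A) → Xn)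
      (qn : Xn → PrimeSpectrum (MvPolynomial (ULift.{u} (Fin n)) R)) (π : XJ → Xn),
      Continuous σn ∧ IsOpenMap σn ∧ Function.Surjective σn ∧ IsClosedMap qn ∧
      (∀ w, qn (σn w) = comap (MvPolynomial.map φ) w) ∧
      (∀ x, qn (π x) = comap (rename ι : MvPolynomial (ULift.{u} (Fin n)) R →ₐ[R]
        MvPolynomial J R).toRingHom (qJ x)) ∧
      (∀ Z : Set XJ, σn ⁻¹' (π '' Z) ⊆
        comap (rename ι : MvPolynomial (ULift.{u} (Fin n)) A →ₐ[A]
          MvPolynomial J A).toRingHom '' (σJ ⁻¹' Z))) :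
    IsClosedMap qJ := by
  intro Z hZ
  rw [← isOpen_compl_iff, isOpen_iff_forall_mem_open]
  intro y hy
  let Z' : Set (PrimeSpectrum (MvPolynomial J A)) := σJ ⁻¹' Z
  have hZ' : IsClosed Z' := hZ.preimage hσJ
  let I := vanishingIdeal Z'
  have hI : zeroLocus (I : Set (MvPolynomial J A)) = Z' := by
    rw [zeroLocus_vanishingIdeal_eq_closure, hZ'.closure_eq]
  have h : ∀ 𝔮 : Ideal (MvPolynomial J A), 𝔮.IsPrime → I ≤ 𝔮 →
      𝔮.comap (MvPolynomial.map φ) ≠ y.asIdeal := by
    intro 𝔮 h𝔮 hI𝔮 hcomap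
    apply hy
    let w : PrimeSpectrum (MvPolynomial J A) := ⟨𝔮, h𝔮⟩
    have hw : w ∈ Z' := by
      rw [← hI]; exact hI𝔮
    refine ⟨σJ w, hw, ?_⟩
    rw [hqσ]
    exact PrimeSpectrum.ext hcomap
  obtain ⟨n, ι, -, g₀, hg₀, hkey⟩ := exists_finite_witness φ I y.asIdeal h
  obtain ⟨Xn, _, σn, qn, π, hσnc, hσno, hσns, hqn, hqσn, hqπ, hpb⟩ := H n ι
  let Z₀ : Set Xn := closure (π '' Z)
  have hF : IsClosed (qn '' Z₀) := hqn _ isClosed_closure
  refine ⟨comap (rename ι : MvPolynomial (ULift.{u} (Fin n)) R →ₐ[R]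
    MvPolynomial J R).toRingHom ⁻¹' (qn '' Z₀)ᶜ, ?_,
    hF.isOpen_compl.preimage (PrimeSpectrum.continuous_comap _), ?_⟩
  · rintro y'' hy'' ⟨z, hz, rfl⟩
    apply hy''
    exact ⟨π z, subset_closure ⟨z, hz, rfl⟩, hqπ z⟩
  · rintro ⟨z₀, hz₀, hz₀y⟩
    obtain ⟨w, rfl⟩ := hσns z₀
    have hw : w ∈ σn ⁻¹' closure (π '' Z) := hz₀
    rw [hσno.preimage_closure_eq_closure_preimage hσnc] at hw
    have hw2 : w ∈ closure (comap (rename ι : MvPolynomial (ULift.{u} (Fin n)) A →ₐ[A]
        MvPolynomial J A).toRingHom '' Z') := closure_mono (hpb Z) hw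
    have hw3 : w ∈ zeroLocus
        ((I.comap (rename ι : MvPolynomial (ULift.{u} (Fin n)) A →ₐ[A] MvPolynomial J A) :
          Ideal _) : Set (MvPolynomial (ULift.{u} (Fin n)) A)) := by
      have := closure_image_comap_zeroLocus
        (rename ι : MvPolynomial (ULift.{u} (Fin n)) A →ₐ[A] MvPolynomial J A).toRingHom I
      rw [hI] at this
      change w ∈ PrimeSpectrum.zeroLocus ((Ideal.comap (rename ι :
        MvPolynomial (ULift.{u} (Fin n)) A →ₐ[A] MvPolynomial J A).toRingHom I : Ideal _) : Set _)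
      rw [← this]
      exact hw2
    have hcomapw : w.asIdeal.comap (MvPolynomial.map φ) = y.asIdeal.comap
        (rename ι : MvPolynomial (ULift.{u} (Fin n)) R →ₐ[R] MvPolynomial J R) := by
      have h1 : qn (σn w) = comap (rename ι : MvPolynomial (ULift.{u} (Fin n)) R →ₐ[R]
          MvPolynomial J R).toRingHom y := hz₀y
      rw [hqσn] at h1
      exact congrArg PrimeSpectrum.asIdeal h1
    have h1 : MvPolynomial.map φ g₀ ∈ w.asIdeal := hkey w.asIdeal w.isPrime hw3 hcomapw
    have h2 : g₀ ∈ w.asIdeal.comap (MvPolynomial.map φ) := h1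
    rw [hcomapw] at h2
    exact hg₀ h2

end Groth.Agent.H5.UC
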