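import Groth.Prelude.Def_AlgSp4
import Groth.Agent.Lib.Helper5.AlgSp.UCAbstract
import Groth.Agent.Lib.Helper5.AlgSp.UCLocal
import Groth.Agent.Lib.Helper5.AlgSp.UnivClosed
import Groth.Agent.Lib.Helper8.UCCore
import Mathlib

/-!
# Universally closed can be tested on affine spaces, for algebraic spaces (Stacks 0CM?/05JX)
-/

set_option autoImplicit false

universe u

open CategoryTheory CategoryTheory.Limits AlgebraicGeometry Opposite Topology MvPolynomial

namespace Groth.Agent.H5.UC

open _root_.AlgSp Groth.Agent.H5.AlgSp Groth.Agent.H8.UC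

variable {S : Scheme.{u}}

/-- Closedness of a base change passes to further base changes along immersions. -/
theorem isClosedMap_snd_comp_of_isImmersion {X : Sp S} (hX : IsAlgSpace X) {T T' T'' : Over S}
    (f : X ⟶ (yon S).obj T) (c : T' ⟶ T) (k : T'' ⟶ T') [IsImmersion k.left]
    (h : IsClosedMap (Points.map (pullback.snd f ((yon S).map c))))
    {P : Sp S} {fst : P ⟶ X} {snd : P ⟶ (yon S).obj T''}
    {g : (yon S).obj T'' ⟶ (yon S).obj T} (hg : g = (yon S).map k ≫ (yon S).map c)
    (sq : IsPullback fst snd f g) : IsClosedMap (Points.map snd) := by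
  subst hg
  have sq1 := IsPullback.of_hasPullback f ((yon S).map c)
  have hP1 : IsAlgSpace (pullback f ((yon S).map c)) :=
    isAlgSpace_pullback (IsAlgSpace.yon_obj T).diag hX (IsAlgSpace.yon_obj T') sq1
  have hw : fst ≫ f = (snd ≫ (yon S).map k) ≫ (yon S).map c := by
    rw [Category.assoc]; exact sq.w
  have sq2 : IsPullback (sq1.lift fst (snd ≫ (yon S).map k) hw) snd
      (pullback.snd f ((yon S).map c)) ((yon S).map k) := by
    refine IsPullback.of_right ?_ (sq1.lift_snd _ _ _) sq1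
    rw [sq1.lift_fst]
    exact sq
  exact isClosedMap_points_of_isPullback_of_isImmersion hP1 k sq2 h

section Objects

variable {R : CommRingCat.{u}} (strR : Spec R ⟶ S)

/-- `Spec R[x_J]` over `S`. -/
noncomputable abbrev TR (J : Type u) : Over S := Over.mk (Spec.map (cR J R) ≫ strR)

/-- `Spec R[x_J] ⟶ Spec R` over `S`. -/
noncomputable abbrev cRo (J : Type u) : TR strR J ⟶ Over.mk strR :=
  Over.homMk (Spec.map (cR J R)) rfl

/-- `Spec R[x_J] ⟶ Spec R[x_J₀]` over `S`. -/
noncomputable abbrev rnRo {J₀ J : Type u} (ι : J₀ → J) : TR strR J ⟶ TR strR J₀ :=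
  Over.homMk (Spec.map (rn ι R)) (by
    change Spec.map _ ≫ Spec.map _ ≫ strR = Spec.map _ ≫ strR
    rw [← Spec.map_comp_assoc, cR_rn])

lemma rnRo_cRo {J₀ J : Type u} (ι : J₀ → J) : rnRo strR ι ≫ cRo strR J₀ = cRo strR J := by
  apply Over.OverMorphism.ext
  change Spec.map _ ≫ Spec.map _ = Spec.map _
  rw [← Spec.map_comp, cR_rn]

variable {A : CommRingCat.{u}} (φ : R ⟶ A)

/-- `Spec A ⟶ Spec R` over `S`. -/
noncomputable abbrev φo : Over.mk (Spec.map φ ≫ strR) ⟶ Over.mk strR :=
  Over.homMk (Spec.map φ) rfl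

/-- `Spec A[x_J] ⟶ Spec R[x_J]` over `S`. -/
noncomputable abbrev mo (J : Type u) : TR (Spec.map φ ≫ strR) J ⟶ TR strR J :=
  Over.homMk (Spec.map (mφ J φ)) (by
    change Spec.map _ ≫ Spec.map _ ≫ strR = Spec.map _ ≫ Spec.map _ ≫ strR
    rw [← Spec.map_comp_assoc, ← Spec.map_comp_assoc, (isPushout_poly J φ).w])

lemma cRo_φo (J : Type u) :
    cRo (Spec.map φ ≫ strR) J ≫ φo strR φ = mo strR φ J ≫ cRo strR J := by
  apply Over.OverMorphism.ext
  change Spec.map _ ≫ Spec.map _ = Spec.map _ ≫ Spec.map _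
  rw [← Spec.map_comp, ← Spec.map_comp, (isPushout_poly J φ).w]

lemma isPullback_mo (J : Type u) :
    IsPullback (cRo (Spec.map φ ≫ strR) J) (mo strR φ J) (φo strR φ) (cRo strR J) :=
  IsPullback.of_map (Over.forget S) (cRo_φo strR φ J) (isPullback_poly J φ)

lemma mo_rnRo {J₀ J : Type u} (ι : J₀ → J) :
    mo strR φ J ≫ rnRo strR ι = rnRo (Spec.map φ ≫ strR) ι ≫ mo strR φ J₀ := by
  apply Over.OverMorphism.ext
  change Spec.map _ ≫ Spec.map _ = Spec.map _ ≫ Spec.map _
  rw [← Spec.map_comp, ← Spec.map_comp, mφ_rn]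

end Objects

section Sheaves

variable {R A : CommRingCat.{u}} (strR : Spec R ⟶ S) (φ : R ⟶ A) {X : Sp S}
  (f : X ⟶ (yon S).obj (Over.mk strR)) (ρ : (yon S).obj (Over.mk (Spec.map φ ≫ strR)) ⟶ X)
  (hρ : ρ ≫ f = (yon S).map (φo strR φ))

/-- The chart `Spec A[x_J] ⟶ X ×_{Spec R} Spec R[x_J]`. -/
noncomputable def σo (J : Type u) :
    (yon S).obj (TR (Spec.map φ ≫ strR) J) ⟶ pullback f ((yon S).map (cRo strR J)) :=
  pullback.lift ((yon S).map (cRo (Spec.map φ ≫ strR) J) ≫ ρ) ((yon S).map (mo strR φ J)) (by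
    rw [Category.assoc, hρ, ← Functor.map_comp, ← Functor.map_comp, cRo_φo])

lemma σo_fst (J : Type u) : σo strR φ f ρ hρ J ≫ pullback.fst _ _ =
    (yon S).map (cRo (Spec.map φ ≫ strR) J) ≫ ρ := pullback.lift_fst _ _ _

lemma σo_snd (J : Type u) : σo strR φ f ρ hρ J ≫ pullback.snd _ _ =
    (yon S).map (mo strR φ J) := pullback.lift_snd _ _ _

lemma isPullback_σo (J : Type u) :
    IsPullback (σo strR φ f ρ hρ J) ((yon S).map (cRo (Spec.map φ ≫ strR) J))
      (pullback.fst f ((yon S).map (cRo strR J))) ρ := by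
  refine IsPullback.of_right ?_ (σo_fst strR φ f ρ hρ J)
    (IsPullback.of_hasPullback f ((yon S).map (cRo strR J))).flip
  rw [σo_snd, hρ]
  exact ((isPullback_mo strR φ J).map (yon S)).flip

/-- The projection forgetting variables. -/
noncomputable def πo {J₀ J : Type u} (ι : J₀ → J) :
    pullback f ((yon S).map (cRo strR J)) ⟶ pullback f ((yon S).map (cRo strR J₀)) :=
  pullback.lift (pullback.fst _ _) (pullback.snd _ _ ≫ (yon S).map (rnRo strR ι)) (by
    rw [Category.assoc, ← Functor.map_comp, rnRo_cRo, pullback.condition])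

lemma πo_fst {J₀ J : Type u} (ι : J₀ → J) :
    πo strR f ι ≫ pullback.fst _ _ = pullback.fst _ _ := pullback.lift_fst _ _ _

lemma πo_snd {J₀ J : Type u} (ι : J₀ → J) :
    πo strR f ι ≫ pullback.snd _ _ = pullback.snd _ _ ≫ (yon S).map (rnRo strR ι) :=
  pullback.lift_snd _ _ _

lemma σo_πo {J₀ J : Type u} (ι : J₀ → J) :
    σo strR φ f ρ hρ J ≫ πo strR f ι =
      (yon S).map (rnRo (Spec.map φ ≫ strR) ι) ≫ σo strR φ f ρ hρ J₀ := by
  apply pullback.hom_ext
  · rw [Category.assoc, πo_fst, σo_fst, Category.assoc, σo_fst, ← Category.assoc,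
      ← Functor.map_comp, rnRo_cRo]
  · rw [Category.assoc, πo_snd, ← Category.assoc, σo_snd, Category.assoc, σo_snd,
      ← Functor.map_comp, ← Functor.map_comp, mo_rnRo]

lemma isPullback_σo_πo {J₀ J : Type u} (ι : J₀ → J) :
    IsPullback (σo strR φ f ρ hρ J) ((yon S).map (rnRo (Spec.map φ ≫ strR) ι)) (πo strR f ι)
      (σo strR φ f ρ hρ J₀) := by
  refine IsPullback.of_bot ?_ (σo_πo strR φ f ρ hρ ι) (isPullback_σo strR φ f ρ hρ J₀)
  rw [πo_fst, ← Functor.map_comp, rnRo_cRo]
  exact isPullback_σo strR φ f ρ hρ J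

include hρ in
lemma symm_map_snd_ofPt_σo (J : Type u) (w : PrimeSpectrum (MvPolynomial J A)) :
    (Points.schemeHomeo (TR strR J)).symm
      (Points.map (pullback.snd f ((yon S).map (cRo strR J)))
        (Points.ofPt (σo strR φ f ρ hρ J) w)) =
      PrimeSpectrum.comap (MvPolynomial.map φ.hom) w := by
  rw [Points.map_ofPt, σo_snd, ← Category.comp_id ((yon S).map (mo strR φ J)), ofPt_yon_map_comp]
  exact (Points.schemeHomeo _).symm_apply_apply _

lemma symm_map_snd_πo {J₀ J : Type u} (ι : J₀ → J)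
    (x : Points (pullback f ((yon S).map (cRo strR J)))) :
    (Points.schemeHomeo (TR strR J₀)).symm
      (Points.map (pullback.snd f ((yon S).map (cRo strR J₀))) (Points.map (πo strR f ι) x)) =
      PrimeSpectrum.comap (rename ι : MvPolynomial J₀ R →ₐ[R] MvPolynomial J R).toRingHom
        ((Points.schemeHomeo (TR strR J)).symm
          (Points.map (pullback.snd f ((yon S).map (cRo strR J))) x)) := by
  rw [← Points.map_comp, πo_snd, Points.map_comp, Points.map_yon_map_eq]
  simp only [Function.comp_apply, Homeomorph.symm_apply_apply]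
  rfl

include hρ in
/-- The finite-variable reduction for algebraic spaces. -/
theorem isClosedMap_snd_poly_sp (hρe : RepWith @Etale ρ) (hρs : RepWith @Surjective ρ)
    (hfin : ∀ n : ℕ, IsClosedMap
      (Points.map (pullback.snd f ((yon S).map (cRo strR (ULift.{u} (Fin n)))))))
    (J : Type u) : IsClosedMap (Points.map (pullback.snd f ((yon S).map (cRo strR J)))) := by
  have hσe : ∀ J : Type u, RepWith @Etale (σo strR φ f ρ hρ J) := fun J =>
    MorphismProperty.of_isPullback (P := RepWith @Etale) (isPullback_σo strR φ f ρ hρ J).flip hρe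
  have hσs : ∀ J : Type u, RepWith @Surjective (σo strR φ f ρ hρ J) := fun J =>
    MorphismProperty.of_isPullback (P := RepWith @Surjective)
      (isPullback_σo strR φ f ρ hρ J).flip hρs
  have key : IsClosedMap ((Points.schemeHomeo (TR strR J)).symm ∘
      Points.map (pullback.snd f ((yon S).map (cRo strR J)))) := by
    refine isClosedMap_of_finite_variables φ.hom J
      (fun w => Points.ofPt (σo strR φ f ρ hρ J) w)
      (Points.continuous_ofPt (σo strR φ f ρ hρ J)) _
      (fun w => symm_map_snd_ofPt_σo strR φ f ρ hρ J w) ?_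
    intro n ι
    refine ⟨Points (pullback f ((yon S).map (cRo strR (ULift.{u} (Fin n))))), inferInstance,
      fun w => Points.ofPt (σo strR φ f ρ hρ (ULift.{u} (Fin n))) w,
      (Points.schemeHomeo (TR strR (ULift.{u} (Fin n)))).symm ∘
        Points.map (pullback.snd f ((yon S).map (cRo strR (ULift.{u} (Fin n))))),
      Points.map (πo strR f ι),
      Points.continuous_ofPt (σo strR φ f ρ hρ (ULift.{u} (Fin n))), ?_, ?_, ?_, ?_, ?_, ?_⟩
    · exact isOpenMap_ofPt_of_etale (hσe _)
    · exact ofPt_surjective_of_repWith (hσs _)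
    · exact (Points.schemeHomeo _).symm.isClosedMap.comp (hfin n)
    · exact fun w => symm_map_snd_ofPt_σo strR φ f ρ hρ _ w
    · exact fun x => symm_map_snd_πo strR f ι x
    · rintro Z w ⟨z, hz, hzw⟩
      obtain ⟨v, hv1, hv2⟩ := exists_point_of_isPullback (isPullback_σo_πo strR φ f ρ hρ ι) z w hzw
      exact ⟨v, by rw [Set.mem_preimage, hv2]; exact hz, hv1⟩
  have := (Points.schemeHomeo (TR strR J)).isClosedMap.comp key
  convert this using 1
  funext x
  simp

include hρ in
/-- Over an affine base: closedness after base change to all finite-dimensional affine spaces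
implies universal closedness, for algebraic spaces. -/
theorem isUnivClosedMor_of_affineSpace_affine (hX : IsAlgSpace X) (hρe : RepWith @Etale ρ)
    (hρs : RepWith @Surjective ρ)
    (hfin : ∀ n : ℕ, IsClosedMap
      (Points.map (pullback.snd f ((yon S).map (cRo strR (ULift.{u} (Fin n))))))) :
    IsUnivClosedMor f := by
  rw [isUnivClosedMor_iff_forall_affine]
  intro Z hZ g P fst snd sq
  obtain ⟨γ, rfl⟩ := (yon S).map_surjective g
  let R' : CommRingCat.{u} := Γ(Z.left, ⊤)
  let e : Z.left ≅ Spec R' := Z.left.isoSpec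
  let ψ : R ⟶ R' := Spec.preimage (e.inv ≫ γ.left)
  have hψ : Spec.map ψ = e.inv ≫ γ.left := Spec.map_preimage _
  let θ : PR R' R ⟶ R' := CommRingCat.ofHom (eval₂Hom ψ.hom (id : R' → R'))
  have hθ : cR R' R ≫ θ = ψ := CommRingCat.hom_ext (RingHom.ext fun x => eval₂Hom_C _ _ x)
  have hsurj : Function.Surjective θ.hom := fun x => ⟨MvPolynomial.X x, eval₂Hom_X' _ _ x⟩
  have hcl : IsClosedImmersion (Spec.map θ) := IsClosedImmersion.spec_of_surjective θ hsurj
  have hkw : (e.hom ≫ Spec.map θ) ≫ (TR strR R').hom = Z.hom := by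
    change (e.hom ≫ Spec.map θ) ≫ Spec.map (cR R' R) ≫ strR = Z.hom
    rw [Category.assoc, ← Spec.map_comp_assoc, hθ, hψ, Category.assoc, Iso.hom_inv_id_assoc]
    exact Over.w γ
  let k : Z ⟶ TR strR R' := Over.homMk (e.hom ≫ Spec.map θ) hkw
  have hk : IsImmersion k.left := inferInstanceAs (IsImmersion (e.hom ≫ Spec.map θ))
  have hkc : k ≫ cRo strR R' = γ := by
    apply Over.OverMorphism.ext
    change (e.hom ≫ Spec.map θ) ≫ Spec.map (cR R' R) = γ.left
    rw [Category.assoc, ← Spec.map_comp, hθ, hψ, Iso.hom_inv_id_assoc]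
  exact isClosedMap_snd_comp_of_isImmersion hX f (cRo strR R') k
    (isClosedMap_snd_poly_sp strR φ f ρ hρ hρe hρs hfin R')
    (by rw [← Functor.map_comp, hkc]) sq

end Sheaves

end Groth.Agent.H5.UC
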