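import Groth.Prelude.Def_AlgSpMor5
import Groth.Agent.Lib.Helper5.AlgSp.Valuative
import Groth.Agent.Lib.Helper5.AlgSp.GeneralizingChart
import Groth.Agent.Lib.Helper5.AlgSp.AffineChart
import Groth.Agent.Lib.Helper5.AlgSp.SepMor
import Groth.Agent.Lib.Helper5.AlgSp.FibreProduct
import Mathlib

/-!
# Quasi-separated universally closed morphisms satisfy the existence part of the valuative
criterion
-/

set_option autoImplicit false

universe u

open CategoryTheory CategoryTheory.Limits AlgebraicGeometry Opposite IsLocalRing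

namespace Groth.Agent.H5.AlgSp

open _root_.AlgSp

variable {S : Scheme.{u}}

/-- The core construction: from a specialization `u ⤳ u₀` on an étale chart `a : h_U ⟶ P` whose
generic point represents the point of the section `σ` over `Spec K`, and whose special point lies
over the closed point of `Spec A`, one gets a dominating extension with a lift. -/
theorem exists_domExt_hasLift_of_specializes {X Y : Sp S} {f : X ⟶ Y} (sq : ValSq f) {P : Sp S}
    {fstP : P ⟶ X} {q : P ⟶ (yon S).obj sq.ptA} (sqP : IsPullback fstP q f sq.bot)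
    (σ : (yon S).obj sq.ptK ⟶ P) (hσ1 : σ ≫ fstP = sq.top) (hσ2 : σ ≫ q = (yon S).map sq.j)
    {U : Over S} (a : (yon S).obj U ⟶ P) (g : U ⟶ sq.ptA) (hg : a ≫ q = (yon S).map g)
    {u u₀ : ↥U.left} (huu₀ : u ⤳ u₀) (hu₀ : g.left u₀ = closedPoint sq.A)
    (hux : Points.ofPt a u = Points.ofPt σ (closedPoint sq.K)) : sq.HasLiftExt := by
  rw [ofPt_eq_mk, ofPt_closedPoint, mk_fpOfHom_eq_iff] at hux
  obtain ⟨Ω, _, w, α, β, hrel⟩ := hux
  -- the relation on the level of schemes
  have hrel' : α.left ≫ U.left.fromSpecResidueField u ≫ g.left =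
      β.left ≫ Spec.map (CommRingCat.ofHom (algebraMap sq.A sq.K)) := by
    have h1 := congrArg (· ≫ q) hrel
    simp only [Category.assoc, hg, hσ2] at h1
    rw [← Functor.map_comp, ← Functor.map_comp, ← Functor.map_comp] at h1
    exact congrArg (·.left) ((yon S).map_injective h1)
  -- the valuation ring
  let ρ : U.left.presheaf.stalk u₀ ⟶ CommRingCat.of Ω :=
    U.left.presheaf.stalkSpecializes huu₀ ≫ U.left.residue u ≫ Spec.preimage α.left
  obtain ⟨A', hA', hA'loc⟩ := exists_factor_valuationRing ρ.hom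
  let θ : U.left.presheaf.stalk u₀ ⟶ CommRingCat.of A' :=
    CommRingCat.ofHom (ρ.hom.codRestrict _ hA')
  have hθρ : θ ≫ CommRingCat.ofHom (algebraMap A' Ω) = ρ := rfl
  let m : Spec (CommRingCat.of A') ⟶ U.left := Spec.map θ ≫ U.left.fromSpecStalk u₀
  have hI : Spec.map (CommRingCat.ofHom (algebraMap A' Ω)) ≫ m =
      α.left ≫ U.left.fromSpecResidueField u := by
    change Spec.map _ ≫ Spec.map θ ≫ _ = _
    rw [← Spec.map_comp_assoc, hθρ]
    change Spec.map (U.left.presheaf.stalkSpecializes huu₀ ≫ U.left.residue u ≫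
      Spec.preimage α.left) ≫ _ = _
    rw [Spec.map_comp, Spec.map_comp, Spec.map_preimage, Category.assoc, Category.assoc,
      Scheme.SpecMap_stalkSpecializes_fromSpecStalk]
    rfl
  have hmcp : m (closedPoint A') = u₀ := by
    have : Spec.map θ (closedPoint A') = closedPoint (U.left.presheaf.stalk u₀) :=
      comap_closedPoint (S := A') (ρ.hom.codRestrict A'.toSubring hA')
    rw [Scheme.Hom.comp_apply, this, U.left.fromSpecStalk_closedPoint]
  let φc : CommRingCat.of sq.A ⟶ CommRingCat.of A' := Spec.preimage (m ≫ g.left)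
  let ψc : CommRingCat.of sq.K ⟶ CommRingCat.of Ω := Spec.preimage β.left
  have hφc : Spec.map φc = m ≫ g.left := Spec.map_preimage _
  have hψc : Spec.map ψc = β.left := Spec.map_preimage _
  have hcomm : φc ≫ CommRingCat.ofHom (algebraMap A' Ω) =
      CommRingCat.ofHom (algebraMap sq.A sq.K) ≫ ψc := by
    apply Spec.map_injective
    rw [Spec.map_comp, Spec.map_comp, hφc, hψc, ← Category.assoc, hI, Category.assoc, hrel']
  have hloc : IsLocalHom φc.hom := by
    rw [isLocalHom_iff_comap_closedPoint]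
    change Spec.map φc (closedPoint A') = closedPoint sq.A
    rw [hφc, Scheme.Hom.comp_apply, hmcp, hu₀]
  let e : sq.DomExt :=
    { A' := A', K' := Ω, φ := φc.hom, ψ := ψc.hom,
      comm := by
        have := congrArg CommRingCat.Hom.hom hcomm
        simpa using this
      isLocalHom := hloc }
  have hm : m ≫ U.hom = Spec.map (CommRingCat.ofHom φc.hom) ≫ sq.str := by
    rw [← Over.w g, ← Category.assoc, ← hφc]
    rfl
  let m' : e.ptA' ⟶ U := Over.homMk m hm
  have hm'g : m' ≫ g = domExtA e := by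
    apply Over.OverMorphism.ext
    exact hφc.symm
  -- the comparison of `Spec Ω` over `S`
  have hι : 𝟙 _ ≫ w = e.ptK'.hom := by
    have hwβ : β.left ≫ (Spec.map (CommRingCat.ofHom (algebraMap sq.A sq.K)) ≫ sq.str) = w :=
      Over.w β
    rw [Category.id_comp, ← hwβ]
    change β.left ≫ Spec.map _ ≫ sq.str = Spec.map _ ≫ Spec.map _ ≫ sq.str
    rw [← Category.assoc, ← hrel', ← Category.assoc, ← hI, Category.assoc, Category.assoc,
      ← Category.assoc m, ← hφc]
    rfl
  let ι : e.ptK' ⟶ Over.mk w := Over.homMk (𝟙 _) hι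
  have hια : domExtJ e ≫ m' =
      ι ≫ α ≫ (Over.homMk (U.left.fromSpecResidueField u) rfl :
        Over.mk (U.left.fromSpecResidueField u ≫ U.hom) ⟶ U) := by
    apply Over.OverMorphism.ext
    change Spec.map _ ≫ m = 𝟙 _ ≫ α.left ≫ U.left.fromSpecResidueField u
    rw [Category.id_comp, hI]
  have hιβ : domExtK e = ι ≫ β := by
    apply Over.OverMorphism.ext
    change Spec.map (CommRingCat.ofHom ψc.hom) = 𝟙 _ ≫ β.left
    rw [Category.id_comp, ← hψc]
    rfl
  refine ⟨e, (yon S).map m' ≫ a ≫ fstP, ?_, ?_⟩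
  · change (yon S).map (domExtJ e) ≫ (yon S).map m' ≫ a ≫ fstP = (yon S).map (domExtK e) ≫ sq.top
    have hrel2 := congrArg (· ≫ fstP) hrel
    simp only [Category.assoc] at hrel2
    rw [← Category.assoc, ← Functor.map_comp, hια, hιβ]
    simp only [Functor.map_comp, Category.assoc]
    rw [hrel2, hσ1]
  · change ((yon S).map m' ≫ a ≫ fstP) ≫ f = (yon S).map (domExtA e) ≫ sq.bot
    rw [Category.assoc, Category.assoc, sqP.w, ← Category.assoc a, hg, ← Category.assoc,
      ← Functor.map_comp, hm'g]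

/-- **A quasi-separated universally closed morphism of algebraic spaces satisfies the existence
part of the valuative criterion.** -/
theorem existVC_of_isUnivClosedMor {X Y : Sp S} (hX : IsAlgSpace X) (hY : IsAlgSpace Y)
    {f : X ⟶ Y} (hqs : IsQuasiSeparatedMor f) (hc : IsUnivClosedMor f) : ExistVC f := by
  intro sq
  have sqP := IsPullback.of_hasPullback f sq.bot
  have hP : IsAlgSpace (pullback f sq.bot) :=
    isAlgSpace_pullback hY.diag hX (IsAlgSpace.yon_obj _) sqP
  have hq : IsQuasiSeparatedMor (pullback.snd f sq.bot) := repWith_diag_of_isPullback sqP hqs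
  have hcl : IsClosedMap (Points.map (pullback.snd f sq.bot)) :=
    hc (IsAlgSpace.yon_obj sq.ptA) sq.bot _ _ sqP
  -- the section over the generic point
  have hσ1 : pullback.lift sq.top ((yon S).map sq.j) sq.comm ≫ pullback.fst f sq.bot = sq.top :=
    pullback.lift_fst _ _ _
  have hσ2 : pullback.lift sq.top ((yon S).map sq.j) sq.comm ≫ pullback.snd f sq.bot =
      (yon S).map sq.j := pullback.lift_snd _ _ _
  obtain ⟨σ, hσ⟩ : ∃ σ, σ = pullback.lift sq.top ((yon S).map sq.j) sq.comm := ⟨_, rfl⟩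
  rw [← hσ] at hσ1 hσ2
  -- a specialization over the closed point
  obtain ⟨x₀, hxx₀, hx₀q⟩ : ∃ x₀, Points.ofPt σ (closedPoint sq.K) ⤳ x₀ ∧
      Points.map (pullback.snd f sq.bot) x₀ = Points.ofScheme sq.ptA (closedPoint sq.A) := by
    have hC := hcl _ (isClosed_closure (s := {Points.ofPt σ (closedPoint sq.K)}))
    have hmem : Points.map (pullback.snd f sq.bot) (Points.ofPt σ (closedPoint sq.K)) ∈
        Points.map (pullback.snd f sq.bot) '' closure {Points.ofPt σ (closedPoint sq.K)} :=
      ⟨_, subset_closure rfl, rfl⟩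
    have hsp : Points.map (pullback.snd f sq.bot) (Points.ofPt σ (closedPoint sq.K)) ⤳
        Points.ofScheme sq.ptA (closedPoint sq.A) := by
      rw [Points.map_ofPt, hσ2, ← Category.comp_id ((yon S).map sq.j), ofPt_yon_map_comp]
      exact (specializes_closedPoint _).map (Points.continuous_ofPt _)
    obtain ⟨x₀, hx₀, h⟩ := hC.stableUnderSpecialization hsp hmem
    exact ⟨x₀, specializes_iff_mem_closure.2 hx₀, h⟩
  -- an affine étale chart through `x₀`
  obtain ⟨U₁, a₁, ha₁e, ha₁s⟩ := hP.atlas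
  obtain ⟨u₁, hu₁⟩ := ofPt_surjective_of_repWith ha₁s x₀
  obtain ⟨_, ⟨B, hB, rfl⟩, hu₁B, -⟩ :=
    U₁.left.isBasis_affineOpens.exists_subset_of_mem_open (Set.mem_univ u₁) isOpen_univ
  have hBaff : IsAffine (overOpen U₁ B).left := hB
  have hae : RepWith @Etale ((yon S).map (overOpenι U₁ B) ≫ a₁) :=
    repWith_comp_yon_map @Etale _ (inferInstanceAs (Etale (Scheme.Opens.ι (X := U₁.left) B))) ha₁e
  have hAaff : IsAffine sq.ptA.left := inferInstanceAs (IsAffine (Spec (CommRingCat.of sq.A)))
  have hau₀ : Points.ofPt ((yon S).map (overOpenι U₁ B) ≫ a₁) (⟨u₁, hu₁B⟩ : ↥B) = x₀ := by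
    rw [ofPt_yon_map_comp]
    exact hu₁
  obtain ⟨u, huu₀, hux⟩ := exists_specializes_ofPt_eq _ hae _ hq
    (Points.ofPt σ (closedPoint sq.K)) (⟨u₁, hu₁B⟩ : ↥B) (by rw [hau₀]; exact hxx₀)
  obtain ⟨g, hg⟩ := (yon S).map_surjective
    (((yon S).map (overOpenι U₁ B) ≫ a₁) ≫ pullback.snd f sq.bot)
  have hu₀ : g.left (⟨u₁, hu₁B⟩ : ↥B) = closedPoint sq.A := by
    apply (Points.schemeHomeo sq.ptA).injective
    change Points.ofScheme sq.ptA _ = Points.ofScheme sq.ptA _
    rw [← hx₀q, ← hau₀, Points.map_ofPt, ← hg, ← Category.comp_id ((yon S).map g),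
      ofPt_yon_map_comp]
  exact exists_domExt_hasLift_of_specializes sq sqP σ hσ1 hσ2 _ g hg.symm huu₀ hu₀ hux

end Groth.Agent.H5.AlgSp
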