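import Groth.Prelude.Def_AlgSpMor5
import Groth.Agent.Lib.Helper5.AlgSp.Valuative
import Groth.Agent.Lib.Helper5.AlgSp.ValuativeRefined
import Groth.Agent.Lib.Helper5.AlgSp.ValuativeExist
import Groth.Agent.Lib.Helper5.AlgSp.RefinedDVRLoc
import Groth.Agent.Lib.Helper5.AlgSp.ResidueFieldEtale
import Mathlib

/-!
# In the existence part of the valuative criterion finite separable extensions suffice
-/

set_option autoImplicit false

universe u

open CategoryTheory CategoryTheory.Limits AlgebraicGeometry Opposite IsLocalRing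

namespace Groth.Agent.H5.AlgSp

open _root_.AlgSp

variable {S : Scheme.{u}}

/-- Non-units of the preimage of a valuation subring under a map of fields. -/
lemma mem_nonunits_comap_iff {K L : Type*} [Field K] [Field L] (κ : K →+* L)
    (B : ValuationSubring L) (x : K) : x ∈ (B.comap κ).nonunits ↔ κ x ∈ B.nonunits := by
  rw [← inv_inv x, ValuationSubring.inv_mem_nonunits_iff, map_inv₀, map_inv₀,
    ValuationSubring.inv_mem_nonunits_iff, ValuationSubring.mem_comap, map_inv₀]
  simp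

/-- **The core construction.**  Given an affine étale chart `a : h_U ⟶ P` of the base change
`P` of `f` to `Spec A`, a field extension `χ : K ⟶ L'`, a valuation ring `B'` of `L'`
dominating `A`, and an `L'`-point of `U` lifting the section over `Spec K` all of whose values
lie in `B'`, the residue field of the image point in `U ×_P Spec K` carries a dominating
extension which is finite separable and has a lift. -/
theorem exists_domExt_finite_separable_hasLift {X Y : Sp S} {f : X ⟶ Y} (sq : ValSq f)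
    {P : Sp S} {fstP : P ⟶ X} {q : P ⟶ (yon S).obj sq.ptA} (sqP : IsPullback fstP q f sq.bot)
    (σ : (yon S).obj sq.ptK ⟶ P) (hσ1 : σ ≫ fstP = sq.top) (hσ2 : σ ≫ q = (yon S).map sq.j)
    {U : Over S} [IsAffine U.left] (a : (yon S).obj U ⟶ P) (ha : RepWith @Etale a)
    (g : U ⟶ sq.ptA) (hg : a ≫ q = (yon S).map g)
    {L' : Type u} [Field L'] (B' : ValuationSubring L') (χ : sq.K →+* L')
    (hχ : ∀ x : sq.A, χ (algebraMap sq.A sq.K x) ∈ B')
    (hχloc : ∀ x : sq.A, x ∈ maximalIdeal sq.A → χ (algebraMap sq.A sq.K x) ∈ B'.nonunits)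
    (σ₀' : Spec (CommRingCat.of L') ⟶ U.left)
    (hw' : σ₀' ≫ U.hom = Spec.map (CommRingCat.ofHom χ) ≫ sq.ptK.hom)
    (hval : ∀ c : Γ(U.left, ⊤), (sharpR σ₀').hom c ∈ B')
    (hcompat : (yon S).map (Over.homMk σ₀' hw' :
        Over.mk (Spec.map (CommRingCat.ofHom χ) ≫ sq.ptK.hom) ⟶ U) ≫ a =
      (yon S).map (Over.homMk (Spec.map (CommRingCat.ofHom χ)) rfl :
        Over.mk (Spec.map (CommRingCat.ofHom χ) ≫ sq.ptK.hom) ⟶ sq.ptK) ≫ σ) :
    ∃ e : sq.DomExt, (letI := e.ψ.toAlgebra;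
      Module.Finite sq.K e.K' ∧ Algebra.IsSeparable sq.K e.K') ∧ e.HasLift := by
  have hrep := ha.rep
  let E : Over S := hrep.pullback σ
  let sndE : E ⟶ sq.ptK := hrep.snd σ
  have sqE : IsPullback (hrep.fst σ) ((yon S).map sndE) a σ := hrep.isPullback σ
  obtain ⟨sE, hsE⟩ := (yon S).map_surjective (hrep.fst σ)
  have hEt : Etale sndE.left := ha.property_snd σ
  -- the point of `E`
  obtain ⟨τ₀, hτ₀⟩ := (yon S).map_surjective (sqE.lift _ _ hcompat)
  have hτ₀1 : τ₀ ≫ sE = Over.homMk σ₀' hw' := by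
    apply (yon S).map_injective
    rw [Functor.map_comp, hτ₀, hsE, sqE.lift_fst]
  have hτ₀2 : τ₀ ≫ sndE = Over.homMk (Spec.map (CommRingCat.ofHom χ)) rfl := by
    apply (yon S).map_injective
    rw [Functor.map_comp, hτ₀, sqE.lift_snd]
  have hτ₀1' : τ₀.left ≫ sE.left = σ₀' := congrArg (·.left) hτ₀1
  have hτ₀2' : τ₀.left ≫ sndE.left = Spec.map (CommRingCat.ofHom χ) := congrArg (·.left) hτ₀2
  obtain ⟨t, ht⟩ : ∃ t : Spec (CommRingCat.of L') ⟶ E.left, t = τ₀.left := ⟨_, rfl⟩
  rw [← ht] at hτ₀1' hτ₀2'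
  let e₀ : E.left := t (closedPoint L')
  let κ : E.left.residueField e₀ ⟶ CommRingCat.of L' :=
    Scheme.descResidueField (Scheme.stalkClosedPointTo t)
  have hκ : Spec.map κ ≫ E.left.fromSpecResidueField e₀ = t :=
    Scheme.descResidueField_stalkClosedPointTo_fromSpecResidueField L' E.left t
  -- the field extension
  let ψc : CommRingCat.of sq.K ⟶ E.left.residueField e₀ :=
    Spec.preimage (E.left.fromSpecResidueField e₀ ≫ sndE.left)
  have hψc : Spec.map ψc = E.left.fromSpecResidueField e₀ ≫ sndE.left := Spec.map_preimage _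
  have hκψ : ψc ≫ κ = CommRingCat.ofHom χ := by
    apply Spec.map_injective
    rw [Spec.map_comp, hψc, ← Category.assoc, hκ, hτ₀2']
  have hκψ' : ∀ x : sq.K, κ.hom (ψc.hom x) = χ x := fun x =>
    congrArg (fun m => m.hom x) hκψ
  -- the valuation ring
  let A' : ValuationSubring (E.left.residueField e₀) := B'.comap κ.hom
  have hA' : ∀ x : sq.A, (ψc.hom.comp (algebraMap sq.A sq.K)) x ∈ A'.toSubring := by
    intro x
    change κ.hom (ψc.hom (algebraMap sq.A sq.K x)) ∈ B'
    rw [hκψ']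
    exact hχ x
  let φc : sq.A →+* A' := (ψc.hom.comp (algebraMap sq.A sq.K)).codRestrict A'.toSubring hA'
  have hloc : IsLocalHom φc := by
    refine ⟨fun x hx => ?_⟩
    by_contra hnu
    have hxm : x ∈ maximalIdeal sq.A := (mem_maximalIdeal x).2 hnu
    have h1 : ((φc x : A') : E.left.residueField e₀) ∈ A'.nonunits := by
      rw [mem_nonunits_comap_iff]
      change κ.hom (ψc.hom (algebraMap sq.A sq.K x)) ∈ B'.nonunits
      rw [hκψ']
      exact hχloc x hxm
    rw [ValuationSubring.coe_mem_nonunits_iff, mem_maximalIdeal] at h1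
    exact h1 hx
  let e : sq.DomExt :=
    { A' := A', K' := E.left.residueField e₀, φ := φc, ψ := ψc.hom,
      comm := rfl
      isLocalHom := hloc }
  -- the relation between the projections of `E`
  have hsEg : sE ≫ g = sndE ≫ sq.j := by
    apply (yon S).map_injective
    rw [Functor.map_comp, Functor.map_comp, hsE, ← hg, ← Category.assoc, sqE.w, Category.assoc,
      hσ2]
  have hsEg' : sE.left ≫ g.left = sndE.left ≫ Spec.map (CommRingCat.ofHom (algebraMap sq.A sq.K)) :=
    congrArg (·.left) hsEg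
  -- the morphism `Spec A' ⟶ U`
  have hρmem : ∀ c : Γ(U.left, ⊤),
      (sharpR (E.left.fromSpecResidueField e₀ ≫ sE.left)).hom c ∈ A'.toSubring := by
    intro c
    change κ.hom ((sharpR (E.left.fromSpecResidueField e₀ ≫ sE.left)).hom c) ∈ B'
    have h1 : sharpR σ₀' = sharpR (E.left.fromSpecResidueField e₀ ≫ sE.left) ≫ κ := by
      rw [← sharpR_comp, ← Category.assoc, hκ, hτ₀1']
    have h2 := hval c
    rw [h1] at h2
    exact h2
  let ρ : Γ(U.left, ⊤) ⟶ CommRingCat.of A' :=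
    CommRingCat.ofHom ((sharpR (E.left.fromSpecResidueField e₀ ≫ sE.left)).hom.codRestrict
      A'.toSubring hρmem)
  have hρ : ρ ≫ CommRingCat.ofHom (algebraMap A' (E.left.residueField e₀)) =
      sharpR (E.left.fromSpecResidueField e₀ ≫ sE.left) := rfl
  obtain ⟨m, hmdef⟩ : ∃ m : Spec (CommRingCat.of A') ⟶ U.left, m = ofSharpR ρ := ⟨_, rfl⟩
  have hI : Spec.map (CommRingCat.ofHom (algebraMap A' (E.left.residueField e₀))) ≫ m =
      E.left.fromSpecResidueField e₀ ≫ sE.left := by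
    apply sharpR_injective
    rw [sharpR_comp, hmdef, sharpR_ofSharpR, hρ]
  have hφ : m ≫ g.left = Spec.map (CommRingCat.ofHom φc) := by
    have hmono : Mono (CommRingCat.ofHom (algebraMap A' (E.left.residueField e₀))) :=
      ConcreteCategory.mono_of_injective _ (Subtype.val_injective)
    rw [← Spec.map_preimage (m ≫ g.left)]
    congr 1
    rw [← cancel_mono (CommRingCat.ofHom (algebraMap A' (E.left.residueField e₀)))]
    apply Spec.map_injective
    rw [Spec.map_comp, Spec.map_preimage, ← Category.assoc, hI, Category.assoc, hsEg',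
      ← Category.assoc, ← hψc, ← Spec.map_comp]
    rfl
  have hm : m ≫ U.hom = Spec.map (CommRingCat.ofHom φc) ≫ sq.str := by
    rw [← Over.w g, ← Category.assoc, hφ]
    rfl
  let m' : e.ptA' ⟶ U := Over.homMk m hm
  have hm'g : m' ≫ g = domExtA e := by
    apply Over.OverMorphism.ext
    exact hφ
  -- the residue field point over `S`
  have hr : E.left.fromSpecResidueField e₀ ≫ E.hom = e.ptK'.hom := by
    rw [← domExt_wK e, ← Over.w sndE, ← Category.assoc, ← hψc]
    rfl
  let r : e.ptK' ⟶ E := Over.homMk (E.left.fromSpecResidueField e₀) hr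
  have hr1 : domExtJ e ≫ m' = r ≫ sE := by
    apply Over.OverMorphism.ext
    exact hI
  have hr2 : domExtK e = r ≫ sndE := by
    apply Over.OverMorphism.ext
    exact hψc
  refine ⟨e, ?_, (yon S).map m' ≫ a ≫ fstP, ?_, ?_⟩
  · exact finite_isSeparable_residueField_over_field sndE.left e₀
  · change (yon S).map (domExtJ e) ≫ (yon S).map m' ≫ a ≫ fstP = (yon S).map (domExtK e) ≫ sq.top
    rw [← Category.assoc, ← Functor.map_comp, hr1, hr2, Functor.map_comp, Functor.map_comp,
      Category.assoc, Category.assoc, hsE, ← Category.assoc (hrep.fst σ), sqE.w, Category.assoc,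
      hσ1]
  · change ((yon S).map m' ≫ a ≫ fstP) ≫ f = (yon S).map (domExtA e) ≫ sq.bot
    rw [Category.assoc, Category.assoc, sqP.w, ← Category.assoc a, hg, ← Category.assoc,
      ← Functor.map_comp, hm'g]

end Groth.Agent.H5.AlgSp

namespace Groth.Agent.H5.AlgSp

open _root_.AlgSp

variable {S : Scheme.{u}}

/-- A valuation ring with a fraction field is (isomorphic to) a valuation subring of it. -/
theorem exists_valuationSubring_equiv (A K : Type u) [CommRing A] [IsDomain A] [ValuationRing A]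
    [Field K] [Algebra A K] [IsFractionRing A K] :
    ∃ (B : ValuationSubring K) (θ : A ≃+* B), ∀ x : A, ((θ x : B) : K) = algebraMap A K x := by
  refine ⟨(ValuationRing.valuation A K).valuationSubring,
    (ValuationRing.equivInteger A K).trans (RingEquiv.subringCongr ?_), fun x => rfl⟩
  ext x
  rfl

/-- **In the existence part of the valuative criterion for a morphism of algebraic spaces,
finite separable extensions of the fraction field suffice.** -/
theorem exists_domExt_finite_separable_of_existVC {X Y : Sp S} (hX : IsAlgSpace X)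
    (hY : IsAlgSpace Y) {f : X ⟶ Y} (hf : ExistVC f) (sq : ValSq f) :
    ∃ e : sq.DomExt, (letI := e.ψ.toAlgebra;
      Module.Finite sq.K e.K' ∧ Algebra.IsSeparable sq.K e.K') ∧ e.HasLift := by
  obtain ⟨e₁, l₁, h1, h2⟩ := hf sq
  have sqP := IsPullback.of_hasPullback f sq.bot
  have hP : IsAlgSpace (pullback f sq.bot) :=
    isAlgSpace_pullback hY.diag hX (IsAlgSpace.yon_obj _) sqP
  -- the section over the generic point
  have hσ1 : pullback.lift sq.top ((yon S).map sq.j) sq.comm ≫ pullback.fst f sq.bot = sq.top :=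
    pullback.lift_fst _ _ _
  have hσ2 : pullback.lift sq.top ((yon S).map sq.j) sq.comm ≫ pullback.snd f sq.bot =
      (yon S).map sq.j := pullback.lift_snd _ _ _
  obtain ⟨σ, hσ⟩ : ∃ σ, σ = pullback.lift sq.top ((yon S).map sq.j) sq.comm := ⟨_, rfl⟩
  rw [← hσ] at hσ1 hσ2
  -- the lift into the base change
  have hl1 : pullback.lift l₁ ((yon S).map (domExtA e₁)) h2 ≫ pullback.fst f sq.bot = l₁ :=
    pullback.lift_fst _ _ _
  have hl2 : pullback.lift l₁ ((yon S).map (domExtA e₁)) h2 ≫ pullback.snd f sq.bot =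
      (yon S).map (domExtA e₁) := pullback.lift_snd _ _ _
  obtain ⟨l₁', hl₁'⟩ : ∃ l, l = pullback.lift l₁ ((yon S).map (domExtA e₁)) h2 := ⟨_, rfl⟩
  rw [← hl₁'] at hl1 hl2
  have hJK : (yon S).map (domExtJ e₁) ≫ l₁' = (yon S).map (domExtK e₁) ≫ σ := by
    apply pullback.hom_ext
    · rw [Category.assoc, Category.assoc, hl1, hσ1]
      exact h1
    · rw [Category.assoc, Category.assoc, hl2, hσ2, ← Functor.map_comp, ← Functor.map_comp,
        domExt_w]
  -- an affine étale chart through the image of the closed point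
  obtain ⟨U₁, a₁, ha₁e, ha₁s⟩ := hP.atlas
  obtain ⟨u₁, hu₁⟩ := ofPt_surjective_of_repWith ha₁s (Points.ofPt l₁' (closedPoint e₁.A'))
  obtain ⟨_, ⟨B, hB, rfl⟩, hu₁B, -⟩ :=
    U₁.left.isBasis_affineOpens.exists_subset_of_mem_open (Set.mem_univ u₁) isOpen_univ
  have hBaff : IsAffine (overOpen U₁ B).left := hB
  have hae : RepWith @Etale ((yon S).map (overOpenι U₁ B) ≫ a₁) :=
    repWith_comp_yon_map @Etale _ (inferInstanceAs (Etale (Scheme.Opens.ι (X := U₁.left) B))) ha₁e
  have hau₀ : Points.ofPt ((yon S).map (overOpenι U₁ B) ≫ a₁) (⟨u₁, hu₁B⟩ : ↥B) =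
      Points.ofPt l₁' (closedPoint e₁.A') := by
    rw [ofPt_yon_map_comp]
    exact hu₁
  obtain ⟨g, hg⟩ := (yon S).map_surjective
    (((yon S).map (overOpenι U₁ B) ≫ a₁) ≫ pullback.snd f sq.bot)
  obtain ⟨a, hadef⟩ : ∃ a, a = (yon S).map (overOpenι U₁ B) ≫ a₁ := ⟨_, rfl⟩
  rw [← hadef] at hae hau₀ hg
  -- the valuation subring
  obtain ⟨B₁, θ, hθ⟩ := exists_valuationSubring_equiv e₁.A' e₁.K'
  have hθloc : IsLocalHom (θ : e₁.A' →+* B₁) :=
    ⟨fun x hx => (isLocalHom_equiv θ).map_nonunit x hx⟩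
  have hθalg : (algebraMap B₁ e₁.K').comp (θ : e₁.A' →+* B₁) = algebraMap e₁.A' e₁.K' :=
    RingHom.ext hθ
  obtain ⟨sB, hsB⟩ : ∃ sB : Spec (CommRingCat.of B₁) ⟶ S,
      sB = Spec.map (CommRingCat.ofHom (θ : e₁.A' →+* B₁)) ≫ e₁.ptA'.hom := ⟨_, rfl⟩
  let tθ : Over.mk sB ⟶ e₁.ptA' :=
    Over.homMk (Spec.map (CommRingCat.ofHom (θ : e₁.A' →+* B₁))) hsB.symm
  have hcl : Points.ofPt ((yon S).map tθ ≫ l₁') (closedPoint B₁) ∈ Set.range (Points.ofPt a) := by
    refine ⟨⟨u₁, hu₁B⟩, ?_⟩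
    rw [hau₀, ofPt_yon_map_comp]
    congr 1
    exact (comap_closedPoint (θ : e₁.A' →+* B₁)).symm
  obtain ⟨L', _, ι', B', σ₀', hw', -, hdom1, hdom2, hval, hcompat⟩ :=
    exists_valuationSubring_ext_lift_dom a hae B₁ sB ((yon S).map tθ ≫ l₁') hcl
  -- the extension of `K`
  have hs12 : Spec.map (CommRingCat.ofHom (ι'.comp (algebraMap B₁ e₁.K'))) ≫ sB =
      Spec.map (CommRingCat.ofHom (ι'.comp e₁.ψ)) ≫ sq.ptK.hom := by
    rw [hsB]
    change Spec.map _ ≫ Spec.map _ ≫ Spec.map _ ≫ sq.str = Spec.map _ ≫ Spec.map _ ≫ sq.str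
    have hring : ((ι'.comp (algebraMap B₁ e₁.K')).comp (θ : e₁.A' →+* B₁)).comp e₁.φ =
        (ι'.comp e₁.ψ).comp (algebraMap sq.A sq.K) := by
      ext x
      change ι' (((θ (e₁.φ x) : B₁) : e₁.K')) = ι' (e₁.ψ (algebraMap _ _ x))
      rw [hθ]
      exact congrArg ι' (congrArg (fun m => m x) e₁.comm)
    rw [← Spec.map_comp_assoc, ← Spec.map_comp_assoc, ← Spec.map_comp_assoc,
      ← CommRingCat.ofHom_comp, ← CommRingCat.ofHom_comp, ← CommRingCat.ofHom_comp, hring]
  -- the `L'`-point of `Spec K'`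
  have hk : Spec.map (CommRingCat.ofHom ι') ≫ e₁.ptK'.hom =
      Spec.map (CommRingCat.ofHom (ι'.comp (algebraMap B₁ e₁.K'))) ≫ sB := by
    rw [hsB]
    change Spec.map _ ≫ Spec.map _ ≫ Spec.map _ ≫ sq.str = Spec.map _ ≫ Spec.map _ ≫ Spec.map _ ≫ sq.str
    rw [← Spec.map_comp_assoc, ← Spec.map_comp_assoc (CommRingCat.ofHom (θ : e₁.A' →+* B₁)),
      ← CommRingCat.ofHom_comp, ← CommRingCat.ofHom_comp, RingHom.comp_assoc, hθalg]
  have hcompat2 : (yon S).map (Over.homMk σ₀' hw' :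
        Over.mk (Spec.map (CommRingCat.ofHom (ι'.comp (algebraMap B₁ e₁.K'))) ≫ sB) ⟶ _) ≫ a =
      (yon S).map (Over.homMk (Spec.map (CommRingCat.ofHom (ι'.comp e₁.ψ))) hs12.symm :
        Over.mk (Spec.map (CommRingCat.ofHom (ι'.comp (algebraMap B₁ e₁.K'))) ≫ sB) ⟶ sq.ptK) ≫
        σ := by
    rw [hcompat, ← Category.assoc, ← Functor.map_comp]
    have e1 : (Over.homMk (Spec.map (CommRingCat.ofHom (ι'.comp (algebraMap B₁ e₁.K')))) rfl :
        Over.mk (Spec.map (CommRingCat.ofHom (ι'.comp (algebraMap B₁ e₁.K'))) ≫ sB) ⟶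
          Over.mk sB) ≫ tθ =
        (Over.homMk (Spec.map (CommRingCat.ofHom ι')) hk :
          Over.mk (Spec.map (CommRingCat.ofHom (ι'.comp (algebraMap B₁ e₁.K'))) ≫ sB) ⟶
            e₁.ptK') ≫ domExtJ e₁ := by
      apply Over.OverMorphism.ext
      change Spec.map _ ≫ Spec.map _ = Spec.map _ ≫ Spec.map _
      rw [← Spec.map_comp, ← Spec.map_comp, ← CommRingCat.ofHom_comp, ← CommRingCat.ofHom_comp,
        RingHom.comp_assoc, hθalg]
    have e2 : (Over.homMk (Spec.map (CommRingCat.ofHom ι')) hk :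
          Over.mk (Spec.map (CommRingCat.ofHom (ι'.comp (algebraMap B₁ e₁.K'))) ≫ sB) ⟶
            e₁.ptK') ≫ domExtK e₁ =
        (Over.homMk (Spec.map (CommRingCat.ofHom (ι'.comp e₁.ψ))) hs12.symm :
          Over.mk (Spec.map (CommRingCat.ofHom (ι'.comp (algebraMap B₁ e₁.K'))) ≫ sB) ⟶
            sq.ptK) := by
      apply Over.OverMorphism.ext
      change Spec.map _ ≫ Spec.map _ = Spec.map _
      rw [← Spec.map_comp, ← CommRingCat.ofHom_comp]
    rw [e1, Functor.map_comp, Category.assoc, hJK, ← Category.assoc, ← Functor.map_comp, e2]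
  have hcompat3 := yon_homMk_comp_eq_of_eq hs12 (X := overOpen U₁ B) (Y := sq.ptK)
    σ₀' hw' a (Spec.map (CommRingCat.ofHom (ι'.comp e₁.ψ))) hs12.symm σ hcompat2
  refine exists_domExt_finite_separable_hasLift sq sqP σ hσ1 hσ2 a hae g hg.symm B'
    (ι'.comp e₁.ψ) ?_ ?_ σ₀' (hw'.trans hs12) hval hcompat3
  · intro x
    have h3 : e₁.ψ (algebraMap sq.A sq.K x) = algebraMap e₁.A' e₁.K' (e₁.φ x) :=
      (congrArg (fun m => m x) e₁.comm).symm
    change ι' (e₁.ψ (algebraMap sq.A sq.K x)) ∈ B'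
    rw [h3, ← hθ]
    exact hdom1 _ (θ (e₁.φ x)).2
  · intro x hx
    have h3 : e₁.ψ (algebraMap sq.A sq.K x) = algebraMap e₁.A' e₁.K' (e₁.φ x) :=
      (congrArg (fun m => m x) e₁.comm).symm
    change ι' (e₁.ψ (algebraMap sq.A sq.K x)) ∈ B'.nonunits
    rw [h3, ← hθ]
    apply hdom2
    rw [ValuationSubring.coe_mem_nonunits_iff, mem_maximalIdeal, mem_nonunits_iff]
    intro hu
    have hu1 : IsUnit (e₁.φ x) := (isUnit_map_iff (θ : e₁.A' →+* B₁) _).1 hu
    have hu2 : IsUnit x := by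
      have := e₁.isLocalHom
      exact (isUnit_map_iff e₁.φ x).1 hu1
    exact (mem_nonunits_iff.1 ((mem_maximalIdeal x).1 hx)) hu2

end Groth.Agent.H5.AlgSp
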