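import Groth.Prelude.Def_AlgSpMor5
import Groth.Agent.Lib.Helper5.AlgSp.ValuativeExist
import Groth.Agent.Lib.Helper5.AlgSp.LocPCalc
import Mathlib

/-!
# Lifting valuation rings along flat morphisms of algebraic spaces
-/

set_option autoImplicit false

universe u

open CategoryTheory CategoryTheory.Limits AlgebraicGeometry Opposite IsLocalRing

namespace Groth.Agent.H5.AlgSp

open _root_.AlgSp

variable {S : Scheme.{u}}

/-- **Along a flat morphism of algebraic spaces, a morphism from the spectrum of a valuation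
ring whose closed point is hit lifts after an injective local extension of valuation rings.** -/
theorem exists_valuationRing_lift_of_flat {X Y : Sp S} (hX : IsAlgSpace X) (hY : IsAlgSpace Y)
    {f : X ⟶ Y} (hf : LocP @Flat f) (A : Type u) [CommRing A] [IsDomain A] [ValuationRing A]
    (str : Spec (.of A) ⟶ S) (b : (yon S).obj (Over.mk str) ⟶ Y)
    (hb : Points.ofPt b (closedPoint A) ∈ Set.range (Points.map f)) :
    ∃ (A' : Type u) (_ : CommRing A') (_ : IsDomain A') (_ : ValuationRing A') (φ : A →+* A'),
      Function.Injective φ ∧ IsLocalHom φ ∧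
      ∃ l : (yon S).obj (Over.mk (Spec.map (CommRingCat.ofHom φ) ≫ str)) ⟶ X,
        l ≫ f = (yon S).map (Over.homMk (Spec.map (CommRingCat.ofHom φ)) rfl :
          Over.mk (Spec.map (CommRingCat.ofHom φ) ≫ str) ⟶ Over.mk str) ≫ b := by
  obtain ⟨x₀, hx₀⟩ := hb
  have sqP := IsPullback.of_hasPullback f b
  have hP : IsAlgSpace (pullback f b) :=
    isAlgSpace_pullback hY.diag hX (IsAlgSpace.yon_obj _) sqP
  have hq : LocP @Flat (pullback.snd f b) :=
    locP_of_isPullback etale_le_flat sqP hX hY (IsAlgSpace.yon_obj _) hf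
  -- a point over the closed point
  obtain ⟨x, -, hx2⟩ := points_pullback_surjective sqP x₀
    (Points.ofScheme (Over.mk str) (closedPoint A)) (by
      rw [hx₀, Points.map_ofPt, Category.id_comp])
  -- an étale chart through `x`
  obtain ⟨U₁, a₁, ha₁e, ha₁s⟩ := hP.atlas
  obtain ⟨u₁, hu₁⟩ := ofPt_surjective_of_repWith ha₁s x
  obtain ⟨g, hg⟩ := (yon S).map_surjective (a₁ ≫ pullback.snd f b)
  have hflat : Flat g.left :=
    hq a₁ (𝟙 _) g ha₁e (repWith_id _ _) (by rw [Category.comp_id, hg])
  have hu₀ : g.left u₁ = closedPoint A := by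
    apply (Points.schemeHomeo (Over.mk str)).injective
    change Points.ofScheme (Over.mk str) _ = Points.ofScheme (Over.mk str) _
    rw [← hx2, ← hu₁, Points.map_ofPt, ← hg, ← Category.comp_id ((yon S).map g),
      ofPt_yon_map_comp]
  -- a generization over the generic point
  have hη : (⊥ : PrimeSpectrum A) ⤳ g.left u₁ := by
    rw [hu₀]; exact specializes_closedPoint _
  obtain ⟨u, huu₁, hu⟩ := (Flat.generalizingMap g.left) hη
  -- the valuation ring
  let ρ : U₁.left.presheaf.stalk u₁ ⟶ CommRingCat.of (U₁.left.residueField u) :=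
    U₁.left.presheaf.stalkSpecializes huu₁ ≫ U₁.left.residue u
  obtain ⟨A', hA', hA'loc⟩ := exists_factor_valuationRing ρ.hom
  let θ : U₁.left.presheaf.stalk u₁ ⟶ CommRingCat.of A' :=
    CommRingCat.ofHom (ρ.hom.codRestrict _ hA')
  have hθρ : θ ≫ CommRingCat.ofHom (algebraMap A' (U₁.left.residueField u)) = ρ := rfl
  let m : Spec (CommRingCat.of A') ⟶ U₁.left := Spec.map θ ≫ U₁.left.fromSpecStalk u₁
  have hI : Spec.map (CommRingCat.ofHom (algebraMap A' (U₁.left.residueField u))) ≫ m =
      U₁.left.fromSpecResidueField u := by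
    change Spec.map _ ≫ Spec.map θ ≫ _ = _
    rw [← Spec.map_comp_assoc, hθρ]
    change Spec.map (U₁.left.presheaf.stalkSpecializes huu₁ ≫ U₁.left.residue u) ≫ _ = _
    rw [Spec.map_comp, Category.assoc, Scheme.SpecMap_stalkSpecializes_fromSpecStalk]
    rfl
  have hmcp : m (closedPoint A') = u₁ := by
    have : Spec.map θ (closedPoint A') = closedPoint (U₁.left.presheaf.stalk u₁) :=
      comap_closedPoint (S := A') (ρ.hom.codRestrict A'.toSubring hA')
    rw [Scheme.Hom.comp_apply, this, U₁.left.fromSpecStalk_closedPoint]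
  let φc : CommRingCat.of A ⟶ CommRingCat.of A' := Spec.preimage (m ≫ g.left)
  have hφc : Spec.map φc = m ≫ g.left := Spec.map_preimage _
  have hloc : IsLocalHom φc.hom := by
    rw [isLocalHom_iff_comap_closedPoint]
    change Spec.map φc (closedPoint A') = closedPoint A
    rw [hφc, Scheme.Hom.comp_apply, hmcp, hu₀]
  have hinj : Function.Injective φc.hom := by
    have h1 : Spec.map (φc ≫ CommRingCat.ofHom (algebraMap A' (U₁.left.residueField u))) =
        U₁.left.fromSpecResidueField u ≫ g.left := by
      rw [Spec.map_comp, hφc, ← Category.assoc, hI]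
    have h2 : Spec.map (φc ≫ CommRingCat.ofHom (algebraMap A' (U₁.left.residueField u)))
        (closedPoint (U₁.left.residueField u)) = (⊥ : PrimeSpectrum A) := by
      rw [h1, Scheme.Hom.comp_apply, Scheme.fromSpecResidueField_apply, hu]
    have h3 : RingHom.ker (φc ≫ CommRingCat.ofHom
        (algebraMap A' (U₁.left.residueField u))).hom = ⊥ := by
      have := congrArg PrimeSpectrum.asIdeal h2
      change Ideal.comap _ (closedPoint (U₁.left.residueField u)).asIdeal = ⊥ at this
      rw [show (closedPoint (U₁.left.residueField u)).asIdeal = ⊥ from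
        IsLocalRing.maximalIdeal_eq_bot] at this
      exact this
    have h4 := (RingHom.injective_iff_ker_eq_bot _).2 h3
    simp only [CommRingCat.hom_comp, RingHom.coe_comp] at h4
    exact Function.Injective.of_comp h4
  have hm : m ≫ U₁.hom = Spec.map (CommRingCat.ofHom φc.hom) ≫ str := by
    rw [← Over.w g, ← Category.assoc, ← hφc]
    rfl
  let m' : Over.mk (Spec.map (CommRingCat.ofHom φc.hom) ≫ str) ⟶ U₁ := Over.homMk m hm
  have hm'g : m' ≫ g = (Over.homMk (Spec.map (CommRingCat.ofHom φc.hom)) rfl :
      Over.mk (Spec.map (CommRingCat.ofHom φc.hom) ≫ str) ⟶ Over.mk str) := by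
    apply Over.OverMorphism.ext
    exact hφc.symm
  refine ⟨A', inferInstance, inferInstance, inferInstance, φc.hom, hinj, hloc,
    (yon S).map m' ≫ a₁ ≫ pullback.fst f b, ?_⟩
  rw [Category.assoc, Category.assoc, pullback.condition, ← Category.assoc a₁, ← hg,
    ← Category.assoc, ← Functor.map_comp, hm'g]

end Groth.Agent.H5.AlgSp
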