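import Groth.Prelude.Def_AlgSpMor5
import Groth.Agent.Lib.Helper5.AlgSp.ValuativeClosed
import Groth.Agent.Lib.Helper5.AlgSp.UnivTop
import Mathlib

/-!
# The existence part of the valuative criterion for representable morphisms
-/

set_option autoImplicit false

universe u

open CategoryTheory CategoryTheory.Limits AlgebraicGeometry Opposite IsLocalRing

namespace Groth.Agent.H5.AlgSp

open _root_.AlgSp

variable {S : Scheme.{u}} {F G : Sp S}

/-- A morphism of schemes over `S` satisfying the existence part of the valuative criterion (with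
extensions) is specializing. -/
theorem specializingMap_of_existVC_yon_map {V' T' : Over S} (ψ : V' ⟶ T')
    (he : ExistVC ((yon S).map ψ)) : SpecializingMap ψ.left := by
  intro x' y hspec
  have hst := stableUnderSpecialization_image_of_existVC (𝟙 ((yon S).obj V')) ((yon S).map ψ) ψ
    (Category.id_comp _) (ofScheme_surjective V') he
    (isClosed_closure (s := {Points.ofScheme V' x'}))
  obtain ⟨x, hx, hxy⟩ := hst hspec ⟨x', subset_closure rfl, rfl⟩
  refine ⟨x, ?_, hxy⟩
  have h1 : Points.ofScheme V' x' ⤳ Points.ofScheme V' x := specializes_iff_mem_closure.2 hx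
  exact (Points.schemeHomeo V').isInducing.specializes_iff.1 h1

/-- **For a representable morphism the existence part of the valuative criterion with extensions
implies the one without.** -/
theorem existVCStrict_of_existVC_of_representable {f : F ⟶ G} (hf : Representable f)
    (he : ExistVC f) : ExistVCStrict f := by
  have h1 : UnivSp ExistVC f := fun Z Z' _ g fst snd sq => existVC_of_isPullback sq he
  have h2 : RepWith (topologically @SpecializingMap).universally f :=
    repWith_universally_of_univSp (Q := ExistVC)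
      (fun φ hφ => specializingMap_of_existVC_yon_map φ hφ) hf h1
  intro sq
  have sqV := hf.isPullback sq.bot
  have hex : ValuativeCriterion.Existence (hf.snd sq.bot).left :=
    ValuativeCriterion.Existence.of_specializingMap _ (h2.property_snd sq.bot)
  obtain ⟨τ, hτ⟩ := (yon S).map_surjective (sqV.lift sq.top ((yon S).map sq.j) sq.comm)
  have hτ1 : τ ≫ hf.snd sq.bot = sq.j := by
    apply (yon S).map_injective
    rw [Functor.map_comp, hτ, sqV.lift_snd]
  have hτ2 : (yon S).map τ ≫ hf.fst sq.bot = sq.top := by
    rw [hτ, sqV.lift_fst]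
  let c : ValuativeCommSq (hf.snd sq.bot).left :=
    { R := sq.A, K := sq.K, i₁ := τ.left, i₂ := 𝟙 _,
      commSq := ⟨by rw [Category.comp_id]; exact congrArg (·.left) hτ1⟩ }
  obtain ⟨⟨⟨l₀, hl1, hl2⟩⟩⟩ := hex c
  have hl₀ : l₀ ≫ (hf.pullback sq.bot).hom = sq.str := by
    rw [← Over.w (hf.snd sq.bot), ← Category.assoc]
    change (l₀ ≫ (hf.snd sq.bot).left) ≫ sq.str = sq.str
    rw [hl2]
    exact Category.id_comp _
  have hjl : sq.j ≫ (Over.homMk l₀ hl₀ : sq.ptA ⟶ hf.pullback sq.bot) = τ :=
    Over.OverMorphism.ext hl1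
  have hls : (Over.homMk l₀ hl₀ : sq.ptA ⟶ hf.pullback sq.bot) ≫ hf.snd sq.bot = 𝟙 _ :=
    Over.OverMorphism.ext hl2
  refine ⟨(yon S).map (Over.homMk l₀ hl₀ : sq.ptA ⟶ hf.pullback sq.bot) ≫ hf.fst sq.bot, ?_, ?_⟩
  · rw [← Category.assoc, ← Functor.map_comp, hjl, hτ2]
  · rw [Category.assoc, sqV.w, ← Category.assoc, ← Functor.map_comp, hls,
      CategoryTheory.Functor.map_id, Category.id_comp]

end Groth.Agent.H5.AlgSp
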