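import Groth.Prelude.Def_AlgSpMor5
import Groth.Agent.Lib.Helper5.AlgSp.Valuative
import Groth.Agent.Lib.Helper5.AlgSp.SchImageFlat
import Groth.Agent.Lib.Helper5.AlgSp.SchImageSection
import Groth.Agent.Lib.Helper5.AlgSp.Presentation
import Groth.Agent.Lib.Helper5.AlgSp.AffineChart
import Groth.Agent.Lib.Helper5.AlgSp.FibreProduct
import Groth.Agent.Lib.Helper5.AlgSp.ValuativeExist
import Groth.Agent.Lib.Helper5.AlgSp.ClosedDescent
import Groth.Agent.Lib.Helper5.AlgSp.Proper
import Groth.Agent.Lib.Helper3.AlgSpCov.RepBase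
import Mathlib

/-!
# Separated morphisms: a lift after a dominating extension gives a lift
-/

set_option autoImplicit false

universe u

open CategoryTheory CategoryTheory.Limits AlgebraicGeometry Opposite IsLocalRing

namespace Groth.Agent.H5.AlgSp

open _root_.AlgSp Groth.Agent.H3.AlgSpCov

variable {S : Scheme.{u}}

/-- **The scheme theoretic image of a section of a separated morphism over a flat
quasi-compact monomorphism maps isomorphically onto the source of the monomorphism.** -/
theorem isIso_snd_of_section_of_isSchImage_of_flat {X Y V Y' : Sp S} (hX : IsAlgSpace X)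
    (hY : IsAlgSpace Y) (hV : IsAlgSpace V) (hY' : IsAlgSpace Y') (f : X ⟶ Y) (j : V ⟶ Y)
    (hj : RepWith @Flat j) (hmono : Mono j) (hjq : IsQuasiCompactMor j) (hf : IsSeparatedMor f)
    (s : V ⟶ X) (hs : s ≫ f = j) (c : Y' ⟶ X) (hc : IsSchImage s c)
    {P : Sp S} (fst : P ⟶ Y') (snd : P ⟶ V) (sq : IsPullback fst snd (c ≫ f) j) :
    IsIso snd := by
  have hfq : IsQuasiSeparatedMor f := repWith_mono isClosedImmersion_le_quasiCompact hf
  have hsq : IsQuasiCompactMor s :=
    isQuasiCompactMor_of_comp_of_isQuasiSeparatedMor hV hX hY (by rw [hs]; exact hjq) hfq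
  have sqX := IsPullback.of_hasPullback f j
  have hXV : IsAlgSpace (pullback f j) := isAlgSpace_pullback hY.diag hX hV sqX
  have hP : IsAlgSpace P := isAlgSpace_pullback hY.diag hY' hV sq
  have hp1 : RepWith @Flat (pullback.fst f j) :=
    MorphismProperty.of_isPullback (P := RepWith @Flat) sqX.flip hj
  have hp1f : LocP @Flat (pullback.fst f j) := locP_of_repWith etale_le_flat hp1
  -- the section of the base change
  have hsV : s ≫ f = 𝟙 V ≫ j := by rw [hs, Category.id_comp]
  have hsV2 : pullback.lift s (𝟙 V) hsV ≫ pullback.snd f j = 𝟙 V := pullback.lift_snd _ _ _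
  have sqs : IsPullback (𝟙 V) (pullback.lift s (𝟙 V) hsV) s (pullback.fst f j) := by
    refine (IsPullback.of_right ?_ ?_ sqX.flip).flip
    · rw [hsV2, hs]
      exact IsKernelPair.id_of_mono j
    · rw [pullback.lift_fst, Category.id_comp]
  -- the base change of the image
  have hm : (fst ≫ c) ≫ f = snd ≫ j := by rw [Category.assoc]; exact sq.w
  have hm2 : pullback.lift (fst ≫ c) snd hm ≫ pullback.snd f j = snd := pullback.lift_snd _ _ _
  have sqZ : IsPullback fst (pullback.lift (fst ≫ c) snd hm) c (pullback.fst f j) := by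
    refine IsPullback.of_bot ?_ ?_ sqX
    · rw [hm2]; exact sq
    · rw [pullback.lift_fst]
  have h1 : IsSchImage (pullback.lift s (𝟙 V) hsV) (pullback.lift (fst ≫ c) snd hm) :=
    isSchImage_of_isPullback_of_flat hXV hX hp1f hsq hY' hc sqs sqZ
  have hcl : RepWith @IsClosedImmersion (pullback.lift s (𝟙 V) hsV) :=
    repWith_section_of_diag hsV2 (repWith_diag_of_isPullback sqX hf)
  obtain ⟨e, he⟩ := exists_iso_of_isSchImage hP hV h1 (isSchImage_self hcl)
  have : snd = e.hom := by
    rw [← hm2, ← he, Category.assoc, hsV2, Category.comp_id]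
  rw [this]
  infer_instance

/-- If `ι : Z ⟶ P` is the scheme theoretic image of `σ = σ' ≫ ι`, then `Z` is the scheme theoretic
image of `σ'`. -/
theorem isSchImage_id_of_isSchImage {V Z P : Sp S} {σ : V ⟶ P} {ι : Z ⟶ P} (hZ : IsAlgSpace Z)
    (h : IsSchImage σ ι) (σ' : V ⟶ Z) (hσ' : σ' ≫ ι = σ) : IsSchImage σ' (𝟙 Z) := by
  have hm : Mono ι := mono_of_repWith_isClosedImmersion h.1
  refine ⟨MorphismProperty.id_mem _ Z, ⟨σ', Category.comp_id _⟩, ?_⟩
  rintro Z' i' hZ' hi' ⟨f'', hf''⟩
  obtain ⟨k, hk⟩ := h.2.2 (i' ≫ ι) hZ' (MorphismProperty.comp_mem _ _ _ hi' h.1)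
    ⟨f'', by rw [← Category.assoc, hf'', hσ']⟩
  refine ⟨k, ?_⟩
  rw [← cancel_mono ι, Category.assoc, hk, Category.id_comp]

/-- Two maps to `Z` over a map which factors through `j` agree, when the base change of `Z`
along `j` is trivial. -/
theorem eq_of_comp_eq_of_isIso_snd {Z G V Pz T : Sp S} {pZ : Z ⟶ G} {j : V ⟶ G}
    {fst : Pz ⟶ Z} {snd : Pz ⟶ V} (sq : IsPullback fst snd pZ j) [IsIso snd]
    (x y : T ⟶ Z) (t : T ⟶ V) (hx : x ≫ pZ = t ≫ j) (hy : y ≫ pZ = t ≫ j) : x = y := by
  have h1 : sq.lift x t hx = sq.lift y t hy := by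
    rw [← cancel_mono snd, sq.lift_snd, sq.lift_snd]
  rw [← sq.lift_fst x t hx, h1, sq.lift_fst]

/-- A morphism from the spectrum of a domain `A'` to `P` whose restriction to the generic point
factors through the closed subspace `Z` factors through `Z`. -/
theorem exists_factor_closed_of_injective {Z P : Sp S} (ι : Z ⟶ P)
    (hι : RepWith @IsClosedImmersion ι) {A' K' : Type u} [CommRing A'] [CommRing K']
    (φ : A' →+* K') (hinj : Function.Injective φ) (str : Spec (.of A') ⟶ S)
    (l' : (yon S).obj (Over.mk str) ⟶ P)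
    (t : (yon S).obj (Over.mk (Spec.map (CommRingCat.ofHom φ) ≫ str)) ⟶ Z)
    (ht : t ≫ ι = (yon S).map (Over.homMk (Spec.map (CommRingCat.ofHom φ)) rfl :
      Over.mk (Spec.map (CommRingCat.ofHom φ) ≫ str) ⟶ Over.mk str) ≫ l') :
    ∃ l'' : (yon S).obj (Over.mk str) ⟶ Z, l'' ≫ ι = l' := by
  have sqC := hι.rep.isPullback l'
  have hc : IsClosedImmersion (hι.rep.snd l').left := hι.property_snd l'
  obtain ⟨t₀, ht₀⟩ := (yon S).map_surjective (sqC.lift t _ ht)
  have h1 : t₀ ≫ hι.rep.snd l' = Over.homMk (Spec.map (CommRingCat.ofHom φ)) rfl := by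
    apply (yon S).map_injective
    rw [Functor.map_comp, ht₀, sqC.lift_snd]
  have h2 : t₀.left ≫ (hι.rep.snd l').left = Spec.map (CommRingCat.ofHom φ) :=
    congrArg (·.left) h1
  have hiso : IsIso (hι.rep.snd l').left :=
    isIso_of_isClosedImmersion_of_fac_of_injective (CommRingCat.ofHom φ) hinj _ t₀.left h2
  have hiso' : IsIso (hι.rep.snd l') := by
    have : IsIso ((Over.forget S).map (hι.rep.snd l')) := hiso
    exact isIso_of_reflects_iso _ (Over.forget S)
  refine ⟨(yon S).map (inv (hι.rep.snd l')) ≫ hι.rep.fst l', ?_⟩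
  rw [Category.assoc, sqC.w, ← Category.assoc, ← Functor.map_comp, IsIso.inv_hom_id,
    CategoryTheory.Functor.map_id, Category.id_comp]

lemma flat_of_injective_of_isUnit {R B C : Type u} [CommRing R] [IsDomain R] [IsBezout R]
    [CommRing B] [CommRing C] (f : R →+* B) (h : B →+* C) (hh : Function.Injective h)
    (hu : ∀ r : R, r ≠ 0 → IsUnit (h (f r))) : f.Flat := by
  let _ := f.toAlgebra
  rw [RingHom.Flat]
  rw [Module.Flat.flat_iff_torsion_eq_bot_of_isBezout, Submodule.eq_bot_iff]
  intro b hb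
  rw [Submodule.mem_torsion_iff] at hb
  obtain ⟨a, ha⟩ := hb
  apply hh
  have h1 : h (f a.1) * h b = 0 := by
    rw [← map_mul]
    have : (a : R) • b = f a.1 * b := by rw [Algebra.smul_def]; rfl
    have h2 : a • b = (a : R) • b := rfl
    rw [← this, ← h2, ha, map_zero]
  rw [map_zero]
  exact (hu a.1 (nonZeroDivisors.ne_zero a.2)).mul_right_eq_zero.1 h1

/-- The kernel of the generic fibre of an étale chart of a scheme theoretic closure. -/
theorem ker_eq_bot_of_isSchImage_id {V Z : Sp S} (hZ : IsAlgSpace Z) (σ' : V ⟶ Z)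
    (hq : IsQuasiCompactMor σ') (him : IsSchImage σ' (𝟙 Z))
    {U UK : Over S} (a : (yon S).obj U ⟶ Z) (ha : RepWith @Etale a)
    (gK : UK ⟶ U) (sndK : (yon S).obj UK ⟶ V) (sq : IsPullback sndK ((yon S).map gK) σ' a) :
    gK.left.ker = ⊥ := by
  have : IsClosedImmersion (𝟙 U : U ⟶ U).left := inferInstanceAs (IsClosedImmersion (𝟙 U.left))
  have sq1 : IsPullback a ((yon S).map (𝟙 U)) (𝟙 Z) a := IsPullback.of_vert_isIso ⟨by simp⟩
  have hK := isKer_of_isPullback_of_isSchImage hZ hq hZ him a ha (𝟙 U) a sq1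
  have h1 : IsKer ((yon S).map gK) (𝟙 U : U ⟶ U).left.ker := by
    have := (isKer_epi_comp_iff sq.isoPullback.hom (pullback.snd σ' a) _).2 hK
    rwa [IsPullback.isoPullback_hom_snd] at this
  have h2 := (isKer_yon_map gK).unique h1
  rw [h2]
  exact Scheme.Hom.ker_eq_bot_of_isIso (𝟙 U.left)

lemma isUnit_SpecMap_appTop {A K : Type u} [CommRing A] [Field K] (φ : A →+* K)
    (hφ : Function.Injective φ) (r : Γ(Spec (CommRingCat.of A), ⊤)) (hr : r ≠ 0) :
    IsUnit ((Spec.map (CommRingCat.ofHom φ)).appTop.hom r) := by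
  have h := Scheme.ΓSpecIso_naturality (CommRingCat.ofHom φ)
  have h2 : (Spec.map (CommRingCat.ofHom φ)).appTop =
      (Scheme.ΓSpecIso (CommRingCat.of A)).hom ≫ CommRingCat.ofHom φ ≫
        (Scheme.ΓSpecIso (CommRingCat.of K)).inv := by
    rw [← Category.assoc, ← h, Category.assoc, Iso.hom_inv_id, Category.comp_id]
  rw [h2]
  simp only [CommRingCat.hom_comp, RingHom.coe_comp, Function.comp_apply, CommRingCat.hom_ofHom]
  apply IsUnit.map
  apply IsUnit.mk0
  intro h0
  apply hr
  have h3 := hφ (h0.trans (map_zero φ).symm)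
  exact (ConcreteCategory.bijective_of_isIso (Scheme.ΓSpecIso (CommRingCat.of A)).hom).1
    (h3.trans (map_zero _).symm)

lemma injective_appTop_of_ker_eq_bot {X Y : Scheme.{u}} [IsAffine Y] (f : X ⟶ Y)
    (hker : f.ker = ⊥) : Function.Injective f.appTop.hom := by
  have h1 := Scheme.ker_of_isAffine f
  rw [hker] at h1
  rw [RingHom.injective_iff_ker_eq_bot]
  have h3 : RingHom.ker f.appTop.hom = Scheme.IdealSheafData.equivOfIsAffine
      (Scheme.IdealSheafData.ofIdealTop (RingHom.ker f.appTop.hom)) := by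
    rw [← Scheme.IdealSheafData.equivOfIsAffine_symm_apply]
    exact (Scheme.IdealSheafData.equivOfIsAffine.apply_symm_apply _).symm
  rw [h3, ← h1]
  exact map_bot _

lemma flat_of_ker_eq_bot {A K : Type u} [CommRing A] [IsDomain A] [ValuationRing A]
    [Field K] [Algebra A K] [IsFractionRing A K] {U UK : Scheme.{u}} [IsAffine U]
    (g : U ⟶ Spec (CommRingCat.of A)) (gK : UK ⟶ U) (sK : UK ⟶ Spec (CommRingCat.of K))
    (hcomm : gK ≫ g = sK ≫ Spec.map (CommRingCat.ofHom (algebraMap A K))) (hker : gK.ker = ⊥) :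
    Flat g := by
  rw [HasRingHomProperty.iff_of_isAffine (P := @Flat)]
  have hinjK : Function.Injective gK.appTop.hom := injective_appTop_of_ker_eq_bot gK hker
  let eA : Γ(Spec (CommRingCat.of A), ⊤) ≃+* A :=
    (Scheme.ΓSpecIso (CommRingCat.of A)).commRingCatIsoToRingEquiv
  have hdom : IsDomain Γ(Spec (CommRingCat.of A), ⊤) := eA.toMulEquiv.isDomain _
  have hbez : IsBezout Γ(Spec (CommRingCat.of A), ⊤) :=
    Function.Surjective.isBezout eA.symm.toRingHom eA.symm.surjective
  refine flat_of_injective_of_isUnit _ gK.appTop.hom hinjK ?_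
  intro r hr
  have h1 : gK.appTop.hom (g.appTop.hom r) =
      sK.appTop.hom ((Spec.map (CommRingCat.ofHom (algebraMap A K))).appTop.hom r) := by
    have := congrArg (fun m => m.appTop.hom r) hcomm
    simpa [Scheme.Hom.comp_appTop] using this
  rw [h1]
  apply IsUnit.map
  exact isUnit_SpecMap_appTop _ (IsFractionRing.injective A K) r hr

theorem flat_chart_of_isSchImage_id {A K : Type u} [CommRing A] [IsDomain A] [ValuationRing A]
    [Field K] [Algebra A K] [IsFractionRing A K] (strA : Spec (.of A) ⟶ S)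
    {Z : Sp S} (hZ : IsAlgSpace Z) (pZ : Z ⟶ (yon S).obj (Over.mk strA))
    (σ' : (yon S).obj (Over.mk (Spec.map (CommRingCat.ofHom (algebraMap A K)) ≫ strA)) ⟶ Z)
    (hσ' : σ' ≫ pZ = (yon S).map (Over.homMk (Spec.map (CommRingCat.ofHom (algebraMap A K))) rfl :
       Over.mk (Spec.map (CommRingCat.ofHom (algebraMap A K)) ≫ strA) ⟶ Over.mk strA))
    (hq : IsQuasiCompactMor σ') (him : IsSchImage σ' (𝟙 Z))
    {U : Over S} [IsAffine U.left] (a : (yon S).obj U ⟶ Z) (ha : RepWith @Etale a)
    (g : U ⟶ Over.mk strA) (hg : a ≫ pZ = (yon S).map g) : Flat g.left := by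
  have sqK := ha.rep.isPullback σ'
  obtain ⟨gK, hgK⟩ := (yon S).map_surjective (ha.rep.fst σ')
  rw [← hgK] at sqK
  have hker := ker_eq_bot_of_isSchImage_id hZ σ' hq him a ha gK _ sqK.flip
  have hcomm : gK ≫ g = ha.rep.snd σ' ≫
      (Over.homMk (Spec.map (CommRingCat.ofHom (algebraMap A K))) rfl :
       Over.mk (Spec.map (CommRingCat.ofHom (algebraMap A K)) ≫ strA) ⟶ Over.mk strA) := by
    apply (yon S).map_injective
    rw [Functor.map_comp, Functor.map_comp, ← hg, ← Category.assoc, sqK.w, Category.assoc, hσ']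
  have hcommL : gK.left ≫ g.left =
      (ha.rep.snd σ').left ≫ Spec.map (CommRingCat.ofHom (algebraMap A K)) :=
    congrArg (·.left) hcomm
  exact flat_of_ker_eq_bot (A := A) (K := K) g.left gK.left (ha.rep.snd σ').left hcommL hker

lemma isPullback_of_comp_of_eq {C : Type*} [Category C] {W U Z G : C} {fst snd : W ⟶ U}
    {a : U ⟶ Z} {p : Z ⟶ G} (sq : IsPullback fst snd (a ≫ p) (a ≫ p))
    (h : fst ≫ a = snd ≫ a) : IsPullback fst snd a a :=
  ⟨⟨h⟩, ⟨PullbackCone.IsLimit.mk _
    (fun s => sq.lift s.fst s.snd (by rw [← Category.assoc, s.condition, Category.assoc]))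
    (fun s => sq.lift_fst _ _ _) (fun s => sq.lift_snd _ _ _)
    (fun s m h1 h2 => sq.hom_ext (by rw [h1, sq.lift_fst]) (by rw [h2, sq.lift_snd]))⟩⟩

lemma ker_eq_bot_of_injective_appTop {X Y : Scheme.{u}} [IsAffine Y] (f : X ⟶ Y)
    (h : Function.Injective f.appTop.hom) : f.ker = ⊥ := by
  rw [Scheme.ker_of_isAffine f, (RingHom.injective_iff_ker_eq_bot _).1 h,
    ← Scheme.IdealSheafData.equivOfIsAffine_symm_apply]
  exact map_bot _

lemma ker_SpecMap_eq_bot {A K : CommRingCat.{u}} (φ : A ⟶ K) (hφ : Function.Injective φ.hom) :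
    (Spec.map φ).ker = ⊥ := by
  apply ker_eq_bot_of_injective_appTop
  have h := Scheme.ΓSpecIso_naturality φ
  have h2 : (Spec.map φ).appTop = (Scheme.ΓSpecIso A).hom ≫ φ ≫ (Scheme.ΓSpecIso K).inv := by
    rw [← Category.assoc, ← h, Category.assoc, Iso.hom_inv_id, Category.comp_id]
  rw [h2]
  simp only [CommRingCat.hom_comp, RingHom.coe_comp]
  exact ((ConcreteCategory.bijective_of_isIso (Scheme.ΓSpecIso K).inv).1.comp hφ).comp
    (ConcreteCategory.bijective_of_isIso (Scheme.ΓSpecIso A).hom).1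

/-- If the generic fibre of `Z` over a valuation ring is trivial, `Z` is separated over the
valuation ring and `U` is a flat affine chart, then the kernel pair of the chart is the fibre
product over the valuation ring. -/
theorem isPullback_chart_of_isIso_generic {A K : Type u} [CommRing A] [IsDomain A]
    [Field K] [Algebra A K] [IsFractionRing A K] (strA : Spec (.of A) ⟶ S)
    {Z : Sp S} (pZ : Z ⟶ (yon S).obj (Over.mk strA)) (hsep : IsSeparatedMor pZ)
    {Pz : Sp S} {fstZ : Pz ⟶ Z}
    {sndZ : Pz ⟶ (yon S).obj (Over.mk (Spec.map (CommRingCat.ofHom (algebraMap A K)) ≫ strA))}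
    (sqZ : IsPullback fstZ sndZ pZ
      ((yon S).map (Over.homMk (Spec.map (CommRingCat.ofHom (algebraMap A K))) rfl :
        Over.mk (Spec.map (CommRingCat.ofHom (algebraMap A K)) ≫ strA) ⟶ Over.mk strA)))
    [IsIso sndZ] {U : Over S} [IsAffine U.left] (a : (yon S).obj U ⟶ Z) (g : U ⟶ Over.mk strA)
    (hg : a ≫ pZ = (yon S).map g) (hflat : Flat g.left) :
    IsPullback ((yon S).map (pullback.fst g g)) ((yon S).map (pullback.snd g g)) a a := by
  have sqO := IsPullback.of_hasPullback g g
  have sqY := sqO.map (yon S)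
  have sqS : IsPullback (pullback.fst g g).left (pullback.snd g g).left g.left g.left :=
    sqO.map (Over.forget S)
  have hAaff : IsAffine (Over.mk strA).left :=
    inferInstanceAs (IsAffine (Spec (CommRingCat.of A)))
  have hWaff : IsAffine (pullback g g).left := by
    have h1 : IsAffine (pullback g.left g.left) := inferInstance
    exact IsAffine.of_isIso sqS.isoPullback.hom
  rw [← hg] at sqY
  apply isPullback_of_comp_of_eq sqY
  -- the equalizer
  have hw : ((yon S).map (pullback.fst g g) ≫ a) ≫ pZ =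
      ((yon S).map (pullback.snd g g) ≫ a) ≫ pZ := by
    rw [Category.assoc, Category.assoc]; exact sqY.w
  have sqE := hsep.rep.isPullback (pullback.lift _ _ hw)
  have hcE : IsClosedImmersion (hsep.rep.snd (pullback.lift _ _ hw)).left :=
    hsep.property_snd _
  have h1 : (yon S).map (hsep.rep.snd (pullback.lift _ _ hw)) ≫ (yon S).map (pullback.fst g g) ≫ a =
      hsep.rep.fst (pullback.lift _ _ hw) := by
    have := congrArg (· ≫ pullback.fst pZ pZ) sqE.w
    simp only [Category.assoc, pullback.diagonal_fst, pullback.lift_fst, Category.comp_id] at this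
    exact this.symm
  have h2 : (yon S).map (hsep.rep.snd (pullback.lift _ _ hw)) ≫ (yon S).map (pullback.snd g g) ≫ a =
      hsep.rep.fst (pullback.lift _ _ hw) := by
    have := congrArg (· ≫ pullback.snd pZ pZ) sqE.w
    simp only [Category.assoc, pullback.diagonal_snd, pullback.lift_snd, Category.comp_id] at this
    exact this.symm
  -- the generic fibre of `W`
  let j : Over.mk (Spec.map (CommRingCat.ofHom (algebraMap A K)) ≫ strA) ⟶ Over.mk strA :=
    Over.homMk (Spec.map (CommRingCat.ofHom (algebraMap A K))) rfl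
  have sqT := IsPullback.of_hasPullback (pullback.fst g g ≫ g) j
  have sqTS : IsPullback (pullback.fst (pullback.fst g g ≫ g) j).left
      (pullback.snd (pullback.fst g g ≫ g) j).left (pullback.fst g g ≫ g).left j.left :=
    sqT.map (Over.forget S)
  have hqcj : QuasiCompact j.left :=
    inferInstanceAs (QuasiCompact (Spec.map (CommRingCat.ofHom (algebraMap A K))))
  have hflatW : Flat (pullback.fst g g ≫ g).left := by
    have : Flat (pullback.fst g g).left := MorphismProperty.of_isPullback (P := @Flat) sqS.flip hflat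
    rw [Over.comp_left]
    infer_instance
  have hkerj : j.left.ker = ⊥ :=
    ker_SpecMap_eq_bot (CommRingCat.ofHom (algebraMap A K)) (IsFractionRing.injective A K)
  have hkerT : (pullback.fst (pullback.fst g g ≫ g) j).left.ker = ⊥ := by
    rw [ker_eq_comap_of_isPullback sqTS.flip, hkerj, Scheme.IdealSheafData.comap_bot]
  have hinjT := injective_appTop_of_ker_eq_bot _ hkerT
  -- the two maps agree on the generic fibre
  have hT : (yon S).map (pullback.fst (pullback.fst g g ≫ g) j) ≫ (yon S).map (pullback.fst g g) ≫ a =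
      (yon S).map (pullback.fst (pullback.fst g g ≫ g) j) ≫ (yon S).map (pullback.snd g g) ≫ a := by
    refine eq_of_comp_eq_of_isIso_snd sqZ _ _
      ((yon S).map (pullback.snd (pullback.fst g g ≫ g) j)) ?_ ?_
    · rw [Category.assoc, Category.assoc, hg, ← Functor.map_comp, ← Functor.map_comp,
        ← Functor.map_comp, sqT.w]
    · rw [Category.assoc, Category.assoc, hg, ← Functor.map_comp, ← Functor.map_comp,
        ← Functor.map_comp, ← sqO.w, sqT.w]
  -- lift to the equalizer
  have hl : ((yon S).map (pullback.fst (pullback.fst g g ≫ g) j) ≫ (yon S).map (pullback.fst g g) ≫ a) ≫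
      pullback.diagonal pZ =
      (yon S).map (pullback.fst (pullback.fst g g ≫ g) j) ≫ pullback.lift _ _ hw := by
    apply pullback.hom_ext
    · simp only [Category.assoc, pullback.diagonal_fst, pullback.lift_fst, Category.comp_id]
    · simp only [Category.assoc, pullback.diagonal_snd, pullback.lift_snd, Category.comp_id]
      exact hT
  obtain ⟨l₀, hl₀⟩ := (yon S).map_surjective (sqE.lift _ _ hl)
  have hl₀c : l₀ ≫ hsep.rep.snd (pullback.lift _ _ hw) = pullback.fst (pullback.fst g g ≫ g) j := by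
    apply (yon S).map_injective
    rw [Functor.map_comp, hl₀, sqE.lift_snd]
  have hl₀cL : l₀.left ≫ (hsep.rep.snd (pullback.lift _ _ hw)).left =
      (pullback.fst (pullback.fst g g ≫ g) j).left := congrArg (·.left) hl₀c
  have hiso : IsIso (hsep.rep.snd (pullback.lift _ _ hw)).left := by
    apply IsClosedImmersion.isIso_of_injective_of_isAffine
    rw [← hl₀cL, Scheme.Hom.comp_appTop] at hinjT
    simp only [CommRingCat.hom_comp, RingHom.coe_comp] at hinjT
    exact Function.Injective.of_comp hinjT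
  have hiso' : IsIso (hsep.rep.snd (pullback.lift _ _ hw)) := by
    have : IsIso ((Over.forget S).map (hsep.rep.snd (pullback.lift _ _ hw))) := hiso
    exact isIso_of_reflects_iso _ (Over.forget S)
  have hiso'' : IsIso ((yon S).map (hsep.rep.snd (pullback.lift _ _ hw))) := inferInstance
  rw [← cancel_epi ((yon S).map (hsep.rep.snd (pullback.lift _ _ hw))), h1, h2]

/-- **Separated morphisms to the spectrum of a valuation ring: a section over the generic
point which extends after a dominating extension of the valuation ring extends.** -/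
theorem exists_section_of_domExt_lift {X Y : Sp S} {f : X ⟶ Y} (sq : ValSq f) (e : sq.DomExt)
    {P : Sp S} (hP : IsAlgSpace P) (q : P ⟶ (yon S).obj sq.ptA) (hq : IsSeparatedMor q)
    (σ : (yon S).obj sq.ptK ⟶ P) (hσ : σ ≫ q = (yon S).map sq.j)
    (l' : (yon S).obj e.ptA' ⟶ P)
    (hl1 : (yon S).map (domExtJ e) ≫ l' = (yon S).map (domExtK e) ≫ σ)
    (hl2 : l' ≫ q = (yon S).map (domExtA e)) :
    ∃ s : (yon S).obj sq.ptA ⟶ P, s ≫ q = 𝟙 _ ∧ (yon S).map sq.j ≫ s = σ := by
  have hA : IsAlgSpace ((yon S).obj sq.ptA) := IsAlgSpace.yon_obj _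
  have hK : IsAlgSpace ((yon S).obj sq.ptK) := IsAlgSpace.yon_obj _
  have hqs : IsQuasiSeparatedMor q := repWith_mono isClosedImmersion_le_quasiCompact hq
  have hjqc : IsQuasiCompactMor ((yon S).map sq.j) :=
    isQuasiCompactMor_of_repWith ((repWith_yon_map_iff @QuasiCompact sq.j).2
      (inferInstanceAs (QuasiCompact (Spec.map (CommRingCat.ofHom (algebraMap sq.A sq.K))))))
  have hjflat : RepWith @Flat ((yon S).map sq.j) := by
    refine (repWith_yon_map_iff @Flat sq.j).2 ?_
    change Flat (Spec.map (CommRingCat.ofHom (algebraMap sq.A sq.K)))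
    rw [HasRingHomProperty.Spec_iff (P := @Flat), CommRingCat.hom_ofHom,
      RingHom.flat_algebraMap_iff]
    exact IsLocalization.flat sq.K (nonZeroDivisors sq.A)
  have hjmono : Mono ((yon S).map sq.j) := by
    have h1 : Mono sq.j.left := by
      have := IsPreimmersion.of_isLocalization (R := sq.A) (S := sq.K) (nonZeroDivisors sq.A)
      exact inferInstanceAs (Mono (Spec.map (CommRingCat.ofHom (algebraMap sq.A sq.K))))
    have : Mono sq.j := Over.mono_of_mono_left sq.j
    exact mono_yon_map_of_mono sq.j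
  -- `σ` is quasi-compact
  have hσq : IsQuasiCompactMor σ :=
    isQuasiCompactMor_of_comp_of_isQuasiSeparatedMor hK hP hA (by rw [hσ]; exact hjqc) hqs
  -- the scheme theoretic image
  obtain ⟨Z, ι, hZ, him, σ', hσ'⟩ : ∃ (Z : Sp S) (ι : Z ⟶ P), IsAlgSpace Z ∧ IsSchImage σ ι ∧
      ∃ σ' : (yon S).obj sq.ptK ⟶ Z, σ' ≫ ι = σ := by
    have hc := hasQCCovers_of_isQuasiCompactMor σ hσq
    exact ⟨_, _, isAlgSpace_schImg hc hP, isSchImage_schImgι hc hP, exists_fac_schImg hc⟩
  have hιc : RepWith @IsClosedImmersion ι := him.1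
  have hιm : Mono ι := mono_of_repWith_isClosedImmersion hιc
  obtain ⟨pZ, hpZ⟩ : ∃ pZ, pZ = ι ≫ q := ⟨_, rfl⟩
  have hσ'pZ : σ' ≫ pZ = (yon S).map sq.j := by rw [hpZ, ← Category.assoc, hσ', hσ]
  -- the generic fibre is trivial
  have sqZ := IsPullback.of_hasPullback pZ ((yon S).map sq.j)
  have hiso : IsIso (pullback.snd pZ ((yon S).map sq.j)) := by
    subst hpZ
    exact isIso_snd_of_section_of_isSchImage_of_flat hP hA hK hZ q ((yon S).map sq.j) hjflat
      hjmono hjqc hq σ hσ ι him _ _ sqZ
  have hιsep : IsSeparatedMor ι :=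
    repWith_mono (fun _ _ f (hf : IsIso f) => (inferInstance : IsClosedImmersion f))
      ((mono_iff_repWith_diagonal ι).1 hιm)
  have hpZsep : IsSeparatedMor pZ := by rw [hpZ]; exact isSeparatedMor_comp hιsep hq
  have hσ'q : IsQuasiCompactMor σ' :=
    isQuasiCompactMor_of_comp_of_isQuasiSeparatedMor hK hZ hA (by rw [hσ'pZ]; exact hjqc)
      (repWith_mono isClosedImmersion_le_quasiCompact hpZsep)
  have him2 : IsSchImage σ' (𝟙 Z) := isSchImage_id_of_isSchImage hZ him σ' hσ'
  -- `l'` factors through `Z`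
  obtain ⟨l'', hl''⟩ := exists_factor_closed_of_injective ι hιc (algebraMap e.A' e.K')
    (IsFractionRing.injective e.A' e.K') (Spec.map (CommRingCat.ofHom e.φ) ≫ sq.str) l'
    ((yon S).map (domExtK e) ≫ σ') (by rw [Category.assoc, hσ']; exact hl1.symm)
  -- the chart
  obtain ⟨U₁, a₁, ha₁e, ha₁s⟩ := hZ.atlas
  obtain ⟨u₁, hu₁⟩ := ofPt_surjective_of_repWith ha₁s (Points.ofPt l'' (closedPoint e.A'))
  obtain ⟨_, ⟨B, hB, rfl⟩, hu₁B, -⟩ :=
    U₁.left.isBasis_affineOpens.exists_subset_of_mem_open (Set.mem_univ u₁) isOpen_univ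
  have hBaff : IsAffine (overOpen U₁ B).left := hB
  have hae : RepWith @Etale ((yon S).map (overOpenι U₁ B) ≫ a₁) :=
    repWith_comp_yon_map @Etale _ (inferInstanceAs (Etale (Scheme.Opens.ι (X := U₁.left) B))) ha₁e
  obtain ⟨a, ha⟩ : ∃ a, a = (yon S).map (overOpenι U₁ B) ≫ a₁ := ⟨_, rfl⟩
  rw [← ha] at hae
  have hau₀ : Points.ofPt a (⟨u₁, hu₁B⟩ : ↥B) = Points.ofPt l'' (closedPoint e.A') := by
    rw [ha, ofPt_yon_map_comp]
    exact hu₁
  obtain ⟨g, hg⟩ := (yon S).map_surjective (a ≫ pZ)
  have hφcp : (domExtA e).left (closedPoint e.A') = closedPoint sq.A :=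
    (isLocalHom_iff_comap_closedPoint e.φ).1 e.isLocalHom
  have hu₀ : g.left (⟨u₁, hu₁B⟩ : ↥B) = closedPoint sq.A := by
    apply (Points.schemeHomeo sq.ptA).injective
    change Points.ofScheme sq.ptA _ = Points.ofScheme sq.ptA _
    have h1 : Points.map pZ (Points.ofPt a (⟨u₁, hu₁B⟩ : ↥B)) =
        Points.ofScheme sq.ptA (g.left (⟨u₁, hu₁B⟩ : ↥B)) := by
      rw [Points.map_ofPt, ← hg, ← Category.comp_id ((yon S).map g), ofPt_yon_map_comp]
    have h2 : Points.map pZ (Points.ofPt l'' (closedPoint e.A')) =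
        Points.ofScheme sq.ptA (closedPoint sq.A) := by
      rw [Points.map_ofPt, hpZ, ← Category.assoc, hl'', hl2,
        ← Category.comp_id ((yon S).map (domExtA e)), ofPt_yon_map_comp, hφcp]
    rw [← h1, hau₀, h2]
  -- flatness and surjectivity
  have hflat : Flat g.left :=
    flat_chart_of_isSchImage_id sq.str hZ pZ σ' hσ'pZ hσ'q him2 a hae g hg.symm
  have hAaff : IsAffine sq.ptA.left := inferInstanceAs (IsAffine (Spec (CommRingCat.of sq.A)))
  have hsurj : Surjective g.left := by
    refine ⟨fun y => ?_⟩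
    have hy : y ⤳ g.left (⟨u₁, hu₁B⟩ : ↥B) := by rw [hu₀]; exact specializes_closedPoint y
    obtain ⟨u, -, hu⟩ := (Flat.generalizingMap g.left) hy
    exact ⟨u, hu⟩
  -- the kernel pair
  have sqR := isPullback_chart_of_isIso_generic sq.str pZ hpZsep sqZ a g hg.symm hflat
  have het2 : Etale (pullback.snd g g).left := hae.property a _ _ sqR
  have sqS : IsPullback (pullback.fst g g).left (pullback.snd g g).left g.left g.left :=
    (IsPullback.of_hasPullback g g).map (Over.forget S)
  have hqc : QuasiCompact g.left := inferInstance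
  have het : Etale g.left :=
    MorphismProperty.of_isPullback_of_descendsAlong (P := @Etale)
      (Q := @Surjective ⊓ @Flat ⊓ @QuasiCompact) sqS.flip ⟨⟨hsurj, hflat⟩, hqc⟩ het2
  have hls : Sheaf.IsLocallySurjective ((yon S).map g) :=
    isLocallySurjective_of_etale_surjective _ ((repWith_yon_map_iff @Etale g).2 het)
      ((repWith_yon_map_iff @Surjective g).2 hsurj)
  obtain ⟨hcol⟩ := nonempty_isColimit_cofork_of_isLocallySurjective ((yon S).map g)
    ((IsPullback.of_hasPullback g g).map (yon S))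
  have hs : (yon S).map g ≫ Cofork.IsColimit.desc hcol a sqR.w = a :=
    Cofork.IsColimit.π_desc hcol
  obtain ⟨s, hs'⟩ : ∃ s : (yon S).obj sq.ptA ⟶ Z, s = Cofork.IsColimit.desc hcol a sqR.w :=
    ⟨_, rfl⟩
  rw [← hs'] at hs
  have : Epi ((yon S).map g) := inferInstance
  have hs1 : s ≫ pZ = 𝟙 _ := by
    have h1 : (yon S).map g ≫ (s ≫ pZ) = (yon S).map g ≫ 𝟙 _ := by
      rw [← Category.assoc, hs, ← hg, Category.comp_id]
    exact (cancel_epi _).1 h1
  have hs2 : (yon S).map sq.j ≫ s = σ' :=
    eq_of_comp_eq_of_isIso_snd sqZ _ _ (𝟙 _)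
      (by rw [Category.assoc, hs1, Category.comp_id, Category.id_comp])
      (by rw [hσ'pZ, Category.id_comp])
  refine ⟨s ≫ ι, ?_, ?_⟩
  · rw [Category.assoc, ← hpZ]; exact hs1
  · rw [← Category.assoc, hs2, hσ']

/-- **For a separated morphism of algebraic spaces, a valuative square with a lift after a
dominating extension has a lift.** -/
theorem hasLift_of_domExt_of_isSeparatedMor {X Y : Sp S} (hX : IsAlgSpace X) (hY : IsAlgSpace Y)
    {f : X ⟶ Y} (hf : IsSeparatedMor f) (sq : ValSq f) (e : sq.DomExt) (he : e.HasLift) :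
    sq.HasLift := by
  obtain ⟨l, hl1, hl2⟩ := (domExt_hasLift_iff e).1 he
  have sqP := IsPullback.of_hasPullback f sq.bot
  have hP : IsAlgSpace (pullback f sq.bot) :=
    isAlgSpace_pullback hY.diag hX (IsAlgSpace.yon_obj _) sqP
  have hq : IsSeparatedMor (pullback.snd f sq.bot) := repWith_diag_of_isPullback sqP hf
  have hσ2 : pullback.lift sq.top ((yon S).map sq.j) sq.comm ≫ pullback.snd f sq.bot =
      (yon S).map sq.j := pullback.lift_snd _ _ _
  have hl'1 : (yon S).map (domExtJ e) ≫ pullback.lift l ((yon S).map (domExtA e)) hl2 =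
      (yon S).map (domExtK e) ≫ pullback.lift sq.top ((yon S).map sq.j) sq.comm := by
    apply pullback.hom_ext
    · rw [Category.assoc, Category.assoc, pullback.lift_fst, pullback.lift_fst, hl1]
    · rw [Category.assoc, Category.assoc, pullback.lift_snd, pullback.lift_snd,
        ← Functor.map_comp, ← Functor.map_comp, domExt_w]
  have hl'2 : pullback.lift l ((yon S).map (domExtA e)) hl2 ≫ pullback.snd f sq.bot =
      (yon S).map (domExtA e) := pullback.lift_snd _ _ _
  obtain ⟨s, hs1, hs2⟩ := exists_section_of_domExt_lift sq e hP _ hq _ hσ2 _ hl'1 hl'2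
  refine ⟨s ≫ pullback.fst f sq.bot, ?_, ?_⟩
  · rw [← Category.assoc, hs2, pullback.lift_fst]
  · rw [Category.assoc, pullback.condition, ← Category.assoc, hs1, Category.id_comp]

/-- For a separated morphism of algebraic spaces the existence part of the valuative criterion
holds without extensions. -/
theorem existVCStrict_of_existVC_of_isSeparatedMor {X Y : Sp S} (hX : IsAlgSpace X)
    (hY : IsAlgSpace Y) {f : X ⟶ Y} (hf : IsSeparatedMor f) (he : ExistVC f) :
    ExistVCStrict f := by
  intro sq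
  obtain ⟨e, hl⟩ := he sq
  exact hasLift_of_domExt_of_isSeparatedMor hX hY hf sq e hl

end Groth.Agent.H5.AlgSp
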